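import Mathlib

/-!
Sylow `p`-subgroups of symmetric and alternating groups are generated by elements of order `p`,
hence have elementary abelian abelianization.
-/

namespace Cfsg.Agent.Lib.Helper23.SymSylow

open Equiv

/-- A group generated by elements of order dividing `p` has `x ^ p ∈ commutator` for all `x`. -/
theorem pow_mem_commutator_of_closure {K : Type*} [Group K] (p : ℕ) (T : Set K)
    (hT : Subgroup.closure T = ⊤) (hp : ∀ t ∈ T, t ^ p = 1) (x : K) :
    x ^ p ∈ commutator K := by
  rw [← Abelianization.ker_of, MonoidHom.mem_ker, map_pow]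
  have hE : (⊤ : Subgroup K) ≤ (powMonoidHom p : Abelianization K →* Abelianization K).ker.comap
      Abelianization.of := by
    rw [← hT, Subgroup.closure_le]
    intro t ht
    simp only [Subgroup.coe_comap, Set.mem_preimage, SetLike.mem_coe, MonoidHom.mem_ker,
      powMonoidHom_apply]
    rw [← map_pow, hp t ht, map_one]
  have := hE (Subgroup.mem_top x)
  simpa [MonoidHom.mem_ker] using this

/-- Injective-hom version: if the range of `j : K →* G` is generated by elements of order
dividing `p`, then `x ^ p ∈ commutator K`. -/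
theorem pow_mem_commutator_of_range {K G : Type*} [Group K] [Group G] (p : ℕ) (j : K →* G)
    (hj : Function.Injective j) (T : Set G) (hT : j.range = Subgroup.closure T)
    (hp : ∀ t ∈ T, t ^ p = 1) (x : K) : x ^ p ∈ commutator K := by
  apply pow_mem_commutator_of_closure p (j ⁻¹' T)
  · apply Subgroup.map_injective hj
    rw [MonoidHom.map_closure, Set.image_preimage_eq_inter_range, ← MonoidHom.range_eq_map, hT]
    congr 1
    apply Set.inter_eq_left.mpr
    intro t ht
    have : t ∈ j.range := by rw [hT]; exact Subgroup.subset_closure ht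
    exact this
  · intro t ht
    apply hj
    rw [map_pow, hp _ ht, map_one]


section wreath

variable (β : Type) (p : ℕ) [NeZero p]

/-- base group hom: `f ↦ ((b,i) ↦ (b, i + f b))`. -/
def baseHom : (β → Multiplicative (ZMod p)) →* Perm (β × ZMod p) where
  toFun f :=
    { toFun := fun x => (x.1, x.2 + Multiplicative.toAdd (f x.1))
      invFun := fun x => (x.1, x.2 - Multiplicative.toAdd (f x.1))
      left_inv := fun x => by simp
      right_inv := fun x => by simp }
  map_one' := by ext x <;> simp
  map_mul' f g := by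
    ext x
    · simp
    · simp [add_comm, add_left_comm]

/-- top group hom: `σ ↦ ((b,i) ↦ (σ b, i))`. -/
def topHom : Perm β →* Perm (β × ZMod p) where
  toFun σ := Equiv.prodCongr σ (Equiv.refl _)
  map_one' := by ext x <;> simp
  map_mul' f g := by ext x <;> simp

@[simp] theorem baseHom_apply (f : β → Multiplicative (ZMod p)) (x : β × ZMod p) :
    baseHom β p f x = (x.1, x.2 + Multiplicative.toAdd (f x.1)) := rfl

@[simp] theorem topHom_apply (σ : Perm β) (x : β × ZMod p) :
    topHom β p σ x = (σ x.1, x.2) := rfl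

theorem baseHom_pow (f : β → Multiplicative (ZMod p)) : baseHom β p f ^ p = 1 := by
  rw [← map_pow]
  have : f ^ p = 1 := by
    ext b
    simp only [Pi.pow_apply, Pi.one_apply]
    rw [← ofAdd_toAdd (f b), ← ofAdd_nsmul]
    simp
  rw [this, map_one]

theorem top_conj_base (σ : Perm β) (f : β → Multiplicative (ZMod p)) :
    topHom β p σ * baseHom β p f * (topHom β p σ)⁻¹ = baseHom β p (fun b => f (σ⁻¹ b)) := by
  ext x
  · simp [← map_inv]
  · simp [← map_inv]

theorem wreath_injective (f f' : β → Multiplicative (ZMod p)) (h h' : Perm β)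
    (e : baseHom β p f * topHom β p h = baseHom β p f' * topHom β p h') : f = f' ∧ h = h' := by
  have key : ∀ b : β, (h b, Multiplicative.toAdd (f (h b))) = (h' b, Multiplicative.toAdd (f' (h' b))) := by
    intro b
    have := congrArg (fun π : Perm (β × ZMod p) => π (b, 0)) e
    simpa using this
  have hh : h = h' := by
    ext b
    exact (Prod.ext_iff.mp (key b)).1
  subst hh
  refine ⟨?_, rfl⟩
  ext b
  have := (Prod.ext_iff.mp (key (h⁻¹ b))).2
  simpa using this

end wreath


section wreath2

variable (β : Type) [Fintype β] [DecidableEq β] (p : ℕ) [hp : Fact p.Prime]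

instance : NeZero p := ⟨hp.out.ne_zero⟩

/-- the wreath subgroup -/
def W (H : Subgroup (Perm β)) : Subgroup (Perm (β × ZMod p)) :=
  (baseHom β p).range ⊔ H.map (topHom β p)

theorem isPGroup_range_baseHom : IsPGroup p (baseHom β p).range := by
  rintro ⟨x, f, rfl⟩
  refine ⟨1, ?_⟩
  apply Subtype.ext
  simp only [pow_one, Subgroup.coe_pow, Subgroup.coe_one]
  exact baseHom_pow β p f

theorem map_top_le_normalizer (H : Subgroup (Perm β)) :
    H.map (topHom β p) ≤ Subgroup.normalizer ((baseHom β p).range : Set (Perm (β × ZMod p))) := by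
  rintro x ⟨σ, -, rfl⟩
  rw [Subgroup.mem_normalizer_iff]
  intro h
  constructor
  · rintro ⟨f, rfl⟩
    exact ⟨_, (top_conj_base β p σ f).symm⟩
  · rintro ⟨f, hf⟩
    refine ⟨fun b => f (σ b), ?_⟩
    have := top_conj_base β p σ⁻¹ f
    rw [hf] at this
    simp only [map_inv, inv_inv] at this
    rw [← this]
    group

theorem isPGroup_W (H : Subgroup (Perm β)) (hH : IsPGroup p H) : IsPGroup p (W β p H) :=
  IsPGroup.to_sup_of_normal_left' (isPGroup_range_baseHom β p) (hH.map _)
    (map_top_le_normalizer β p H)

theorem card_W_ge (H : Subgroup (Perm β)) :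
    p ^ Fintype.card β * Nat.card H ≤ Nat.card (W β p H) := by
  have hinj : Function.Injective (fun x : (β → Multiplicative (ZMod p)) × H =>
      (⟨baseHom β p x.1 * topHom β p x.2.1, Subgroup.mul_mem _
        (Subgroup.mem_sup_left ⟨x.1, rfl⟩)
        (Subgroup.mem_sup_right ⟨x.2.1, x.2.2, rfl⟩)⟩ : W β p H)) := by
    rintro ⟨f, h⟩ ⟨f', h'⟩ e
    have e' := congrArg Subtype.val e
    obtain ⟨h1, h2⟩ := wreath_injective β p f f' h.1 h'.1 e'
    exact Prod.ext h1 (Subtype.ext h2)
  have := Nat.card_le_card_of_injective _ hinj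
  rw [Nat.card_prod, Nat.card_fun] at this
  simpa [Nat.card_eq_fintype_card, ZMod.card] using this

theorem card_W (H : Subgroup (Perm β)) (hH : Nat.card H = p ^ padicValNat p (Fintype.card β).factorial) :
    Nat.card (W β p H) = p ^ padicValNat p (p * Fintype.card β).factorial := by
  have hpg : IsPGroup p H := IsPGroup.of_card hH
  obtain ⟨k, hk⟩ := (isPGroup_W β p H hpg).exists_card_eq
  have h1 : Nat.card (W β p H) ∣ Nat.card (Perm (β × ZMod p)) := Subgroup.card_subgroup_dvd_card _
  have h2 : Nat.card (Perm (β × ZMod p)) = (p * Fintype.card β).factorial := by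
    rw [Nat.card_eq_fintype_card, Fintype.card_perm, Fintype.card_prod, ZMod.card, mul_comm]
  rw [h2, hk] at h1
  have h3 : k ≤ padicValNat p (p * Fintype.card β).factorial :=
    (padicValNat_dvd_iff_le (Nat.factorial_ne_zero _)).mp h1
  have h4 := card_W_ge β p H
  rw [hH, hk, ← pow_add] at h4
  have h5 := (Nat.pow_le_pow_iff_right hp.out.one_lt).mp h4
  rw [padicValNat_factorial_mul] at h3 ⊢
  rw [hk]
  congr 1
  omega

end wreath2


section good

variable (p : ℕ) [hp : Fact p.Prime]

/-- `Perm α` has a subgroup of Sylow order generated by elements of order dividing `p`, the odd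
ones commuting pairwise. -/
def Good (α : Type) [Fintype α] [DecidableEq α] : Prop :=
  ∃ S : Set (Perm α), (∀ s ∈ S, s ^ p = 1) ∧
    (∀ s ∈ S, ∀ t ∈ S, Perm.sign s = -1 → Perm.sign t = -1 → Commute s t) ∧
    Nat.card (Subgroup.closure S) = p ^ padicValNat p (Fintype.card α).factorial

theorem Good.of_hom {α γ : Type} [Fintype α] [DecidableEq α] [Fintype γ] [DecidableEq γ]
    (φ : Perm α →* Perm γ) (hφ : Function.Injective φ)
    (hsign : ∀ s, Perm.sign (φ s) = Perm.sign s)
    (hv : padicValNat p (Fintype.card γ).factorial = padicValNat p (Fintype.card α).factorial)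
    (h : Good p α) : Good p γ := by
  obtain ⟨S, h1, h2, h3⟩ := h
  refine ⟨φ '' S, ?_, ?_, ?_⟩
  · rintro _ ⟨s, hs, rfl⟩
    rw [← map_pow, h1 s hs, map_one]
  · rintro _ ⟨s, hs, rfl⟩ _ ⟨t, ht, rfl⟩ hs1 ht1
    rw [hsign] at hs1 ht1
    exact (h2 s hs t ht hs1 ht1).map φ
  · rw [← MonoidHom.map_closure, Subgroup.card_map_of_injective hφ, h3, hv]

theorem not_odd_top {β : Type} [Fintype β] [DecidableEq β] (σ : Perm β)
    (h1 : (topHom β p σ) ^ p = 1) : Perm.sign (topHom β p σ) ≠ -1 := by
  intro h
  have hs : Perm.sign (topHom β p σ) = Perm.sign σ ^ p := by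
    have : topHom β p σ = Equiv.prodCongrLeft (fun _ : ZMod p => σ) := by
      ext x <;> rfl
    rw [this, Perm.sign_prodCongrLeft]
    simp [ZMod.card]
  have h2 : Perm.sign (topHom β p σ) ^ p = 1 := by rw [← map_pow, h1, map_one]
  rw [h] at h2
  rcases Nat.even_or_odd p with he | ho
  · rw [hs, Int.units_pow_eq_pow_mod_two, Nat.even_iff.mp he, pow_zero] at h
    exact absurd h (by decide)
  · rw [ho.neg_one_pow] at h2
    exact absurd h2 (by decide)

theorem Good.wreath {β : Type} [Fintype β] [DecidableEq β] (h : Good p β) :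
    Good p (β × ZMod p) := by
  obtain ⟨S, h1, h2, h3⟩ := h
  refine ⟨Set.range (baseHom β p) ∪ topHom β p '' S, ?_, ?_, ?_⟩
  · rintro s (⟨f, rfl⟩ | ⟨s, hs, rfl⟩)
    · exact baseHom_pow β p f
    · rw [← map_pow, h1 s hs, map_one]
  · rintro s (⟨f, rfl⟩ | ⟨s, hs, rfl⟩) t (⟨g, rfl⟩ | ⟨t, ht, rfl⟩) hs1 ht1
    · exact (Commute.all f g).map _
    · exact absurd ht1 (not_odd_top p t (by rw [← map_pow, h1 t ht, map_one]))
    · exact absurd hs1 (not_odd_top p s (by rw [← map_pow, h1 s hs, map_one]))
    · exact absurd hs1 (not_odd_top p s (by rw [← map_pow, h1 s hs, map_one]))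
  · have : Subgroup.closure (Set.range (baseHom β p) ∪ topHom β p '' S) =
        W β p (Subgroup.closure S) := by
      rw [Subgroup.closure_union, ← MonoidHom.map_closure, ← MonoidHom.coe_range,
        Subgroup.closure_eq]
      rfl
    rw [this, card_W β p _ h3, Fintype.card_prod, ZMod.card, mul_comm]

end good


section main

variable (p : ℕ) [hp : Fact p.Prime]

theorem good_all : ∀ n : ℕ, ∀ (α : Type) [Fintype α] [DecidableEq α],
    Fintype.card α = n → Good p α := by
  intro n
  induction n using Nat.strong_induction_on with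
  | _ n ih =>
  intro α _ _ hα
  by_cases h0 : n = 0
  · subst h0
    refine ⟨∅, by simp, by simp, ?_⟩
    rw [Subgroup.closure_empty, Subgroup.card_bot, hα]
    simp
  by_cases hdvd : p ∣ n
  · obtain ⟨m, rfl⟩ := hdvd
    have hm : m ≠ 0 := by rintro rfl; simp at h0
    have hlt : m < p * m := by
      have := hp.out.two_le
      nlinarith [Nat.pos_of_ne_zero hm]
    have g1 : Good p (Fin m) := ih m hlt (Fin m) (by simp)
    have g2 := g1.wreath p
    have hc : Fintype.card (Fin m × ZMod p) = Fintype.card α := by
      rw [hα, Fintype.card_prod, ZMod.card, Fintype.card_fin, mul_comm]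
    let e : Fin m × ZMod p ≃ α := Fintype.equivOfCardEq hc
    refine Good.of_hom p e.permCongrHom.toMonoidHom e.permCongrHom.injective ?_ ?_ g2
    · intro s
      exact Perm.sign_permCongr e s
    · rw [hc]
  · have hne : Nonempty α := by
      rw [← Fintype.card_pos_iff, hα]; omega
    obtain ⟨a⟩ := hne
    have hc : Fintype.card {x : α // x ≠ a} = n - 1 := by
      rw [Fintype.card_subtype_compl, Fintype.card_subtype_eq, hα]
    have g1 : Good p {x : α // x ≠ a} := ih (n - 1) (by omega) _ hc
    refine Good.of_hom p (Perm.ofSubtype) Perm.ofSubtype_injective ?_ ?_ g1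
    · intro s
      exact Perm.sign_ofSubtype s
    · rw [hc, hα]
      obtain ⟨k, rfl⟩ : ∃ k, n = k + 1 := ⟨n - 1, by omega⟩
      rw [Nat.add_sub_cancel, Nat.factorial_succ,
        padicValNat.mul (by omega) (Nat.factorial_ne_zero _),
        padicValNat.eq_zero_of_not_dvd hdvd, zero_add]

end main


section sylow

open Pointwise

variable (p : ℕ) [hp : Fact p.Prime] {α : Type} [Fintype α] [DecidableEq α]

/-- every Sylow `p`-subgroup of `Perm α` is generated by elements of order dividing `p`,
the odd ones commuting pairwise. -/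
theorem sylow_gen (P : Sylow p (Perm α)) :
    ∃ S : Set (Perm α), (P : Subgroup (Perm α)) = Subgroup.closure S ∧ (∀ s ∈ S, s ^ p = 1) ∧
      (∀ s ∈ S, ∀ t ∈ S, Perm.sign s = -1 → Perm.sign t = -1 → Commute s t) := by
  obtain ⟨S0, h1, h2, h3⟩ := good_all p _ α rfl
  have hcard : Nat.card (Subgroup.closure S0) = p ^ (Nat.card (Perm α)).factorization p := by
    rw [h3, Nat.card_eq_fintype_card, Fintype.card_perm, Nat.factorization_def _ hp.out]
  let P0 : Sylow p (Perm α) := Sylow.ofCard (Subgroup.closure S0) hcard
  obtain ⟨g, hg⟩ := MulAction.exists_smul_eq (Perm α) P0 P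
  refine ⟨(MulAut.conj g).toMonoidHom '' S0, ?_, ?_, ?_⟩
  · rw [← hg, Sylow.coe_subgroup_smul, Subgroup.pointwise_smul_def, ← MonoidHom.map_closure]
    rfl
  · rintro _ ⟨s, hs, rfl⟩
    rw [← map_pow, h1 s hs, map_one]
  · rintro _ ⟨s, hs, rfl⟩ _ ⟨t, ht, rfl⟩ hs1 ht1
    have e : ∀ u : Perm α, Perm.sign ((MulAut.conj g).toMonoidHom u) = Perm.sign u := by
      intro u
      simp only [MulEquiv.coe_toMonoidHom, MulAut.conj_apply, map_mul, map_inv]
      rw [mul_comm, ← mul_assoc, Int.units_inv_eq_self, Int.units_mul_self, one_mul]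
    rw [e] at hs1 ht1
    exact (h2 s hs t ht hs1 ht1).map _

/-- the even part of such a group is again generated by elements of order dividing `p`. -/
theorem alt_gen (S : Set (Perm α)) (h1 : ∀ s ∈ S, s ^ p = 1)
    (h2 : ∀ s ∈ S, ∀ t ∈ S, Perm.sign s = -1 → Perm.sign t = -1 → Commute s t) :
    ∃ T : Set (Perm α), Subgroup.closure S ⊓ alternatingGroup α = Subgroup.closure T ∧
      ∀ t ∈ T, t ^ p = 1 := by
  by_cases hall : ∀ s ∈ S, Perm.sign s = 1
  · refine ⟨S, ?_, h1⟩
    apply inf_eq_left.mpr
    rw [Subgroup.closure_le]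
    intro s hs
    exact Perm.mem_alternatingGroup.mpr (hall s hs)
  · push_neg at hall
    obtain ⟨t0, ht0, hsign0⟩ := hall
    have hodd0 : Perm.sign t0 = -1 := (Int.units_eq_one_or _).resolve_left hsign0
    have hp2 : p = 2 := by
      have h3 : Perm.sign t0 ^ p = 1 := by rw [← map_pow, h1 t0 ht0, map_one]
      rw [hodd0] at h3
      rcases Nat.even_or_odd p with he | ho
      · exact (Nat.Prime.even_iff hp.out).mp he
      · rw [ho.neg_one_pow] at h3
        exact absurd h3 (by decide)
    subst hp2
    have hsq : ∀ s ∈ S, s * s = 1 := fun s hs => by rw [← sq]; exact h1 s hs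
    have hinv : ∀ s ∈ S, s⁻¹ = s := fun s hs => inv_eq_of_mul_eq_one_left (hsq s hs)
    have h00 : t0 * t0 = 1 := hsq t0 ht0
    let T : Set (Perm α) :=
      {x | ∃ e ∈ S, Perm.sign e = 1 ∧ (x = e ∨ x = t0 * e * t0)} ∪
      {x | ∃ t ∈ S, Perm.sign t = -1 ∧ (x = t * t0 ∨ x = t0 * t)}
    have hT1 : ∀ e ∈ S, Perm.sign e = 1 → e ∈ T := fun e he h => Or.inl ⟨e, he, h, Or.inl rfl⟩
    have hT2 : ∀ e ∈ S, Perm.sign e = 1 → t0 * e * t0 ∈ T :=
      fun e he h => Or.inl ⟨e, he, h, Or.inr rfl⟩
    have hT3 : ∀ t ∈ S, Perm.sign t = -1 → t * t0 ∈ T := fun e he h => Or.inr ⟨e, he, h, Or.inl rfl⟩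
    have hT4 : ∀ t ∈ S, Perm.sign t = -1 → t0 * t ∈ T := fun e he h => Or.inr ⟨e, he, h, Or.inr rfl⟩
    refine ⟨T, ?_, ?_⟩
    · apply le_antisymm
      · rintro x ⟨hx, hxa⟩
        have key : ∀ y ∈ Subgroup.closure S,
            y ∈ Subgroup.closure T ∨ t0 * y ∈ Subgroup.closure T := by
          intro y hy
          have step : ∀ s ∈ S, ∀ y, (y ∈ Subgroup.closure T ∨ t0 * y ∈ Subgroup.closure T) →
              (s * y ∈ Subgroup.closure T ∨ t0 * (s * y) ∈ Subgroup.closure T) := by
            intro s hs y ih
            rcases Int.units_eq_one_or (Perm.sign s) with hse | hso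
            · rcases ih with ih | ih
              · exact Or.inl (Subgroup.mul_mem _ (Subgroup.subset_closure (hT1 s hs hse)) ih)
              · right
                have : t0 * (s * y) = (t0 * s * t0) * (t0 * y) := by
                  rw [mul_assoc (t0 * s), ← mul_assoc t0 t0 y, h00, one_mul, mul_assoc]
                rw [this]
                exact Subgroup.mul_mem _ (Subgroup.subset_closure (hT2 s hs hse)) ih
            · rcases ih with ih | ih
              · right
                rw [← mul_assoc]
                exact Subgroup.mul_mem _ (Subgroup.subset_closure (hT4 s hs hso)) ih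
              · left
                have : s * y = (s * t0) * (t0 * y) := by
                  rw [mul_assoc s, ← mul_assoc t0 t0 y, h00, one_mul]
                rw [this]
                exact Subgroup.mul_mem _ (Subgroup.subset_closure (hT3 s hs hso)) ih
          induction hy using Subgroup.closure_induction_left with
          | one => exact Or.inl (Subgroup.one_mem _)
          | mul_left s hs y hy ih => exact step s hs y ih
          | inv_mul_cancel s hs y hy ih =>
            rw [hinv s hs]
            exact step s hs y ih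
        rcases key x hx with h | h
        · exact h
        · exfalso
          have hle : Subgroup.closure T ≤ alternatingGroup α := by
            rw [Subgroup.closure_le]
            rintro y (⟨e, he, hse, rfl | rfl⟩ | ⟨t, ht, hst, rfl | rfl⟩)
            · exact Perm.mem_alternatingGroup.mpr hse
            · exact Perm.mem_alternatingGroup.mpr (by simp [hse, hodd0])
            · exact Perm.mem_alternatingGroup.mpr (by simp [hst, hodd0])
            · exact Perm.mem_alternatingGroup.mpr (by simp [hst, hodd0])
          have h5 := Perm.mem_alternatingGroup.mp (hle h)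
          have h6 := Perm.mem_alternatingGroup.mp hxa
          rw [map_mul, h6, hodd0] at h5
          exact absurd h5 (by decide)
      · rw [Subgroup.closure_le]
        rintro y (⟨e, he, hse, rfl | rfl⟩ | ⟨t, ht, hst, rfl | rfl⟩)
        · exact ⟨Subgroup.subset_closure he, Perm.mem_alternatingGroup.mpr hse⟩
        · exact ⟨Subgroup.mul_mem _ (Subgroup.mul_mem _ (Subgroup.subset_closure ht0)
            (Subgroup.subset_closure he)) (Subgroup.subset_closure ht0),
            Perm.mem_alternatingGroup.mpr (by simp [hse, hodd0])⟩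
        · exact ⟨Subgroup.mul_mem _ (Subgroup.subset_closure ht) (Subgroup.subset_closure ht0),
            Perm.mem_alternatingGroup.mpr (by simp [hst, hodd0])⟩
        · exact ⟨Subgroup.mul_mem _ (Subgroup.subset_closure ht0) (Subgroup.subset_closure ht),
            Perm.mem_alternatingGroup.mpr (by simp [hst, hodd0])⟩
    · rintro y (⟨e, he, hse, rfl | rfl⟩ | ⟨t, ht, hst, rfl | rfl⟩)
      · exact h1 _ he
      · rw [sq]
        calc t0 * e * t0 * (t0 * e * t0) = t0 * e * (t0 * t0) * e * t0 := by group
          _ = t0 * (e * e) * t0 := by rw [h00]; group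
          _ = 1 := by rw [hsq e he, mul_one, h00]
      · have hc : Commute t t0 := h2 t ht t0 ht0 hst hodd0
        rw [sq]
        calc t * t0 * (t * t0) = t * (t0 * t) * t0 := by group
          _ = t * (t * t0) * t0 := by rw [hc.eq]
          _ = (t * t) * (t0 * t0) := by group
          _ = 1 := by rw [hsq t ht, h00, one_mul]
      · have hc : Commute t t0 := h2 t ht t0 ht0 hst hodd0
        rw [sq]
        calc t0 * t * (t0 * t) = t0 * (t * t0) * t := by group
          _ = t0 * (t0 * t) * t := by rw [hc.eq]
          _ = (t0 * t0) * (t * t) := by group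
          _ = 1 := by rw [hsq t ht, h00, one_mul]

end sylow

end Cfsg.Agent.Lib.Helper23.SymSylow
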