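import Cfsg.Prelude.Def_IsolatedElements
import Mathlib.GroupTheory.Sylow
import Mathlib.GroupTheory.Nilpotent
import Mathlib.GroupTheory.PGroup

/-!
# Isolated elements (helper23)

`Cfsg.IsIsolated x`: the only conjugate of `x` commuting with `x` is `x`.

* `isolated_central_of_pgroup`: an isolated element lying in a `p`-subgroup `R` is central in `R`.
* `isolated_fusion`: if an isolated `p`-element `x` and a conjugate `g x g⁻¹` both lie in a subgroup `C`,
  they are conjugate by an element of `C`.
-/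

set_option autoImplicit false

namespace Cfsg.Agent.Lib.Helper23

/-- An isolated element lying in a finite `p`-subgroup `R` commutes with all of `R`. -/
theorem isolated_central_of_pgroup {G : Type*} [Group G] [Finite G] {p : ℕ} [Fact p.Prime]
    {x : G} (hiso : Cfsg.IsIsolated x) (R : Subgroup G) (hR : IsPGroup p R) (hx : x ∈ R) :
    ∀ r ∈ R, r * x = x * r := by
  haveI : Group.IsNilpotent R := hR.isNilpotent
  have hnc : NormalizerCondition R := normalizerCondition_of_isNilpotent
  set x' : R := ⟨x, hx⟩ with hx'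
  have htop : Subgroup.centralizer ({x'} : Set R) = ⊤ := by
    apply (normalizerCondition_iff_only_full_group_self_normalizing.mp hnc)
    apply le_antisymm _ Subgroup.le_normalizer
    intro y hy
    have hx'H : x' ∈ Subgroup.centralizer ({x'} : Set R) := by
      rw [Subgroup.mem_centralizer_iff]
      intro z hz
      rw [Set.mem_singleton_iff] at hz
      rw [hz]
    have h1 : y * x' * y⁻¹ ∈ Subgroup.centralizer ({x'} : Set R) :=
      (Subgroup.mem_normalizer_iff.mp hy x').mp hx'H
    have h2 : x' * (y * x' * y⁻¹) = (y * x' * y⁻¹) * x' :=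
      (Subgroup.mem_centralizer_iff.mp h1) x' (Set.mem_singleton x')
    have h3 : Commute x ((y : G) * x * (y : G)⁻¹) := by
      show x * ((y : G) * x * (y : G)⁻¹) = ((y : G) * x * (y : G)⁻¹) * x
      have := congrArg Subtype.val h2
      simpa [hx'] using this
    have h4 := hiso (y : G) h3
    rw [Subgroup.mem_centralizer_iff]
    intro z hz
    rw [Set.mem_singleton_iff] at hz
    rw [hz]
    apply Subtype.ext
    have h5 : (y : G) * x = x * (y : G) := by
      have := congrArg (· * (y : G)) h4
      simpa [mul_assoc] using this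
    simpa [hx'] using h5.symm
  intro r hr
  have hr' : (⟨r, hr⟩ : R) ∈ Subgroup.centralizer ({x'} : Set R) := by rw [htop]; trivial
  have h6 := (Subgroup.mem_centralizer_iff.mp hr') x' (Set.mem_singleton x')
  have := congrArg Subtype.val h6
  simpa [hx'] using this.symm

/-- If an isolated `p`-element `x` and one of its conjugates `g x g⁻¹` both lie in a subgroup `C`, they are
conjugate by an element of `C`. -/
theorem isolated_fusion {G : Type*} [Group G] [Finite G] {p : ℕ} [Fact p.Prime]
    {x : G} (hxp : ∃ k : ℕ, orderOf x = p ^ k) (hiso : Cfsg.IsIsolated x) (C : Subgroup G) (hxC : x ∈ C)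
    (g : G) (hyC : g * x * g⁻¹ ∈ C) : ∃ c ∈ C, c * x * c⁻¹ = g * x * g⁻¹ := by
  obtain ⟨k, hk⟩ := hxp
  set x' : C := ⟨x, hxC⟩ with hx'
  set y' : C := ⟨g * x * g⁻¹, hyC⟩ with hy'
  have hox : orderOf x' = p ^ k := by
    rw [← hk, ← Subgroup.orderOf_coe x']
  have hoy : orderOf y' = p ^ k := by
    rw [← Subgroup.orderOf_coe y']
    show orderOf (g * x * g⁻¹) = p ^ k
    rw [← hk]
    have := MulEquiv.orderOf_eq (MulAut.conj g) x
    simpa [MulAut.conj_apply] using this
  have hpx : IsPGroup p (Subgroup.zpowers x') := IsPGroup.of_card ((Nat.card_zpowers x').trans hox)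
  have hpy : IsPGroup p (Subgroup.zpowers y') := IsPGroup.of_card ((Nat.card_zpowers y').trans hoy)
  obtain ⟨S, hS⟩ := hpx.exists_le_sylow
  obtain ⟨S', hS'⟩ := hpy.exists_le_sylow
  obtain ⟨c, hc⟩ := MulAction.exists_smul_eq C S S'
  have hy'S : y' ∈ ((c • S : Sylow p C) : Subgroup C) := by
    rw [hc]; exact hS' (Subgroup.mem_zpowers y')
  have hy'S2 : c⁻¹ * y' * c ∈ (S : Subgroup C) := by
    have := hy'S
    rw [Sylow.coe_subgroup_smul, Subgroup.mem_pointwise_smul_iff_inv_smul_mem] at this
    simpa [MulAut.smul_def] using this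
  have hx'S : x' ∈ (S : Subgroup C) := hS (Subgroup.mem_zpowers x')
  -- move to G
  set R : Subgroup G := (S : Subgroup C).map C.subtype with hRdef
  have hRp : IsPGroup p R := S.isPGroup'.map C.subtype
  have hxR : x ∈ R := ⟨x', hx'S, rfl⟩
  have hzR : (c : G)⁻¹ * (g * x * g⁻¹) * (c : G) ∈ R := ⟨c⁻¹ * y' * c, hy'S2, by simp [hy']⟩
  have hcomm := isolated_central_of_pgroup hiso R hRp hxR _ hzR
  have heq : ((c : G)⁻¹ * g) * x * ((c : G)⁻¹ * g)⁻¹ = (c : G)⁻¹ * (g * x * g⁻¹) * (c : G) := by
    group
  have h7 : Commute x (((c : G)⁻¹ * g) * x * ((c : G)⁻¹ * g)⁻¹) := by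
    rw [heq]; exact hcomm.symm
  have h8 := hiso _ h7
  rw [heq] at h8
  refine ⟨(c : G), c.2, ?_⟩
  calc (c : G) * x * (c : G)⁻¹
      = (c : G) * ((c : G)⁻¹ * (g * x * g⁻¹) * (c : G)) * (c : G)⁻¹ := by rw [h8]
    _ = g * x * g⁻¹ := by group

end Cfsg.Agent.Lib.Helper23
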