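import Mathlib
import Cfsg.Agent.Lib.Helper13.NPC

/-!
Normal `p`-complements (helper23): cyclic Sylow 2-subgroups, and extension from a normal subgroup
of `p`-power index.
-/

set_option autoImplicit false

namespace Cfsg.Agent.Lib.Helper23.NPCTools

open Cfsg.Agent.Lib.Helper13

theorem npc_two_of_cyclic_sylow {K : Type*} [Group K] [Finite K] (P : Sylow 2 K)
    (hP : IsCyclic ↥(P : Subgroup K)) : NPC 2 K := by
  have : Fact (Nat.Prime 2) := ⟨Nat.prime_two⟩
  by_cases h2 : 2 ∣ Nat.card K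
  · have hp : (Nat.card K).minFac = 2 := (Nat.minFac_eq_two_iff _).mpr h2
    have hc := IsCyclic.isComplement' hp hP
    refine ⟨(MonoidHom.transferSylow P (hP.normalizer_le_centralizer hp)).ker,
      MonoidHom.normal_ker _, ?_, ?_⟩
    · rw [← hc.index_eq_card]
      have := P.not_dvd_index
      exact ((Nat.Prime.coprime_iff_not_dvd Nat.prime_two).mpr this).symm
    · obtain ⟨k, hk⟩ := IsPGroup.iff_card.mp P.2
      exact ⟨k, by rw [hc.symm.index_eq_card, hk]⟩
  · exact NPC.of_coprime ((Nat.Prime.coprime_iff_not_dvd Nat.prime_two).mpr h2).symm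

theorem npc_of_normal_of_index_pow {G : Type*} [Group G] [Finite G] {p : ℕ} [Fact p.Prime]
    (K : Subgroup G) [hKn : K.Normal] (a : ℕ) (hK : K.index = p ^ a) (h : NPC p ↥K) : NPC p G := by
  obtain ⟨N, hN, hcop, b, hb⟩ := h
  refine ⟨N.map K.subtype, ?_, ?_, a + b, ?_⟩
  · constructor
    intro n hn g
    obtain ⟨n', hn', rfl⟩ := Subgroup.mem_map.mp hn
    have hgK : g * (n' : G) * g⁻¹ ∈ K := hKn.conj_mem _ n'.2 g
    refine Subgroup.mem_map.mpr ⟨⟨g * (n' : G) * g⁻¹, hgK⟩, ?_, rfl⟩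
    obtain ⟨k, hkdef⟩ : ∃ k : ↥K, k = ⟨g * (n' : G) * g⁻¹, hgK⟩ := ⟨_, rfl⟩
    rw [← hkdef]
    have ho : orderOf k = orderOf n' := by
      rw [← Subgroup.orderOf_coe, ← Subgroup.orderOf_coe, hkdef]
      exact MulEquiv.orderOf_eq (MulAut.conj g) (n' : G)
    have hdvd : orderOf n' ∣ Nat.card N := by
      have := orderOf_dvd_natCard (⟨n', hn'⟩ : N)
      rwa [Subgroup.orderOf_mk] at this
    have hcop' : (p ^ b).Coprime (orderOf k) := by
      rw [ho]
      exact Nat.Coprime.pow_left b (Nat.Coprime.coprime_dvd_right hdvd hcop.symm)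
    obtain ⟨m, hm⟩ := exists_pow_eq_self_of_coprime hcop'
    rw [← hm]
    apply Subgroup.pow_mem
    rw [← hb]
    exact Subgroup.pow_index_mem N k
  · rw [Subgroup.card_map_of_injective K.subtype_injective]
    exact hcop
  · rw [Subgroup.index_map_subtype, hb, hK, pow_add, mul_comm]

end Cfsg.Agent.Lib.Helper23.NPCTools
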