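import Cfsg.Prelude.Def_SylowChains

/-!
# Basic lemmas on `Cfsg.sylowMembers`, conjugation (helper23)
-/

set_option autoImplicit false

namespace Cfsg.Agent.Lib.Helper23

theorem conj_injective {G : Type*} [Group G] (m : G) :
    Function.Injective (MulAut.conj m).toMonoidHom := (MulAut.conj m).injective

theorem map_conj_mul {G : Type*} [Group G] (X : Subgroup G) (a g : G) :
    (X.map (MulAut.conj g).toMonoidHom).map (MulAut.conj a).toMonoidHom =
      X.map (MulAut.conj (a * g)).toMonoidHom := by
  rw [Subgroup.map_map]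
  congr 1
  ext x
  simp [mul_assoc]

theorem map_conj_one {G : Type*} [Group G] (X : Subgroup G) :
    X.map (MulAut.conj (1 : G)).toMonoidHom = X := by
  ext x
  simp

/-- `S.map (conj k) = S` puts `k` in the normalizer. -/
theorem mem_normalizer_of_map_conj_eq {G : Type*} [Group G] (S : Subgroup G) (k : G)
    (h : S.map (MulAut.conj k).toMonoidHom = S) : k ∈ Subgroup.normalizer (S : Set G) := by
  rw [Subgroup.mem_normalizer_iff]
  intro x
  constructor
  · intro hx
    rw [← h]
    exact ⟨x, hx, by simp⟩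
  · intro hx
    rw [← h] at hx
    obtain ⟨s, hs, hsx⟩ := hx
    have : s = x := by
      have h1 : k * s * k⁻¹ = k * x * k⁻¹ := by simpa using hsx
      exact mul_left_cancel (mul_right_cancel h1)
    rw [← this]; exact hs

/-- Numerical form of membership in `sylowMembers`: `S ⊓ X` is a Sylow `p`-subgroup of `X` iff its index in `X` is
prime to `p` (for `S` a `p`-group). -/
theorem mem_sylowMembers_iff {G : Type*} [Group G] [Finite G] {p : ℕ} [Fact p.Prime]
    (𝓕 : Set (Subgroup G)) (S : Subgroup G) (hS : IsPGroup p S) (X : Subgroup G) :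
    X ∈ Cfsg.sylowMembers p 𝓕 S ↔ X ∈ 𝓕 ∧ ¬ p ∣ (S ⊓ X).relIndex X := by
  constructor
  · rintro ⟨hX, P, hP⟩
    refine ⟨hX, ?_⟩
    have h1 : (S ⊓ X).subgroupOf X = (P : Subgroup X) := by
      rw [← hP]
      exact Subgroup.comap_map_eq_self_of_injective (Subgroup.subtype_injective X) _
    show ¬ p ∣ ((S ⊓ X).subgroupOf X).index
    rw [h1]
    exact P.not_dvd_index
  · rintro ⟨hX, hnd⟩
    refine ⟨hX, ?_⟩
    have hQ : IsPGroup p ((S ⊓ X).subgroupOf X) := (hS.to_le inf_le_left).comap_subtype
    have hnd' : ¬ p ∣ ((S ⊓ X).subgroupOf X).index := hnd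
    refine ⟨hQ.toSylow hnd', ?_⟩
    rw [IsPGroup.toSylow_coe, Subgroup.subgroupOf_map_subtype, inf_assoc, inf_idem]

/-- Conjugation invariance of `sylowMembers` (numerical form). -/
theorem relIndex_conj {G : Type*} [Group G] (m : G) (S X : Subgroup G) :
    ((S.map (MulAut.conj m).toMonoidHom) ⊓ (X.map (MulAut.conj m).toMonoidHom)).relIndex
      (X.map (MulAut.conj m).toMonoidHom) = (S ⊓ X).relIndex X := by
  rw [← Subgroup.map_inf _ _ _ (conj_injective m),
    Subgroup.relIndex_map_map_of_injective _ _ (conj_injective m)]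

end Cfsg.Agent.Lib.Helper23
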