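import Mathlib
import Cfsg.Prelude.Def_Solvable
import Cfsg.Prelude.Def_OddOrderLocal
import Cfsg.Agent.Lib.Lead.QuadSolv
import Cfsg.Agent.Lib.Lead.PSolvOfSolv
import Cfsg.Agent.Lib.Helper2.NilpotentCoprime
import Cfsg.Agent.Lib.Helper2.Cores
import Cfsg.Agent.Lib.Helper16.ResidualQuot
import Cfsg.Agent.Lib.Helper3.QuotAct
import Cfsg.Agent.S0029
import Cfsg.Agent.S0044

/-!
# Quadratic elements in solvable groups lie in the Fitting subgroup (helper23)

`le_of_primePow`: prime-power induction for subgroups.
`mem_fitting_of_quadratic`: X solvable, p ≥ 5, y centralizes O_r(X) for r ≠ p and acts quadratically on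
O_p(X) ⇒ y ∈ F(X).
-/

set_option autoImplicit false
set_option linter.style.haveILetI false

namespace Cfsg.Agent.Lib.Helper23.ScnA

open Subgroup Cfsg Cfsg.Agent.Lib.Helper2
open scoped commutatorElement

/-- prime-power induction: a subgroup containing all prime-power-order elements of `C` contains `C` -/
theorem le_of_primePow {G : Type*} [Group G] [Finite G] (C B : Subgroup G)
    (h : ∀ x ∈ C, ∀ (r j : ℕ), r.Prime → orderOf x = r ^ j → x ∈ B) : C ≤ B := by
  have key : ∀ n : ℕ, ∀ x ∈ C, orderOf x = n → x ∈ B := by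
    intro n
    induction n using Nat.strong_induction_on with
    | _ n ih =>
      intro x hx hn
      by_cases h1 : n = 1
      · rw [h1, orderOf_eq_one_iff] at hn
        rw [hn]; exact B.one_mem
      · obtain ⟨r, hr, hrn⟩ := Nat.exists_prime_and_dvd h1
        obtain ⟨a, b, ha, hb, hab, ⟨k, hak⟩, hbc⟩ :=
          Cfsg.Agent.Lib.Helper2.exists_p_decomp x r hr
        have haC : a ∈ C := (zpowers_le.2 hx) ha
        have hbC : b ∈ C := (zpowers_le.2 hx) hb
        obtain ⟨j, -, hj⟩ := (Nat.dvd_prime_pow hr).1 hak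
        have haB : a ∈ B := h a haC r j hr hj
        have hbdvd : orderOf b ∣ n := hn ▸ orderOf_dvd_of_mem_zpowers hb
        have hblt : orderOf b < n := by
          apply lt_of_le_of_ne (Nat.le_of_dvd (by rw [← hn]; exact orderOf_pos x) hbdvd)
          intro heq
          rw [heq] at hbc
          exact hr.one_lt.ne' (Nat.Coprime.eq_one_of_dvd hbc.symm hrn)
        have hbB : b ∈ B := ih _ hblt b hbC rfl
        rw [hab]; exact B.mul_mem haB hbB
  intro x hx
  exact key _ x hx rfl

/-- a `p`-subgroup of `F(G)` lies in `O_p(G)`. -/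
theorem le_pCore_of_le_fitting {G : Type*} [Group G] [Finite G] {p : ℕ} [hp : Fact p.Prime]
    (K : Subgroup G) (hK : K ≤ fittingSubgroup G) (hKp : IsPGroup p K) : K ≤ pCore p G := by
  haveI hnil : Group.IsNilpotent (fittingSubgroup G) := fittingSubgroup_isNilpotent
  haveI hFn : (fittingSubgroup G).Normal := fittingSubgroup_normal
  have hK'p : IsPGroup p (K.subgroupOf (fittingSubgroup G)) := hKp.comap_subtype
  obtain ⟨P, hP⟩ := hK'p.exists_le_sylow
  have hPn : (P : Subgroup (fittingSubgroup G)).Normal := inferInstance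
  haveI : (P : Subgroup (fittingSubgroup G)).Characteristic := P.characteristic_of_normal hPn
  have hle : (P : Subgroup (fittingSubgroup G)).map (fittingSubgroup G).subtype ≤ pCore p G := by
    apply le_pCore
    · exact ConjAct.normal_of_characteristic_of_normal
    · exact P.isPGroup'.map _
  intro k hk
  have h2 : (⟨k, hK hk⟩ : ↥(fittingSubgroup G)) ∈ K.subgroupOf (fittingSubgroup G) :=
    Subgroup.mem_subgroupOf.mpr hk
  exact hle ⟨_, hP h2, rfl⟩

/-- an element of prime power order `p^j` in `F(G)` lies in `O_p(G)` -/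
theorem mem_pCore_of_mem_fitting {G : Type*} [Group G] [Finite G] {p : ℕ} [hp : Fact p.Prime]
    (x : G) (hx : x ∈ fittingSubgroup G) (j : ℕ) (hj : orderOf x = p ^ j) : x ∈ pCore p G := by
  apply le_pCore_of_le_fitting (zpowers x) (zpowers_le.2 hx) _ (mem_zpowers x)
  apply IsPGroup.of_card (n := j)
  rw [Nat.card_zpowers, hj]

open Cfsg.Agent.Lib.Helper3 Cfsg.Agent.Lib.Helper16 in
/-- **Key lemma.** -/
theorem mem_fitting_of_quadratic {X : Type*} [Group X] [Finite X] [hsolv : Group.IsSolvable X]
    (p : ℕ) [hp : Fact p.Prime] (hp5 : 5 ≤ p) (y : X)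
    (hy1 : ∀ r : ℕ, r.Prime → r ≠ p → ∀ m ∈ pCore r X, y * m = m * y)
    (hy2 : ⁅⁅pCore p X, zpowers y⁆, zpowers y⁆ = ⊥) : y ∈ fittingSubgroup X := by
  classical
  haveI hKn : (pCore p X).Normal := Cfsg.Agent.Lib.Helper2.pCore_normal p
  have hKp : IsPGroup p (pCore p X) := pCore_isPGroup p
  haveI hNn : ((frattini ↥(pCore p X)).map (pCore p X).subtype).Normal :=
    ConjAct.normal_of_characteristic_of_normal
  have hcomm : ⁅pCore p X, pCore p X⁆ ≤ (frattini ↥(pCore p X)).map (pCore p X).subtype := by
    have h1 := Cfsg.Agent.Lib.Helper14.commutator_le_frattini_of_isPGroup' hKp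
    have h2 : ⁅pCore p X, pCore p X⁆ =
        (commutator ↥(pCore p X)).map (pCore p X).subtype := by
      rw [_root_.commutator_def, Subgroup.map_commutator, ← MonoidHom.range_eq_map,
        Subgroup.range_subtype]
    rw [h2]
    exact Subgroup.map_mono h1
  have hexp : ∀ x ∈ pCore p X,
      x ^ p ∈ (frattini ↥(pCore p X)).map (pCore p X).subtype := by
    intro x hx
    exact ⟨⟨x, hx⟩ ^ p, Cfsg.Agent.Lib.Helper14.pow_mem_frattini_of_isPGroup' hKp ⟨x, hx⟩, rfl⟩
  have hps : Cfsg.IsPSolvable p X :=
    Cfsg.Agent.Lib.Lead.PSolvOfSolv.isPSolvable_of_isSolvable p hsolv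
  obtain ⟨D, hDn, hD1, hD2, hD3⟩ := Cfsg.Agent.Lib.Lead.QuadSolv.core_section p hp5 (pCore p X)
    ((frattini ↥(pCore p X)).map (pCore p X).subtype) hcomm hexp hps y (hy2 ▸ bot_le)
  -- the normal subgroup D₁
  let I : Subgroup X := ⨅ r : {r : Nat.Primes // (r : ℕ) ≠ p}, centralizer (pCore (r : ℕ) X : Set X)
  haveI hIn : I.Normal := by
    apply Subgroup.normal_iInf_normal
    intro r
    haveI : (pCore (r : ℕ) X).Normal := Cfsg.Agent.Lib.Helper2.pCore_normal _
    infer_instance
  haveI hD₁n : (D ⊓ I).Normal := by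
    haveI := hDn
    infer_instance
  have hmemI : ∀ e : X, e ∈ I ↔ ∀ r : ℕ, r.Prime → r ≠ p → ∀ m ∈ pCore r X, m * e = e * m := by
    intro e
    simp only [I, Subgroup.mem_iInf, mem_centralizer_iff, SetLike.mem_coe]
    constructor
    · intro h r hr hrp m hm
      exact h ⟨⟨r, hr⟩, hrp⟩ m hm
    · intro h r m hm
      exact h r r.1.2 r.2 m hm
  have hyD₁ : y ∈ D ⊓ I := ⟨hD2, (hmemI y).2 (fun r hr hrp m hm => (hy1 r hr hrp m hm).symm)⟩
  -- p'-elements of D₁ are central in D₁
  have hcent : ∀ d ∈ D ⊓ I, (orderOf d).Coprime p → ∀ e ∈ D ⊓ I, e * d = d * e := by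
    intro d hd hdo e he
    obtain ⟨k, hk⟩ := hD3 d hd.1
    have hdker : d ∈ (quotAct ((frattini ↥(pCore p X)).map (pCore p X).subtype)
        (pCore p X)).ker := by
      obtain ⟨m, hm⟩ := exists_pow_eq_self_of_coprime (n := p ^ k) (x := d)
        ((Nat.Coprime.pow_right k hdo).symm)
      rw [← hm]
      exact Subgroup.pow_mem _ hk m
    have hzk : zpowers d ≤ (quotAct ((frattini ↥(pCore p X)).map (pCore p X).subtype)
        (pCore p X)).ker := zpowers_le.2 hdker
    have h2 : zpowers d ≤ centralizer (pCore p X : Set X) := by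
      apply Cfsg.Agent.S0029.result (zpowers d) (pCore p X)
      · rw [normalizer_eq_top]; exact le_top
      · have hfp : IsPGroup p (frattini ↥(pCore p X)) := hKp.to_subgroup _
        obtain ⟨j, hj⟩ := (IsPGroup.iff_card).1 hfp
        rw [hj, Nat.card_zpowers]
        exact Nat.Coprime.pow_right j hdo
      · intro a ha x hx
        exact (quotAct_eq_one_iff _ _ a).1 (MonoidHom.mem_ker.1 (hzk ha)) x hx
    -- d centralizes F
    have h3 : d ∈ centralizer (fittingSubgroup X : Set X) := by
      have : fittingSubgroup X ≤ centralizer ({d} : Set X) := by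
        rw [fittingSubgroup_eq_iSup_pCore]
        apply iSup_le
        intro r
        by_cases hrp : (r : ℕ) = p
        · rw [hrp]
          intro m hm
          rw [mem_centralizer_iff]
          intro z hz
          rw [Set.mem_singleton_iff] at hz
          rw [hz]
          exact (mem_centralizer_iff.1 (h2 (mem_zpowers d)) m hm).symm
        · intro m hm
          rw [mem_centralizer_iff]
          intro z hz
          rw [Set.mem_singleton_iff] at hz
          rw [hz]
          exact ((hmemI d).1 hd.2 r r.2 hrp m hm).symm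
      rw [mem_centralizer_iff]
      intro f hf
      have := mem_centralizer_iff.1 (this hf) d (Set.mem_singleton d)
      exact this.symm
    have h4 : d ∈ fittingSubgroup X := Cfsg.Agent.S0044.result h3
    -- e commutes with d by prime power induction on zpowers d
    have h5 : zpowers d ≤ centralizer ({e} : Set X) := by
      apply le_of_primePow
      intro x hx r j hr hj
      rw [mem_centralizer_iff]
      intro z hz
      rw [Set.mem_singleton_iff] at hz
      rw [hz]
      rcases Nat.eq_zero_or_pos j with rfl | hjpos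
      · rw [pow_zero, orderOf_eq_one_iff] at hj
        rw [hj, mul_one, one_mul]
      · have hrd : r ∣ orderOf d := by
          have h6 : orderOf x ∣ orderOf d := orderOf_dvd_of_mem_zpowers hx
          rw [hj] at h6
          exact (dvd_pow_self r hjpos.ne').trans h6
        have hrp : r ≠ p := by
          rintro rfl
          exact hr.one_lt.ne' (Nat.Coprime.eq_one_of_dvd hdo.symm hrd)
        haveI : Fact r.Prime := ⟨hr⟩
        have hxF : x ∈ fittingSubgroup X := (zpowers_le.2 h4) hx
        have hxr : x ∈ pCore r X := mem_pCore_of_mem_fitting x hxF j hj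
        exact ((hmemI e).1 he.2 r hr hrp x hxr).symm
    have := mem_centralizer_iff.1 (h5 (mem_zpowers d)) e (Set.mem_singleton e)
    exact this
  -- D₁ is nilpotent
  have hnil : Group.IsNilpotent ↥(D ⊓ I) := by
    haveI := pResidual_normal (G := ↥(D ⊓ I)) p
    haveI hqn : Group.IsNilpotent (↥(D ⊓ I) ⧸ Cfsg.pResidual p ↥(D ⊓ I)) :=
      (quotient_pResidual_isPGroup p).isNilpotent
    apply _root_.isNilpotent_of_ker_le_center (QuotientGroup.mk' (Cfsg.pResidual p ↥(D ⊓ I)))
    · rw [QuotientGroup.ker_mk']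
      unfold Cfsg.pResidual
      rw [closure_le]
      intro g hg
      rw [SetLike.mem_coe, mem_center_iff]
      intro e
      apply Subtype.ext
      rw [Subgroup.coe_mul, Subgroup.coe_mul]
      apply hcent g g.2 _ e e.2
      have : orderOf (g : X) = orderOf g := Subgroup.orderOf_coe g
      rw [this]
      exact hg
  exact le_fittingSubgroup hD₁n hnil hyD₁

end Cfsg.Agent.Lib.Helper23.ScnA
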