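import Mathlib
import Cfsg.Agent.Lib.Helper1.AlperinGoldschmidt
import Cfsg.Agent.Lib.Helper1.WellPlaced
import Cfsg.Agent.Lib.Helper1.FamilyTransfer
import Cfsg.Agent.Lib.Helper16.SylowNormal

set_option autoImplicit false

/-!
# Alperin–Goldschmidt: reduction to centric subgroups with a non-`p`-group automizer

`Fus 𝓕 A g` : the conjugation `a ↦ g⁻¹ a g` on the set `A` is a composite of conjugations by
elements centralizing the running set and by elements of `N_G(T)`, `T ∈ 𝓕` containing the running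
set.

`fus_of_centric`: if `𝓕` contains `S` and every fully normalized `T ≤ S` with `C_S(T) ≤ T` and
`N_G(T) ≠ C_G(T) N_S(T)`, then every `g` with `A, g⁻¹ A g ⊆ S` satisfies `Fus 𝓕 A g`.
-/

namespace Cfsg.Agent.Lib.Helper23.AlperinCentric

open Cfsg.Agent.Lib.Helper29 Cfsg.Agent.Lib.Helper1

variable {G : Type*} [Group G]

/-- Fusion chains modulo centralizers. -/
inductive Fus (𝓕 : Set (Subgroup G)) : Set G → G → Prop
  | nil (A : Set G) : Fus 𝓕 A 1
  | cent (A : Set G) (c g : G) (hc : ∀ a ∈ A, c⁻¹ * a * c = a) (h : Fus 𝓕 A g) : Fus 𝓕 A (c * g)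
  | step (A : Set G) (T : Subgroup G) (x g : G) (hT : T ∈ 𝓕)
      (hx : x ∈ Subgroup.normalizer (T : Set G)) (hA : A ⊆ (T : Set G))
      (h : Fus 𝓕 (rcs x A) g) : Fus 𝓕 A (x * g)

theorem rcs_eq_self_of_cent {A : Set G} {c : G} (hc : ∀ a ∈ A, c⁻¹ * a * c = a) : rcs c A = A := by
  unfold rcs
  ext y
  constructor
  · rintro ⟨a, ha, rfl⟩
    show c⁻¹ * a * c ∈ A
    rw [hc a ha]; exact ha
  · intro hy
    exact ⟨y, hy, hc y hy⟩

theorem Fus.mono {𝓕 : Set (Subgroup G)} {A : Set G} {g : G} (h : Fus 𝓕 A g) :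
    ∀ B : Set G, B ⊆ A → Fus 𝓕 B g := by
  induction h with
  | nil A => intro B _; exact Fus.nil B
  | cent A c g hc _ ih =>
    intro B hB
    exact Fus.cent B c g (fun a ha => hc a (hB ha)) (ih B hB)
  | step A T x g hT hx hA _ ih =>
    intro B hB
    exact Fus.step B T x g hT hx (hB.trans hA) (ih _ (rcs_mono x hB))

theorem Fus.trans {𝓕 : Set (Subgroup G)} {A : Set G} {g : G} (h : Fus 𝓕 A g) :
    ∀ k : G, Fus 𝓕 (rcs g A) k → Fus 𝓕 A (g * k) := by
  induction h with
  | nil A => intro k hk; rw [rcs_one] at hk; rwa [one_mul]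
  | cent A c g hc _ ih =>
    intro k hk
    rw [rcs_mul, rcs_eq_self_of_cent hc] at hk
    rw [mul_assoc]
    exact Fus.cent A c (g * k) hc (ih k hk)
  | step A T x g hT hx hA _ ih =>
    intro k hk
    rw [rcs_mul] at hk
    rw [mul_assoc]
    exact Fus.step A T x (g * k) hT hx hA (ih k hk)

theorem Fus.single {𝓕 : Set (Subgroup G)} {A : Set G} {T : Subgroup G} {x : G} (hT : T ∈ 𝓕)
    (hx : x ∈ Subgroup.normalizer (T : Set G)) (hA : A ⊆ (T : Set G)) : Fus 𝓕 A x := by
  have := Fus.step A T x 1 hT hx hA (Fus.nil _)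
  rwa [mul_one] at this

theorem Fus.cent_single {𝓕 : Set (Subgroup G)} {A : Set G} {c : G}
    (hc : ∀ a ∈ A, c⁻¹ * a * c = a) : Fus 𝓕 A c := by
  have := Fus.cent A c 1 hc (Fus.nil (𝓕 := 𝓕) A)
  rwa [mul_one] at this

/-- General elimination: a reflexive transitive relation on sets which holds along the basic
steps holds along any chain. -/
theorem Fus.rel {𝓕 : Set (Subgroup G)} {R : Set G → Set G → Prop} (hrefl : ∀ A, R A A)
    (htrans : ∀ A B C, R A B → R B C → R A C)
    (hstep : ∀ T ∈ 𝓕, ∀ x ∈ Subgroup.normalizer (T : Set G), ∀ A : Set G, A ⊆ (T : Set G) →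
      R A (rcs x A))
    {A : Set G} {g : G} (h : Fus 𝓕 A g) : R A (rcs g A) := by
  induction h with
  | nil A => rw [rcs_one]; exact hrefl A
  | cent A c g hc _ ih =>
    rw [rcs_mul, rcs_eq_self_of_cent hc]; exact ih
  | step A T x g hT hx hA _ ih =>
    rw [rcs_mul]
    exact htrans _ _ _ (hstep T hT x hx A hA) ih

theorem rcs_singleton (g a : G) : rcs g ({a} : Set G) = {g⁻¹ * a * g} := by
  unfold rcs; simp

/-- Elementwise elimination. -/
theorem Fus.elem {𝓕 : Set (Subgroup G)} {R : G → G → Prop} (hrefl : ∀ a, R a a)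
    (htrans : ∀ a b c, R a b → R b c → R a c)
    (hstep : ∀ T ∈ 𝓕, ∀ x ∈ Subgroup.normalizer (T : Set G), ∀ a ∈ T, R a (x⁻¹ * a * x))
    {a g : G} (h : Fus 𝓕 ({a} : Set G) g) : R a (g⁻¹ * a * g) := by
  have key := Fus.rel (𝓕 := 𝓕)
    (R := fun A B => ∀ a, A = {a} → ∃ b, B = {b} ∧ R a b)
    (fun A a ha => ⟨a, ha, hrefl a⟩)
    (fun A B C h1 h2 a ha => by
      obtain ⟨b, hb, hab⟩ := h1 a ha
      obtain ⟨c, hc, hbc⟩ := h2 b hb
      exact ⟨c, hc, htrans _ _ _ hab hbc⟩)
    (fun T hT x hx A hA a ha => by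
      subst ha
      refine ⟨x⁻¹ * a * x, rcs_singleton x a, hstep T hT x hx a ?_⟩
      exact hA (Set.mem_singleton a))
    h
  obtain ⟨b, hb, hab⟩ := key a rfl
  rw [rcs_singleton] at hb
  have : g⁻¹ * a * g = b := Set.singleton_eq_singleton_iff.mp hb
  rw [this]; exact hab

/-- Subgroup elimination. -/
theorem Fus.subgroup {𝓕 : Set (Subgroup G)} {R : Subgroup G → Subgroup G → Prop}
    (hrefl : ∀ a, R a a) (htrans : ∀ a b c, R a b → R b c → R a c)
    (hstep : ∀ T ∈ 𝓕, ∀ x ∈ Subgroup.normalizer (T : Set G), ∀ H : Subgroup G, H ≤ T →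
      R H (cj x⁻¹ H))
    {H : Subgroup G} {g : G} (h : Fus 𝓕 (H : Set G) g) : R H (cj g⁻¹ H) := by
  have key := Fus.rel (𝓕 := 𝓕)
    (R := fun A B => ∀ H : Subgroup G, A = (H : Set G) → ∃ K : Subgroup G, B = (K : Set G) ∧ R H K)
    (fun A a ha => ⟨a, ha, hrefl a⟩)
    (fun A B C h1 h2 a ha => by
      obtain ⟨b, hb, hab⟩ := h1 a ha
      obtain ⟨c, hc, hbc⟩ := h2 b hb
      exact ⟨c, hc, htrans _ _ _ hab hbc⟩)
    (fun T hT x hx A hA H ha => by
      subst ha
      exact ⟨cj x⁻¹ H, rcs_coe x H, hstep T hT x hx H (SetLike.coe_subset_coe.mp hA)⟩)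
    h
  obtain ⟨K, hK, hHK⟩ := key H rfl
  rw [rcs_coe] at hK
  have : cj g⁻¹ H = K := SetLike.coe_injective hK
  rw [this]; exact hHK

/-! ### The Frattini step -/

theorem not_dvd_relIndex_inf_centralizer [Finite G] {p : ℕ} [Fact p.Prime] (S : Sylow p G)
    (T : Subgroup G)
    (hsyl : ¬ p ∣ ((S : Subgroup G) ⊓ Subgroup.normalizer (T : Set G)).relIndex
      (Subgroup.normalizer (T : Set G))) :
    ¬ p ∣ ((S : Subgroup G) ⊓ Subgroup.centralizer (T : Set G)).relIndex
      (Subgroup.centralizer (T : Set G)) := by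
  set N := Subgroup.normalizer (T : Set G) with hN
  set C := Subgroup.centralizer (T : Set G) with hC
  have hCN : C ≤ N := Subgroup.centralizer_le_normalizer _
  have hpS : IsPGroup p (((S : Subgroup G) ⊓ N).subgroupOf N) :=
    (isPGroup_subgroupOf_iff_of_le inf_le_right).2 (S.isPGroup'.to_le inf_le_left)
  have hidx : ¬ p ∣ (((S : Subgroup G) ⊓ N).subgroupOf N).index := hsyl
  let P' : Sylow p N := hpS.toSylow hidx
  have hCn : (C.subgroupOf N).Normal := by
    rw [Subgroup.normal_subgroupOf_iff_le_normalizer hCN]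
    intro x hx
    rw [Subgroup.mem_normalizer_iff]
    intro c
    rw [hC, Subgroup.mem_centralizer_iff, Subgroup.mem_centralizer_iff]
    constructor
    · intro hc t ht
      have ht' : x⁻¹ * t * x ∈ T := by
        have := (Subgroup.mem_normalizer_iff.mp (inv_mem hx) t).mp ht
        simpa using this
      have := hc _ ht'
      calc t * (x * c * x⁻¹) = x * ((x⁻¹ * t * x) * c) * x⁻¹ := by group
        _ = x * (c * (x⁻¹ * t * x)) * x⁻¹ := by rw [this]
        _ = x * c * x⁻¹ * t := by group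
    · intro hc t ht
      have ht' : x * t * x⁻¹ ∈ T := (Subgroup.mem_normalizer_iff.mp hx t).mp ht
      have := hc _ ht'
      calc t * c = x⁻¹ * ((x * t * x⁻¹) * (x * c * x⁻¹)) * x := by group
        _ = x⁻¹ * ((x * c * x⁻¹) * (x * t * x⁻¹)) * x := by rw [this]
        _ = c * t := by group
  have h1 := Cfsg.Agent.Lib.Helper16.not_dvd_relIndex_sylow_normal P' (C.subgroupOf N)
  have h2 : ((P' : Subgroup N)).relIndex (C.subgroupOf N) = ((S : Subgroup G) ⊓ N).relIndex C := by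
    show (((S : Subgroup G) ⊓ N).subgroupOf N).relIndex (C.subgroupOf N) = _
    exact Subgroup.relIndex_subgroupOf hCN
  rw [h2] at h1
  have h3 : ((S : Subgroup G) ⊓ N).relIndex C = ((S : Subgroup G) ⊓ C).relIndex C := by
    rw [← Subgroup.inf_relIndex_right ((S : Subgroup G) ⊓ N) C, inf_assoc, inf_eq_right.mpr hCN]
  rwa [h3] at h1

theorem cj_centralizer_of_mem_normalizer {T : Subgroup G} {x : G}
    (hx : x ∈ Subgroup.normalizer (T : Set G)) :
    cj x (Subgroup.centralizer (T : Set G)) = Subgroup.centralizer (T : Set G) := by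
  rw [cj_centralizer, cj_eq_of_mem_normalizer hx]

theorem frattini_centralizer [Finite G] {p : ℕ} [Fact p.Prime] (S : Sylow p G)
    (T : Subgroup G)
    (hsyl : ¬ p ∣ ((S : Subgroup G) ⊓ Subgroup.normalizer (T : Set G)).relIndex
      (Subgroup.normalizer (T : Set G)))
    (x : G) (hx : x ∈ Subgroup.normalizer (T : Set G)) :
    ∃ c ∈ Subgroup.centralizer (T : Set G), ∃ m ∈ Subgroup.normalizer (T : Set G),
      m ∈ Subgroup.normalizer
        ((((S : Subgroup G) ⊓ Subgroup.centralizer (T : Set G) : Subgroup G)) : Set G) ∧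
      x = c * m := by
  set C := Subgroup.centralizer (T : Set G) with hC
  have hCN : C ≤ Subgroup.normalizer (T : Set G) := Subgroup.centralizer_le_normalizer _
  have hp : IsPGroup p ((S : Subgroup G) ⊓ C : Subgroup G) := S.isPGroup'.to_le inf_le_left
  have hs : IsSylowSub p ((S : Subgroup G) ⊓ C) C :=
    isSylowSub_of_not_dvd_relIndex inf_le_right hp (not_dvd_relIndex_inf_centralizer S T hsyl)
  have hle : cj x ((S : Subgroup G) ⊓ C) ≤ C := by
    have := cj_mono (g := x) (inf_le_right : (S : Subgroup G) ⊓ C ≤ C)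
    rwa [cj_centralizer_of_mem_normalizer hx] at this
  obtain ⟨c, hcC, hc⟩ := exists_cj_le_of_isSylowSub hs hle (isPGroup_cj hp)
  rw [cj_cj] at hc
  have heq : cj (c * x) ((S : Subgroup G) ⊓ C) = (S : Subgroup G) ⊓ C := by
    apply Subgroup.eq_of_le_of_card_ge hc
    rw [card_cj]
  refine ⟨c⁻¹, inv_mem hcC, c * x, mul_mem (hCN hcC) hx, mem_normalizer_of_cj_eq heq, ?_⟩
  group

/-! ### The main theorem -/

/-- The family of fully normalized subgroups of `S`. -/
def fullyNormalized (p : ℕ) (S : Subgroup G) : Set (Subgroup G) :=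
  {U | U ≤ S ∧ ¬ p ∣ (S ⊓ Subgroup.normalizer (U : Set G)).relIndex
    (Subgroup.normalizer (U : Set G))}

theorem fchain_fullyNormalized [Finite G] {p : ℕ} [Fact p.Prime] (S : Sylow p G)
    (T : Subgroup G) (hT : T ≤ (S : Subgroup G)) (g : G) (hg : cj g⁻¹ T ≤ (S : Subgroup G)) :
    FChain (fullyNormalized p (S : Subgroup G)) (T : Set G) g := by
  refine alperin_goldschmidt_chain S (fullyNormalized p (S : Subgroup G)) (fun U hU => hU.1) ?_
    _ T hT rfl g hg
  intro T' hT'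
  obtain ⟨g₀, hg₀, hsc⟩ := exists_cj_sylCond S T' T' Subgroup.le_normalizer (S.isPGroup'.to_le hT')
  have := (sylCond_iff S (cj g₀ T')).mp hsc
  exact ⟨cj g₀ T', ⟨hg₀, this⟩, ⟨g₀, rfl⟩, this⟩

theorem fus_of_fchain {𝓕₀ 𝓕 : Set (Subgroup G)} {B : Set G} {m : G} (h : FChain 𝓕₀ B m) :
    (∀ T' ∈ 𝓕₀, B.ncard ≤ (T' : Set G).ncard → ∀ x ∈ Subgroup.normalizer (T' : Set G),
      ∀ A : Set G, A ⊆ (T' : Set G) → Fus 𝓕 A x) → [Finite G] → ∀ A : Set G, A ⊆ B → Fus 𝓕 A m := by
  induction h with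
  | nil B => intro _ _ A _; exact Fus.nil A
  | cons B T' x g hT hx hB _ ih =>
    intro hyp _ A hA
    have h1 : Fus 𝓕 A x := hyp T' hT (Set.ncard_le_ncard hB (Set.toFinite _)) x hx A (hA.trans hB)
    have h2 : Fus 𝓕 (rcs x A) g := by
      apply ih _ (rcs x A) (rcs_mono x hA)
      intro T'' hT'' hcard
      rw [rcs_ncard] at hcard
      exact hyp T'' hT'' hcard
    exact h1.trans g h2

theorem fus_normalizer [Finite G] {p : ℕ} [Fact p.Prime] (S : Sylow p G)
    (𝓕 : Set (Subgroup G)) (hS : (S : Subgroup G) ∈ 𝓕)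
    (h𝓕 : ∀ T : Subgroup G, T ≤ (S : Subgroup G) →
      ¬ p ∣ ((S : Subgroup G) ⊓ Subgroup.normalizer (T : Set G)).relIndex
        (Subgroup.normalizer (T : Set G)) →
      (S : Subgroup G) ⊓ Subgroup.centralizer (T : Set G) ≤ T →
      (¬ ∀ x ∈ Subgroup.normalizer (T : Set G), ∃ c ∈ Subgroup.centralizer (T : Set G),
        ∃ s ∈ (S : Subgroup G) ⊓ Subgroup.normalizer (T : Set G), x = c * s) → T ∈ 𝓕) :
    ∀ (k : ℕ) (T : Subgroup G), T ∈ fullyNormalized p (S : Subgroup G) →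
      Nat.card S - Nat.card T = k → ∀ x ∈ Subgroup.normalizer (T : Set G),
      ∀ A : Set G, A ⊆ (T : Set G) → Fus 𝓕 A x := by
  intro k
  induction k using Nat.strong_induction_on with
  | _ k ih =>
    intro T hT hk x hx A hA
    obtain ⟨hTS, hsyl⟩ := hT
    by_cases hcen : (S : Subgroup G) ⊓ Subgroup.centralizer (T : Set G) ≤ T
    · by_cases hdec : ∀ x ∈ Subgroup.normalizer (T : Set G),
          ∃ c ∈ Subgroup.centralizer (T : Set G),
          ∃ s ∈ (S : Subgroup G) ⊓ Subgroup.normalizer (T : Set G), x = c * s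
      · obtain ⟨c, hc, s, hs, rfl⟩ := hdec x hx
        have hcA : ∀ a ∈ A, c⁻¹ * a * c = a := by
          intro a ha
          have := Subgroup.mem_centralizer_iff.mp hc a (hA ha)
          rw [mul_assoc, this, ← mul_assoc, inv_mul_cancel, one_mul]
        refine Fus.cent A c s hcA ?_
        exact Fus.single hS (Subgroup.le_normalizer hs.1) (hA.trans (SetLike.coe_subset_coe.mpr hTS))
      · exact Fus.single (h𝓕 T hTS hsyl hcen hdec) hx hA
    · -- not centric: Frattini
      obtain ⟨c, hc, m, hmN, hmC, rfl⟩ := frattini_centralizer S T hsyl x hx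
      set CS := (S : Subgroup G) ⊓ Subgroup.centralizer (T : Set G) with hCS
      set T1 := T ⊔ CS with hT1
      have hT1S : T1 ≤ (S : Subgroup G) := sup_le hTS inf_le_left
      have hlt : T < T1 := by
        refine lt_of_le_of_ne le_sup_left ?_
        intro h
        apply hcen
        rw [h]
        exact le_sup_right
      have hcardlt : Nat.card T < Nat.card T1 := by
        by_contra hcon
        exact hlt.ne (Subgroup.eq_of_le_of_card_ge hlt.le (not_lt.mp hcon))
      have hcard1 : Nat.card T1 ≤ Nat.card S := Subgroup.card_le_of_le hT1S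
      have hmT1 : cj m⁻¹ T1 = T1 := by
        rw [hT1, cj_sup, cj_eq_of_mem_normalizer (inv_mem hmN), cj_eq_of_mem_normalizer (inv_mem hmC)]
      have hchain : FChain (fullyNormalized p (S : Subgroup G)) (T1 : Set G) m :=
        fchain_fullyNormalized S T1 hT1S m (hmT1.le.trans hT1S)
      have hfm : Fus 𝓕 A m := by
        refine fus_of_fchain hchain ?_ A (hA.trans (SetLike.coe_subset_coe.mpr hlt.le))
        intro T' hT' hcard x' hx' A' hA'
        have hc1 : Nat.card T1 ≤ Nat.card T' := by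
          have e1 : (T1 : Set G).ncard = Nat.card T1 := by
            rw [← Nat.card_coe_set_eq]; rfl
          have e2 : (T' : Set G).ncard = Nat.card T' := by
            rw [← Nat.card_coe_set_eq]; rfl
          rw [e1, e2] at hcard
          exact hcard
        have hc2 : Nat.card T' ≤ Nat.card S := Subgroup.card_le_of_le hT'.1
        exact ih (Nat.card S - Nat.card T') (by omega) T' hT' rfl x' hx' A' hA'
      have hcA : ∀ a ∈ A, c⁻¹ * a * c = a := by
        intro a ha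
        have := Subgroup.mem_centralizer_iff.mp hc a (hA ha)
        rw [mul_assoc, this, ← mul_assoc, inv_mul_cancel, one_mul]
      exact Fus.cent A c m hcA hfm

/-- **Alperin–Goldschmidt, centric form.**  If `𝓕` contains `S` and all fully normalized centric
subgroups `T` of `S` with `N_G(T) ≠ C_G(T) N_S(T)`, then all fusion in `S` is generated by
`N_G(T)`, `T ∈ 𝓕`. -/
theorem fus_of_centric [Finite G] {p : ℕ} [Fact p.Prime] (S : Sylow p G)
    (𝓕 : Set (Subgroup G)) (hS : (S : Subgroup G) ∈ 𝓕)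
    (h𝓕 : ∀ T : Subgroup G, T ≤ (S : Subgroup G) →
      ¬ p ∣ ((S : Subgroup G) ⊓ Subgroup.normalizer (T : Set G)).relIndex
        (Subgroup.normalizer (T : Set G)) →
      (S : Subgroup G) ⊓ Subgroup.centralizer (T : Set G) ≤ T →
      (¬ ∀ x ∈ Subgroup.normalizer (T : Set G), ∃ c ∈ Subgroup.centralizer (T : Set G),
        ∃ s ∈ (S : Subgroup G) ⊓ Subgroup.normalizer (T : Set G), x = c * s) → T ∈ 𝓕)
    (A : Set G) (hA : A ⊆ ((S : Subgroup G) : Set G)) (g : G)
    (hg : rcs g A ⊆ ((S : Subgroup G) : Set G)) : Fus 𝓕 A g := by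
  set T := Subgroup.closure A with hT
  have hTS : T ≤ (S : Subgroup G) := (Subgroup.closure_le _).mpr hA
  have hgT : cj g⁻¹ T ≤ (S : Subgroup G) := by
    rw [hT, Subgroup.map_le_iff_le_comap, Subgroup.closure_le]
    intro a ha
    show (MulAut.conj g⁻¹) a ∈ (S : Subgroup G)
    rw [MulAut.conj_apply, inv_inv]
    exact hg ⟨a, ha, rfl⟩
  have hchain := fchain_fullyNormalized S T hTS g hgT
  refine fus_of_fchain hchain ?_ A Subgroup.subset_closure
  intro T' hT' _ x hx A' hA'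
  exact fus_normalizer S 𝓕 hS h𝓕 _ T' hT' rfl x hx A' hA'

/-- If the automizer of `T` is a `p`-group and `N_S(T)` is Sylow in `N_G(T)`, then
`N_G(T) = C_G(T) N_S(T)`. -/
theorem normalizer_eq_of_isPGroup_mulAut [Finite G] {p : ℕ} [Fact p.Prime] (S : Sylow p G)
    (T : Subgroup G)
    (hsyl : ¬ p ∣ ((S : Subgroup G) ⊓ Subgroup.normalizer (T : Set G)).relIndex
      (Subgroup.normalizer (T : Set G)))
    (hAut : IsPGroup p (MulAut T)) :
    ∀ x ∈ Subgroup.normalizer (T : Set G), ∃ c ∈ Subgroup.centralizer (T : Set G),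
      ∃ s ∈ (S : Subgroup G) ⊓ Subgroup.normalizer (T : Set G), x = c * s := by
  intro x hx
  set N := Subgroup.normalizer (T : Set G) with hN
  set C' : Subgroup N := (Subgroup.centralizer (T : Set G)).subgroupOf N with hC'
  set P' : Subgroup N := ((S : Subgroup G) ⊓ N).subgroupOf N with hP'
  have hker : T.normalizerMonoidHom.ker = C' := Subgroup.normalizerMonoidHom_ker T
  have hC'n : C'.Normal := by rw [← hker]; infer_instance
  have h1 : ∃ k : ℕ, C'.index = p ^ k := by
    rw [← hker, Subgroup.index_ker]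
    have : IsPGroup p T.normalizerMonoidHom.range := hAut.to_subgroup _
    exact IsPGroup.iff_card.mp this
  obtain ⟨k, hk⟩ := h1
  have h2 : (C' ⊔ P').index ∣ C'.index := Subgroup.index_dvd_of_le le_sup_left
  have h3 : (C' ⊔ P').index ∣ P'.index := Subgroup.index_dvd_of_le le_sup_right
  have hco : Nat.Coprime (p ^ k) P'.index :=
    Nat.Coprime.pow_left k ((Nat.Prime.coprime_iff_not_dvd Fact.out).mpr hsyl)
  have h4 : (C' ⊔ P').index = 1 := by
    rw [hk] at h2
    exact Nat.eq_one_of_dvd_coprimes hco h2 h3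
  have h5 : C' ⊔ P' = ⊤ := Subgroup.index_eq_one.mp h4
  have hmem : (⟨x, hx⟩ : N) ∈ C' ⊔ P' := h5 ▸ Subgroup.mem_top _
  rw [← SetLike.mem_coe, Subgroup.normal_mul] at hmem
  obtain ⟨c, hc, s, hs, hcs⟩ := Set.mem_mul.mp hmem
  exact ⟨c, hc, s, hs, (congrArg Subtype.val hcs).symm⟩

/-- If every member of the family is locally controlled by `S`, then `S` controls fusion. -/
theorem Fus.controlled {𝓕 : Set (Subgroup G)} {S : Subgroup G}
    (hloc : ∀ T ∈ 𝓕, ∀ x ∈ Subgroup.normalizer (T : Set G), ∃ s ∈ S, ∀ a ∈ T,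
      x⁻¹ * a * x = s⁻¹ * a * s)
    {A : Set G} {g : G} (h : Fus 𝓕 A g) :
    ∃ s ∈ S, ∀ a ∈ A, g⁻¹ * a * g = s⁻¹ * a * s := by
  induction h with
  | nil A => exact ⟨1, S.one_mem, fun a _ => by simp⟩
  | cent A c g hc _ ih =>
    obtain ⟨s, hs, hsa⟩ := ih
    refine ⟨s, hs, fun a ha => ?_⟩
    rw [← hsa a ha]
    calc (c * g)⁻¹ * a * (c * g) = g⁻¹ * (c⁻¹ * a * c) * g := by group
      _ = g⁻¹ * a * g := by rw [hc a ha]
  | step A T x g hT hx hA _ ih =>
    obtain ⟨s₁, hs₁, h1⟩ := hloc T hT x hx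
    obtain ⟨s₂, hs₂, h2⟩ := ih
    refine ⟨s₁ * s₂, S.mul_mem hs₁ hs₂, fun a ha => ?_⟩
    have e1 : x⁻¹ * a * x ∈ rcs x A := ⟨a, ha, rfl⟩
    calc (x * g)⁻¹ * a * (x * g) = g⁻¹ * (x⁻¹ * a * x) * g := by group
      _ = s₂⁻¹ * (x⁻¹ * a * x) * s₂ := h2 _ e1
      _ = s₂⁻¹ * (s₁⁻¹ * a * s₁) * s₂ := by rw [h1 a (hA ha)]
      _ = (s₁ * s₂)⁻¹ * a * (s₁ * s₂) := by group

end Cfsg.Agent.Lib.Helper23.AlperinCentric
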