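import Mathlib

set_option autoImplicit false

/-!
# Automorphisms of the alternating groups

(helper23) For `n ≥ 4`, `n ≠ 6`, every automorphism of `A_n` is conjugation by a unique
permutation. The classical proof: an automorphism maps 3-cycles to 3-cycles (centralizer orders),
and then the images of the 3-cycles `(0 k 1)` determine a permutation.
-/

namespace Cfsg.Agent.Lib.Helper23.AutAlt

open Equiv Equiv.Perm

section threecycles

variable {α : Type*} [Fintype α] [DecidableEq α]

theorem cube {a : Perm α} (ha : a.IsThreeCycle) (p : α) : a (a (a p)) = p := by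
  have h : a ^ 3 = 1 := by rw [← ha.orderOf]; exact pow_orderOf_eq_one a
  have := congrArg (fun f : Perm α => f p) h
  simpa [pow_succ, Perm.mul_apply] using this

theorem sq_ne {a : Perm α} (ha : a.IsThreeCycle) {p : α} (hp : a p ≠ p) : a (a p) ≠ p := by
  intro h
  apply hp
  have := cube ha p
  rw [h] at this
  exact this

theorem sq_ne' {a : Perm α} {p : α} (hp : a p ≠ p) : a (a p) ≠ a p := by
  intro h
  exact hp (a.injective h)

/-- the points moved by a 3-cycle -/
theorem mem_cases {a : Perm α} (ha : a.IsThreeCycle) {p : α} (hp : a p ≠ p) {t : α}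
    (ht : a t ≠ t) : t = p ∨ t = a p ∨ t = a (a p) := by
  have h1 := ha.support_eq_iff_mem_support.mpr (Perm.mem_support.mpr hp)
  have h2 : t ∈ a.support := Perm.mem_support.mpr ht
  rw [h1] at h2
  simpa using h2

/-- a 3-cycle is determined by two consecutive values -/
theorem eq_of_two {a b : Perm α} (ha : a.IsThreeCycle) (hb : b.IsThreeCycle) {p : α}
    (hp : a p ≠ p) (h1 : b p = a p) (h2 : b (a p) = a (a p)) : b = a := by
  have e1 := ha.eq_swap_mul_swap_iff_mem_support.mpr (Perm.mem_support.mpr hp)
  have hp' : b p ≠ p := by rw [h1]; exact hp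
  have e2 := hb.eq_swap_mul_swap_iff_mem_support.mpr (Perm.mem_support.mpr hp')
  rw [h1, h2] at e2
  rw [e2]; exact e1.symm

/-- a 3-cycle moving only points moved by `a` is `a` or `a⁻¹` -/
theorem eq_or_eq_inv {a b : Perm α} (ha : a.IsThreeCycle) (hb : b.IsThreeCycle)
    (hsub : ∀ t, b t ≠ t → a t ≠ t) : b = a ∨ b = a⁻¹ := by
  obtain ⟨p, hp⟩ : ∃ p, b p ≠ p := by
    by_contra hcon
    apply hb.ne_one
    ext t
    by_contra h
    exact hcon ⟨t, h⟩
  have hap : a p ≠ p := hsub p hp
  have hbp : b (b p) ≠ b p := sq_ne' hp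
  have hbp2 : b (b p) ≠ p := sq_ne hb hp
  rcases mem_cases ha hap (hsub _ hbp) with h | h | h
  · exact absurd h hp
  · -- b p = a p
    left
    rcases mem_cases ha hap (hsub _ (sq_ne' (p := b p) hbp)) with h' | h' | h'
    · exact absurd h' hbp2
    · exact absurd (h'.trans h.symm) hbp
    · apply eq_of_two ha hb hap h
      calc b (a p) = b (b p) := by rw [h]
        _ = a (a p) := h'
  · -- b p = a (a p) = a⁻¹ p
    right
    have hai : a⁻¹.IsThreeCycle := ha.inv
    have e1 : a⁻¹ p = a (a p) := by
      rw [Perm.inv_eq_iff_eq]; exact (cube ha p).symm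
    have hip : a⁻¹ p ≠ p := by rw [e1]; exact sq_ne ha hap
    have e2 : a⁻¹ (a⁻¹ p) = a p := by
      rw [e1, Perm.inv_eq_iff_eq]
    rcases mem_cases ha hap (hsub _ (sq_ne' (p := b p) hbp)) with h' | h' | h'
    · exact absurd h' hbp2
    · apply eq_of_two hai hb hip (by rw [e1]; exact h)
      rw [e2, e1, ← h]; exact h'
    · exact absurd (h'.trans h.symm) hbp

/-- two 3-cycles `a`, `b` with `(ab)² = 1`, `ab ≠ 1` agree at exactly one moved point -/
theorem exists_agree {a b : Perm α} (ha : a.IsThreeCycle) (hb : b.IsThreeCycle)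
    (h2 : a * b * (a * b) = 1) (h1 : a * b ≠ 1) : ∃ u, a u = b u ∧ b u ≠ u := by
  by_cases hsub : ∀ t, b t ≠ t → a t ≠ t
  · exfalso
    rcases eq_or_eq_inv ha hb hsub with h | h
    · subst h
      -- (b b)(b b) = b ≠ 1
      have h3 : b ^ 3 = 1 := by rw [← hb.orderOf]; exact pow_orderOf_eq_one b
      have : b * b * (b * b) = b := by
        calc b * b * (b * b) = b ^ 3 * b := by rw [pow_three']; simp only [mul_assoc]
          _ = b := by rw [h3, one_mul]
      rw [this] at h2
      exact hb.ne_one h2
    · subst h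
      exact h1 (mul_inv_cancel a)
  · obtain ⟨w, hw, haw⟩ : ∃ w, b w ≠ w ∧ a w = w := by
      by_contra hcon
      apply hsub
      intro t ht hat
      exact hcon ⟨t, ht, hat⟩
    refine ⟨b w, ?_, sq_ne' hw⟩
    have := congrArg (fun f : Perm α => f w) h2
    simp only [Perm.mul_apply, Perm.one_apply] at this
    -- a (b (a (b w))) = w
    have h3 : a (b (a (b w))) = w := this
    have h4 : b (a (b w)) = w := by
      have : a (b (a (b w))) = a w := by rw [h3, haw]
      exact a.injective this
    have h5 : b (b (b w)) = w := cube hb w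
    exact b.injective (h4.trans h5.symm)

/-- the relation "`(ab)² = 1` and `ab ≠ 1`" -/
def Rel (a b : Perm α) : Prop := a * b * (a * b) = 1 ∧ a * b ≠ 1

/-- three 3-cycles pairwise in relation: the agreement points with `a` coincide -/
theorem agree_unique {a b c : Perm α} (ha : a.IsThreeCycle) (hb : b.IsThreeCycle)
    (hc : c.IsThreeCycle) (hba : b ≠ a) (hca : c ≠ a) (hbc : Rel b c)
    {u u' : α} (hu : a u = b u) (hu1 : b u ≠ u) (hu' : a u' = c u') (hu1' : c u' ≠ u') :
    u = u' := by
  by_contra hne
  have hau : a u ≠ u := by rw [hu]; exact hu1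
  have hau' : a u' ≠ u' := by rw [hu']; exact hu1'
  obtain ⟨s, hs, hs1⟩ := exists_agree hb hc hbc.1 hbc.2
  -- s is moved by b: s ∈ {u, b u, b (b u)}
  have hbs : b s ≠ s := by rw [hs]; exact hs1
  -- notation: p = u, q = a u = b u, r = a q, t = b q
  have hq : b u = a u := hu.symm
  have htr : b (a u) ≠ a (a u) := by
    intro h
    exact hba (eq_of_two ha hb hau hq h)
  have hbt : b (b (a u)) = u := by
    have := cube hb u
    rwa [hq] at this
  rcases mem_cases ha hau hau' with h | h | h
  · exact hne h.symm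
  · -- u' = a u = q; c q = a q = r
    have hcq : c (a u) = a (a u) := by rw [← h]; exact hu'.symm
    have hqm : a (a u) ≠ a u := sq_ne' hau
    have hcqm : c (a u) ≠ a u := by rw [hcq]; exact hqm
    -- t' = c r ≠ p
    have htp : c (a (a u)) ≠ u := by
      intro h'
      apply hca
      have h3 : a (a (a u)) = u := cube ha u
      apply eq_of_two ha hc hqm hcq
      rw [h', h3]
    have hct : c (c (a (a u))) = a u := by
      have := cube hc (a u)
      rwa [hcq] at this
    rcases mem_cases hb hu1 hbs with h' | h' | h'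
    · -- s = u: c u = b u = a u, but c (c r) = a u so u = c r
      rw [h'] at hs
      have : c u = c (c (a (a u))) := by rw [← hs, hq, hct]
      exact htp (c.injective this).symm
    · -- s = b u = a u: c q = b q → r = t
      rw [h', hq] at hs
      exact htr (hs.trans hcq)
    · -- s = b (b u) = t: c t = b t = u
      rw [h', hq] at hs
      rw [hbt] at hs
      -- c t = u with t = b (a u); t moved by c so t ∈ {q, r, t'}
      have hct' : c (b (a u)) ≠ b (a u) := by
        rw [← hs]
        intro h''
        -- u = b (a u) → b u = b (b (a u)) = u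
        have : b u = u := by
          have h5 : b (b (a u)) = b u := by rw [← h'']
          rw [← h5]; exact hbt
        exact hu1 this
      rcases mem_cases hc hcqm hct' with h'' | h'' | h''
      · -- t = q: b q = q
        have : b (a u) ≠ a u := by rw [← hq]; exact sq_ne' hu1
        exact this h''
      · -- t = c q = r
        rw [hcq] at h''
        exact htr h''
      · -- t = c (c q) = c r = t': c t' = q but c t = u
        rw [hcq] at h''
        rw [h'', hct] at hs
        exact hau hs.symm
  · -- u' = a (a u) = r; c r = a r = u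
    have h3 : a (a (a u)) = u := cube ha u
    have hcr : c (a (a u)) = u := by
      have := hu'.symm
      rw [h, h3] at this
      exact this
    have hrm : a (a u) ≠ u := sq_ne ha hau
    -- t' = c u ≠ q
    have htq : c u ≠ a u := by
      intro h'
      apply hca
      have hrm' : a (a (a u)) ≠ a (a u) := by rw [h3]; exact hrm.symm
      apply eq_of_two ha hc hrm' (by rw [h3]; exact hcr)
      rw [h3, h']
    rcases mem_cases hb hu1 hbs with h' | h' | h'
    · -- s = u: c u = b u = a u
      rw [h'] at hs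
      exact htq (hs.symm.trans hq)
    · -- s = b u = q: c q = b q = t, q moved by c so q ∈ {r, u, c u}
      rw [h', hq] at hs
      have hcqm : c (a u) ≠ a u := by
        rw [← hs, ← hq]; exact sq_ne' hu1
      have hcrm : c (a (a u)) ≠ a (a u) := by rw [hcr]; exact hrm.symm
      rcases mem_cases hc hcrm hcqm with h'' | h'' | h''
      · exact sq_ne' hau h''.symm
      · rw [hcr] at h''
        exact hau h''
      · rw [hcr] at h''
        exact htq h''.symm
    · -- s = t = b (a u): c t = b t = u = c r → t = r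
      rw [h', hq, hbt] at hs
      have : b (a u) = a (a u) := c.injective (hs.symm.trans hcr.symm)
      exact htr this

end threecycles

section generation

variable {α : Type*} [Fintype α] [DecidableEq α] (o e : α)

/-- the 3-cycle `o → k → e → o` -/
def cyc (k : α) : Perm α := swap o e * swap o k

variable {o e}

theorem cyc_isThreeCycle (hoe : o ≠ e) {k : α} (hko : k ≠ o) (hke : k ≠ e) :
    (cyc o e k).IsThreeCycle :=
  isThreeCycle_swap_mul_swap_same hoe hko.symm hke.symm

theorem cyc_apply_o {k : α} (hko : k ≠ o) (hke : k ≠ e) : cyc o e k o = k := by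
  unfold cyc
  rw [Perm.mul_apply, swap_apply_left, swap_apply_of_ne_of_ne hko hke]

theorem cyc_apply_k (k : α) : cyc o e k k = e := by
  unfold cyc
  rw [Perm.mul_apply, swap_apply_right, swap_apply_left]

theorem cyc_apply_e (hoe : o ≠ e) {k : α} (hke : k ≠ e) : cyc o e k e = o := by
  unfold cyc
  rw [Perm.mul_apply, swap_apply_of_ne_of_ne hoe.symm hke.symm, swap_apply_right]

theorem cyc_inv (k : α) : (cyc o e k)⁻¹ = swap o k * swap o e := by
  unfold cyc
  rw [mul_inv_rev, swap_inv, swap_inv]

theorem cyc_injective (hoe : o ≠ e) {k l : α} (hko : k ≠ o) (hke : k ≠ e)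
    (h : cyc o e k = cyc o e l) (hlo : l ≠ o) (hle : l ≠ e) : k = l := by
  have := congrArg (fun f : Perm α => f o) h
  simp only [cyc_apply_o hko hke, cyc_apply_o hlo hle] at this
  exact this

/-- `c_k c_l` is an involution for `k ≠ l` -/
theorem cyc_rel (hoe : o ≠ e) {k l : α} (hko : k ≠ o) (hke : k ≠ e) (hlo : l ≠ o) (hle : l ≠ e)
    (hkl : k ≠ l) : Rel (cyc o e k) (cyc o e l) := by
  have key : cyc o e k * cyc o e l = swap o l * swap e k := by
    ext t
    simp only [cyc, Perm.mul_apply]
    by_cases h1 : t = o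
    · subst h1
      simp [swap_apply_of_ne_of_ne, hoe, hoe.symm, hko, hko.symm, hke, hke.symm, hlo, hlo.symm,
        hle, hle.symm, hkl, hkl.symm]
    by_cases h2 : t = e
    · subst h2
      simp [swap_apply_of_ne_of_ne, hoe, hoe.symm, hko, hko.symm, hke, hke.symm, hlo, hlo.symm,
        hle, hle.symm, hkl, hkl.symm]
    by_cases h3 : t = k
    · subst h3
      simp [swap_apply_of_ne_of_ne, hoe, hoe.symm, hko, hko.symm, hke, hke.symm, hlo, hlo.symm,
        hle, hle.symm, hkl, hkl.symm]
    by_cases h4 : t = l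
    · subst h4
      simp [swap_apply_of_ne_of_ne, hoe, hoe.symm, hko, hko.symm, hke, hke.symm, hlo, hlo.symm,
        hle, hle.symm, hkl, hkl.symm]
    · simp [swap_apply_of_ne_of_ne, h1, h2, h3, h4]
  have hdis : Perm.Disjoint (swap o l) (swap e k) := by
    intro t
    by_cases h1 : t = o
    · right; subst h1; exact swap_apply_of_ne_of_ne hoe (Ne.symm hko)
    by_cases h4 : t = l
    · right; subst h4; exact swap_apply_of_ne_of_ne hle (Ne.symm hkl)
    · left; exact swap_apply_of_ne_of_ne h1 h4
  constructor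
  · rw [key]
    calc swap o l * swap e k * (swap o l * swap e k)
        = swap o l * (swap e k * swap o l) * swap e k := by simp only [mul_assoc]
      _ = swap o l * (swap o l * swap e k) * swap e k := by rw [hdis.commute.eq]
      _ = 1 := by
        rw [← mul_assoc, swap_mul_self, one_mul, swap_mul_self]
  · rw [key]
    intro h
    have := congrArg (fun f : Perm α => f o) h
    simp only [Perm.mul_apply, Perm.one_apply] at this
    rw [swap_apply_of_ne_of_ne hoe (Ne.symm hko), swap_apply_left] at this
    exact hlo this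

variable (o e) in
/-- the subgroup generated by the `c_k` -/
def genSub : Subgroup (Perm α) :=
  Subgroup.closure {g : Perm α | ∃ k, k ≠ o ∧ k ≠ e ∧ g = cyc o e k}

theorem cyc_mem_genSub {k : α} (hko : k ≠ o) (hke : k ≠ e) : cyc o e k ∈ genSub o e :=
  Subgroup.subset_closure ⟨k, hko, hke, rfl⟩

theorem swap_mul_swap_mem (hoe : o ≠ e) {c d : α} (hcd : c ≠ d) :
    swap o e * swap c d ∈ genSub o e := by
  -- reduce to the case `c ≠ e`, `d ≠ o` by symmetry
  have main : ∀ c d : α, c ≠ d → (c = o ∨ (c ≠ o ∧ c ≠ e ∧ d ≠ o)) →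
      swap o e * swap c d ∈ genSub o e := by
    intro c d hcd hc
    rcases hc with rfl | ⟨hco, hce, hdo⟩
    · by_cases hde : d = e
      · subst hde
        rw [swap_mul_self]; exact Subgroup.one_mem _
      · exact cyc_mem_genSub (Ne.symm hcd) hde
    · by_cases hde : d = e
      · subst hde
        -- swap o d * swap c d = (cyc c)⁻¹
        have h1 : swap o d * swap c d = (cyc o d c)⁻¹ := by
          rw [cyc_inv]
          have := swap_mul_swap_mul_swap (x := c) (y := d) (z := o) hcd hco
          -- swap d o * swap c d * swap d o = swap o c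
          rw [swap_comm d o] at this
          rw [← this]
          simp only [mul_assoc, swap_mul_self, mul_one]
        rw [h1]
        exact Subgroup.inv_mem _ (cyc_mem_genSub hco hce)
      · -- c, d ∉ {o, e}
        have h1 : swap c d = swap o c * swap o d * swap o c := by
          have := swap_mul_swap_mul_swap (x := d) (y := o) (z := c) hdo (Ne.symm hcd)
          rw [swap_comm d o] at this
          exact this.symm
        have h2 : swap o e * swap c d = cyc o e c * ((cyc o e d)⁻¹ * cyc o e c) := by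
          rw [h1, cyc_inv]
          unfold cyc
          simp only [mul_assoc]
          congr 2
          rw [← mul_assoc (swap o e), swap_mul_self, one_mul]
        rw [h2]
        exact Subgroup.mul_mem _ (cyc_mem_genSub hco hce)
          (Subgroup.mul_mem _ (Subgroup.inv_mem _ (cyc_mem_genSub hdo hde))
            (cyc_mem_genSub hco hce))
  by_cases hco : c = o
  · exact main c d hcd (Or.inl hco)
  by_cases hdo : d = o
  · rw [swap_comm c d]; exact main d c (Ne.symm hcd) (Or.inl hdo)
  by_cases hce : c = e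
  · by_cases hde : d = e
    · exact absurd (hce.trans hde.symm) hcd
    · rw [swap_comm c d]; exact main d c (Ne.symm hcd) (Or.inr ⟨hdo, hde, hco⟩)
  · exact main c d hcd (Or.inr ⟨hco, hce, hdo⟩)

theorem isSwap_mul_mem (hoe : o ≠ e) {σ τ : Perm α} (hσ : σ.IsSwap) (hτ : τ.IsSwap) :
    σ * τ ∈ genSub o e := by
  obtain ⟨a, b, ab, rfl⟩ := hσ
  obtain ⟨c, d, cd, rfl⟩ := hτ
  have h1 := swap_mul_swap_mem hoe ab
  have h2 := swap_mul_swap_mem hoe cd
  have : swap a b * swap c d = (swap o e * swap a b)⁻¹ * (swap o e * swap c d) := by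
    rw [mul_inv_rev, swap_inv, swap_inv]
    simp only [mul_assoc]
    rw [← mul_assoc (swap o e), swap_mul_self, one_mul]
  rw [this]
  exact Subgroup.mul_mem _ (Subgroup.inv_mem _ h1) h2

theorem alternatingGroup_le_genSub (hoe : o ≠ e) : alternatingGroup α ≤ genSub o e := by
  intro σ hσ
  suffices hind :
    ∀ (n : ℕ) (l : List (Perm α)) (_ : ∀ g, g ∈ l → IsSwap g) (_ : l.length = 2 * n),
      l.prod ∈ genSub o e by
    obtain ⟨l, rfl, hl⟩ := truncSwapFactors σ
    obtain ⟨n, hn⟩ := (prod_list_swap_mem_alternatingGroup_iff_even_length hl).1 hσ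
    rw [← two_mul] at hn
    exact hind n l hl hn
  intro n
  induction n with
  | zero =>
    intro l hl hn
    simp [List.length_eq_zero_iff.1 hn]
  | succ n ih =>
    intro l hl hn
    rw [Nat.mul_succ] at hn
    obtain ⟨a, l, rfl⟩ := l.exists_of_length_succ hn
    rw [List.length_cons, Nat.succ_inj] at hn
    obtain ⟨b, l, rfl⟩ := l.exists_of_length_succ hn
    rw [List.prod_cons, List.prod_cons, ← mul_assoc]
    apply Subgroup.mul_mem
    · exact isSwap_mul_mem hoe (hl a (by simp)) (hl b (by simp))
    · apply ih l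
      · intro g hg
        exact hl g (by simp [hg])
      · simpa using hn

/-- two homomorphisms out of the alternating group agreeing on the `c_k` are equal -/
theorem hom_ext {M : Type*} [Monoid M] (hoe : o ≠ e) (f g : ↥(alternatingGroup α) →* M)
    (h : ∀ (k : α) (hko : k ≠ o) (hke : k ≠ e),
      f ⟨cyc o e k, (cyc_isThreeCycle hoe hko hke).mem_alternatingGroup⟩ =
        g ⟨cyc o e k, (cyc_isThreeCycle hoe hko hke).mem_alternatingGroup⟩) : f = g := by
  have hcl : Subgroup.closure {x : ↥(alternatingGroup α) |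
      ∃ k, k ≠ o ∧ k ≠ e ∧ (x : Perm α) = cyc o e k} = ⊤ := by
    apply Subgroup.map_injective (alternatingGroup α).subtype_injective
    rw [MonoidHom.map_closure, eq_comm]
    apply le_antisymm
    · have : (⊤ : Subgroup ↥(alternatingGroup α)).map (alternatingGroup α).subtype =
          alternatingGroup α := by
        rw [← MonoidHom.range_eq_map, Subgroup.range_subtype]
      rw [this]
      refine (alternatingGroup_le_genSub hoe).trans ?_
      unfold genSub
      apply Subgroup.closure_mono
      rintro x ⟨k, hko, hke, rfl⟩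
      exact ⟨⟨cyc o e k, (cyc_isThreeCycle hoe hko hke).mem_alternatingGroup⟩,
        ⟨k, hko, hke, rfl⟩, rfl⟩
    · rw [← MonoidHom.map_closure]
      exact Subgroup.map_mono le_top
  apply MonoidHom.eq_of_eqOn_dense hcl
  rintro x ⟨k, hko, hke, hx⟩
  have : x = ⟨cyc o e k, (cyc_isThreeCycle hoe hko hke).mem_alternatingGroup⟩ := Subtype.ext hx
  rw [this]
  exact h k hko hke

end generation

section counting

open Nat

theorem aux_le (j : ℕ) : 3 ^ (j + 1) * (j + 2)! ≤ (3 * j + 3)! := by
  induction j with
  | zero => decide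
  | succ j ih =>
    have h1 : 3 * (j + 3) ≤ (3 * j + 4) ^ 3 := by
      calc 3 * (j + 3) ≤ (3 * j + 4) * 4 * 4 := by omega
        _ ≤ (3 * j + 4) * (3 * j + 4) * (3 * j + 4) := by gcongr <;> omega
        _ = (3 * j + 4) ^ 3 := by ring
    have h2 : (3 * j + 3)! * (3 * j + 3 + 1) ^ 3 ≤ (3 * j + 3 + 3)! :=
      Nat.factorial_mul_pow_le_factorial
    calc 3 ^ (j + 1 + 1) * (j + 1 + 2)! = 3 * (j + 3) * (3 ^ (j + 1) * (j + 2)!) := by
          rw [show j + 1 + 2 = (j + 2) + 1 by ring, Nat.factorial_succ]; ring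
      _ ≤ (3 * j + 4) ^ 3 * (3 * j + 3)! := Nat.mul_le_mul h1 ih
      _ = (3 * j + 3)! * (3 * j + 3 + 1) ^ 3 := by ring
      _ ≤ (3 * j + 3 + 3)! := h2
      _ = (3 * (j + 1) + 3)! := by ring_nf

theorem aux_lt (j : ℕ) (hj : 1 ≤ j) : 3 ^ (j + 1) * (j + 2)! < (3 * j + 3)! := by
  obtain ⟨i, rfl⟩ : ∃ i, j = i + 1 := ⟨j - 1, by omega⟩
  have ih := aux_le i
  have h1 : 3 * (i + 3) < (3 * i + 4) ^ 3 := by
    calc 3 * (i + 3) < (3 * i + 4) * 4 * 4 := by omega
      _ ≤ (3 * i + 4) * (3 * i + 4) * (3 * i + 4) := by gcongr <;> omega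
      _ = (3 * i + 4) ^ 3 := by ring
  have h2 : (3 * i + 3)! * (3 * i + 3 + 1) ^ 3 ≤ (3 * i + 3 + 3)! :=
    Nat.factorial_mul_pow_le_factorial
  have hpos : 0 < (3 * i + 3)! := Nat.factorial_pos _
  calc 3 ^ (i + 1 + 1) * (i + 1 + 2)! = 3 * (i + 3) * (3 ^ (i + 1) * (i + 2)!) := by
        rw [show i + 1 + 2 = (i + 2) + 1 by ring, Nat.factorial_succ]; ring
    _ ≤ 3 * (i + 3) * (3 * i + 3)! := Nat.mul_le_mul_left _ ih
    _ < (3 * i + 4) ^ 3 * (3 * i + 3)! := Nat.mul_lt_mul_of_pos_right h1 hpos
    _ = (3 * i + 3)! * (3 * i + 3 + 1) ^ 3 := by ring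
    _ ≤ (3 * i + 3 + 3)! := h2
    _ = (3 * (i + 1) + 3)! := by ring_nf

/-- the centralizer orders of a 3-cycle and of a product of `k ≥ 2` disjoint 3-cycles differ,
except in degree 6 -/
theorem factorial_ineq (j m : ℕ) (h : ¬ (j = 0 ∧ m = 0)) :
    m ! * 3 ^ (j + 2) * (j + 2)! < (m + 3 * j + 3)! * 3 ^ 1 * 1! := by
  have hm : 0 < m ! := Nat.factorial_pos _
  by_cases hj : j = 0
  · subst hj
    have hm1 : 1 ≤ m := by
      by_contra hcon
      exact h ⟨rfl, by omega⟩
    have h2 : m ! * (m + 1) ^ 3 ≤ (m + 3)! := Nat.factorial_mul_pow_le_factorial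
    have h3 : 8 ≤ (m + 1) ^ 3 := by
      calc 8 = 2 ^ 3 := by norm_num
        _ ≤ (m + 1) ^ 3 := Nat.pow_le_pow_left (by omega) 3
    have h4 : m ! * 8 ≤ (m + 3)! := (Nat.mul_le_mul_left _ h3).trans h2
    have e1 : (m + 3 * 0 + 3)! = (m + 3)! := by congr 1
    have e2 : (0 + 2)! = 2 := rfl
    have e3 : (1)! = 1 := rfl
    rw [e1, e2, e3]
    norm_num
    omega
  · have h1 := aux_lt j (by omega)
    have h2 : m ! * (3 * j + 3)! ≤ (m + (3 * j + 3))! :=
      Nat.le_of_dvd (Nat.factorial_pos _) (Nat.factorial_mul_factorial_dvd_factorial_add _ _)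
    calc m ! * 3 ^ (j + 2) * (j + 2)! = 3 * m ! * (3 ^ (j + 1) * (j + 2)!) := by ring
      _ < 3 * m ! * (3 * j + 3)! := Nat.mul_lt_mul_of_pos_left h1 (by positivity)
      _ = 3 * (m ! * (3 * j + 3)!) := by ring
      _ ≤ 3 * (m + (3 * j + 3))! := Nat.mul_le_mul_left _ h2
      _ = (m + 3 * j + 3)! * 3 ^ 1 * 1! := by
        rw [show m + (3 * j + 3) = m + 3 * j + 3 by ring]; simp; ring

variable {α : Type*} [Fintype α] [DecidableEq α]

theorem card_centralizer_alt [Nontrivial α] (y : alternatingGroup α)
    (h : ¬ Subgroup.centralizer {(y : Perm α)} ≤ alternatingGroup α) :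
    2 * Nat.card (Subgroup.centralizer {y} : Subgroup (alternatingGroup α)) =
      Nat.card (Subgroup.centralizer {(y : Perm α)} : Subgroup (Perm α)) := by
  have h1 : (Subgroup.centralizer {y} : Subgroup (alternatingGroup α)) =
      (Subgroup.centralizer {(y : Perm α)}).subgroupOf (alternatingGroup α) := by
    ext a
    rw [Subgroup.mem_subgroupOf, Subgroup.mem_centralizer_iff, Subgroup.mem_centralizer_iff]
    constructor
    · intro h' b hb
      rw [Set.mem_singleton_iff] at hb
      subst hb
      exact congrArg Subtype.val (h' y rfl)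
    · intro h' b hb
      rw [Set.mem_singleton_iff] at hb
      subst hb
      exact Subtype.ext (h' _ rfl)
  have h2 : (alternatingGroup α).relIndex (Subgroup.centralizer {(y : Perm α)}) = 2 := by
    have hd : (alternatingGroup α).relIndex (Subgroup.centralizer {(y : Perm α)}) ∣ 2 := by
      have := Subgroup.relIndex_dvd_index_of_normal (alternatingGroup α)
        (Subgroup.centralizer {(y : Perm α)})
      rwa [alternatingGroup.index_eq_two] at this
    rcases (Nat.dvd_prime Nat.prime_two).mp hd with h' | h'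
    · exact absurd (Subgroup.relIndex_eq_one.mp h') h
    · exact h'
  have h3 : Nat.card ((alternatingGroup α).subgroupOf (Subgroup.centralizer {(y : Perm α)})) *
      (alternatingGroup α).relIndex (Subgroup.centralizer {(y : Perm α)}) =
      Nat.card (Subgroup.centralizer {(y : Perm α)}) :=
    Subgroup.card_mul_index _
  have h4 : Nat.card ((Subgroup.centralizer {(y : Perm α)}).subgroupOf (alternatingGroup α)) =
      Nat.card ((alternatingGroup α).subgroupOf (Subgroup.centralizer {(y : Perm α)})) :=
    Nat.card_congr ⟨fun a => ⟨⟨a.1.1, a.2⟩, a.1.2⟩, fun c => ⟨⟨c.1.1, c.2⟩, c.1.2⟩,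
      fun _ => rfl, fun _ => rfl⟩
  rw [h1, h4, ← h3, h2]
  ring

theorem card_centralizer_replicate (g : Perm α) (k : ℕ) (hk : 1 ≤ k)
    (hg : g.cycleType = Multiset.replicate k 3) :
    Nat.card (Subgroup.centralizer {g}) = (Fintype.card α - 3 * k)! * 3 ^ k * k ! := by
  rw [nat_card_centralizer, hg, Multiset.sum_replicate, Multiset.prod_replicate]
  have : (Multiset.replicate k 3).toFinset = {3} := by
    ext a
    rw [Multiset.mem_toFinset, Multiset.mem_replicate, Finset.mem_singleton]
    constructor
    · rintro ⟨-, h⟩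
      exact h
    · intro h
      exact ⟨by omega, h⟩
  rw [this, Finset.prod_singleton, Multiset.count_replicate_self, smul_eq_mul, mul_comm k 3]

theorem isThreeCycle_map [Nontrivial α] (h6 : Fintype.card α ≠ 6)
    (ψ : MulAut (alternatingGroup α)) (x : alternatingGroup α)
    (hx : (x : Perm α).IsThreeCycle) : ((ψ x : alternatingGroup α) : Perm α).IsThreeCycle := by
  have ho : orderOf ((ψ x : alternatingGroup α) : Perm α) = 3 := by
    rw [Subgroup.orderOf_coe, MulEquiv.orderOf_eq, ← Subgroup.orderOf_coe, hx.orderOf]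
  obtain ⟨m, hm⟩ := cycleType_prime_order (σ := ((ψ x : alternatingGroup α) : Perm α))
    (by rw [ho]; exact Nat.prime_three)
  rw [ho] at hm
  rcases m with _ | m
  · unfold Perm.IsThreeCycle
    rw [hm]; rfl
  exfalso
  have hsum : 3 * (m + 2) ≤ Fintype.card α := by
    have := sum_cycleType_le ((ψ x : alternatingGroup α) : Perm α)
    rw [hm, Multiset.sum_replicate, smul_eq_mul] at this
    omega
  have hxA : ¬ Subgroup.centralizer {(x : Perm α)} ≤ alternatingGroup α := by
    rw [centralizer_le_alternating_iff]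
    rintro ⟨-, h2, -⟩
    rw [hx.cycleType, Multiset.sum_singleton] at h2
    omega
  have hyA : ¬ Subgroup.centralizer {((ψ x : alternatingGroup α) : Perm α)} ≤
      alternatingGroup α := by
    rw [centralizer_le_alternating_iff]
    rintro ⟨-, -, h3⟩
    have := h3 3
    rw [hm, Multiset.count_replicate_self] at this
    omega
  have e1 := card_centralizer_alt x hxA
  have e2 := card_centralizer_alt (ψ x) hyA
  have e3 : Nat.card (Subgroup.centralizer {ψ x} : Subgroup (alternatingGroup α)) =
      Nat.card (Subgroup.centralizer {x} : Subgroup (alternatingGroup α)) := by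
    have hmap : (Subgroup.centralizer {x}).map ψ.toMonoidHom = Subgroup.centralizer {ψ x} := by
      ext b
      rw [Subgroup.mem_map]
      constructor
      · rintro ⟨a, ha, rfl⟩
        rw [Subgroup.mem_centralizer_iff] at ha ⊢
        intro h hh
        rw [Set.mem_singleton_iff] at hh
        subst hh
        have := ha x rfl
        show ψ x * ψ a = ψ a * ψ x
        rw [← map_mul, ← map_mul, this]
      · intro hb
        refine ⟨ψ.symm b, ?_, by simp⟩
        rw [Subgroup.mem_centralizer_iff] at hb ⊢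
        intro h hh
        rw [Set.mem_singleton_iff] at hh
        subst hh
        have := hb (ψ h) rfl
        apply ψ.injective
        rw [map_mul, map_mul, MulEquiv.apply_symm_apply]
        exact this
    rw [← hmap]
    exact (Nat.card_congr (MulEquiv.subgroupMap ψ _).toEquiv).symm
  rw [card_centralizer_replicate (x : Perm α) 1 le_rfl (by rw [hx.cycleType]; rfl)] at e1
  rw [card_centralizer_replicate _ (m + 2) (by omega) hm] at e2
  obtain ⟨m', hm'⟩ : ∃ m', Fintype.card α = m' + 3 * m + 6 :=
    ⟨Fintype.card α - (3 * m + 6), by omega⟩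
  have hne : ¬ (m = 0 ∧ m' = 0) := by
    rintro ⟨rfl, rfl⟩
    exact h6 (by rw [hm'])
  have key := factorial_ineq m m' hne
  have e4 : Fintype.card α - 3 * (m + 2) = m' := by omega
  have e5 : Fintype.card α - 3 * 1 = m' + 3 * m + 3 := by omega
  rw [e4] at e2
  rw [e5] at e1
  rw [e3] at e2
  omega

end counting

section main

variable {α : Type*} [Fintype α] [DecidableEq α]

theorem conj_injective (h4 : 4 ≤ Fintype.card α) :
    Function.Injective (MulAut.conjNormal : Perm α →* MulAut ↥(alternatingGroup α)) := by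
  rw [injective_iff_map_eq_one]
  intro σ hσ
  by_contra hne
  obtain ⟨i, hi⟩ : ∃ i, σ i ≠ i := by
    by_contra hcon
    apply hne
    ext t
    by_contra h
    exact hcon ⟨t, h⟩
  obtain ⟨k, -, hk⟩ := Finset.exists_mem_notMem_of_card_lt_card
    (s := ({i, σ i} : Finset α)) (t := Finset.univ) (by
      have := Finset.card_le_two (a := i) (b := σ i)
      rw [Finset.card_univ]; omega)
  obtain ⟨l, -, hl⟩ := Finset.exists_mem_notMem_of_card_lt_card
    (s := ({i, σ i, k} : Finset α)) (t := Finset.univ) (by
      have := Finset.card_le_three (a := i) (b := σ i) (c := k)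
      rw [Finset.card_univ]; omega)
  simp only [Finset.mem_insert, Finset.mem_singleton, not_or] at hk hl
  obtain ⟨hki, hkj⟩ := hk
  obtain ⟨hli, hlj, hlk⟩ := hl
  have h3 : (cyc i k l).IsThreeCycle := cyc_isThreeCycle (Ne.symm hki) hli hlk
  have h4' := congrArg (fun f : MulAut ↥(alternatingGroup α) =>
     ((f ⟨cyc i k l, h3.mem_alternatingGroup⟩ : alternatingGroup α) : Perm α)) hσ
  simp only [MulAut.conjNormal_apply, MulAut.one_apply] at h4'
  have h5 : σ * cyc i k l = cyc i k l * σ := mul_inv_eq_iff_eq_mul.mp h4'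
  have h6 := congrArg (fun f : Perm α => f i) h5
  simp only [Perm.mul_apply] at h6
  rw [cyc_apply_o hli hlk] at h6
  have h7 : cyc i k l (σ i) = σ i := by
    unfold cyc
    rw [Perm.mul_apply, swap_apply_of_ne_of_ne hi (Ne.symm hlj),
      swap_apply_of_ne_of_ne hi (Ne.symm hkj)]
  rw [h7] at h6
  exact hli (σ.injective h6)

theorem conj_surjective (h6 : Fintype.card α ≠ 6) {o e p q : α} (hoe : o ≠ e) (hpo : p ≠ o)
    (hpe : p ≠ e) (hqo : q ≠ o) (hqe : q ≠ e) (hpq : p ≠ q) :
    Function.Surjective (MulAut.conjNormal : Perm α →* MulAut ↥(alternatingGroup α)) := by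
  intro ψ
  haveI : Nontrivial α := ⟨⟨o, e, hoe⟩⟩
  have hmem : ∀ k, k ≠ o → k ≠ e → cyc o e k ∈ alternatingGroup α := fun k hko hke =>
    (cyc_isThreeCycle hoe hko hke).mem_alternatingGroup
  obtain ⟨d, hd⟩ : ∃ d : α → Perm α, ∀ k (hko : k ≠ o) (hke : k ≠ e),
      d k = ((ψ ⟨cyc o e k, hmem k hko hke⟩ : alternatingGroup α) : Perm α) := by
    refine ⟨fun k => if h : k ≠ o ∧ k ≠ e then
      ((ψ ⟨cyc o e k, hmem k h.1 h.2⟩ : alternatingGroup α) : Perm α) else 1, ?_⟩
    intro k hko hke
    simp only [dif_pos (And.intro hko hke)]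
  have hd3 : ∀ k, k ≠ o → k ≠ e → (d k).IsThreeCycle := by
    intro k hko hke
    rw [hd k hko hke]
    exact isThreeCycle_map h6 ψ _ (cyc_isThreeCycle hoe hko hke)
  have hdinj : ∀ k l, k ≠ o → k ≠ e → l ≠ o → l ≠ e → d k = d l → k = l := by
    intro k l hko hke hlo hle h
    rw [hd k hko hke, hd l hlo hle] at h
    have h' := ψ.injective (Subtype.ext h)
    have h'' := congrArg Subtype.val h'
    exact cyc_injective hoe hko hke h'' hlo hle
  have hdrel : ∀ k l, k ≠ o → k ≠ e → l ≠ o → l ≠ e → k ≠ l → Rel (d k) (d l) := by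
    intro k l hko hke hlo hle hkl
    obtain ⟨r1, r2⟩ := cyc_rel hoe hko hke hlo hle hkl
    rw [hd k hko hke, hd l hlo hle]
    constructor
    · have h1 : ((⟨cyc o e k, hmem k hko hke⟩ : alternatingGroup α) *
          ⟨cyc o e l, hmem l hlo hle⟩ * (⟨cyc o e k, hmem k hko hke⟩ *
          ⟨cyc o e l, hmem l hlo hle⟩) : alternatingGroup α) = 1 := Subtype.ext r1
      have h2 : ψ ((⟨cyc o e k, hmem k hko hke⟩ : alternatingGroup α) *
          ⟨cyc o e l, hmem l hlo hle⟩ * (⟨cyc o e k, hmem k hko hke⟩ *
          ⟨cyc o e l, hmem l hlo hle⟩)) = 1 := by rw [h1, map_one]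
      rw [map_mul, map_mul] at h2
      exact congrArg Subtype.val h2
    · intro h
      apply r2
      have h1 : ψ ((⟨cyc o e k, hmem k hko hke⟩ : alternatingGroup α) *
          ⟨cyc o e l, hmem l hlo hle⟩) = 1 := by
        apply Subtype.ext
        rw [map_mul]
        exact h
      have h2 := (MulEquiv.map_eq_one_iff ψ).mp h1
      exact congrArg Subtype.val h2
  -- the common directed edge u → v
  obtain ⟨u, hu, hu1⟩ := exists_agree (hd3 p hpo hpe) (hd3 q hqo hqe)
    (hdrel p q hpo hpe hqo hqe hpq).1 (hdrel p q hpo hpe hqo hqe hpq).2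
  have hA : ∀ k, k ≠ o → k ≠ e → d k u = d p u := by
    intro k hko hke
    by_cases hkp : k = p
    · rw [hkp]
    by_cases hkq : k = q
    · rw [hkq]; exact hu.symm
    obtain ⟨u', hu', hu1'⟩ := exists_agree (hd3 p hpo hpe) (hd3 k hko hke)
      (hdrel p k hpo hpe hko hke (Ne.symm hkp)).1 (hdrel p k hpo hpe hko hke (Ne.symm hkp)).2
    have hqp : d q ≠ d p := fun h => hpq (hdinj q p hqo hqe hpo hpe h).symm
    have hkp' : d k ≠ d p := fun h => hkp (hdinj k p hko hke hpo hpe h)
    have huu : u = u' := agree_unique (hd3 p hpo hpe) (hd3 q hqo hqe) (hd3 k hko hke) hqp hkp'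
      (hdrel q k hqo hqe hko hke (Ne.symm hkq)) hu hu1 hu' hu1'
    rw [huu, hu']
  set v := d p u with hv
  have hvu : v ≠ u := by rw [hu]; exact hu1
  have hku : ∀ k, k ≠ o → k ≠ e → d k u ≠ u := by
    intro k hko hke
    rw [hA k hko hke]; exact hvu
  have hkv : ∀ k, k ≠ o → k ≠ e → d k v ≠ v := by
    intro k hko hke
    have := sq_ne' (hku k hko hke)
    rwa [hA k hko hke] at this
  have hkvu : ∀ k, k ≠ o → k ≠ e → d k v ≠ u := by
    intro k hko hke
    have := sq_ne (hd3 k hko hke) (hku k hko hke)
    rwa [hA k hko hke] at this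
  -- the permutation
  set f : α → α := fun k => if k = e then u else if k = o then v else d k v with hf
  have hfe : f e = u := by simp [hf]
  have hfo : f o = v := by simp [hf, hoe]
  have hfk : ∀ k, k ≠ o → k ≠ e → f k = d k v := by
    intro k hko hke
    simp [hf, hko, hke]
  have hfinj : Function.Injective f := by
    intro k l hkl
    by_cases hke : k = e
    · subst hke
      by_cases hle : l = k
      · exact hle.symm
      by_cases hlo : l = o
      · subst hlo
        rw [hfe, hfo] at hkl
        exact absurd hkl.symm hvu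
      · rw [hfe, hfk l hlo hle] at hkl
        exact absurd hkl.symm (hkvu l hlo hle)
    by_cases hko : k = o
    · subst hko
      by_cases hle : l = e
      · subst hle
        rw [hfe, hfo] at hkl
        exact absurd hkl hvu
      by_cases hlo : l = k
      · exact hlo.symm
      · rw [hfo, hfk l hlo hle] at hkl
        exact absurd hkl.symm (hkv l hlo hle)
    by_cases hle : l = e
    · subst hle
      rw [hfe, hfk k hko hke] at hkl
      exact absurd hkl (hkvu k hko hke)
    by_cases hlo : l = o
    · subst hlo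
      rw [hfo, hfk k hko hke] at hkl
      exact absurd hkl (hkv k hko hke)
    rw [hfk k hko hke, hfk l hlo hle] at hkl
    -- d k and d l agree on u and v
    have : d l = d k := by
      apply eq_of_two (hd3 k hko hke) (hd3 l hlo hle) (hku k hko hke)
      · rw [hA l hlo hle, hA k hko hke]
      · rw [hA k hko hke]; exact hkl.symm
    exact hdinj k l hko hke hlo hle this.symm
  set σ : Perm α := Equiv.ofBijective f (Finite.injective_iff_bijective.mp hfinj) with hσ
  have hσe : σ e = u := hfe
  have hσo : σ o = v := hfo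
  have hσk : ∀ k, k ≠ o → k ≠ e → σ k = d k v := hfk
  refine ⟨σ, ?_⟩
  apply MulEquiv.toMonoidHom_injective
  apply hom_ext hoe
  intro k hko hke
  apply Subtype.ext
  show ((MulAut.conjNormal σ ⟨cyc o e k, _⟩ : alternatingGroup α) : Perm α) =
    ((ψ ⟨cyc o e k, _⟩ : alternatingGroup α) : Perm α)
  rw [MulAut.conjNormal_apply, ← hd k hko hke]
  have hb3 : (σ * cyc o e k * σ⁻¹).IsThreeCycle := by
    unfold Perm.IsThreeCycle
    rw [cycleType_conj]
    exact cyc_isThreeCycle hoe hko hke
  have hiu : σ⁻¹ u = e := by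
    rw [Perm.inv_eq_iff_eq, hσe]
  have hiv : σ⁻¹ v = o := by
    rw [Perm.inv_eq_iff_eq, hσo]
  apply eq_of_two (hd3 k hko hke) hb3 (hku k hko hke)
  · rw [Perm.mul_apply, Perm.mul_apply, hiu, cyc_apply_e hoe hke, hσo, hA k hko hke]
  · rw [hA k hko hke, Perm.mul_apply, Perm.mul_apply, hiv, cyc_apply_o hko hke, hσk k hko hke]

theorem main (n : ℕ) (hn : 4 ≤ n) (h6 : n ≠ 6) :
    Function.Bijective
      (MulAut.conjNormal : Equiv.Perm (Fin n) →* MulAut ↥(alternatingGroup (Fin n))) := by
  refine ⟨conj_injective (by rw [Fintype.card_fin]; exact hn), ?_⟩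
  have h0 : (⟨0, by omega⟩ : Fin n) ≠ ⟨1, by omega⟩ := by
    intro h; simp [Fin.ext_iff] at h
  exact conj_surjective (by rw [Fintype.card_fin]; exact h6)
    (o := ⟨0, by omega⟩) (e := ⟨1, by omega⟩) (p := ⟨2, by omega⟩) (q := ⟨3, by omega⟩)
    (by intro h; simp [Fin.ext_iff] at h) (by intro h; simp [Fin.ext_iff] at h)
    (by intro h; simp [Fin.ext_iff] at h) (by intro h; simp [Fin.ext_iff] at h)
    (by intro h; simp [Fin.ext_iff] at h) (by intro h; simp [Fin.ext_iff] at h)

end main

end Cfsg.Agent.Lib.Helper23.AutAlt
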