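import Mathlib
import Cfsg.Prelude.Def_Local
import Cfsg.Agent.Lib.Helper23.AutAlt
import Cfsg.Agent.Lib.Helper9.Quasisimple

/-!
# The pointwise stabilizer of four points in `A_n` is a standard subgroup

For a finite type `α` and `Δ : Finset α` with four elements and at least five further points,
the subgroup `fixG Δ` of the alternating group fixing `Δ` pointwise is quasisimple, its
centralizer is the group `suppG Δ` of even permutations supported in `Δ`, which is tightly
embedded, and both have normalizer the setwise stabilizer of `Δ`.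
-/

set_option autoImplicit false

namespace Cfsg.Agent.Lib.Helper23.AltStd

open Equiv Equiv.Perm Cfsg.Agent.Lib.Helper23.AutAlt

variable {α : Type*} [Fintype α] [DecidableEq α]

theorem inv_app (g : Perm α) (x : α) : g⁻¹ (g x) = x := Perm.inv_eq_iff_eq.mpr rfl

theorem app_inv (g : Perm α) (x : α) : g (g⁻¹ x) = x := g.apply_symm_apply x

theorem cyc_apply_of_ne {o e k t : α} (h1 : t ≠ o) (h2 : t ≠ e) (h3 : t ≠ k) :
    cyc o e k t = t := by
  unfold cyc
  rw [Perm.mul_apply, swap_apply_of_ne_of_ne h1 h3, swap_apply_of_ne_of_ne h1 h2]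

/-- the 3-cycle `o → k → e → o` as an element of the alternating group -/
def c3 (o e k : α) (hoe : o ≠ e) (hko : k ≠ o) (hke : k ≠ e) : alternatingGroup α :=
  ⟨cyc o e k, (cyc_isThreeCycle hoe hko hke).mem_alternatingGroup⟩

theorem exists_notMem {S : Finset α} (h : S.card < Fintype.card α) : ∃ z, z ∉ S := by
  obtain ⟨z, -, hz⟩ := Finset.exists_mem_notMem_of_card_lt_card (s := S) (t := Finset.univ)
    (by rwa [Finset.card_univ])
  exact ⟨z, hz⟩

/-- the even permutations fixing `Δ` pointwise -/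
def fixG (Δ : Finset α) : Subgroup (alternatingGroup α) where
  carrier := {g | ∀ x ∈ Δ, (g : Perm α) x = x}
  mul_mem' := by
    intro a b ha hb x hx
    show (a : Perm α) ((b : Perm α) x) = x
    rw [hb x hx, ha x hx]
  one_mem' := by intro x _; rfl
  inv_mem' := by
    intro a ha x hx
    show (a : Perm α)⁻¹ x = x
    rw [Perm.inv_eq_iff_eq]; exact (ha x hx).symm

/-- the even permutations fixing every point outside `Δ` -/
def suppG (Δ : Finset α) : Subgroup (alternatingGroup α) where
  carrier := {g | ∀ x, x ∉ Δ → (g : Perm α) x = x}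
  mul_mem' := by
    intro a b ha hb x hx
    show (a : Perm α) ((b : Perm α) x) = x
    rw [hb x hx, ha x hx]
  one_mem' := by intro x _; rfl
  inv_mem' := by
    intro a ha x hx
    show (a : Perm α)⁻¹ x = x
    rw [Perm.inv_eq_iff_eq]; exact (ha x hx).symm

theorem mem_fixG {Δ : Finset α} {g : alternatingGroup α} :
    g ∈ fixG Δ ↔ ∀ x ∈ Δ, (g : Perm α) x = x := Iff.rfl

theorem mem_suppG {Δ : Finset α} {g : alternatingGroup α} :
    g ∈ suppG Δ ↔ ∀ x, x ∉ Δ → (g : Perm α) x = x := Iff.rfl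

/-- a 3-cycle on points outside `Δ` fixes `Δ` pointwise -/
theorem c3_mem_fixG {Δ : Finset α} {o e k : α} (hoe : o ≠ e) (hko : k ≠ o) (hke : k ≠ e)
    (ho : o ∉ Δ) (he : e ∉ Δ) (hk : k ∉ Δ) : c3 o e k hoe hko hke ∈ fixG Δ := by
  intro x hx
  show cyc o e k x = x
  apply cyc_apply_of_ne
  · rintro rfl; exact ho hx
  · rintro rfl; exact he hx
  · rintro rfl; exact hk hx

/-- a 3-cycle on points of `Δ` is supported in `Δ` -/
theorem c3_mem_suppG {Δ : Finset α} {o e k : α} (hoe : o ≠ e) (hko : k ≠ o) (hke : k ≠ e)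
    (ho : o ∈ Δ) (he : e ∈ Δ) (hk : k ∈ Δ) : c3 o e k hoe hko hke ∈ suppG Δ := by
  intro x hx
  show cyc o e k x = x
  apply cyc_apply_of_ne
  · rintro rfl; exact hx ho
  · rintro rfl; exact hx he
  · rintro rfl; exact hx hk

/-- a permutation mapping `Δ` into itself maps it onto itself -/
theorem maps_inv {Δ : Finset α} {g : Perm α} (h : ∀ x ∈ Δ, g x ∈ Δ) : ∀ x ∈ Δ, g⁻¹ x ∈ Δ := by
  have hsub : Δ.image g ⊆ Δ := by
    intro y hy
    obtain ⟨x, hx, rfl⟩ := Finset.mem_image.mp hy
    exact h x hx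
  have hcard : Δ.card ≤ (Δ.image g).card := by
    rw [Finset.card_image_of_injective _ g.injective]
  have heq : Δ.image g = Δ := Finset.eq_of_subset_of_card_le hsub hcard
  intro x hx
  rw [← heq] at hx
  obtain ⟨x', hx', rfl⟩ := Finset.mem_image.mp hx
  rw [inv_app]
  exact hx'

theorem maps_of_maps_inv {Δ : Finset α} {g : Perm α} (h : ∀ x ∈ Δ, g⁻¹ x ∈ Δ) :
    ∀ x ∈ Δ, g x ∈ Δ := by
  have := maps_inv h
  simpa using this

/-- points of `Δ` mapped outside by `g` give points outside mapped into `Δ` -/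
theorem exists_out_in {Δ : Finset α} {g : Perm α} (h : ¬ ∀ x ∈ Δ, g x ∈ Δ) :
    ∃ y, y ∉ Δ ∧ g y ∈ Δ := by
  by_contra hcon
  apply h
  apply maps_of_maps_inv
  intro x hx
  by_contra hx'
  exact hcon ⟨g⁻¹ x, hx', by rw [app_inv]; exact hx⟩

section normalizers

variable {Δ : Finset α}

theorem mem_normalizer_fixG_of_maps {g : alternatingGroup α}
    (h : ∀ x ∈ Δ, (g : Perm α) x ∈ Δ) :
    g ∈ Subgroup.normalizer ((fixG Δ : Subgroup (alternatingGroup α)) : Set (alternatingGroup α)) := by
  rw [Subgroup.mem_normalizer_iff]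
  intro k
  constructor
  · intro hk x hx
    show (g : Perm α) ((k : Perm α) ((g : Perm α)⁻¹ x)) = x
    rw [hk _ (maps_inv h x hx), app_inv]
  · intro hk x hx
    have := hk _ (h x hx)
    have h2 : (g : Perm α) ((k : Perm α) ((g : Perm α)⁻¹ ((g : Perm α) x))) = (g : Perm α) x := this
    rw [inv_app] at h2
    exact (g : Perm α).injective h2

theorem mem_normalizer_suppG_of_maps {g : alternatingGroup α}
    (h : ∀ x ∈ Δ, (g : Perm α) x ∈ Δ) :
    g ∈ Subgroup.normalizer ((suppG Δ : Subgroup (alternatingGroup α)) : Set (alternatingGroup α)) := by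
  rw [Subgroup.mem_normalizer_iff]
  intro k
  constructor
  · intro hk x hx
    show (g : Perm α) ((k : Perm α) ((g : Perm α)⁻¹ x)) = x
    have : (g : Perm α)⁻¹ x ∉ Δ := by
      intro h'
      have := h _ h'
      rw [app_inv] at this
      exact hx this
    rw [hk _ this, app_inv]
  · intro hk x hx
    have hgx : (g : Perm α) x ∉ Δ := by
      intro h'
      have := maps_inv h _ h'
      rw [inv_app] at this
      exact hx this
    have := hk _ hgx
    have h2 : (g : Perm α) ((k : Perm α) ((g : Perm α)⁻¹ ((g : Perm α) x))) = (g : Perm α) x := this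
    rw [inv_app] at h2
    exact (g : Perm α).injective h2

/-- the normalizer of `fixG Δ` stabilizes `Δ` -/
theorem maps_of_mem_normalizer_fixG (hc : Δ.card + 3 ≤ Fintype.card α) {g : alternatingGroup α}
    (hg : g ∈ Subgroup.normalizer
      ((fixG Δ : Subgroup (alternatingGroup α)) : Set (alternatingGroup α))) :
    ∀ x ∈ Δ, (g : Perm α) x ∈ Δ := by
  intro y₀ hy₀
  by_contra hy
  -- a 3-cycle in fixG Δ moving y = g y₀
  obtain ⟨z, hz⟩ := exists_notMem (S := insert ((g : Perm α) y₀) Δ) (by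
    have := Finset.card_insert_le ((g : Perm α) y₀) Δ; omega)
  obtain ⟨w, hw⟩ := exists_notMem (S := insert z (insert ((g : Perm α) y₀) Δ)) (by
    have := Finset.card_insert_le ((g : Perm α) y₀) Δ
    have := Finset.card_insert_le z (insert ((g : Perm α) y₀) Δ); omega)
  simp only [Finset.mem_insert, not_or] at hz hw
  obtain ⟨hzy, hzΔ⟩ := hz
  obtain ⟨hwz, hwy, hwΔ⟩ := hw
  have ha := c3_mem_fixG (Δ := Δ) (Ne.symm hzy) hwy hwz hy hzΔ hwΔ
  have hg' := Subgroup.inv_mem _ hg
  rw [Subgroup.mem_normalizer_iff] at hg'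
  have h1 := (hg' _).mp ha
  have h2 := h1 y₀ hy₀
  have h3 : (g : Perm α)⁻¹ (cyc ((g : Perm α) y₀) z w ((g : Perm α)⁻¹⁻¹ y₀)) = y₀ := h2
  rw [inv_inv, cyc_apply_o hwy hwz, Perm.inv_eq_iff_eq] at h3
  exact hwy h3

/-- the normalizer of `suppG Δ` stabilizes `Δ` -/
theorem maps_of_mem_normalizer_suppG (hc : 3 ≤ Δ.card) {g : alternatingGroup α}
    (hg : g ∈ Subgroup.normalizer
      ((suppG Δ : Subgroup (alternatingGroup α)) : Set (alternatingGroup α))) :
    ∀ x ∈ Δ, (g : Perm α) x ∈ Δ := by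
  intro y₀ hy₀
  by_contra hy
  obtain ⟨u, huΔ, hu⟩ := Finset.exists_mem_notMem_of_card_lt_card (s := {y₀}) (t := Δ) (by
    rw [Finset.card_singleton]; omega)
  obtain ⟨v, hvΔ, hv⟩ := Finset.exists_mem_notMem_of_card_lt_card (s := {u, y₀}) (t := Δ) (by
    have := Finset.card_le_two (a := u) (b := y₀); omega)
  simp only [Finset.mem_insert, Finset.mem_singleton, not_or] at hu hv
  obtain ⟨hvu, hvy⟩ := hv
  have hk := c3_mem_suppG (Δ := Δ) (Ne.symm hu) hvy hvu hy₀ huΔ hvΔ
  rw [Subgroup.mem_normalizer_iff] at hg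
  have h1 := (hg _).mp hk
  have h2 := h1 _ hy
  have h3 : (g : Perm α) (cyc y₀ u v ((g : Perm α)⁻¹ ((g : Perm α) y₀))) = (g : Perm α) y₀ := h2
  rw [inv_app, cyc_apply_o hvy hvu] at h3
  exact hvy ((g : Perm α).injective h3)

theorem normalizer_eq (hc : Δ.card + 3 ≤ Fintype.card α) (hc' : 3 ≤ Δ.card) :
    Subgroup.normalizer ((fixG Δ : Subgroup (alternatingGroup α)) : Set (alternatingGroup α)) =
      Subgroup.normalizer
        ((suppG Δ : Subgroup (alternatingGroup α)) : Set (alternatingGroup α)) := by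
  ext g
  constructor
  · intro hg
    exact mem_normalizer_suppG_of_maps (maps_of_mem_normalizer_fixG hc hg)
  · intro hg
    exact mem_normalizer_fixG_of_maps (maps_of_mem_normalizer_suppG hc' hg)

end normalizers

section centralizer

variable {Δ : Finset α}

theorem centralizer_fixG (hc : Δ.card + 5 ≤ Fintype.card α) :
    Subgroup.centralizer ((fixG Δ : Subgroup (alternatingGroup α)) : Set (alternatingGroup α)) =
      suppG Δ := by
  ext σ
  rw [Subgroup.mem_centralizer_iff]
  constructor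
  · intro hσ x hx
    by_contra hne
    obtain ⟨z, hz⟩ := exists_notMem (S := insert x (insert ((σ : Perm α) x) Δ)) (by
      have := Finset.card_insert_le ((σ : Perm α) x) Δ
      have := Finset.card_insert_le x (insert ((σ : Perm α) x) Δ); omega)
    obtain ⟨w, hw⟩ := exists_notMem (S := insert z (insert x (insert ((σ : Perm α) x) Δ))) (by
      have := Finset.card_insert_le ((σ : Perm α) x) Δ
      have := Finset.card_insert_le x (insert ((σ : Perm α) x) Δ)
      have := Finset.card_insert_le z (insert x (insert ((σ : Perm α) x) Δ)); omega)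
    simp only [Finset.mem_insert, not_or] at hz hw
    obtain ⟨hzx, hzy, hzΔ⟩ := hz
    obtain ⟨hwz, hwx, hwy, hwΔ⟩ := hw
    have hτ := c3_mem_fixG (Δ := Δ) (Ne.symm hzx) hwx hwz hx hzΔ hwΔ
    have h1 := hσ _ hτ
    have h2 := congrArg (fun k : alternatingGroup α => (k : Perm α) x) h1
    have h3 : cyc x z w ((σ : Perm α) x) = (σ : Perm α) (cyc x z w x) := h2
    rw [cyc_apply_o hwx hwz, cyc_apply_of_ne hne (Ne.symm hzy) (Ne.symm hwy)] at h3
    exact hwx ((σ : Perm α).injective h3).symm
  · intro hσ k hk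
    apply Subtype.ext
    show (k : Perm α) * (σ : Perm α) = (σ : Perm α) * (k : Perm α)
    have hdis : Perm.Disjoint (k : Perm α) (σ : Perm α) := by
      intro t
      by_cases ht : t ∈ Δ
      · left; exact hk t ht
      · right; exact hσ t ht
    exact hdis.commute.eq

end centralizer

section tight

variable {Δ : Finset α}

theorem even_card_suppG (hc : Δ.card = 4) : Even (Nat.card (suppG Δ)) := by
  obtain ⟨a, haΔ⟩ : ∃ a, a ∈ Δ := Finset.card_pos.mp (by omega)
  obtain ⟨b, hbΔ, hb⟩ := Finset.exists_mem_notMem_of_card_lt_card (s := {a}) (t := Δ) (by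
    rw [Finset.card_singleton]; omega)
  obtain ⟨c, hcΔ, hc'⟩ := Finset.exists_mem_notMem_of_card_lt_card (s := {a, b}) (t := Δ) (by
    have := Finset.card_le_two (a := a) (b := b); omega)
  obtain ⟨d, hdΔ, hd⟩ := Finset.exists_mem_notMem_of_card_lt_card (s := {a, b, c}) (t := Δ) (by
    have := Finset.card_le_three (a := a) (b := b) (c := c); omega)
  simp only [Finset.mem_insert, Finset.mem_singleton, not_or] at hb hc' hd
  obtain ⟨hca, hcb⟩ := hc'
  obtain ⟨hda, hdb, hdc⟩ := hd
  have hab : a ≠ b := Ne.symm hb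
  have hcd : c ≠ d := Ne.symm hdc
  have hdis : Perm.Disjoint (swap a b) (swap c d) := by
    intro t
    by_cases h1 : t = a
    · right; subst h1; exact swap_apply_of_ne_of_ne (Ne.symm hca) (Ne.symm hda)
    by_cases h2 : t = b
    · right; subst h2; exact swap_apply_of_ne_of_ne (Ne.symm hcb) (Ne.symm hdb)
    · left; exact swap_apply_of_ne_of_ne h1 h2
  have hmemA : swap a b * swap c d ∈ alternatingGroup α := by
    rw [mem_alternatingGroup, map_mul, sign_swap hab, sign_swap hcd]; rfl
  have htmem : (⟨swap a b * swap c d, hmemA⟩ : alternatingGroup α) ∈ suppG Δ := by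
    intro x hx
    show (swap a b * swap c d) x = x
    have hxa : x ≠ a := by rintro rfl; exact hx haΔ
    have hxb : x ≠ b := by rintro rfl; exact hx hbΔ
    have hxc : x ≠ c := by rintro rfl; exact hx hcΔ
    have hxd : x ≠ d := by rintro rfl; exact hx hdΔ
    rw [Perm.mul_apply, swap_apply_of_ne_of_ne hxc hxd, swap_apply_of_ne_of_ne hxa hxb]
  have ht2 : (⟨⟨swap a b * swap c d, hmemA⟩, htmem⟩ : suppG Δ) ^ 2 = 1 := by
    apply Subtype.ext
    apply Subtype.ext
    show (swap a b * swap c d) ^ 2 = 1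
    rw [pow_two]
    calc swap a b * swap c d * (swap a b * swap c d)
        = swap a b * (swap c d * swap a b) * swap c d := by simp only [mul_assoc]
      _ = swap a b * (swap a b * swap c d) * swap c d := by rw [hdis.commute.eq]
      _ = 1 := by rw [← mul_assoc, swap_mul_self, one_mul, swap_mul_self]
  have htne : (⟨⟨swap a b * swap c d, hmemA⟩, htmem⟩ : suppG Δ) ≠ 1 := by
    intro h
    have h1 := congrArg (fun k : suppG Δ => ((k : alternatingGroup α) : Perm α) a) h
    have h2 : (swap a b * swap c d) a = a := h1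
    rw [Perm.mul_apply, swap_apply_of_ne_of_ne (Ne.symm hca) (Ne.symm hda), swap_apply_left] at h2
    exact hab h2.symm
  have hord : orderOf (⟨⟨swap a b * swap c d, hmemA⟩, htmem⟩ : suppG Δ) = 2 :=
    orderOf_eq_prime ht2 htne
  rw [even_iff_two_dvd, ← hord]
  exact orderOf_dvd_natCard _

theorem odd_card_of_small {T : Finset α} (hT : T.card ≤ 3) (H : Subgroup (alternatingGroup α))
    (hH : H ≤ suppG T) : Odd (Nat.card H) := by
  by_contra hodd
  rw [Nat.not_odd_iff_even, even_iff_two_dvd] at hodd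
  haveI : Fact (Nat.Prime 2) := ⟨Nat.prime_two⟩
  obtain ⟨x, hx⟩ := exists_prime_orderOf_dvd_card' (G := H) 2 hodd
  have hσ2 : (((x : alternatingGroup α) : Perm α)) ^ 2 = 1 := by
    have h1 : x ^ 2 = 1 := by rw [← hx]; exact pow_orderOf_eq_one x
    have h2 := congrArg (fun k : H => ((k : alternatingGroup α) : Perm α)) h1
    exact h2
  have hσ1 : ((x : alternatingGroup α) : Perm α) ≠ 1 := by
    intro h
    have h1 : x = 1 := Subtype.ext (Subtype.ext h)
    rw [h1, orderOf_one] at hx
    omega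
  have hsupp : ((x : alternatingGroup α) : Perm α).support ⊆ T := by
    intro t ht
    by_contra htT
    exact (Perm.mem_support.mp ht) (hH x.2 t htT)
  have hcard : ((x : alternatingGroup α) : Perm α).support.card ≤ 3 :=
    (Finset.card_le_card hsupp).trans hT
  have h2 : 2 ∣ ((x : alternatingGroup α) : Perm α).support.card := two_dvd_card_support hσ2
  have h1 : 1 < ((x : alternatingGroup α) : Perm α).support.card :=
    one_lt_card_support_of_ne_one hσ1
  have h3 : ((x : alternatingGroup α) : Perm α).support.card = 2 := by omega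
  have hswap := card_support_eq_two.mp h3
  have hsign : sign ((x : alternatingGroup α) : Perm α) = -1 := hswap.sign_eq
  have hsign' : sign ((x : alternatingGroup α) : Perm α) = 1 :=
    mem_alternatingGroup.mp (x : alternatingGroup α).2
  rw [hsign'] at hsign
  exact absurd hsign (by decide)

theorem tightly (hc : Δ.card = 4) : Cfsg.IsTightlyEmbedded (suppG Δ) := by
  refine ⟨even_card_suppG hc, ?_⟩
  intro g hg
  have hnm : ¬ ∀ x ∈ Δ, (g : Perm α) x ∈ Δ := fun h => hg (mem_normalizer_suppG_of_maps h)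
  obtain ⟨y', hy'Δ, hgy'⟩ := exists_out_in hnm
  apply odd_card_of_small (T := Δ.erase ((g : Perm α) y'))
    (by rw [Finset.card_erase_of_mem hgy', hc])
  intro k hk
  obtain ⟨hk1, hk2⟩ := Subgroup.mem_inf.mp hk
  obtain ⟨k₀, hk₀, rfl⟩ := Subgroup.mem_map.mp hk2
  intro x hx
  by_cases hxt : x = (g : Perm α) y'
  · subst hxt
    show (g : Perm α) ((k₀ : Perm α) ((g : Perm α)⁻¹ ((g : Perm α) y'))) = (g : Perm α) y'
    rw [inv_app, hk₀ y' hy'Δ]
  · have : x ∉ Δ := fun h => hx (Finset.mem_erase.mpr ⟨hxt, h⟩)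
    exact hk1 x this

end tight

section noncommuting

variable {Δ : Finset α}

theorem map_conj_eq_of_mem_normalizer {G : Type*} [Group G] {H : Subgroup G} {g : G}
    (hg : g ∈ Subgroup.normalizer (H : Set G)) : H.map (MulAut.conj g).toMonoidHom = H := by
  rw [Subgroup.mem_normalizer_iff] at hg
  ext k
  rw [Subgroup.mem_map]
  constructor
  · rintro ⟨h, hh, rfl⟩
    exact (hg h).mp hh
  · intro hk
    refine ⟨g⁻¹ * k * g, ?_, ?_⟩
    · apply (hg _).mpr
      have : g * (g⁻¹ * k * g) * g⁻¹ = k := by group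
      rw [this]; exact hk
    · show g * (g⁻¹ * k * g) * g⁻¹ = k
      group

theorem commutator_ne_bot (hc : Δ.card = 4) (h9 : 9 ≤ Fintype.card α) (g : alternatingGroup α)
    (hg : (fixG Δ).map (MulAut.conj g).toMonoidHom ≠ fixG Δ) :
    ⁅fixG Δ, (fixG Δ).map (MulAut.conj g).toMonoidHom⁆ ≠ ⊥ := by
  have hnm : ¬ ∀ x ∈ Δ, (g : Perm α) x ∈ Δ := by
    intro h
    apply hg
    exact map_conj_eq_of_mem_normalizer (mem_normalizer_fixG_of_maps h)
  obtain ⟨y₀, hy₀, hy⟩ : ∃ y₀ ∈ Δ, (g : Perm α) y₀ ∉ Δ := by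
    by_contra hcon
    apply hnm
    intro x hx
    by_contra h'
    exact hcon ⟨x, hx, h'⟩
  obtain ⟨x, hx⟩ := exists_notMem (S := Δ ∪ Δ.image (g : Perm α)) (by
    have := Finset.card_union_le Δ (Δ.image (g : Perm α))
    have := Finset.card_image_le (s := Δ) (f := (g : Perm α))
    omega)
  rw [Finset.mem_union, not_or] at hx
  obtain ⟨hxΔ, hxg⟩ := hx
  have hx₀ : (g : Perm α)⁻¹ x ∉ Δ := by
    intro h
    apply hxg
    exact Finset.mem_image.mpr ⟨_, h, app_inv _ _⟩
  have hxy : x ≠ (g : Perm α) y₀ := by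
    rintro rfl
    exact hxg (Finset.mem_image_of_mem _ hy₀)
  obtain ⟨z, hz⟩ := exists_notMem (S := insert x (insert ((g : Perm α) y₀) Δ)) (by
    have := Finset.card_insert_le ((g : Perm α) y₀) Δ
    have := Finset.card_insert_le x (insert ((g : Perm α) y₀) Δ); omega)
  obtain ⟨u₀, hu₀⟩ := exists_notMem (S := insert ((g : Perm α)⁻¹ x) Δ) (by
    have := Finset.card_insert_le ((g : Perm α)⁻¹ x) Δ; omega)
  obtain ⟨v₀, hv₀⟩ := exists_notMem (S := insert u₀ (insert ((g : Perm α)⁻¹ x) Δ)) (by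
    have := Finset.card_insert_le ((g : Perm α)⁻¹ x) Δ
    have := Finset.card_insert_le u₀ (insert ((g : Perm α)⁻¹ x) Δ); omega)
  simp only [Finset.mem_insert, not_or] at hz hu₀ hv₀
  obtain ⟨hzx, hzy, hzΔ⟩ := hz
  obtain ⟨hux, huΔ⟩ := hu₀
  obtain ⟨hvu, hvx, hvΔ⟩ := hv₀
  -- a : y → x → z → y
  have ha := c3_mem_fixG (Δ := Δ) (Ne.symm hzy) hxy (Ne.symm hzx) hy hzΔ hxΔ
  -- b₀ : x₀ → v₀ → u₀ → x₀
  have hb₀ := c3_mem_fixG (Δ := Δ) (Ne.symm hux) hvx hvu hx₀ huΔ hvΔ
  have hb : g * c3 ((g : Perm α)⁻¹ x) u₀ v₀ (Ne.symm hux) hvx hvu * g⁻¹ ∈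
      (fixG Δ).map (MulAut.conj g).toMonoidHom :=
    Subgroup.mem_map.mpr ⟨_, hb₀, rfl⟩
  intro hbot
  have hcomm := Subgroup.commutator_mem_commutator ha hb
  rw [hbot, Subgroup.mem_bot, commutatorElement_eq_one_iff_mul_comm] at hcomm
  have h1 := congrArg (fun k : alternatingGroup α => (k : Perm α) ((g : Perm α) y₀)) hcomm
  have h2 : cyc ((g : Perm α) y₀) z x ((g : Perm α) (cyc ((g : Perm α)⁻¹ x) u₀ v₀
      ((g : Perm α)⁻¹ ((g : Perm α) y₀)))) =
      (g : Perm α) (cyc ((g : Perm α)⁻¹ x) u₀ v₀ ((g : Perm α)⁻¹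
        (cyc ((g : Perm α) y₀) z x ((g : Perm α) y₀)))) := h1
  have hy₀x : y₀ ≠ (g : Perm α)⁻¹ x := by rintro rfl; exact hx₀ hy₀
  have hy₀u : y₀ ≠ u₀ := by rintro rfl; exact huΔ hy₀
  have hy₀v : y₀ ≠ v₀ := by rintro rfl; exact hvΔ hy₀
  rw [inv_app, cyc_apply_of_ne hy₀x hy₀u hy₀v, cyc_apply_o hxy (Ne.symm hzx),
    cyc_apply_o hvx hvu] at h2
  apply hvx
  rw [h2, inv_app]

end noncommuting

section quasisimple

theorem isQuasisimple_of_simple {H : Type*} [Group H] (hs : IsSimpleGroup H)
    (hna : ∃ a b : H, a * b ≠ b * a) : Cfsg.IsQuasisimple H := by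
  obtain ⟨a, b, hab⟩ := hna
  have hcomm : commutator H = ⊤ := by
    rcases (inferInstance : (commutator H).Normal).eq_bot_or_eq_top with h | h
    · exfalso
      apply hab
      have this := Subgroup.commutator_mem_commutator (H₁ := (⊤ : Subgroup H))
        (H₂ := (⊤ : Subgroup H)) (Subgroup.mem_top a) (Subgroup.mem_top b)
      have h' : ⁅(⊤ : Subgroup H), (⊤ : Subgroup H)⁆ = ⊥ := h
      rw [h', Subgroup.mem_bot, commutatorElement_eq_one_iff_mul_comm] at this
      exact this
    · exact h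
  have hcen : Subgroup.center H = ⊥ := by
    rcases (inferInstance : (Subgroup.center H).Normal).eq_bot_or_eq_top with h | h
    · exact h
    · exfalso
      apply hab
      have : a ∈ Subgroup.center H := by rw [h]; trivial
      exact (Subgroup.mem_center_iff.mp this b).symm
  refine ⟨⟨hcomm⟩, ?_⟩
  have e : H ⧸ Subgroup.center H ≃* H :=
    (QuotientGroup.quotientMulEquivOfEq hcen).trans QuotientGroup.quotientBot
  exact e.isSimpleGroup

variable (Δ : Finset α)

/-- extension by the identity on `Δ`, as a map of alternating groups -/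
def toFix : alternatingGroup {x // x ∉ Δ} →* alternatingGroup α where
  toFun τ := ⟨ofSubtype (τ : Perm {x // x ∉ Δ}), by
    rw [mem_alternatingGroup, sign_ofSubtype]; exact mem_alternatingGroup.mp τ.2⟩
  map_one' := by apply Subtype.ext; exact map_one _
  map_mul' := by intro a b; apply Subtype.ext; exact map_mul _ _ _

theorem toFix_injective : Function.Injective (toFix Δ) := by
  intro a b h
  have h1 := congrArg Subtype.val h
  exact Subtype.ext (ofSubtype_injective h1)

theorem toFix_range : (toFix Δ).range = fixG Δ := by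
  ext g
  constructor
  · rintro ⟨τ, rfl⟩
    intro x hx
    show ofSubtype (τ : Perm {x // x ∉ Δ}) x = x
    exact ofSubtype_apply_of_not_mem _ (not_not.mpr hx)
  · intro hg
    have hmaps : ∀ x, (g : Perm α) x ∉ Δ ↔ x ∉ Δ := by
      intro x
      constructor
      · intro h hx
        rw [hg x hx] at h
        exact h hx
      · intro h hx
        have := hg _ hx
        exact h ((g : Perm α).injective this ▸ hx)
    have hmoved : ∀ x, (g : Perm α) x ≠ x → x ∉ Δ := fun x hx hxΔ => hx (hg x hxΔ)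
    have hof : ofSubtype (subtypePerm (g : Perm α) hmaps) = (g : Perm α) :=
      ofSubtype_subtypePerm hmaps hmoved
    have hsign : subtypePerm (g : Perm α) hmaps ∈ alternatingGroup {x // x ∉ Δ} := by
      rw [mem_alternatingGroup, ← sign_ofSubtype, hof]
      exact mem_alternatingGroup.mp g.2
    exact ⟨⟨_, hsign⟩, Subtype.ext hof⟩

variable {Δ}

theorem isQuasisimple_fixG (hc : Δ.card + 5 ≤ Fintype.card α) : Cfsg.IsQuasisimple (fixG Δ) := by
  have hcard : 5 ≤ Nat.card {x // x ∉ Δ} := by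
    rw [Nat.card_eq_fintype_card, Fintype.card_subtype_compl, Fintype.card_coe]
    omega
  have : IsSimpleGroup (alternatingGroup {x // x ∉ Δ}) := alternatingGroup.isSimpleGroup hcard
  have e1 : alternatingGroup {x // x ∉ Δ} ≃* (toFix Δ).range :=
    MonoidHom.ofInjective (toFix_injective Δ)
  have e2 : (toFix Δ).range ≃* fixG Δ := MulEquiv.subgroupCongr (toFix_range Δ)
  have hs : IsSimpleGroup (fixG Δ) := (e1.trans e2).symm.isSimpleGroup
  apply isQuasisimple_of_simple hs
  -- two non-commuting 3-cycles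
  obtain ⟨p, hp⟩ := exists_notMem (S := Δ) (by omega)
  obtain ⟨q, hq⟩ := exists_notMem (S := insert p Δ) (by
    have := Finset.card_insert_le p Δ; omega)
  obtain ⟨r, hr⟩ := exists_notMem (S := insert q (insert p Δ)) (by
    have := Finset.card_insert_le p Δ
    have := Finset.card_insert_le q (insert p Δ); omega)
  obtain ⟨t, ht⟩ := exists_notMem (S := insert r (insert q (insert p Δ))) (by
    have := Finset.card_insert_le p Δ
    have := Finset.card_insert_le q (insert p Δ)
    have := Finset.card_insert_le r (insert q (insert p Δ)); omega)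
  simp only [Finset.mem_insert, not_or] at hq hr ht
  obtain ⟨hqp, hqΔ⟩ := hq
  obtain ⟨hrq, hrp, hrΔ⟩ := hr
  obtain ⟨htr, htq, htp, htΔ⟩ := ht
  have ha := c3_mem_fixG (Δ := Δ) (Ne.symm hqp) hrp hrq hp hqΔ hrΔ
  have hb := c3_mem_fixG (Δ := Δ) (Ne.symm hqp) htp htq hp hqΔ htΔ
  refine ⟨⟨_, ha⟩, ⟨_, hb⟩, ?_⟩
  intro h
  have h1 := congrArg (fun k : fixG Δ => ((k : alternatingGroup α) : Perm α) p) h
  have h2 : cyc p q r (cyc p q t p) = cyc p q t (cyc p q r p) := h1
  rw [cyc_apply_o htp htq, cyc_apply_o hrp hrq, cyc_apply_of_ne htp htq htr,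
    cyc_apply_of_ne hrp hrq (Ne.symm htr)] at h2
  exact htr h2

end quasisimple

section final

variable {Δ : Finset α}

theorem standard (hc : Δ.card = 4) (h9 : 9 ≤ Fintype.card α) :
    Cfsg.IsStandardSubgroup (fixG Δ) := by
  have hcen := centralizer_fixG (Δ := Δ) (by omega)
  refine ⟨isQuasisimple_fixG (by omega), ?_, commutator_ne_bot hc h9, ?_⟩
  · rw [hcen]; exact tightly hc
  · rw [hcen]; exact normalizer_eq (by omega) (by omega)

theorem main (n : ℕ) (h4 : 4 ≤ n) (hn : 9 ≤ n) :
    Cfsg.IsStandardSubgroup (⨅ i : Fin 4,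
      MulAction.stabilizer ↥(alternatingGroup (Fin n)) (Fin.castLE h4 i : Fin n)) := by
  have heq : (⨅ i : Fin 4,
      MulAction.stabilizer ↥(alternatingGroup (Fin n)) (Fin.castLE h4 i : Fin n)) =
      fixG (Finset.univ.image (Fin.castLE h4)) := by
    ext g
    rw [Subgroup.mem_iInf, mem_fixG]
    constructor
    · intro h x hx
      obtain ⟨i, -, rfl⟩ := Finset.mem_image.mp hx
      exact MulAction.mem_stabilizer_iff.mp (h i)
    · intro h i
      rw [MulAction.mem_stabilizer_iff]
      exact h _ (Finset.mem_image_of_mem _ (Finset.mem_univ i))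
  rw [heq]
  apply standard
  · rw [Finset.card_image_of_injective _ (Fin.castLE_injective h4), Finset.card_univ,
      Fintype.card_fin]
  · rw [Fintype.card_fin]; exact hn

end final

end Cfsg.Agent.Lib.Helper23.AltStd
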