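import Mathlib
import Cfsg.Agent.Lib.Helper23.AutAlt

set_option autoImplicit false

/-!
# Automorphisms of alternating groups preserving 3-cycles are induced by permutations
(variant of `AutAlt.conj_surjective` with the 3-cycle hypothesis explicit; also the case `n = 6`
for automorphisms of odd order)
-/

namespace Cfsg.Agent.Lib.Helper23.AutAlt

open Equiv Equiv.Perm

section surj

variable {α : Type*} [Fintype α] [DecidableEq α]

theorem conj_surjective_of {o e p q : α} (hoe : o ≠ e) (hpo : p ≠ o)
    (hpe : p ≠ e) (hqo : q ≠ o) (hqe : q ≠ e) (hpq : p ≠ q) (ψ : MulAut ↥(alternatingGroup α))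
    (hψ3 : ∀ x : alternatingGroup α, (x : Perm α).IsThreeCycle →
      ((ψ x : alternatingGroup α) : Perm α).IsThreeCycle) :
    ∃ σ : Perm α, (MulAut.conjNormal : Perm α →* MulAut ↥(alternatingGroup α)) σ = ψ := by
  haveI : Nontrivial α := ⟨⟨o, e, hoe⟩⟩
  have hmem : ∀ k, k ≠ o → k ≠ e → cyc o e k ∈ alternatingGroup α := fun k hko hke =>
    (cyc_isThreeCycle hoe hko hke).mem_alternatingGroup
  obtain ⟨d, hd⟩ : ∃ d : α → Perm α, ∀ k (hko : k ≠ o) (hke : k ≠ e),
      d k = ((ψ ⟨cyc o e k, hmem k hko hke⟩ : alternatingGroup α) : Perm α) := by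
    refine ⟨fun k => if h : k ≠ o ∧ k ≠ e then
      ((ψ ⟨cyc o e k, hmem k h.1 h.2⟩ : alternatingGroup α) : Perm α) else 1, ?_⟩
    intro k hko hke
    simp only [dif_pos (And.intro hko hke)]
  have hd3 : ∀ k, k ≠ o → k ≠ e → (d k).IsThreeCycle := by
    intro k hko hke
    rw [hd k hko hke]
    exact hψ3 _ (cyc_isThreeCycle hoe hko hke)
  have hdinj : ∀ k l, k ≠ o → k ≠ e → l ≠ o → l ≠ e → d k = d l → k = l := by
    intro k l hko hke hlo hle h
    rw [hd k hko hke, hd l hlo hle] at h
    have h' := ψ.injective (Subtype.ext h)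
    have h'' := congrArg Subtype.val h'
    exact cyc_injective hoe hko hke h'' hlo hle
  have hdrel : ∀ k l, k ≠ o → k ≠ e → l ≠ o → l ≠ e → k ≠ l → Rel (d k) (d l) := by
    intro k l hko hke hlo hle hkl
    obtain ⟨r1, r2⟩ := cyc_rel hoe hko hke hlo hle hkl
    rw [hd k hko hke, hd l hlo hle]
    constructor
    · have h1 : ((⟨cyc o e k, hmem k hko hke⟩ : alternatingGroup α) *
          ⟨cyc o e l, hmem l hlo hle⟩ * (⟨cyc o e k, hmem k hko hke⟩ *
          ⟨cyc o e l, hmem l hlo hle⟩) : alternatingGroup α) = 1 := Subtype.ext r1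
      have h2 : ψ ((⟨cyc o e k, hmem k hko hke⟩ : alternatingGroup α) *
          ⟨cyc o e l, hmem l hlo hle⟩ * (⟨cyc o e k, hmem k hko hke⟩ *
          ⟨cyc o e l, hmem l hlo hle⟩)) = 1 := by rw [h1, map_one]
      rw [map_mul, map_mul] at h2
      exact congrArg Subtype.val h2
    · intro h
      apply r2
      have h1 : ψ ((⟨cyc o e k, hmem k hko hke⟩ : alternatingGroup α) *
          ⟨cyc o e l, hmem l hlo hle⟩) = 1 := by
        apply Subtype.ext
        rw [map_mul]
        exact h
      have h2 := (MulEquiv.map_eq_one_iff ψ).mp h1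
      exact congrArg Subtype.val h2
  -- the common directed edge u → v
  obtain ⟨u, hu, hu1⟩ := exists_agree (hd3 p hpo hpe) (hd3 q hqo hqe)
    (hdrel p q hpo hpe hqo hqe hpq).1 (hdrel p q hpo hpe hqo hqe hpq).2
  have hA : ∀ k, k ≠ o → k ≠ e → d k u = d p u := by
    intro k hko hke
    by_cases hkp : k = p
    · rw [hkp]
    by_cases hkq : k = q
    · rw [hkq]; exact hu.symm
    obtain ⟨u', hu', hu1'⟩ := exists_agree (hd3 p hpo hpe) (hd3 k hko hke)
      (hdrel p k hpo hpe hko hke (Ne.symm hkp)).1 (hdrel p k hpo hpe hko hke (Ne.symm hkp)).2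
    have hqp : d q ≠ d p := fun h => hpq (hdinj q p hqo hqe hpo hpe h).symm
    have hkp' : d k ≠ d p := fun h => hkp (hdinj k p hko hke hpo hpe h)
    have huu : u = u' := agree_unique (hd3 p hpo hpe) (hd3 q hqo hqe) (hd3 k hko hke) hqp hkp'
      (hdrel q k hqo hqe hko hke (Ne.symm hkq)) hu hu1 hu' hu1'
    rw [huu, hu']
  set v := d p u with hv
  have hvu : v ≠ u := by rw [hu]; exact hu1
  have hku : ∀ k, k ≠ o → k ≠ e → d k u ≠ u := by
    intro k hko hke
    rw [hA k hko hke]; exact hvu
  have hkv : ∀ k, k ≠ o → k ≠ e → d k v ≠ v := by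
    intro k hko hke
    have := sq_ne' (hku k hko hke)
    rwa [hA k hko hke] at this
  have hkvu : ∀ k, k ≠ o → k ≠ e → d k v ≠ u := by
    intro k hko hke
    have := sq_ne (hd3 k hko hke) (hku k hko hke)
    rwa [hA k hko hke] at this
  -- the permutation
  set f : α → α := fun k => if k = e then u else if k = o then v else d k v with hf
  have hfe : f e = u := by simp [hf]
  have hfo : f o = v := by simp [hf, hoe]
  have hfk : ∀ k, k ≠ o → k ≠ e → f k = d k v := by
    intro k hko hke
    simp [hf, hko, hke]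
  have hfinj : Function.Injective f := by
    intro k l hkl
    by_cases hke : k = e
    · subst hke
      by_cases hle : l = k
      · exact hle.symm
      by_cases hlo : l = o
      · subst hlo
        rw [hfe, hfo] at hkl
        exact absurd hkl.symm hvu
      · rw [hfe, hfk l hlo hle] at hkl
        exact absurd hkl.symm (hkvu l hlo hle)
    by_cases hko : k = o
    · subst hko
      by_cases hle : l = e
      · subst hle
        rw [hfe, hfo] at hkl
        exact absurd hkl hvu
      by_cases hlo : l = k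
      · exact hlo.symm
      · rw [hfo, hfk l hlo hle] at hkl
        exact absurd hkl.symm (hkv l hlo hle)
    by_cases hle : l = e
    · subst hle
      rw [hfe, hfk k hko hke] at hkl
      exact absurd hkl (hkvu k hko hke)
    by_cases hlo : l = o
    · subst hlo
      rw [hfo, hfk k hko hke] at hkl
      exact absurd hkl (hkv k hko hke)
    rw [hfk k hko hke, hfk l hlo hle] at hkl
    -- d k and d l agree on u and v
    have : d l = d k := by
      apply eq_of_two (hd3 k hko hke) (hd3 l hlo hle) (hku k hko hke)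
      · rw [hA l hlo hle, hA k hko hke]
      · rw [hA k hko hke]; exact hkl.symm
    exact hdinj k l hko hke hlo hle this.symm
  set σ : Perm α := Equiv.ofBijective f (Finite.injective_iff_bijective.mp hfinj) with hσ
  have hσe : σ e = u := hfe
  have hσo : σ o = v := hfo
  have hσk : ∀ k, k ≠ o → k ≠ e → σ k = d k v := hfk
  refine ⟨σ, ?_⟩
  apply MulEquiv.toMonoidHom_injective
  apply hom_ext hoe
  intro k hko hke
  apply Subtype.ext
  show ((MulAut.conjNormal σ ⟨cyc o e k, _⟩ : alternatingGroup α) : Perm α) =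
    ((ψ ⟨cyc o e k, _⟩ : alternatingGroup α) : Perm α)
  rw [MulAut.conjNormal_apply, ← hd k hko hke]
  have hb3 : (σ * cyc o e k * σ⁻¹).IsThreeCycle := by
    unfold Perm.IsThreeCycle
    rw [cycleType_conj]
    exact cyc_isThreeCycle hoe hko hke
  have hiu : σ⁻¹ u = e := by
    rw [Perm.inv_eq_iff_eq, hσe]
  have hiv : σ⁻¹ v = o := by
    rw [Perm.inv_eq_iff_eq, hσo]
  apply eq_of_two (hd3 k hko hke) hb3 (hku k hko hke)
  · rw [Perm.mul_apply, Perm.mul_apply, hiu, cyc_apply_e hoe hke, hσo, hA k hko hke]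
  · rw [hA k hko hke, Perm.mul_apply, Perm.mul_apply, hiv, cyc_apply_o hko hke, hσk k hko hke]

end surj

section six

theorem cycleType_of_order_three (x : alternatingGroup (Fin 6)) (hx : orderOf x = 3) :
    (x : Perm (Fin 6)).cycleType = {3} ∨ (x : Perm (Fin 6)).cycleType = {3, 3} := by
  have ho : orderOf (x : Perm (Fin 6)) = 3 := by rw [Subgroup.orderOf_coe, hx]
  obtain ⟨m, hm⟩ := cycleType_prime_order (σ := (x : Perm (Fin 6)))
    (by rw [ho]; exact Nat.prime_three)
  rw [ho] at hm
  have hsum : (x : Perm (Fin 6)).cycleType.sum ≤ 6 := by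
    rw [Perm.sum_cycleType]
    calc (x : Perm (Fin 6)).support.card ≤ Fintype.card (Fin 6) := Finset.card_le_univ _
      _ = 6 := by simp
  rw [hm, Multiset.sum_replicate, smul_eq_mul] at hsum
  have hm1 : m ≤ 1 := by omega
  interval_cases m
  · left; rw [hm]; rfl
  · right; rw [hm]; rfl

theorem card_T : (Finset.univ.filter
    fun g : alternatingGroup (Fin 6) => (g : Perm (Fin 6)).cycleType = {3}).card = 40 := by
  rw [AlternatingGroup.card_of_cycleType (Fin 6)]
  decide

theorem card_D : (Finset.univ.filter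
    fun g : alternatingGroup (Fin 6) => (g : Perm (Fin 6)).cycleType = {3, 3}).card = 40 := by
  rw [AlternatingGroup.card_of_cycleType (Fin 6)]
  decide

theorem cycleType_map_const (φ : MulAut (alternatingGroup (Fin 6)))
    (c c' : alternatingGroup (Fin 6)) (hc : (c : Perm (Fin 6)).IsThreeCycle)
    (hc' : (c' : Perm (Fin 6)).IsThreeCycle) :
    ((φ c : alternatingGroup (Fin 6)) : Perm (Fin 6)).cycleType =
      ((φ c' : alternatingGroup (Fin 6)) : Perm (Fin 6)).cycleType := by
  obtain ⟨g, hg⟩ := isConj_iff.mp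
    (alternatingGroup.isThreeCycle_isConj (by simp) hc hc')
  rw [← hg, map_mul, map_mul, map_inv]
  show _ = (((φ g : alternatingGroup (Fin 6)) : Perm (Fin 6)) *
    ((φ c : alternatingGroup (Fin 6)) : Perm (Fin 6)) *
    ((φ g : alternatingGroup (Fin 6)) : Perm (Fin 6))⁻¹).cycleType
  rw [Perm.cycleType_conj]

theorem orderOf_map_threeCycle (φ : MulAut (alternatingGroup (Fin 6)))
    (c : alternatingGroup (Fin 6)) (hc : orderOf c = 3) : orderOf (φ c) = 3 := by
  rw [MulEquiv.orderOf_eq, hc]

/-- an automorphism of `A_6` of odd order is induced by a permutation -/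
theorem mem_range_of_odd (φ : MulAut (alternatingGroup (Fin 6))) (s : ℕ)
    (hφ : φ ^ (2 * s + 1) = 1) :
    ∃ σ : Perm (Fin 6), (MulAut.conjNormal : Perm (Fin 6) →*
      MulAut (alternatingGroup (Fin 6))) σ = φ := by
  classical
  have h3 : ∀ c : alternatingGroup (Fin 6), (c : Perm (Fin 6)).IsThreeCycle → orderOf c = 3 := by
    intro c hc
    rw [← Subgroup.orderOf_coe, hc.orderOf]
  -- a fixed three-cycle
  have hc₀' : (swap (0 : Fin 6) 1 * swap 0 2).IsThreeCycle :=
    isThreeCycle_swap_mul_swap_same (by decide) (by decide) (by decide)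
  let c₀ : alternatingGroup (Fin 6) := ⟨swap 0 1 * swap 0 2, hc₀'.mem_alternatingGroup⟩
  have hc₀ : (c₀ : Perm (Fin 6)).IsThreeCycle := hc₀'
  rcases cycleType_of_order_three (φ c₀) (orderOf_map_threeCycle φ c₀ (h3 c₀ hc₀)) with h | h
  · -- preserves three-cycles
    apply conj_surjective_of (o := (0 : Fin 6)) (e := 1) (p := 2) (q := 3)
      (by decide) (by decide) (by decide) (by decide) (by decide) (by decide) φ
    intro x hx
    show ((φ x : alternatingGroup (Fin 6)) : Perm (Fin 6)).cycleType = {3}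
    rw [cycleType_map_const φ x c₀ hx hc₀, h]
  · exfalso
    set T := Finset.univ.filter
      fun g : alternatingGroup (Fin 6) => (g : Perm (Fin 6)).cycleType = {3} with hT
    set D := Finset.univ.filter
      fun g : alternatingGroup (Fin 6) => (g : Perm (Fin 6)).cycleType = {3, 3} with hD
    have hmemT : ∀ g : alternatingGroup (Fin 6), g ∈ T ↔ (g : Perm (Fin 6)).cycleType = {3} := by
      intro g; simp [hT]
    have hmemD : ∀ g : alternatingGroup (Fin 6),
        g ∈ D ↔ (g : Perm (Fin 6)).cycleType = {3, 3} := by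
      intro g; simp [hD]
    have hne : ({3} : Multiset ℕ) ≠ {3, 3} := by decide
    have hTD : ∀ c ∈ T, φ c ∈ D := by
      intro c hc
      rw [hmemD, cycleType_map_const φ c c₀ ((hmemT c).mp hc) hc₀, h]
    have himg : T.image φ = D := by
      apply Finset.eq_of_subset_of_card_le
      · intro d hd
        obtain ⟨c, hc, rfl⟩ := Finset.mem_image.mp hd
        exact hTD c hc
      · rw [Finset.card_image_of_injective _ φ.injective, hT, hD, card_T, card_D]
    have hDT : ∀ d ∈ D, φ d ∈ T := by
      intro d hd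
      have hd' := hd
      rw [← himg] at hd'
      obtain ⟨c, hc, rfl⟩ := Finset.mem_image.mp hd'
      have ho : orderOf (φ (φ c)) = 3 := by
        rw [MulEquiv.orderOf_eq, MulEquiv.orderOf_eq]
        exact h3 c ((hmemT c).mp hc)
      rcases cycleType_of_order_three _ ho with h' | h'
      · exact (hmemT _).mpr h'
      · exfalso
        have hmem : φ (φ c) ∈ D := (hmemD _).mpr h'
        rw [← himg] at hmem
        obtain ⟨c', hc', hcc'⟩ := Finset.mem_image.mp hmem
        have := φ.injective hcc'
        rw [this] at hc'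
        have h1 := (hmemT _).mp hc'
        have h2 := (hmemD _).mp hd
        rw [h1] at h2
        exact hne h2
    have h2 : ∀ c ∈ T, (φ ^ 2) c ∈ T := by
      intro c hc
      rw [pow_two, MulAut.mul_apply]
      exact hDT _ (hTD c hc)
    have h2s : ∀ k : ℕ, ∀ c ∈ T, ((φ ^ 2) ^ k) c ∈ T := by
      intro k
      induction k with
      | zero => intro c hc; simpa using hc
      | succ k ih =>
        intro c hc
        rw [pow_succ, MulAut.mul_apply]
        exact ih _ (h2 c hc)
    have hc₀T : c₀ ∈ T := (hmemT c₀).mpr hc₀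
    have h5 : (φ ^ (2 * s + 1)) c₀ ∈ D := by
      rw [pow_succ', MulAut.mul_apply, pow_mul]
      exact hTD _ (h2s s c₀ hc₀T)
    rw [hφ, MulAut.one_apply] at h5
    have h1 := (hmemT _).mp hc₀T
    have h2' := (hmemD _).mp h5
    rw [h1] at h2'
    exact hne h2'

end six

end Cfsg.Agent.Lib.Helper23.AutAlt
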