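import Mathlib

/-!
# p-subgroups of symmetric groups of small degree are abelian
-/

namespace Cfsg.Agent.Lib.Helper23.PermPGroup

open Equiv Equiv.Perm Subgroup

/-- A `p`-subgroup of `Perm α` with `card α < p ^ 2` is commutative. -/
theorem commute_of_card_lt {α : Type*} [Fintype α] [DecidableEq α] {p : ℕ} [hp : Fact p.Prime]
    (H : Subgroup (Perm α)) (hH : IsPGroup p H) (hlt : Fintype.card α < p ^ 2)
    (x y : Perm α) (hx : x ∈ H) (hy : y ∈ H) : x * y = y * x := by
  suffices h : x * y * x⁻¹ * y⁻¹ = 1 by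
    calc x * y = x * y * x⁻¹ * y⁻¹ * (y * x) := by group
      _ = y * x := by rw [h, one_mul]
  ext a
  rw [Perm.one_apply]
  -- the stabilizer of `a` in `H`
  let S : Subgroup H := MulAction.stabilizer H a
  have hmemS : ∀ g : H, g ∈ S ↔ (g : Perm α) a = a := fun g => MulAction.mem_stabilizer_iff
  let X : H := ⟨x, hx⟩
  let Y : H := ⟨y, hy⟩
  suffices hS : X * Y * X⁻¹ * Y⁻¹ ∈ S by
    have := (hmemS _).mp hS
    simpa [X, Y] using this
  obtain ⟨k, hk⟩ := hH.index S
  have hidx : S.index ≤ Fintype.card α := by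
    rw [MulAction.index_stabilizer]
    calc (MulAction.orbit H a).ncard ≤ (Set.univ : Set α).ncard :=
          Set.ncard_le_ncard (Set.subset_univ _) Set.finite_univ
      _ = Fintype.card α := by rw [Set.ncard_univ, Nat.card_eq_fintype_card]
  have hp2 : 2 ≤ p := hp.out.two_le
  have hk1 : k ≤ 1 := by
    by_contra hlt'
    push_neg at hlt'
    have : p ^ 2 ≤ p ^ k := Nat.pow_le_pow_right (by omega) hlt'
    rw [← hk] at this
    omega
  interval_cases k
  · rw [pow_zero, Subgroup.index_eq_one] at hk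
    rw [hk]; exact Subgroup.mem_top _
  · rw [pow_one] at hk
    -- `S` is normal of prime index
    obtain ⟨m, hm⟩ := IsPGroup.iff_card.mp hH
    have hm0 : m ≠ 0 := by
      rintro rfl
      rw [pow_zero] at hm
      have h1 : S.index ∣ Nat.card H := Subgroup.index_dvd_card S
      rw [hm, hk] at h1
      have := Nat.le_of_dvd (by norm_num) h1
      omega
    have hnormal : S.Normal := by
      apply Subgroup.normal_of_index_eq_minFac_card
      rw [hk, hm, hp.out.pow_minFac hm0]
    have hcard : Nat.card (H ⧸ S) = p := by rw [← Subgroup.index_eq_card, hk]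
    haveI : IsCyclic (H ⧸ S) := isCyclic_of_prime_card hcard
    have hc : ∀ u v : H ⧸ S, u * v = v * u := fun u v => by
      letI := IsCyclic.commGroup (α := H ⧸ S)
      exact mul_comm u v
    rw [← QuotientGroup.eq_one_iff]
    simp only [QuotientGroup.mk_mul, QuotientGroup.mk_inv]
    rw [hc (↑X) (↑Y)]
    group

/-- A noncommutative `p`-subgroup of `Perm α` forces `p ^ 2 ≤ card α`. -/
theorem sq_le_of_not_commute {α : Type*} [Fintype α] [DecidableEq α] {p : ℕ} [hp : Fact p.Prime]
    (H : Subgroup (Perm α)) (hH : IsPGroup p H)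
    (x y : Perm α) (hx : x ∈ H) (hy : y ∈ H) (hxy : x * y ≠ y * x) : p ^ 2 ≤ Fintype.card α := by
  by_contra hlt
  exact hxy (commute_of_card_lt H hH (Nat.lt_of_not_le hlt) x y hx hy)

end Cfsg.Agent.Lib.Helper23.PermPGroup
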