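import Mathlib
import Cfsg.Agent.Lib.Helper23.AutAlt2
import Cfsg.Agent.Lib.Helper23.PermPGroup

set_option autoImplicit false

/-!
# Sylow subgroups of groups between `Inn(A_n)` and `Aut(A_n)`
-/

namespace Cfsg.Agent.Lib.Helper23.AutAltSylow

open Equiv Equiv.Perm

/-- an even permutation of order `p * q` when `p ^ 2 ≤ n` and `q ^ 2 ≤ n` -/
theorem exists_orderOf_mul {n p q : ℕ} (hp : p.Prime) (hq : q.Prime) (hpq : p ≠ q)
    (hpn : p ^ 2 ≤ n) (hqn : q ^ 2 ≤ n) :
    ∃ g : alternatingGroup (Fin n), orderOf g = p * q := by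
  have hp2 := hp.two_le
  have hq2 := hq.two_le
  have hcop : Nat.Coprime p q := (Nat.coprime_primes hp hq).mpr hpq
  -- choose the cycle type
  obtain ⟨m, hsum, hge, heven, hlcm⟩ : ∃ m : Multiset ℕ, m.sum ≤ n ∧ (∀ a ∈ m, 2 ≤ a) ∧
      Even (m.sum + Multiset.card m) ∧ m.lcm = p * q := by
    by_cases hp2' : p = 2
    · subst hp2'
      have hq3 : 3 ≤ q := by
        rcases hq.eq_two_or_odd with h | h
        · exact absurd h.symm hpq
        · omega
      have hqodd : q % 2 = 1 := by
        rcases hq.eq_two_or_odd with h | h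
        · exact absurd h.symm hpq
        · exact h
      refine ⟨{2, 2, q}, ?_, ?_, ?_, ?_⟩
      · simp only [Multiset.insert_eq_cons, Multiset.sum_cons, Multiset.sum_singleton]
        nlinarith
      · intro a ha
        simp only [Multiset.insert_eq_cons, Multiset.mem_cons, Multiset.mem_singleton] at ha
        rcases ha with rfl | rfl | rfl <;> omega
      · simp only [Multiset.insert_eq_cons, Multiset.sum_cons, Multiset.sum_singleton,
          Multiset.card_cons, Multiset.card_singleton]
        exact Nat.even_iff.mpr (by omega)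
      · simp only [Multiset.insert_eq_cons, Multiset.lcm_cons, Multiset.lcm_singleton,
          normalize_eq]
        show Nat.lcm 2 (Nat.lcm 2 q) = 2 * q
        rw [hcop.lcm_eq_mul, Nat.lcm_comm, Nat.lcm_eq_left (Dvd.intro _ rfl)]
    · by_cases hq2' : q = 2
      · subst hq2'
        have hp3 : 3 ≤ p := by
          rcases hp.eq_two_or_odd with h | h
          · exact absurd h hpq
          · omega
        have hpodd : p % 2 = 1 := by
          rcases hp.eq_two_or_odd with h | h
          · exact absurd h hpq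
          · exact h
        refine ⟨{2, 2, p}, ?_, ?_, ?_, ?_⟩
        · simp only [Multiset.insert_eq_cons, Multiset.sum_cons, Multiset.sum_singleton]
          nlinarith
        · intro a ha
          simp only [Multiset.insert_eq_cons, Multiset.mem_cons, Multiset.mem_singleton] at ha
          rcases ha with rfl | rfl | rfl <;> omega
        · simp only [Multiset.insert_eq_cons, Multiset.sum_cons, Multiset.sum_singleton,
            Multiset.card_cons, Multiset.card_singleton]
          exact Nat.even_iff.mpr (by omega)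
        · simp only [Multiset.insert_eq_cons, Multiset.lcm_cons, Multiset.lcm_singleton,
            normalize_eq]
          show Nat.lcm 2 (Nat.lcm 2 p) = p * 2
          rw [hcop.symm.lcm_eq_mul, Nat.lcm_comm, Nat.lcm_eq_left (Dvd.intro _ rfl), mul_comm]
      · have hpodd : p % 2 = 1 := by
          rcases hp.eq_two_or_odd with h | h
          · exact absurd h hp2'
          · exact h
        have hqodd : q % 2 = 1 := by
          rcases hq.eq_two_or_odd with h | h
          · exact absurd h hq2'
          · exact h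
        refine ⟨{p, q}, ?_, ?_, ?_, ?_⟩
        · simp only [Multiset.insert_eq_cons, Multiset.sum_cons, Multiset.sum_singleton]
          have hp3 : 3 ≤ p := by omega
          have hq3 : 3 ≤ q := by omega
          nlinarith
        · intro a ha
          simp only [Multiset.insert_eq_cons, Multiset.mem_cons, Multiset.mem_singleton] at ha
          rcases ha with rfl | rfl <;> omega
        · simp only [Multiset.insert_eq_cons, Multiset.sum_cons, Multiset.sum_singleton,
            Multiset.card_cons, Multiset.card_singleton]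
          exact Nat.even_iff.mpr (by omega)
        · simp only [Multiset.insert_eq_cons, Multiset.lcm_cons, Multiset.lcm_singleton,
            normalize_eq]
          show Nat.lcm p q = p * q
          exact hcop.lcm_eq_mul
  obtain ⟨g, hg⟩ := (Equiv.Perm.exists_with_cycleType_iff (α := Fin n)).mpr
    ⟨by rw [Fintype.card_fin]; exact hsum, hge⟩
  have hsign : Perm.sign g = 1 := by
    rw [Perm.sign_of_cycleType, hg]
    exact heven.neg_one_pow
  refine ⟨⟨g, mem_alternatingGroup.mpr hsign⟩, ?_⟩
  rw [← Subgroup.orderOf_coe]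
  show orderOf g = p * q
  rw [← Perm.lcm_cycleType, hg, hlcm]

/-- a noncommutative `p`-group of automorphisms induced by permutations forces `p ^ 2 ≤ n` -/
theorem sq_le_of_not_commute {n p : ℕ} [Fact p.Prime] (hn : 4 ≤ n)
    (R : Subgroup (MulAut (alternatingGroup (Fin n)))) (hR : IsPGroup p R)
    (hrange : ∀ φ ∈ R, ∃ σ : Perm (Fin n), (MulAut.conjNormal : Perm (Fin n) →*
      MulAut (alternatingGroup (Fin n))) σ = φ)
    (x y : MulAut (alternatingGroup (Fin n))) (hx : x ∈ R) (hy : y ∈ R) (hxy : x * y ≠ y * x) :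
    p ^ 2 ≤ n := by
  have hinj : Function.Injective (MulAut.conjNormal : Perm (Fin n) →*
      MulAut (alternatingGroup (Fin n))) :=
    Cfsg.Agent.Lib.Helper23.AutAlt.conj_injective (by rw [Fintype.card_fin]; exact hn)
  have hH := hR.comap_of_injective _ hinj
  obtain ⟨σx, hσx⟩ := hrange x hx
  obtain ⟨σy, hσy⟩ := hrange y hy
  have h1 : σx ∈ R.comap (MulAut.conjNormal : Perm (Fin n) →*
      MulAut (alternatingGroup (Fin n))) := by
    rw [Subgroup.mem_comap, hσx]; exact hx
  have h2 : σy ∈ R.comap (MulAut.conjNormal : Perm (Fin n) →*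
      MulAut (alternatingGroup (Fin n))) := by
    rw [Subgroup.mem_comap, hσy]; exact hy
  have h3 : σx * σy ≠ σy * σx := by
    intro h
    apply hxy
    rw [← hσx, ← hσy, ← map_mul, ← map_mul, h]
  have := Cfsg.Agent.Lib.Helper23.PermPGroup.sq_le_of_not_commute _ hH σx σy h1 h2 h3
  rwa [Fintype.card_fin] at this

theorem sq_le_of_subgroup {n r : ℕ} [Fact r.Prime] (hn : 4 ≤ n)
    (G : Subgroup (MulAut (alternatingGroup (Fin n)))) (P : Subgroup G) (hP : IsPGroup r P)
    (hnc : ¬ IsMulCommutative P)
    (hrange : ∀ φ : G, φ ∈ P → ∃ σ : Perm (Fin n), (MulAut.conjNormal : Perm (Fin n) →*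
      MulAut (alternatingGroup (Fin n))) σ = (φ : MulAut (alternatingGroup (Fin n)))) :
    r ^ 2 ≤ n := by
  obtain ⟨a, b, hab⟩ : ∃ a b : P, a * b ≠ b * a := by
    by_contra hall
    push_neg at hall
    exact hnc ⟨⟨fun a b => hall a b⟩⟩
  refine sq_le_of_not_commute hn (P.map G.subtype) (hP.map _) ?_
    ((a : G) : MulAut (alternatingGroup (Fin n))) ((b : G) : MulAut (alternatingGroup (Fin n)))
    (Subgroup.mem_map_of_mem G.subtype a.2) (Subgroup.mem_map_of_mem G.subtype b.2) ?_
  · rintro φ ⟨φ', hφ', rfl⟩
    exact hrange φ' hφ'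
  · intro hcomm
    apply hab
    apply Subtype.ext
    apply Subtype.ext
    exact hcomm

theorem main (n : ℕ) (hn : 5 ≤ n) (G : Subgroup (MulAut (alternatingGroup (Fin n))))
    (hG : (MulAut.conj : alternatingGroup (Fin n) →* MulAut (alternatingGroup (Fin n))).range ≤ G)
    (p q : ℕ) [hp : Fact p.Prime] [hq : Fact q.Prime] (hpq : p ≠ q)
    (h : ∀ g : G, orderOf g ≠ p * q) :
    (∀ P : Sylow p G, IsMulCommutative (P : Subgroup G)) ∨
      (∀ Q : Sylow q G, IsMulCommutative (Q : Subgroup G)) := by
  by_contra hcon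
  rw [not_or] at hcon
  obtain ⟨hcp, hcq⟩ := hcon
  push_neg at hcp hcq
  obtain ⟨P, hP⟩ := hcp
  obtain ⟨Q, hQ⟩ := hcq
  by_cases h6 : n = 6
  · subst h6
    -- odd Sylow subgroups are abelian
    have key : ∀ (r : ℕ) [Fact r.Prime] (R : Sylow r G), r ≠ 2 →
        ¬ IsMulCommutative (R : Subgroup G) → False := by
      intro r hr R hr2 hR
      have hodd : Odd r := hr.out.odd_of_ne_two hr2
      have := sq_le_of_subgroup (r := r) (by norm_num) G (R : Subgroup G) R.isPGroup' hR (by
        intro φ hφ
        obtain ⟨k, hk⟩ := R.isPGroup' ⟨φ, hφ⟩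
        obtain ⟨s, hs⟩ := hodd.pow (n := k)
        apply Cfsg.Agent.Lib.Helper23.AutAlt.mem_range_of_odd _ s
        rw [← hs]
        have h1 : (φ : G) ^ r ^ k = 1 := congrArg Subtype.val hk
        have h2 := congrArg Subtype.val h1
        simpa using h2)
      have hr3 : 3 ≤ r := by
        have := hr.out.two_le
        omega
      nlinarith
    by_cases hp2 : p = 2
    · have hq2 : q ≠ 2 := fun h => hpq (hp2.trans h.symm)
      exact key q Q hq2 hQ
    · exact key p P hp2 hP
  · have hsurj := (Cfsg.Agent.Lib.Helper23.AutAlt.main n (by omega) h6).2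
    have hpn : p ^ 2 ≤ n := sq_le_of_subgroup (by omega) G (P : Subgroup G) P.isPGroup' hP
      (fun φ _ => hsurj _)
    have hqn : q ^ 2 ≤ n := sq_le_of_subgroup (by omega) G (Q : Subgroup G) Q.isPGroup' hQ
      (fun φ _ => hsurj _)
    obtain ⟨g, hg⟩ := exists_orderOf_mul hp.out hq.out hpq hpn hqn
    have hmem : MulAut.conj g ∈ G := hG ⟨g, rfl⟩
    apply h ⟨MulAut.conj g, hmem⟩
    rw [← Subgroup.orderOf_coe]
    show orderOf (MulAut.conj g) = p * q
    rw [← MulAut.conjNormal_val, orderOf_injective _
      (Cfsg.Agent.Lib.Helper23.AutAlt.conj_injective (by rw [Fintype.card_fin]; omega)),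
      Subgroup.orderOf_coe, hg]

end Cfsg.Agent.Lib.Helper23.AutAltSylow
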