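import Mathlib

/-!
# Finite subgroups of alternating groups centralize big alternating groups

If a finite group `H` acts on a finite set `β` with more than `2 ^ |H| * (|H| * r)` points then
some `r` orbits are isomorphic as `H`-sets, and permuting them gives a copy of
`alternatingGroup (Fin r)` inside `alternatingGroup β` commuting with the action.
-/

namespace Cfsg.Agent.Lib.Helper23.CentAlt

open Equiv

section construction

variable {β : Type*} [Fintype β] [DecidableEq β] {Q : Type*} [Fintype Q] [DecidableEq Q]
  {r : ℕ} (emb : Q × Fin r → β) (hinj : Function.Injective emb)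

/-- permute the second coordinate on the image of `emb`, identity elsewhere -/
noncomputable def Phi : Perm (Fin r) →* Perm β where
  toFun σ := by
    classical
    exact Perm.extendDomain (Equiv.prodCongrRight (fun _ : Q => σ)) (Equiv.ofInjective emb hinj)
  map_one' := by
    classical
    have : (Equiv.prodCongrRight (fun _ : Q => (1 : Perm (Fin r)))) = 1 := by
      ext ⟨q, i⟩ <;> simp
    simp [this]
  map_mul' σ τ := by
    classical
    have : (Equiv.prodCongrRight (fun _ : Q => σ * τ)) =
        (Equiv.prodCongrRight (fun _ : Q => σ)) * (Equiv.prodCongrRight (fun _ : Q => τ)) := by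
      ext ⟨q, i⟩ <;> simp
    simp only [this]
    exact (Perm.extendDomain_mul _ _ _).symm

theorem Phi_apply_emb (σ : Perm (Fin r)) (q : Q) (i : Fin r) :
    Phi emb hinj σ (emb (q, i)) = emb (q, σ i) := by
  classical
  have h1 : emb (q, i) = (Equiv.ofInjective emb hinj (q, i) : β) := rfl
  show Perm.extendDomain (Equiv.prodCongrRight (fun _ : Q => σ)) (Equiv.ofInjective emb hinj)
    (emb (q, i)) = _
  rw [h1, Perm.extendDomain_apply_image]
  rfl

theorem Phi_apply_of_notMem (σ : Perm (Fin r)) (x : β) (hx : x ∉ Set.range emb) :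
    Phi emb hinj σ x = x := by
  classical
  exact Perm.extendDomain_apply_not_subtype _ _ hx

theorem sign_Phi (σ : Perm (Fin r)) :
    Perm.sign (Phi emb hinj σ) = Perm.sign σ ^ Fintype.card Q := by
  classical
  show Perm.sign (Perm.extendDomain (Equiv.prodCongrRight (fun _ : Q => σ))
    (Equiv.ofInjective emb hinj)) = _
  rw [Perm.sign_extendDomain, Perm.sign_prodCongrRight, Finset.prod_const, Finset.card_univ]

theorem Phi_injective [Nonempty Q] : Function.Injective (Phi emb hinj) := by
  intro σ τ h
  ext i
  obtain ⟨q⟩ := ‹Nonempty Q›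
  have h1 := Phi_apply_emb emb hinj σ q i
  have h2 := Phi_apply_emb emb hinj τ q i
  rw [h] at h1
  have := hinj (h1.symm.trans h2)
  have h3 : σ i = τ i := (Prod.ext_iff.mp this).2
  rw [h3]

/-- a permutation `h` moving the columns of `emb` commutes with `Phi` -/
theorem Phi_comm (h : Perm β) (hh : ∀ q, ∃ q', ∀ j, h (emb (q, j)) = emb (q', j))
    (hh' : ∀ q, ∃ q', ∀ j, h⁻¹ (emb (q, j)) = emb (q', j)) (σ : Perm (Fin r)) (x : β) :
    Phi emb hinj σ (h x) = h (Phi emb hinj σ x) := by
  by_cases hx : x ∈ Set.range emb
  · obtain ⟨⟨q, i⟩, rfl⟩ := hx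
    obtain ⟨q', hq'⟩ := hh q
    rw [hq' i, Phi_apply_emb, Phi_apply_emb, hq' (σ i)]
  · have hx' : h x ∉ Set.range emb := by
      rintro ⟨⟨q, i⟩, hqi⟩
      obtain ⟨q', hq'⟩ := hh' q
      apply hx
      refine ⟨(q', i), ?_⟩
      rw [← hq' i, hqi]
      simp
    rw [Phi_apply_of_notMem emb hinj σ x hx, Phi_apply_of_notMem emb hinj σ _ hx']

end construction

section action

variable {β : Type*} [Fintype β] [DecidableEq β] {H : Type*} [Group H] [Finite H] [MulAction H β]

theorem exists_emb (r : ℕ) (S : Subgroup H) (x : Fin r → β)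
    (hS : ∀ i, MulAction.stabilizer H (x i) = S)
    (hx : ∀ i j, i ≠ j → ∀ h : H, h • x i ≠ x j) :
    ∃ emb : (H ⧸ S) × Fin r → β, Function.Injective emb ∧
      ∀ (h : H) (q : H ⧸ S) (j : Fin r), h • emb (q, j) = emb (h • q, j) := by
  refine ⟨fun p => Quotient.liftOn' p.1 (fun h => h • x p.2) ?_, ?_, ?_⟩
  · intro a b hab
    have hab' : a⁻¹ * b ∈ S := QuotientGroup.leftRel_apply.mp hab
    rw [← hS p.2, MulAction.mem_stabilizer_iff] at hab'
    show a • x p.2 = b • x p.2
    conv_lhs => rw [← hab']
    rw [smul_smul, mul_inv_cancel_left]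
  · rintro ⟨q1, i⟩ ⟨q2, j⟩ heq
    induction q1 using Quotient.inductionOn' with
    | h g1 =>
      induction q2 using Quotient.inductionOn' with
      | h g2 =>
        have heq' : g1 • x i = g2 • x j := heq
        by_cases hij : i = j
        · subst hij
          have : (g1⁻¹ * g2) • x i = x i := by
            rw [mul_smul, ← heq', smul_smul, inv_mul_cancel, one_smul]
          have hmem : g1⁻¹ * g2 ∈ S := by
            rw [← hS i, MulAction.mem_stabilizer_iff]; exact this
          have : (QuotientGroup.mk g1 : H ⧸ S) = QuotientGroup.mk g2 := QuotientGroup.eq.mpr hmem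
          exact Prod.ext this rfl
        · exfalso
          apply hx i j hij (g2⁻¹ * g1)
          rw [mul_smul, heq', smul_smul, inv_mul_cancel, one_smul]
  · intro h q j
    induction q using Quotient.inductionOn' with
    | h g =>
      show h • g • x j = (h * g) • x j
      rw [mul_smul]

theorem exists_points (r : ℕ)
    (hcard : 2 ^ Nat.card H * (Nat.card H * r) < Fintype.card β) :
    ∃ (S : Subgroup H) (x : Fin r → β), (∀ i, MulAction.stabilizer H (x i) = S) ∧
      ∀ i j, i ≠ j → ∀ h : H, h • x i ≠ x j := by
  classical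
  haveI : Fintype H := Fintype.ofFinite H
  haveI : Fintype (Subgroup H) := Fintype.ofFinite _
  have hsub : Fintype.card (Subgroup H) ≤ 2 ^ Nat.card H := by
    rw [Nat.card_eq_fintype_card, ← Fintype.card_set]
    exact Fintype.card_le_of_injective (fun K : Subgroup H => (K : Set H)) SetLike.coe_injective
  have h1 : Fintype.card (Subgroup H) * (Nat.card H * r) < Fintype.card β :=
    lt_of_le_of_lt (Nat.mul_le_mul_right _ hsub) hcard
  obtain ⟨S, hS⟩ := Fintype.exists_lt_card_fiber_of_mul_lt_card
    (fun x : β => MulAction.stabilizer H x) h1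
  set X := Finset.univ.filter (fun x : β => MulAction.stabilizer H x = S) with hX
  let orb : β → MulAction.orbitRel.Quotient H β := fun y => Quotient.mk'' y
  have horb : ∀ y z : β, orb y = orb z → ∃ h : H, h • z = y := by
    intro y z hyz
    have := Quotient.exact' hyz
    exact MulAction.mem_orbit_iff.mp ((MulAction.orbitRel_apply).mp this)
  have h2 : X.card ≤ Nat.card H * (X.image orb).card := by
    refine Finset.card_le_mul_card_image X (Nat.card H) ?_
    intro o ho
    obtain ⟨y0, -, rfl⟩ := Finset.mem_image.mp ho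
    have hsubset : X.filter (fun y => orb y = orb y0) ⊆
        Finset.univ.image (fun h : H => h • y0) := by
      intro y hy
      obtain ⟨h, hh⟩ := horb y y0 (Finset.mem_filter.mp hy).2
      exact Finset.mem_image.mpr ⟨h, Finset.mem_univ _, hh⟩
    calc (X.filter (fun y => orb y = orb y0)).card
        ≤ (Finset.univ.image (fun h : H => h • y0)).card := Finset.card_le_card hsubset
      _ ≤ (Finset.univ : Finset H).card := Finset.card_image_le
      _ = Nat.card H := by rw [Finset.card_univ, Nat.card_eq_fintype_card]
  have h3 : r ≤ (X.image orb).card := by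
    by_contra hlt
    push_neg at hlt
    have hpos : 0 < Nat.card H := Nat.card_pos
    have : Nat.card H * (X.image orb).card ≤ Nat.card H * r :=
      Nat.mul_le_mul_left _ hlt.le
    omega
  obtain ⟨t, ht, htc⟩ := Finset.exists_subset_card_eq h3
  let e : Fin r ≃ t := (Finset.equivFinOfCardEq htc).symm
  have hex : ∀ i : Fin r, ∃ y ∈ X, orb y = (e i : MulAction.orbitRel.Quotient H β) :=
    fun i => Finset.mem_image.mp (ht (e i).2)
  choose x hxX hxo using hex
  refine ⟨S, x, fun i => (Finset.mem_filter.mp (hxX i)).2, ?_⟩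
  intro i j hij h heq
  apply hij
  have : orb (x i) = orb (x j) := by
    apply Quotient.sound'
    refine (MulAction.orbitRel_apply).mpr (MulAction.mem_orbit_iff.mpr ⟨h⁻¹, ?_⟩)
    rw [← heq, smul_smul, inv_mul_cancel, one_smul]
  rw [hxo i, hxo j] at this
  exact e.injective (Subtype.ext this)

/-- main lemma: a copy of `alternatingGroup (Fin r)` commuting with the action -/
theorem exists_hom (r : ℕ)
    (hcard : 2 ^ Nat.card H * (Nat.card H * r) < Fintype.card β) :
    ∃ Ψ : alternatingGroup (Fin r) →* alternatingGroup β, Function.Injective Ψ ∧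
      ∀ (a : alternatingGroup (Fin r)) (h : H) (y : β),
        ((Ψ a : alternatingGroup β) : Perm β) (h • y) = h • (((Ψ a : alternatingGroup β) : Perm β) y) := by
  classical
  obtain ⟨S, x, hS, hx⟩ := exists_points (H := H) (β := β) r hcard
  obtain ⟨emb, hinj, hact⟩ := exists_emb r S x hS hx
  haveI : Fintype (H ⧸ S) := Fintype.ofFinite _
  have hsign : ∀ a : alternatingGroup (Fin r), Phi emb hinj (a : Perm (Fin r)) ∈ alternatingGroup β := by
    intro a
    rw [Equiv.Perm.mem_alternatingGroup, sign_Phi, Equiv.Perm.mem_alternatingGroup.mp a.2, one_pow]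
  refine ⟨((Phi emb hinj).comp (alternatingGroup (Fin r)).subtype).codRestrict
    (alternatingGroup β) hsign, ?_, ?_⟩
  · intro a b hab
    have : Phi emb hinj (a : Perm (Fin r)) = Phi emb hinj (b : Perm (Fin r)) :=
      congrArg Subtype.val hab
    exact Subtype.ext (Phi_injective emb hinj this)
  · intro a h y
    have key := Phi_comm emb hinj (MulAction.toPermHom H β h)
      (fun q => ⟨h • q, fun j => hact h q j⟩)
      (fun q => ⟨h⁻¹ • q, fun j => by
        rw [← map_inv]
        exact hact h⁻¹ q j⟩) (a : Perm (Fin r)) y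
    exact key

end action

end Cfsg.Agent.Lib.Helper23.CentAlt
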