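import Mathlib

/-!
General tools for fusion arguments (helper23): Sylow conjugation inside a subgroup, a transfer
lemma for elements of order four, odd-order elements and subgroups of index two, counting
conjugacy classes of elements of a given order.
-/

set_option autoImplicit false

namespace Cfsg.Agent.Lib.Helper23.FusionTools

variable {G : Type*} [Group G]

theorem exists_conj_mem_sylow [Finite G] {p : ℕ} [Fact p.Prime] (P : Sylow p G) (H : Subgroup G)
    (hPH : (P : Subgroup G) ≤ H) (R : Subgroup G) (hR : IsPGroup p R) (hRH : R ≤ H) :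
    ∃ c ∈ H, ∀ r ∈ R, c * r * c⁻¹ ∈ (P : Subgroup G) := by
  have hR' : IsPGroup p (R.subgroupOf H) := hR.comap_subtype
  obtain ⟨Q', hQ'⟩ := hR'.exists_le_sylow
  obtain ⟨c, hc⟩ := MulAction.exists_smul_eq H Q' (P.subtype hPH)
  refine ⟨c, c.2, fun r hr => ?_⟩
  have h1 : (⟨r, hRH hr⟩ : H) ∈ (Q' : Subgroup H) :=
    hQ' (by rw [Subgroup.mem_subgroupOf]; exact hr)
  have h2 : c * ⟨r, hRH hr⟩ * c⁻¹ ∈ ((c • Q' : Sylow p H) : Subgroup H) := by
    rw [Sylow.coe_subgroup_smul, Subgroup.mem_pointwise_smul_iff_inv_smul_mem, MulAut.smul_def,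
      ← map_inv, MulAut.conj_apply]
    have : c⁻¹ * (c * ⟨r, hRH hr⟩ * c⁻¹) * c⁻¹⁻¹ = ⟨r, hRH hr⟩ := by group
    rw [this]
    exact h1
  rw [hc, Sylow.coe_subtype, Subgroup.mem_subgroupOf] at h2
  exact h2

theorem mem_of_odd_of_index_two {H : Subgroup G} (hH : H.index = 2) {n : G}
    (hn : Odd (orderOf n)) : n ∈ H := by
  obtain ⟨m, hm⟩ := hn
  have h1 : n ^ (2 * m + 1) = 1 := by rw [← hm]; exact pow_orderOf_eq_one n
  have h2 : n = ((n ^ 2) ^ m)⁻¹ := by
    rw [← pow_mul]
    have : n ^ (2 * m) * n = 1 := by rw [← pow_succ]; exact h1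
    rw [eq_inv_of_mul_eq_one_left this, inv_inv]
  rw [h2]
  exact H.inv_mem (H.pow_mem (Subgroup.sq_mem_of_index_two hH n) m)

theorem mem_normalizer_of_map_conj_eq {H : Subgroup G} {n : G}
    (h : H.map (MulAut.conj n).toMonoidHom = H) : n ∈ Subgroup.normalizer (H : Set G) := by
  rw [Subgroup.mem_normalizer_iff]
  intro g
  constructor
  · intro hg
    rw [← h]
    exact Subgroup.mem_map.mpr ⟨g, hg, rfl⟩
  · intro hg
    rw [← h] at hg
    obtain ⟨g', hg', he⟩ := Subgroup.mem_map.mp hg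
    simp only [MulEquiv.coe_toMonoidHom, MulAut.conj_apply] at he
    have : g' = g := by
      have h1 : n⁻¹ * (n * g' * n⁻¹) * n = n⁻¹ * (n * g * n⁻¹) * n := by rw [he]
      have e1 : n⁻¹ * (n * g' * n⁻¹) * n = g' := by group
      have e2 : n⁻¹ * (n * g * n⁻¹) * n = g := by group
      rw [e1, e2] at h1
      exact h1
    rw [← this]
    exact hg'

theorem map_conj_eq_of_mem_normalizer {H : Subgroup G} {n : G}
    (hn : n ∈ Subgroup.normalizer (H : Set G)) : H.map (MulAut.conj n).toMonoidHom = H := by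
  ext g
  rw [Subgroup.mem_map]
  constructor
  · rintro ⟨q, hq, rfl⟩
    exact (Subgroup.mem_normalizer_iff.mp hn q).mp hq
  · intro hg
    refine ⟨n⁻¹ * g * n, ?_, ?_⟩
    · have := (Subgroup.mem_normalizer_iff.mp (Subgroup.inv_mem _ hn) g).mp hg
      simpa using this
    · simp only [MulEquiv.coe_toMonoidHom, MulAut.conj_apply]
      group

theorem map_conj_map_conj (H : Subgroup G) (a b : G) :
    (H.map (MulAut.conj a).toMonoidHom).map (MulAut.conj b).toMonoidHom =
      H.map (MulAut.conj (b * a)).toMonoidHom := by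
  rw [Subgroup.map_map]
  congr 1
  ext g
  simp only [MonoidHom.coe_comp, MulEquiv.coe_toMonoidHom, Function.comp_apply, MulAut.conj_apply]
  group

theorem mem_map_conj_iff (H : Subgroup G) (a g : G) :
    g ∈ H.map (MulAut.conj a).toMonoidHom ↔ a⁻¹ * g * a ∈ H := by
  rw [Subgroup.mem_map]
  constructor
  · rintro ⟨h, hh, rfl⟩
    simp only [MulEquiv.coe_toMonoidHom, MulAut.conj_apply]
    have : a⁻¹ * (a * h * a⁻¹) * a = h := by group
    rw [this]
    exact hh
  · intro h
    refine ⟨_, h, ?_⟩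
    simp only [MulEquiv.coe_toMonoidHom, MulAut.conj_apply]
    group

theorem mem_smul_sylow_iff {p : ℕ} (P : Sylow p G) (g x : G) :
    x ∈ ((g • P : Sylow p G) : Subgroup G) ↔ g⁻¹ * x * g ∈ (P : Subgroup G) := by
  rw [Sylow.coe_subgroup_smul, Subgroup.mem_pointwise_smul_iff_inv_smul_mem, MulAut.smul_def,
    ← map_inv, MulAut.conj_apply, inv_inv]

theorem klein_elems (T : Subgroup G) [IsKleinFour T] {a b : G} (ha : a ∈ T) (hb : b ∈ T)
    (ha1 : a ≠ 1) (hb1 : b ≠ 1) (hab : a ≠ b) (r : G) (hr : r ∈ T) :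
    r = 1 ∨ r = a ∨ r = b ∨ r = a * b := by
  by_cases h1 : r = 1
  · exact Or.inl h1
  by_cases h2 : r = a
  · exact Or.inr (Or.inl h2)
  by_cases h3 : r = b
  · exact Or.inr (Or.inr (Or.inl h3))
  right; right; right
  have := IsKleinFour.eq_mul_of_ne_all (G := T) (x := ⟨a, ha⟩) (y := ⟨b, hb⟩) (z := ⟨r, hr⟩)
    (fun h => ha1 (congrArg Subtype.val h)) (fun h => hb1 (congrArg Subtype.val h))
    (fun h => hab (congrArg Subtype.val h)) (fun h => h1 (congrArg Subtype.val h))
    (fun h => h2 (congrArg Subtype.val h)) (fun h => h3 (congrArg Subtype.val h))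
  exact congrArg Subtype.val this

theorem klein_orderOf (T : Subgroup G) [IsKleinFour T] {a : G} (ha : a ∈ T) (ha1 : a ≠ 1) :
    orderOf a = 2 := by
  apply orderOf_eq_prime
  · have := congrArg Subtype.val (IsKleinFour.mul_self (⟨a, ha⟩ : T))
    rw [pow_two]
    exact this
  · exact ha1

theorem klein_comm (T : Subgroup G) [IsKleinFour T] {a b : G} (ha : a ∈ T) (hb : b ∈ T) :
    a * b = b * a := by
  have := mul_comm_of_exponent_two (G := T) IsKleinFour.exponent_two ⟨a, ha⟩ ⟨b, hb⟩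
  exact congrArg Subtype.val this

theorem klein_exists_third (T : Subgroup G) [IsKleinFour T] (z : G) :
    ∃ t ∈ T, t ≠ 1 ∧ t ≠ z := by
  by_contra hno
  push Not at hno
  have hsub : (T : Set G) ⊆ {1, z} := by
    intro g hg
    by_cases h1 : g = 1
    · left; exact h1
    · right; exact hno g hg h1
  have hle := Set.ncard_le_ncard hsub (Set.toFinite _)
  have h2 : ({1, z} : Set G).ncard ≤ 2 := Set.ncard_insert_le _ _ |>.trans (by simp)
  have h4 : (T : Set G).ncard = 4 := by
    rw [← Nat.card_coe_set_eq]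
    exact IsKleinFour.card_four (G := T)
  omega

theorem perm_eq_one_of_fix_two {Ω : Type*} [Finite Ω] (hΩ : Nat.card Ω = 3) (σ : Equiv.Perm Ω)
    (a b : Ω) (hab : a ≠ b) (ha : σ a = a) (hb : σ b = b) : σ = 1 := by
  classical
  have := Fintype.ofFinite Ω
  ext c
  rw [Equiv.Perm.one_apply]
  by_cases hca : c = a
  · rw [hca, ha]
  by_cases hcb : c = b
  · rw [hcb, hb]
  by_contra hne
  have h1 : σ c ≠ a := fun h => hca (σ.injective (h.trans ha.symm))
  have h2 : σ c ≠ b := fun h => hcb (σ.injective (h.trans hb.symm))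
  have hcard : ({a, b, c, σ c} : Finset Ω).card = 4 := by
    rw [Finset.card_insert_of_notMem, Finset.card_insert_of_notMem, Finset.card_insert_of_notMem,
      Finset.card_singleton]
    · simp only [Finset.mem_singleton]
      exact fun h => hne h.symm
    · simp only [Finset.mem_insert, Finset.mem_singleton, not_or]
      exact ⟨fun h => hcb h.symm, fun h => h2 h.symm⟩
    · simp only [Finset.mem_insert, Finset.mem_singleton, not_or]
      exact ⟨hab, fun h => hca h.symm, fun h => h1 h.symm⟩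
  have hle := Finset.card_le_univ ({a, b, c, σ c} : Finset Ω)
  rw [hcard, ← Nat.card_eq_fintype_card, hΩ] at hle
  omega

/-- `A ∩ B` seen inside `B` and inside `A`. -/
def subgroupOfSwap (A B : Subgroup G) : ↥(A.subgroupOf B) ≃* ↥(B.subgroupOf A) where
  toFun r := ⟨⟨((r : ↥B) : G), by have := r.2; rwa [Subgroup.mem_subgroupOf] at this⟩, by
    rw [Subgroup.mem_subgroupOf]; exact (r : ↥B).2⟩
  invFun t := ⟨⟨((t : ↥A) : G), by have := t.2; rwa [Subgroup.mem_subgroupOf] at this⟩, by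
    rw [Subgroup.mem_subgroupOf]; exact (t : ↥A).2⟩
  left_inv _ := rfl
  right_inv _ := rfl
  map_mul' _ _ := rfl

theorem odd_closed_of_index_two (K : Subgroup G) (hK : K.index = 2) (H : Subgroup ↥K)
    (hH : H.index = 2) : ∀ n : G, Odd (orderOf n) → n ∈ H.map K.subtype := by
  intro n hn
  have hnK : n ∈ K := mem_of_odd_of_index_two hK hn
  have : (⟨n, hnK⟩ : ↥K) ∈ H := by
    apply mem_of_odd_of_index_two hH
    rw [← Subgroup.orderOf_coe]
    exact hn
  exact Subgroup.mem_map.mpr ⟨⟨n, hnK⟩, this, rfl⟩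

theorem one_of_three_mem (K : Subgroup G) (H : Subgroup ↥K) (hH : H.index = 2) {c₁ c₂ : G}
    (h₁ : c₁ ∈ K) (h₂ : c₂ ∈ K) :
    c₁ ∈ H.map K.subtype ∨ c₂ ∈ H.map K.subtype ∨ c₁ * c₂ ∈ H.map K.subtype := by
  by_cases h1 : (⟨c₁, h₁⟩ : ↥K) ∈ H
  · exact Or.inl (Subgroup.mem_map.mpr ⟨_, h1, rfl⟩)
  by_cases h2 : (⟨c₂, h₂⟩ : ↥K) ∈ H
  · exact Or.inr (Or.inl (Subgroup.mem_map.mpr ⟨_, h2, rfl⟩))
  right; right
  have : (⟨c₁, h₁⟩ : ↥K) * ⟨c₂, h₂⟩ ∈ H :=
    (Subgroup.mul_mem_iff_of_index_two hH).mpr ⟨fun h => absurd h h1, fun h => absurd h h2⟩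
  exact Subgroup.mem_map.mpr ⟨_, this, rfl⟩

theorem no_index_two_of_le [Finite G] {p : ℕ} [Fact p.Prime] (S : Sylow p G) (K : Subgroup G)
    [K.Normal] (H : Subgroup ↥K) (hH : H.index = p)
    (hSK : ((S : Subgroup G) ⊓ K : Subgroup G) ≤ H.map K.subtype)
    (P₀ : Sylow p ↥K) (hP₀ : (P₀ : Subgroup ↥K) = (S : Subgroup G).subgroupOf K) : False := by
  have hle : (P₀ : Subgroup ↥K) ≤ H := by
    intro r hr
    rw [hP₀, Subgroup.mem_subgroupOf] at hr
    have := hSK ⟨hr, r.2⟩
    obtain ⟨h, hh, he⟩ := Subgroup.mem_map.mp this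
    have : h = r := Subtype.ext he
    rw [← this]
    exact hh
  have h1 := Subgroup.index_dvd_of_le hle
  rw [hH] at h1
  exact P₀.not_dvd_index h1

section classes

theorem card_classes_eq_one (k : ℕ) (a : G) (ha : orderOf a = k)
    (hall : ∀ t : G, orderOf t = k → IsConj t a) :
    Nat.card {C : ConjClasses G // ∃ t : G, orderOf t = k ∧ ConjClasses.mk t = C} = 1 := by
  rw [Nat.card_eq_one_iff_unique]
  constructor
  · constructor
    rintro ⟨C, t, ht, rfl⟩ ⟨C', t', ht', rfl⟩
    apply Subtype.ext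
    simp only
    rw [ConjClasses.mk_eq_mk_iff_isConj]
    exact (hall t ht).trans (hall t' ht').symm
  · exact ⟨⟨ConjClasses.mk a, a, ha, rfl⟩⟩

theorem card_classes_eq_two (k : ℕ) (a b : G) (ha : orderOf a = k) (hb : orderOf b = k)
    (hne : ¬ IsConj a b) (hall : ∀ t : G, orderOf t = k → IsConj t a ∨ IsConj t b) :
    Nat.card {C : ConjClasses G // ∃ t : G, orderOf t = k ∧ ConjClasses.mk t = C} = 2 := by
  rw [Nat.card_eq_two_iff]
  refine ⟨⟨ConjClasses.mk a, a, ha, rfl⟩, ⟨ConjClasses.mk b, b, hb, rfl⟩, ?_, ?_⟩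
  · intro h
    have h1 := congrArg Subtype.val h
    simp only at h1
    rw [ConjClasses.mk_eq_mk_iff_isConj] at h1
    exact hne h1
  · apply Set.eq_univ_of_forall
    rintro ⟨C, t, ht, rfl⟩
    rcases hall t ht with h | h
    · left
      apply Subtype.ext
      simp only
      exact ConjClasses.mk_eq_mk_iff_isConj.mpr h
    · right
      apply Subtype.ext
      simp only
      exact ConjClasses.mk_eq_mk_iff_isConj.mpr h

end classes

section transfer

open MulAction

/-- The character of a Sylow 2-subgroup with kernel a subgroup of index 2. -/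
noncomputable def signHom (P M : Subgroup G) (hMi : M.relIndex P = 2) : ↥P →* ℤˣ where
  toFun p := by
    classical
    exact if (p : G) ∈ M then 1 else -1
  map_one' := by simp [M.one_mem]
  map_mul' := by
    intro a b
    have key : (a * b) ∈ M.subgroupOf P ↔ (a ∈ M.subgroupOf P ↔ b ∈ M.subgroupOf P) :=
      Subgroup.mul_mem_iff_of_index_two hMi
    simp only [Subgroup.mem_subgroupOf, Subgroup.coe_mul] at key
    by_cases ha : (a : G) ∈ M <;> by_cases hb : (b : G) ∈ M <;>
      simp [ha, hb, key]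

theorem signHom_of_mem (P M : Subgroup G) (hMi : M.relIndex P = 2) (p : ↥P) (hp : (p : G) ∈ M) :
    signHom P M hMi p = 1 := by
  simp [signHom, hp]

theorem signHom_of_notMem (P M : Subgroup G) (hMi : M.relIndex P = 2) (p : ↥P)
    (hp : (p : G) ∉ M) : signHom P M hMi p = -1 := by
  simp [signHom, hp]

theorem exists_index_two_of_order_four [Finite G] (P : Sylow 2 G) (M : Subgroup G)
    (hMi : M.relIndex (P : Subgroup G) = 2) (u : G) (hu4 : u ^ 4 = 1)
    (h1 : ∀ g : G, g⁻¹ * u * g ∈ (P : Subgroup G) → g⁻¹ * u * g ∉ M)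
    (h2 : ∀ g : G, g⁻¹ * u ^ 2 * g ∈ (P : Subgroup G) → g⁻¹ * u ^ 2 * g ∈ M) :
    ∃ K : Subgroup G, K.Normal ∧ K.index = 2 ∧ u ∉ K := by
  classical
  obtain ⟨ϕ, hϕ⟩ : ∃ ϕ : ↥(P : Subgroup G) →* ℤˣ, ϕ = signHom (P : Subgroup G) M hMi := ⟨_, rfl⟩
  obtain ⟨V, hV⟩ : ∃ V : G →* ℤˣ, V = MonoidHom.transfer ϕ := ⟨_, rfl⟩
  have : Fintype (Quotient (orbitRel (Subgroup.zpowers u) (G ⧸ (P : Subgroup G)))) :=
    Fintype.ofFinite _
  have hVu : V u = -1 := by
    rw [hV, MonoidHom.transfer_eq_prod_quotient_orbitRel_zpowers_quot]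
    have haux : ∀ (k : G) (m : ℕ) (hmem : k⁻¹ * u ^ m * k ∈ (P : Subgroup G)), m ∣ 4 →
        ϕ ⟨k⁻¹ * u ^ m * k, hmem⟩ = (-1 : ℤˣ) ^ m := by
      intro k m hmem hdvd
      have hle : m ≤ 4 := Nat.le_of_dvd (by norm_num) hdvd
      interval_cases m
      · omega
      · rw [hϕ, pow_one (-1 : ℤˣ)]
        apply signHom_of_notMem
        simp only [pow_one] at hmem ⊢
        exact h1 _ hmem
      · rw [hϕ]
        have : ((-1 : ℤˣ)) ^ 2 = 1 := by decide
        rw [this]
        apply signHom_of_mem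
        exact h2 _ hmem
      · omega
      · rw [hϕ]
        have : ((-1 : ℤˣ)) ^ 4 = 1 := by decide
        rw [this]
        apply signHom_of_mem
        simp only [hu4, mul_one, inv_mul_cancel]
        exact M.one_mem
    have hterm : ∀ q : Quotient (orbitRel (Subgroup.zpowers u) (G ⧸ (P : Subgroup G))),
        ϕ ⟨q.out.out⁻¹ * u ^ Function.minimalPeriod (u • ·) q.out * q.out.out,
          QuotientGroup.out_conj_pow_minimalPeriod_mem (P : Subgroup G) u q.out⟩ =
        (-1 : ℤˣ) ^ Function.minimalPeriod (u • ·) q.out := by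
      intro q
      apply haux
      apply Function.IsPeriodicPt.minimalPeriod_dvd
      rw [Function.IsPeriodicPt, Function.IsFixedPt, smul_iterate, hu4]
      exact one_smul _ _
    rw [Finset.prod_congr rfl (fun q _ => hterm q), Finset.prod_pow_eq_pow_sum,
      ← Subgroup.index_eq_sum_minimalPeriod]
    have hodd : Odd (P : Subgroup G).index := by
      rw [← Nat.not_even_iff_odd, even_iff_two_dvd]
      exact P.not_dvd_index
    exact hodd.neg_one_pow
  have hsurj : Function.Surjective V := by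
    intro z
    rcases Int.units_eq_one_or z with h | h
    · exact ⟨1, by rw [map_one, h]⟩
    · exact ⟨u, by rw [hVu, h]⟩
  refine ⟨V.ker, MonoidHom.normal_ker V, ?_, ?_⟩
  · rw [Subgroup.index_ker, MonoidHom.range_eq_top.mpr hsurj, Subgroup.card_top,
      Nat.card_eq_fintype_card, Fintype.card_units_int]
  · rw [MonoidHom.mem_ker, hVu]
    decide

end transfer

end Cfsg.Agent.Lib.Helper23.FusionTools
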