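import Mathlib

/-!
Actions on three points (helper23): the automizer of a Klein four-group and of a quaternion group
of order 8 through their permutation action on three objects.
-/

set_option autoImplicit false

namespace Cfsg.Agent.Lib.Helper23.ThreePoint

section abstract

variable {N Ω : Type*} [Group N]

theorem index_ker_dvd_six [Finite Ω] (ρ : N →* Equiv.Perm Ω) (hΩ : Nat.card Ω = 3) :
    ρ.ker.index ∣ 6 := by
  rw [Subgroup.index_ker]
  have h1 := Subgroup.card_subgroup_dvd_card ρ.range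
  rw [Nat.card_perm, hΩ] at h1
  exact h1

theorem three_dvd_index_ker [Finite Ω] (ρ : N →* Equiv.Perm Ω) (hΩ : Nat.card Ω = 3) (ω : Ω)
    (htrans : ∀ ω' : Ω, ∃ n : N, ρ n ω = ω') : 3 ∣ ρ.ker.index := by
  let _ : MulAction N Ω := MulAction.compHom Ω ρ
  have hsmul : ∀ (n : N) (a : Ω), n • a = ρ n a := fun _ _ => rfl
  have horb : MulAction.orbit N ω = Set.univ := by
    ext ω'
    simp only [Set.mem_univ, iff_true]
    obtain ⟨n, hn⟩ := htrans ω'
    exact ⟨n, by rw [← hn]; rfl⟩
  have h1 : (MulAction.stabilizer N ω).index = 3 := by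
    rw [MulAction.index_stabilizer, horb, Set.ncard_univ, hΩ]
  have hle : ρ.ker ≤ MulAction.stabilizer N ω := by
    intro n hn
    rw [MonoidHom.mem_ker] at hn
    rw [MulAction.mem_stabilizer_iff, hsmul, hn]
    rfl
  have h2 := Subgroup.relIndex_mul_index hle
  rw [h1] at h2
  exact ⟨_, by rw [← h2, mul_comm]⟩

theorem exists_odd_transitive [Finite N] [Finite Ω] (ρ : N →* Equiv.Perm Ω) (hΩ : Nat.card Ω = 3)
    (h6 : ρ.ker.index = 6) :
    ∃ n : N, Odd (orderOf n) ∧ ∀ ω ω' : Ω, ∃ k : ℕ, ρ (n ^ k) ω = ω' := by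
  classical
  have hsurj : Function.Surjective ρ := by
    rw [← MonoidHom.range_eq_top, ← Subgroup.card_eq_iff_eq_top, ← Subgroup.index_ker, h6,
      Nat.card_perm, hΩ]
    rfl
  have e : Ω ≃ Fin 3 := Finite.equivFinOfCardEq hΩ
  obtain ⟨σ, hσdef⟩ : ∃ σ : Equiv.Perm Ω, σ = e.permCongr.symm (finRotate 3) := ⟨_, rfl⟩
  have hσpow : ∀ k : ℕ, ∀ a : Ω, (σ ^ k) a = e.symm ((finRotate 3 ^ k) (e a)) := by
    intro k
    induction k with
    | zero => intro a; simp
    | succ k ih =>
      intro a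
      rw [pow_succ', Equiv.Perm.mul_apply, ih, hσdef, pow_succ', Equiv.Perm.mul_apply]
      simp
  have hrot : ∀ i j : Fin 3, ∃ k : ℕ, (finRotate 3 ^ k) i = j := by
    have h : ∀ i j : Fin 3, ∃ k : Fin 3, (finRotate 3 ^ (k : ℕ)) i = j := by decide
    intro i j
    obtain ⟨k, hk⟩ := h i j
    exact ⟨k, hk⟩
  have hσtrans : ∀ a b : Ω, ∃ k : ℕ, (σ ^ k) a = b := by
    intro a b
    obtain ⟨k, hk⟩ := hrot (e a) (e b)
    exact ⟨k, by rw [hσpow, hk, Equiv.symm_apply_apply]⟩
  have hσ3 : σ ^ 3 = 1 := by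
    ext a
    rw [hσpow]
    have : (finRotate 3 ^ 3) = 1 := by decide
    rw [this]
    simp
  obtain ⟨n₀, hn₀⟩ := hsurj σ
  have hpos : orderOf n₀ ≠ 0 := (orderOf_pos n₀).ne'
  obtain ⟨a, b, hb, hab⟩ := Nat.exists_eq_two_pow_mul_odd hpos
  refine ⟨n₀ ^ (2 ^ a), ?_, ?_⟩
  · have : orderOf (n₀ ^ 2 ^ a) = b := by
      rw [orderOf_pow_of_dvd (by positivity) ⟨b, hab⟩, hab]
      exact Nat.mul_div_cancel_left b (by positivity)
    rw [this]
    exact hb
  · intro ω ω'
    obtain ⟨j, hj⟩ := hσtrans ω ω'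
    have hcop : (2 ^ a).Coprime (orderOf σ) := by
      have hd : orderOf σ ∣ 3 := orderOf_dvd_of_pow_eq_one hσ3
      have : (2 ^ a).Coprime 3 := Nat.Coprime.pow_left a (by decide)
      exact Nat.Coprime.coprime_dvd_right hd this
    obtain ⟨m, hm⟩ := exists_pow_eq_self_of_coprime hcop
    refine ⟨m * j, ?_⟩
    rw [← pow_mul, map_pow, hn₀, pow_mul, pow_mul, hm, hj]

theorem two_dvd_index_ker {H : Type*} [Group H] (ρ : N →* H) (n : N) (k : ℕ)
    (hn : n ^ 2 ^ k = 1) (hnk : n ∉ ρ.ker) : 2 ∣ ρ.ker.index := by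
  rw [Subgroup.index_ker]
  have h1 : orderOf (ρ n) ∣ 2 ^ k := by
    apply orderOf_dvd_of_pow_eq_one
    rw [← map_pow, hn, map_one]
  obtain ⟨j, _, hj⟩ := (Nat.dvd_prime_pow Nat.prime_two).mp h1
  have hj0 : j ≠ 0 := by
    intro h0
    rw [h0, pow_zero, orderOf_eq_one_iff] at hj
    exact hnk hj
  have h2 : orderOf (⟨ρ n, ⟨n, rfl⟩⟩ : ρ.range) = orderOf (ρ n) := Subgroup.orderOf_mk _ _
  have h3 := orderOf_dvd_natCard (⟨ρ n, ⟨n, rfl⟩⟩ : ρ.range)
  rw [h2, hj] at h3
  exact (dvd_pow_self 2 hj0).trans h3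

end abstract

section conj

variable {G : Type*} [Group G]

/-- The conjugation permutation representation of a subgroup `N` on a set `A` of elements stable
under conjugation by `N`. -/
def conjPerm (N : Subgroup G) (A : Set G) (hA : ∀ n ∈ N, ∀ a ∈ A, n * a * n⁻¹ ∈ A) :
    ↥N →* Equiv.Perm ↥A where
  toFun n :=
    { toFun := fun a => ⟨(n : G) * a * (n : G)⁻¹, hA n n.2 a a.2⟩
      invFun := fun a => ⟨(n : G)⁻¹ * a * (n : G), by
        have := hA (n : G)⁻¹ (N.inv_mem n.2) a a.2
        rwa [inv_inv] at this⟩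
      left_inv := by
        intro a
        apply Subtype.ext
        simp only
        group
      right_inv := by
        intro a
        apply Subtype.ext
        simp only
        group }
  map_one' := by
    ext a
    simp
  map_mul' := by
    intro m n
    ext a
    simp only [Subgroup.coe_mul, Equiv.coe_fn_mk, Equiv.Perm.coe_mul, Function.comp_apply]
    group

theorem conjPerm_apply (N : Subgroup G) (A : Set G) (hA : ∀ n ∈ N, ∀ a ∈ A, n * a * n⁻¹ ∈ A)
    (n : ↥N) (a : ↥A) : ((conjPerm N A hA n a : ↥A) : G) = (n : G) * a * (n : G)⁻¹ := rfl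

theorem mem_ker_conjPerm (N : Subgroup G) (A : Set G) (hA : ∀ n ∈ N, ∀ a ∈ A, n * a * n⁻¹ ∈ A)
    (n : ↥N) : n ∈ (conjPerm N A hA).ker ↔ ∀ a ∈ A, (n : G) * a * (n : G)⁻¹ = a := by
  rw [MonoidHom.mem_ker]
  constructor
  · intro h a ha
    have := congrArg (fun σ : Equiv.Perm ↥A => ((σ ⟨a, ha⟩ : ↥A) : G)) h
    simpa [conjPerm_apply] using this
  · intro h
    ext a
    rw [conjPerm_apply]
    simpa using h a a.2

/-- The conjugation permutation representation of a subgroup `N` on a set of subgroups stable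
under conjugation by `N`. -/
def conjPermSub (N : Subgroup G) (𝒜 : Set (Subgroup G))
    (h𝒜 : ∀ n ∈ N, ∀ H ∈ 𝒜, H.map (MulAut.conj n).toMonoidHom ∈ 𝒜) :
    ↥N →* Equiv.Perm ↥𝒜 where
  toFun n :=
    { toFun := fun H => ⟨(H : Subgroup G).map (MulAut.conj (n : G)).toMonoidHom, h𝒜 n n.2 H H.2⟩
      invFun := fun H => ⟨(H : Subgroup G).map (MulAut.conj (n : G)⁻¹).toMonoidHom,
        h𝒜 _ (N.inv_mem n.2) H H.2⟩
      left_inv := by
        intro H
        apply Subtype.ext
        simp only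
        rw [Subgroup.map_map]
        have : (MulAut.conj (n : G)⁻¹).toMonoidHom.comp (MulAut.conj (n : G)).toMonoidHom =
            MonoidHom.id G := by
          ext g
          simp only [MonoidHom.coe_comp, MulEquiv.coe_toMonoidHom, Function.comp_apply,
            MulAut.conj_apply, MonoidHom.id_apply, inv_inv]
          group
        rw [this, Subgroup.map_id]
      right_inv := by
        intro H
        apply Subtype.ext
        simp only
        rw [Subgroup.map_map]
        have : (MulAut.conj (n : G)).toMonoidHom.comp (MulAut.conj (n : G)⁻¹).toMonoidHom =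
            MonoidHom.id G := by
          ext g
          simp only [MonoidHom.coe_comp, MulEquiv.coe_toMonoidHom, Function.comp_apply,
            MulAut.conj_apply, MonoidHom.id_apply, inv_inv]
          group
        rw [this, Subgroup.map_id] }
  map_one' := by
    ext H
    simp
  map_mul' := by
    intro m n
    ext H : 2
    simp only [Subgroup.coe_mul, Equiv.coe_fn_mk, Equiv.Perm.coe_mul, Function.comp_apply]
    rw [Subgroup.map_map]
    congr 1
    ext g
    simp only [MonoidHom.coe_comp, MulEquiv.coe_toMonoidHom, Function.comp_apply,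
      MulAut.conj_apply]
    group

theorem conjPermSub_apply (N : Subgroup G) (𝒜 : Set (Subgroup G))
    (h𝒜 : ∀ n ∈ N, ∀ H ∈ 𝒜, H.map (MulAut.conj n).toMonoidHom ∈ 𝒜) (n : ↥N) (H : ↥𝒜) :
    ((conjPermSub N 𝒜 h𝒜 n H : ↥𝒜) : Subgroup G) =
      (H : Subgroup G).map (MulAut.conj (n : G)).toMonoidHom := rfl

theorem mem_ker_conjPermSub (N : Subgroup G) (𝒜 : Set (Subgroup G))
    (h𝒜 : ∀ n ∈ N, ∀ H ∈ 𝒜, H.map (MulAut.conj n).toMonoidHom ∈ 𝒜) (n : ↥N) :
    n ∈ (conjPermSub N 𝒜 h𝒜).ker ↔ ∀ H ∈ 𝒜, H.map (MulAut.conj (n : G)).toMonoidHom = H := by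
  rw [MonoidHom.mem_ker]
  constructor
  · intro h H hH
    have := congrArg (fun σ : Equiv.Perm ↥𝒜 => ((σ ⟨H, hH⟩ : ↥𝒜) : Subgroup G)) h
    simpa [conjPermSub_apply] using this
  · intro h
    ext H : 2
    rw [conjPermSub_apply]
    simpa using h H H.2

end conj

section klein

variable {G : Type*} [Group G] (T : Subgroup G)

/-- The non-identity elements of `T`. -/
def kleinSet : Set G := {t | t ∈ T ∧ t ≠ 1}

theorem kleinSet_stable : ∀ n ∈ Subgroup.normalizer (T : Set G), ∀ a ∈ kleinSet T,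
    n * a * n⁻¹ ∈ kleinSet T := by
  intro n hn a ha
  refine ⟨(Subgroup.mem_normalizer_iff.mp hn a).mp ha.1, ?_⟩
  intro h
  apply ha.2
  have : a = n⁻¹ * (n * a * n⁻¹) * n := by group
  rw [this, h]
  group

/-- The action of `N_G(T)` on the non-identity elements of `T`. -/
def kleinHom : ↥(Subgroup.normalizer (T : Set G)) →* Equiv.Perm ↥(kleinSet T) :=
  conjPerm _ _ (kleinSet_stable T)

theorem kleinHom_apply (n : ↥(Subgroup.normalizer (T : Set G))) (a : ↥(kleinSet T)) :
    ((kleinHom T n a : ↥(kleinSet T)) : G) = (n : G) * a * (n : G)⁻¹ := rfl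

theorem kleinHom_ker : (kleinHom T).ker =
    (Subgroup.centralizer (T : Set G)).subgroupOf (Subgroup.normalizer (T : Set G)) := by
  ext n
  rw [kleinHom, mem_ker_conjPerm, Subgroup.mem_subgroupOf, Subgroup.mem_centralizer_iff]
  constructor
  · intro h t ht
    by_cases h1 : t = 1
    · rw [h1]; simp
    · have := h t ⟨ht, h1⟩
      calc t * (n : G) = ((n : G) * t * (n : G)⁻¹) * n := by rw [this]
        _ = n * t := by group
  · intro h a ha
    rw [← h a ha.1]
    group

theorem card_kleinSet [IsKleinFour T] : Nat.card ↥(kleinSet T) = 3 := by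
  have h4 : (T : Set G).ncard = 4 := by
    rw [← Nat.card_coe_set_eq]
    exact IsKleinFour.card_four (G := T)
  have : kleinSet T = (T : Set G) \ {1} := by
    ext t
    simp [kleinSet]
  rw [Nat.card_coe_set_eq, this, Set.ncard_sdiff_singleton_of_mem T.one_mem, h4]

theorem klein_relIndex_dvd_six [IsKleinFour T] :
    (Subgroup.centralizer (T : Set G)).relIndex (Subgroup.normalizer (T : Set G)) ∣ 6 := by
  have : Finite ↥(kleinSet T) := Nat.finite_of_card_ne_zero (by rw [card_kleinSet]; decide)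
  have := index_ker_dvd_six (kleinHom T) (card_kleinSet T)
  rwa [kleinHom_ker] at this

theorem klein_three_dvd [IsKleinFour T] (t : G) (ht : t ∈ T) (ht1 : t ≠ 1)
    (h : ∀ t' ∈ T, t' ≠ 1 → ∃ n ∈ Subgroup.normalizer (T : Set G), n * t * n⁻¹ = t') :
    3 ∣ (Subgroup.centralizer (T : Set G)).relIndex (Subgroup.normalizer (T : Set G)) := by
  have : Finite ↥(kleinSet T) := Nat.finite_of_card_ne_zero (by rw [card_kleinSet]; decide)
  have := three_dvd_index_ker (kleinHom T) (card_kleinSet T) ⟨t, ht, ht1⟩ (by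
    rintro ⟨t', ht', ht'1⟩
    obtain ⟨n, hn, hnt⟩ := h t' ht' ht'1
    refine ⟨⟨n, hn⟩, ?_⟩
    apply Subtype.ext
    rw [kleinHom_apply]
    exact hnt)
  rwa [kleinHom_ker] at this

theorem klein_exists_odd [Finite G] [IsKleinFour T]
    (h6 : (Subgroup.centralizer (T : Set G)).relIndex (Subgroup.normalizer (T : Set G)) = 6) :
    ∃ n ∈ Subgroup.normalizer (T : Set G), Odd (orderOf n) ∧
      ∀ t ∈ T, t ≠ 1 → ∀ t' ∈ T, t' ≠ 1 → ∃ k : ℕ, n ^ k * t * (n ^ k)⁻¹ = t' := by
  have : Finite ↥(kleinSet T) := Nat.finite_of_card_ne_zero (by rw [card_kleinSet]; decide)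
  have h6' : (kleinHom T).ker.index = 6 := by rw [kleinHom_ker]; exact h6
  obtain ⟨n, hodd, hn⟩ := exists_odd_transitive (kleinHom T) (card_kleinSet T) h6'
  refine ⟨n, n.2, ?_, ?_⟩
  · rwa [Subgroup.orderOf_coe]
  · intro t ht ht1 t' ht' ht'1
    obtain ⟨k, hk⟩ := hn ⟨t, ht, ht1⟩ ⟨t', ht', ht'1⟩
    refine ⟨k, ?_⟩
    have := congrArg (fun a : ↥(kleinSet T) => (a : G)) hk
    simp only [kleinHom_apply, Subgroup.coe_pow] at this
    exact this

theorem klein_two_dvd (s₀ : G) (hs₀N : s₀ ∈ Subgroup.normalizer (T : Set G))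
    (hs₀C : s₀ ∉ Subgroup.centralizer (T : Set G)) (k : ℕ) (hk : s₀ ^ 2 ^ k = 1) :
    2 ∣ (Subgroup.centralizer (T : Set G)).relIndex (Subgroup.normalizer (T : Set G)) := by
  have := two_dvd_index_ker (kleinHom T) ⟨s₀, hs₀N⟩ k (by
    apply Subtype.ext
    simpa using hk) (by
    rw [kleinHom_ker, Subgroup.mem_subgroupOf]
    exact hs₀C)
  rwa [kleinHom_ker] at this

/-- A subgroup containing all elements of odd order and meeting `T` nontrivially contains `T`,
when `|N(T) : C(T)| = 6`. -/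
theorem klein_le_of_odd_closed [Finite G] [IsKleinFour T]
    (h6 : (Subgroup.centralizer (T : Set G)).relIndex (Subgroup.normalizer (T : Set G)) = 6)
    (L : Subgroup G) (hL : ∀ n : G, Odd (orderOf n) → n ∈ L) (c : G) (hcT : c ∈ T) (hcL : c ∈ L)
    (hc1 : c ≠ 1) : T ≤ L := by
  obtain ⟨n, _, hodd, hn⟩ := klein_exists_odd T h6
  have hnL : n ∈ L := hL n hodd
  intro t ht
  by_cases ht1 : t = 1
  · rw [ht1]; exact L.one_mem
  · obtain ⟨k, hk⟩ := hn c hcT hc1 t ht ht1
    rw [← hk]
    exact L.mul_mem (L.mul_mem (L.pow_mem hnL k) hcL) (L.inv_mem (L.pow_mem hnL k))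

end klein

section quat

variable {G : Type*} [Group G]

/-- Generators and relations data for a quaternion subgroup of order 8. -/
structure Q8Data (Q : Subgroup G) (a b : G) : Prop where
  ha : a ∈ Q
  hb : b ∈ Q
  card8 : Nat.card Q = 8
  a4 : a ^ 4 = 1
  a2 : a ^ 2 ≠ 1
  b2 : b ^ 2 = a ^ 2
  bab : b * a * b⁻¹ = a⁻¹
  elems : ∀ g ∈ Q, g = 1 ∨ g = a ∨ g = a ^ 2 ∨ g = a ^ 3 ∨ g = b ∨ g = a * b ∨ g = a ^ 2 * b ∨
    g = a ^ 3 * b

theorem exists_q8Data (Q : Subgroup G) (eQ : Q ≃* QuaternionGroup 2) :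
    ∃ a b : G, Q8Data Q a b := by
  obtain ⟨A, hA⟩ : ∃ A : Q, A = eQ.symm (QuaternionGroup.a 1) := ⟨_, rfl⟩
  obtain ⟨B, hB⟩ : ∃ B : Q, B = eQ.symm (QuaternionGroup.xa 0) := ⟨_, rfl⟩
  refine ⟨(A : G), (B : G), ?_⟩
  have key : ∀ {g h : QuaternionGroup 2}, g = h → (eQ.symm g : Q) = (eQ.symm h : Q) :=
    fun e => by rw [e]
  refine ⟨A.2, B.2, ?_, ?_, ?_, ?_, ?_, ?_⟩
  · rw [Nat.card_congr eQ.toEquiv, Nat.card_eq_fintype_card, QuaternionGroup.card]
  · have := key (show (QuaternionGroup.a 1 : QuaternionGroup 2) ^ 4 = 1 by decide)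
    simp only [map_pow, map_one] at this
    rw [← hA] at this
    have := congrArg Subtype.val this
    simpa only [Subgroup.coe_pow, Subgroup.coe_one] using this
  · intro h
    have h1 : A ^ 2 = 1 := by
      apply Subtype.ext
      simpa only [Subgroup.coe_pow, Subgroup.coe_one] using h
    rw [hA, ← map_pow, ← map_one eQ.symm] at h1
    have := eQ.symm.injective h1
    revert this
    decide
  · have := key (show (QuaternionGroup.xa 0 : QuaternionGroup 2) ^ 2 = (QuaternionGroup.a 1) ^ 2 by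
      decide)
    simp only [map_pow] at this
    rw [← hA, ← hB] at this
    have := congrArg Subtype.val this
    simpa only [Subgroup.coe_pow] using this
  · have := key (show (QuaternionGroup.xa 0 : QuaternionGroup 2) * QuaternionGroup.a 1 *
      (QuaternionGroup.xa 0)⁻¹ = (QuaternionGroup.a 1)⁻¹ by decide)
    simp only [map_mul, map_inv] at this
    rw [← hA, ← hB] at this
    have := congrArg Subtype.val this
    simpa only [Subgroup.coe_mul, Subgroup.coe_inv] using this
  · intro g hg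
    have hall : ∀ g : QuaternionGroup 2, g = 1 ∨ g = QuaternionGroup.a 1 ∨
        g = (QuaternionGroup.a 1) ^ 2 ∨ g = (QuaternionGroup.a 1) ^ 3 ∨ g = QuaternionGroup.xa 0 ∨
        g = QuaternionGroup.a 1 * QuaternionGroup.xa 0 ∨
        g = (QuaternionGroup.a 1) ^ 2 * QuaternionGroup.xa 0 ∨
        g = (QuaternionGroup.a 1) ^ 3 * QuaternionGroup.xa 0 := by decide
    have hg' : (⟨g, hg⟩ : Q) = eQ.symm (eQ ⟨g, hg⟩) := by
      rw [MulEquiv.symm_apply_apply]
    have conv : ∀ {c : Q}, (⟨g, hg⟩ : Q) = c → g = (c : G) := fun e => congrArg Subtype.val e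
    rcases hall (eQ ⟨g, hg⟩) with h | h | h | h | h | h | h | h <;> rw [h] at hg' <;>
      (try simp only [map_pow, map_mul, map_one] at hg') <;> (try rw [← hA] at hg') <;>
      (try rw [← hB] at hg')
    · left; simpa only [Subgroup.coe_one] using conv hg'
    · right; left; exact conv hg'
    · right; right; left; simpa only [Subgroup.coe_pow] using conv hg'
    · right; right; right; left; simpa only [Subgroup.coe_pow] using conv hg'
    · right; right; right; right; left; exact conv hg'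
    · right; right; right; right; right; left
      simpa only [Subgroup.coe_mul] using conv hg'
    · right; right; right; right; right; right; left
      simpa only [Subgroup.coe_mul, Subgroup.coe_pow] using conv hg'
    · right; right; right; right; right; right; right
      simpa only [Subgroup.coe_mul, Subgroup.coe_pow] using conv hg'

namespace Q8Data

variable {Q : Subgroup G} {a b : G}

theorem ba (h : Q8Data Q a b) : b * a = a⁻¹ * b := by
  have := h.bab
  calc b * a = (b * a * b⁻¹) * b := by group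
    _ = a⁻¹ * b := by rw [this]

theorem orderOf_a (h : Q8Data Q a b) : orderOf a = 4 := by
  have h1 : ¬ a ^ 2 ^ 1 = 1 := by simpa using h.a2
  have h2 : a ^ 2 ^ (1 + 1) = 1 := by simpa using h.a4
  simpa using orderOf_eq_prime_pow h1 h2

theorem b4 (h : Q8Data Q a b) : b ^ 4 = 1 := by
  have : b ^ 4 = (b ^ 2) ^ 2 := by rw [← pow_mul]
  rw [this, h.b2, ← pow_mul]
  exact h.a4

theorem orderOf_b (h : Q8Data Q a b) : orderOf b = 4 := by
  have h1 : ¬ b ^ 2 ^ 1 = 1 := by
    simp only [pow_one]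
    rw [h.b2]
    exact h.a2
  have h2 : b ^ 2 ^ (1 + 1) = 1 := by simpa using h.b4
  simpa using orderOf_eq_prime_pow h1 h2

theorem ab_sq (h : Q8Data Q a b) : (a * b) ^ 2 = a ^ 2 := by
  have : (a * b) ^ 2 = a * (b * a) * b := by rw [pow_two]; group
  rw [this, h.ba, ← h.b2, pow_two]
  group

theorem orderOf_ab (h : Q8Data Q a b) : orderOf (a * b) = 4 := by
  have h1 : ¬ (a * b) ^ 2 ^ 1 = 1 := by
    simp only [pow_one]
    rw [h.ab_sq]
    exact h.a2
  have h2 : (a * b) ^ 2 ^ (1 + 1) = 1 := by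
    have : (a * b) ^ 2 ^ (1 + 1) = ((a * b) ^ 2) ^ 2 := by rw [← pow_mul]; rfl
    rw [this, h.ab_sq, ← pow_mul]
    exact h.a4
  simpa using orderOf_eq_prime_pow h1 h2

theorem a_inv_ne (h : Q8Data Q a b) : a⁻¹ ≠ a := by
  intro e
  apply h.a2
  rw [pow_two]
  nth_rewrite 1 [← e]
  group

theorem not_comm (h : Q8Data Q a b) : b * a ≠ a * b := by
  intro e
  have := h.bab
  rw [e] at this
  apply h.a_inv_ne
  rw [← this]
  group

theorem b_notMem (h : Q8Data Q a b) : b ∉ Subgroup.zpowers a := by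
  intro hb
  obtain ⟨k, hk⟩ := Subgroup.mem_zpowers_iff.mp hb
  apply h.not_comm
  rw [← hk]
  group

theorem ab_notMem_a (h : Q8Data Q a b) : a * b ∉ Subgroup.zpowers a := by
  intro hab
  apply h.b_notMem
  have : b = a⁻¹ * (a * b) := by group
  rw [this]
  exact Subgroup.mul_mem _ (Subgroup.inv_mem _ (Subgroup.mem_zpowers a)) hab

theorem ab_notMem_b (h : Q8Data Q a b) : a * b ∉ Subgroup.zpowers b := by
  intro hab
  have ha : a ∈ Subgroup.zpowers b := by
    have : a = (a * b) * b⁻¹ := by group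
    rw [this]
    exact Subgroup.mul_mem _ hab (Subgroup.inv_mem _ (Subgroup.mem_zpowers b))
  obtain ⟨k, hk⟩ := Subgroup.mem_zpowers_iff.mp ha
  apply h.not_comm
  rw [← hk]
  group

theorem a3 (h : Q8Data Q a b) : a ^ 3 = a⁻¹ := by
  have : a ^ 3 * a = 1 := by rw [← pow_succ]; exact h.a4
  exact eq_inv_of_mul_eq_one_left this

/-- The subgroups of order 4 of `Q`. -/
def subs (Q : Subgroup G) : Set (Subgroup G) := {H | H ≤ Q ∧ Nat.card H = 4}

theorem zpowers_mem_subs (c : G) (hc : c ∈ Q) (hc4 : orderOf c = 4) :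
    Subgroup.zpowers c ∈ subs Q :=
  ⟨by rwa [Subgroup.zpowers_le], by rw [Nat.card_zpowers, hc4]⟩

theorem eq_zpowers_of_mem {H : Subgroup G} (hH : Nat.card H = 4) (c : G) (hc : c ∈ H)
    (hc4 : orderOf c = 4) : H = Subgroup.zpowers c := by
  have : Finite H := Nat.finite_of_card_ne_zero (by rw [hH]; decide)
  symm
  apply Subgroup.eq_of_le_of_card_ge
  · rwa [Subgroup.zpowers_le]
  · rw [Nat.card_zpowers, hc4, hH]

theorem subs_eq (h : Q8Data Q a b) :
    subs Q = {Subgroup.zpowers a, Subgroup.zpowers b, Subgroup.zpowers (a * b)} := by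
  ext H
  simp only [Set.mem_insert_iff, Set.mem_singleton_iff]
  constructor
  · rintro ⟨hHQ, hH4⟩
    have : Finite H := Nat.finite_of_card_ne_zero (by rw [hH4]; decide)
    -- an element outside {1, a^2}
    have hex : ∃ g ∈ H, g ≠ 1 ∧ g ≠ a ^ 2 := by
      by_contra hno
      push Not at hno
      have hsub : (H : Set G) ⊆ {1, a ^ 2} := by
        intro g hg
        by_cases h1 : g = 1
        · left; exact h1
        · right; exact hno g hg h1
      have hle := Set.ncard_le_ncard hsub (Set.toFinite _)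
      have h2 : ({1, a ^ 2} : Set G).ncard ≤ 2 := Set.ncard_insert_le _ _ |>.trans (by simp)
      have h4 : (H : Set G).ncard = 4 := by
        rw [← Nat.card_coe_set_eq]
        exact hH4
      omega
    obtain ⟨g, hgH, hg1, hg2⟩ := hex
    rcases h.elems g (hHQ hgH) with e | e | e | e | e | e | e | e
    · exact absurd e hg1
    · left
      exact eq_zpowers_of_mem hH4 a (e ▸ hgH) h.orderOf_a
    · exact absurd e hg2
    · left
      have : a ∈ H := by
        have h3 : a = (a ^ 3)⁻¹ := by rw [h.a3, inv_inv]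
        rw [h3]
        exact H.inv_mem (e ▸ hgH)
      exact eq_zpowers_of_mem hH4 a this h.orderOf_a
    · right; left
      exact eq_zpowers_of_mem hH4 b (e ▸ hgH) h.orderOf_b
    · right; right
      exact eq_zpowers_of_mem hH4 (a * b) (e ▸ hgH) h.orderOf_ab
    · right; left
      have : b ∈ H := by
        have h3 : b = (a ^ 2 * b)⁻¹ := by
          rw [← h.b2, ← pow_succ]
          have : b ^ (2 + 1) * b = 1 := by rw [← pow_succ]; exact h.b4
          rw [eq_inv_of_mul_eq_one_left this, inv_inv]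
        rw [h3]
        exact H.inv_mem (e ▸ hgH)
      exact eq_zpowers_of_mem hH4 b this h.orderOf_b
    · right; right
      have : a * b ∈ H := by
        have h3 : a * b = (a ^ 3 * b)⁻¹ := by
          have e1 : a ^ 3 * b = (a * b) ^ 3 := by
            rw [pow_succ (a * b) 2, h.ab_sq]
            rw [pow_succ a 2]
            group
          have : (a * b) ^ 3 * (a * b) = 1 := by
            rw [← pow_succ]
            have : (a * b) ^ (3 + 1) = ((a * b) ^ 2) ^ 2 := by rw [← pow_mul]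
            rw [this, h.ab_sq, ← pow_mul]
            exact h.a4
          rw [e1, eq_inv_of_mul_eq_one_left this, inv_inv]
        rw [h3]
        exact H.inv_mem (e ▸ hgH)
      exact eq_zpowers_of_mem hH4 (a * b) this h.orderOf_ab
  · rintro (e | e | e)
    · rw [e]; exact zpowers_mem_subs a h.ha h.orderOf_a
    · rw [e]; exact zpowers_mem_subs b h.hb h.orderOf_b
    · rw [e]; exact zpowers_mem_subs (a * b) (Q.mul_mem h.ha h.hb) h.orderOf_ab

theorem zpowers_a_ne_b (h : Q8Data Q a b) : Subgroup.zpowers a ≠ Subgroup.zpowers b := by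
  intro e
  apply h.b_notMem
  rw [e]
  exact Subgroup.mem_zpowers b

theorem zpowers_a_ne_ab (h : Q8Data Q a b) : Subgroup.zpowers a ≠ Subgroup.zpowers (a * b) := by
  intro e
  apply h.ab_notMem_a
  rw [e]
  exact Subgroup.mem_zpowers _

theorem zpowers_b_ne_ab (h : Q8Data Q a b) : Subgroup.zpowers b ≠ Subgroup.zpowers (a * b) := by
  intro e
  apply h.ab_notMem_b
  rw [e]
  exact Subgroup.mem_zpowers _

theorem card_subs (h : Q8Data Q a b) : Nat.card ↥(subs Q) = 3 := by
  rw [Nat.card_coe_set_eq, Set.ncard_eq_three]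
  exact ⟨_, _, _, h.zpowers_a_ne_b, h.zpowers_a_ne_ab, h.zpowers_b_ne_ab, h.subs_eq⟩

theorem map_conj_eq {Q : Subgroup G} {n : G} (hn : n ∈ Subgroup.normalizer (Q : Set G)) :
    Q.map (MulAut.conj n).toMonoidHom = Q := by
  ext g
  rw [Subgroup.mem_map]
  constructor
  · rintro ⟨q, hq, rfl⟩
    exact (Subgroup.mem_normalizer_iff.mp hn q).mp hq
  · intro hg
    refine ⟨n⁻¹ * g * n, ?_, ?_⟩
    · have := (Subgroup.mem_normalizer_iff.mp (Subgroup.inv_mem _ hn) g).mp hg
      simpa using this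
    · simp only [MulEquiv.coe_toMonoidHom, MulAut.conj_apply]
      group

theorem subs_stable (Q : Subgroup G) : ∀ n ∈ Subgroup.normalizer (Q : Set G), ∀ H ∈ subs Q,
    H.map (MulAut.conj n).toMonoidHom ∈ subs Q := by
  intro n hn H hH
  refine ⟨?_, ?_⟩
  · calc H.map (MulAut.conj n).toMonoidHom ≤ Q.map (MulAut.conj n).toMonoidHom :=
        Subgroup.map_mono hH.1
      _ = Q := map_conj_eq hn
  · rw [Subgroup.card_map_of_injective (MulAut.conj n).injective]
    exact hH.2

/-- The action of `N_G(Q)` on the three subgroups of order 4 of `Q`. -/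
def quatHom (Q : Subgroup G) : ↥(Subgroup.normalizer (Q : Set G)) →* Equiv.Perm ↥(subs Q) :=
  conjPermSub _ _ (subs_stable Q)

theorem quatHom_apply (Q : Subgroup G) (n : ↥(Subgroup.normalizer (Q : Set G))) (H : ↥(subs Q)) :
    ((quatHom Q n H : ↥(subs Q)) : Subgroup G) =
      (H : Subgroup G).map (MulAut.conj (n : G)).toMonoidHom := rfl

theorem order_four_cases {c g : G} (h4 : orderOf c = 4) (hg : g ∈ Subgroup.zpowers c)
    (hg4 : orderOf g = 4) : g = c ∨ g = c⁻¹ := by
  obtain ⟨k, rfl⟩ := Subgroup.mem_zpowers_iff.mp hg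
  have hmod := zpow_mod_orderOf c k
  rw [h4] at hmod
  have h0 : 0 ≤ k % 4 := Int.emod_nonneg _ (by norm_num)
  have h1 : k % 4 < 4 := Int.emod_lt_of_pos _ (by norm_num)
  have hc4 : c ^ 4 = 1 := by rw [← h4]; exact pow_orderOf_eq_one c
  obtain ⟨j, hj⟩ : ∃ j : ℕ, k % 4 = j := ⟨(k % 4).toNat, (Int.toNat_of_nonneg h0).symm⟩
  have hmod' : c ^ (k % 4) = c ^ k := hmod
  rw [hj, zpow_natCast] at hmod'
  clear hmod
  have hmod := hmod'
  have hj4 : j < 4 := by omega
  rw [← hmod] at hg4 ⊢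
  interval_cases j
  · rw [pow_zero, orderOf_one] at hg4
    omega
  · left; rw [pow_one]
  · have : orderOf (c ^ 2) ∣ 2 := orderOf_dvd_of_pow_eq_one (by rw [← pow_mul]; exact hc4)
    rw [hg4] at this
    omega
  · right
    have : c ^ 3 * c = 1 := by rw [← pow_succ]; exact hc4
    exact eq_inv_of_mul_eq_one_left this

theorem aba (h : Q8Data Q a b) : a * b * a⁻¹ = b⁻¹ := by
  have h1 : b * a⁻¹ = a * b := by
    calc b * a⁻¹ = (b * a * b⁻¹)⁻¹ * b := by group
      _ = a * b := by rw [h.bab, inv_inv]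
  have h2 : b ^ 3 * b = 1 := by rw [← pow_succ]; exact h.b4
  calc a * b * a⁻¹ = a * (b * a⁻¹) := by group
    _ = a ^ 2 * b := by rw [h1, pow_two]; group
    _ = b ^ 3 := by rw [← h.b2, ← pow_succ]
    _ = b⁻¹ := eq_inv_of_mul_eq_one_left h2

theorem exists_inner (h : Q8Data Q a b) {a' b' : G} (ha' : a' = a ∨ a' = a⁻¹)
    (hb' : b' = b ∨ b' = b⁻¹) : ∃ q ∈ Q, q * a * q⁻¹ = a' ∧ q * b * q⁻¹ = b' := by
  rcases ha' with ha' | ha' <;> rcases hb' with hb' | hb' <;> rw [ha', hb']
  · exact ⟨1, Q.one_mem, by simp, by simp⟩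
  · exact ⟨a, h.ha, by simp, h.aba⟩
  · exact ⟨b, h.hb, h.bab, by simp⟩
  · refine ⟨a * b, Q.mul_mem h.ha h.hb, ?_, ?_⟩
    · calc a * b * a * (a * b)⁻¹ = a * (b * a * b⁻¹) * a⁻¹ := by group
        _ = a⁻¹ := by rw [h.bab]; group
    · calc a * b * b * (a * b)⁻¹ = a * b * a⁻¹ := by group
        _ = b⁻¹ := h.aba

theorem mem_centralizer_of_comm (h : Q8Data Q a b) {m : G} (hma : m * a = a * m)
    (hmb : m * b = b * m) : m ∈ Subgroup.centralizer (Q : Set G) := by
  rw [Subgroup.mem_centralizer_iff]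
  have ca : Commute a m := hma.symm
  have cb : Commute b m := hmb.symm
  intro g hg
  have : Commute g m := by
    rcases h.elems g hg with e | e | e | e | e | e | e | e <;> rw [e]
    · exact Commute.one_left m
    · exact ca
    · exact ca.pow_left 2
    · exact ca.pow_left 3
    · exact cb
    · exact ca.mul_left cb
    · exact (ca.pow_left 2).mul_left cb
    · exact (ca.pow_left 3).mul_left cb
  exact this

theorem normal_of_mem_subs (h : Q8Data Q a b) {H : Subgroup G} (hH : H ∈ subs Q) {q : G}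
    (hq : q ∈ Q) : H.map (MulAut.conj q).toMonoidHom = H := by
  have hidx : (H.subgroupOf Q).index = 2 := by
    have h1 := Subgroup.card_mul_index (H.subgroupOf Q)
    rw [Nat.card_congr (Subgroup.subgroupOfEquivOfLe hH.1).toEquiv, hH.2, h.card8] at h1
    omega
  have hnorm : (H.subgroupOf Q).Normal := Subgroup.normal_of_index_eq_two hidx
  have key : ∀ q ∈ Q, ∀ g ∈ H, q * g * q⁻¹ ∈ H := by
    intro q hq g hg
    have := hnorm.conj_mem ⟨g, hH.1 hg⟩ (by rw [Subgroup.mem_subgroupOf]; exact hg) ⟨q, hq⟩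
    rw [Subgroup.mem_subgroupOf] at this
    exact this
  ext g
  rw [Subgroup.mem_map]
  constructor
  · rintro ⟨g', hg', rfl⟩
    exact key q hq g' hg'
  · intro hg
    refine ⟨q⁻¹ * g * q, ?_, ?_⟩
    · have := key q⁻¹ (Q.inv_mem hq) g hg
      simpa using this
    · simp only [MulEquiv.coe_toMonoidHom, MulAut.conj_apply]
      group

theorem quatHom_ker (h : Q8Data Q a b) : (quatHom Q).ker =
    (Q ⊔ Subgroup.centralizer (Q : Set G)).subgroupOf (Subgroup.normalizer (Q : Set G)) := by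
  apply le_antisymm
  · intro n hn
    rw [quatHom, mem_ker_conjPermSub] at hn
    rw [Subgroup.mem_subgroupOf]
    have hA := hn _ (zpowers_mem_subs a h.ha h.orderOf_a)
    have hB := hn _ (zpowers_mem_subs b h.hb h.orderOf_b)
    have hna : (n : G) * a * (n : G)⁻¹ ∈ Subgroup.zpowers a := by
      rw [← hA]
      exact Subgroup.mem_map.mpr ⟨a, Subgroup.mem_zpowers a, rfl⟩
    have hnb : (n : G) * b * (n : G)⁻¹ ∈ Subgroup.zpowers b := by
      rw [← hB]
      exact Subgroup.mem_map.mpr ⟨b, Subgroup.mem_zpowers b, rfl⟩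
    have hoa : orderOf ((n : G) * a * (n : G)⁻¹) = 4 := by
      rw [← h.orderOf_a]
      exact MulEquiv.orderOf_eq (MulAut.conj (n : G)) a
    have hob : orderOf ((n : G) * b * (n : G)⁻¹) = 4 := by
      rw [← h.orderOf_b]
      exact MulEquiv.orderOf_eq (MulAut.conj (n : G)) b
    obtain ⟨q, hq, hqa, hqb⟩ := h.exists_inner (order_four_cases h.orderOf_a hna hoa)
      (order_four_cases h.orderOf_b hnb hob)
    have hm : q⁻¹ * (n : G) ∈ Subgroup.centralizer (Q : Set G) := by
      apply h.mem_centralizer_of_comm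
      · have : (n : G) * a = q * a * q⁻¹ * n := by rw [hqa]; group
        calc q⁻¹ * (n : G) * a = q⁻¹ * ((n : G) * a) := by group
          _ = a * (q⁻¹ * n) := by rw [this]; group
      · have : (n : G) * b = q * b * q⁻¹ * n := by rw [hqb]; group
        calc q⁻¹ * (n : G) * b = q⁻¹ * ((n : G) * b) := by group
          _ = b * (q⁻¹ * n) := by rw [this]; group
    have : (n : G) = q * (q⁻¹ * n) := by group
    rw [this]
    exact Subgroup.mul_mem_sup hq hm
  · rw [Subgroup.subgroupOf_sup Subgroup.le_normalizer (Subgroup.centralizer_le_normalizer _)]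
    apply sup_le
    · intro n hn
      rw [Subgroup.mem_subgroupOf] at hn
      rw [quatHom, mem_ker_conjPermSub]
      intro H hH
      exact h.normal_of_mem_subs hH hn
    · intro n hn
      rw [Subgroup.mem_subgroupOf, Subgroup.mem_centralizer_iff] at hn
      rw [quatHom, mem_ker_conjPermSub]
      intro H hH
      ext g
      rw [Subgroup.mem_map]
      constructor
      · rintro ⟨g', hg', rfl⟩
        have := hn g' (hH.1 hg')
        simp only [MulEquiv.coe_toMonoidHom, MulAut.conj_apply]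
        rw [← this]
        simpa using hg'
      · intro hg
        refine ⟨g, hg, ?_⟩
        have := hn g (hH.1 hg)
        simp only [MulEquiv.coe_toMonoidHom, MulAut.conj_apply]
        rw [← this]
        group

theorem relIndex_dvd_six (h : Q8Data Q a b) :
    (Q ⊔ Subgroup.centralizer (Q : Set G)).relIndex (Subgroup.normalizer (Q : Set G)) ∣ 6 := by
  have : Finite ↥(subs Q) := Nat.finite_of_card_ne_zero (by rw [h.card_subs]; decide)
  have := index_ker_dvd_six (quatHom Q) h.card_subs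
  rwa [h.quatHom_ker] at this

theorem three_dvd (h : Q8Data Q a b) (H : Subgroup G) (hH : H ∈ subs Q)
    (htr : ∀ H' ∈ subs Q, ∃ n ∈ Subgroup.normalizer (Q : Set G),
      H.map (MulAut.conj n).toMonoidHom = H') :
    3 ∣ (Q ⊔ Subgroup.centralizer (Q : Set G)).relIndex (Subgroup.normalizer (Q : Set G)) := by
  have : Finite ↥(subs Q) := Nat.finite_of_card_ne_zero (by rw [h.card_subs]; decide)
  have := three_dvd_index_ker (quatHom Q) h.card_subs ⟨H, hH⟩ (by
    rintro ⟨H', hH'⟩
    obtain ⟨n, hn, hnH⟩ := htr H' hH'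
    refine ⟨⟨n, hn⟩, ?_⟩
    apply Subtype.ext
    rw [quatHom_apply]
    exact hnH)
  rwa [h.quatHom_ker] at this

theorem two_dvd (h : Q8Data Q a b) (s₀ : G) (hs₀N : s₀ ∈ Subgroup.normalizer (Q : Set G))
    (hs₀M : s₀ ∉ Q ⊔ Subgroup.centralizer (Q : Set G)) (k : ℕ) (hk : s₀ ^ 2 ^ k = 1) :
    2 ∣ (Q ⊔ Subgroup.centralizer (Q : Set G)).relIndex (Subgroup.normalizer (Q : Set G)) := by
  have := two_dvd_index_ker (quatHom Q) ⟨s₀, hs₀N⟩ k (by
    apply Subtype.ext
    simpa using hk) (by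
    rw [h.quatHom_ker, Subgroup.mem_subgroupOf]
    exact hs₀M)
  rwa [h.quatHom_ker] at this

theorem exists_odd [Finite G] (h : Q8Data Q a b)
    (h6 : (Q ⊔ Subgroup.centralizer (Q : Set G)).relIndex (Subgroup.normalizer (Q : Set G)) = 6) :
    ∃ n ∈ Subgroup.normalizer (Q : Set G), Odd (orderOf n) ∧
      ∀ H ∈ subs Q, ∀ H' ∈ subs Q, ∃ k : ℕ, H.map (MulAut.conj (n ^ k)).toMonoidHom = H' := by
  have : Finite ↥(subs Q) := Nat.finite_of_card_ne_zero (by rw [h.card_subs]; decide)
  have h6' : (quatHom Q).ker.index = 6 := by rw [h.quatHom_ker]; exact h6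
  obtain ⟨n, hodd, hn⟩ := exists_odd_transitive (quatHom Q) h.card_subs h6'
  refine ⟨n, n.2, ?_, ?_⟩
  · rwa [Subgroup.orderOf_coe]
  · intro H hH H' hH'
    obtain ⟨k, hk⟩ := hn ⟨H, hH⟩ ⟨H', hH'⟩
    refine ⟨k, ?_⟩
    have := congrArg (fun a : ↥(subs Q) => (a : Subgroup G)) hk
    simp only [quatHom_apply, Subgroup.coe_pow] at this
    exact this

theorem le_of_mem (h : Q8Data Q a b) (L : Subgroup G) (ha : a ∈ L) (hb : b ∈ L) : Q ≤ L := by
  intro g hg
  rcases h.elems g hg with e | e | e | e | e | e | e | e <;> rw [e]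
  · exact L.one_mem
  · exact ha
  · exact L.pow_mem ha 2
  · exact L.pow_mem ha 3
  · exact hb
  · exact L.mul_mem ha hb
  · exact L.mul_mem (L.pow_mem ha 2) hb
  · exact L.mul_mem (L.pow_mem ha 3) hb

/-- A subgroup containing all elements of odd order and an element of order four of `Q` contains
`Q`, when `|N(Q) : Q C(Q)| = 6`. -/
theorem le_of_odd_closed [Finite G] (h : Q8Data Q a b)
    (h6 : (Q ⊔ Subgroup.centralizer (Q : Set G)).relIndex (Subgroup.normalizer (Q : Set G)) = 6)
    (L : Subgroup G) (hL : ∀ n : G, Odd (orderOf n) → n ∈ L) (c : G) (hcQ : c ∈ Q) (hcL : c ∈ L)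
    (hc4 : orderOf c = 4) : Q ≤ L := by
  obtain ⟨n, _, hodd, hn⟩ := h.exists_odd h6
  have hnL : n ∈ L := hL n hodd
  have hcsubs : Subgroup.zpowers c ∈ subs Q := zpowers_mem_subs c hcQ hc4
  have key : ∀ H' ∈ subs Q, H' ≤ L := by
    intro H' hH'
    obtain ⟨k, hk⟩ := hn _ hcsubs H' hH'
    rw [← hk, MonoidHom.map_zpowers, Subgroup.zpowers_le]
    simp only [MulEquiv.coe_toMonoidHom, MulAut.conj_apply]
    exact L.mul_mem (L.mul_mem (L.pow_mem hnL k) hcL) (L.inv_mem (L.pow_mem hnL k))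
  apply h.le_of_mem L
  · exact key _ (zpowers_mem_subs a h.ha h.orderOf_a) (Subgroup.mem_zpowers a)
  · exact key _ (zpowers_mem_subs b h.hb h.orderOf_b) (Subgroup.mem_zpowers b)

end Q8Data

end quat

end Cfsg.Agent.Lib.Helper23.ThreePoint
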