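import Mathlib
import Cfsg.Agent.Lib.Helper12.QD
import Cfsg.Agent.Lib.Helper23.ThreePoint
import Cfsg.Agent.Lib.Helper23.FusionTools
import Cfsg.Agent.S1189
import Cfsg.Agent.S1190
import Cfsg.Agent.S1191
import Cfsg.Agent.S0111

/-!
Fusion in groups with quasi-dihedral Sylow 2-subgroups (helper23), after
Alperin–Brauer–Gorenstein.
-/

set_option autoImplicit false

namespace Cfsg.Agent.Lib.Helper23.QDFusion

open Cfsg.Agent.Lib.Helper12.QD Cfsg.Agent.Lib.Helper23.ThreePoint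
  Cfsg.Agent.Lib.Helper23.FusionTools

section inS

variable {R : Type*} [Group R] (D : Data R)

theorem neg_q : -D.q = D.q + D.h := by
  have h1 := D.two_q
  have h2 := D.two_h
  linear_combination -h1 - h2

theorem orderOf_pxy_odd {i : ZMod (2 ^ D.n)} (hi : D.par i = 1) : orderOf (D.px i * D.y) = 4 := by
  have h1 : ¬ (D.px i * D.y) ^ 2 ^ 1 = 1 := by
    rw [pow_one, pow_two, D.pxy_sq, D.px_eq_one_iff, D.h_mul_odd hi]
    exact D.h_ne_zero
  have h2 : (D.px i * D.y) ^ 2 ^ (1 + 1) = 1 := by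
    have e : (D.px i * D.y) ^ 2 = D.px D.h := by rw [pow_two, D.pxy_sq, D.h_mul_odd hi]
    have : (2 : ℕ) ^ (1 + 1) = 2 * 2 := by norm_num
    rw [this, pow_mul, e, pow_two, D.px_sq, D.px_eq_one_iff]
    exact D.two_h
  have := orderOf_eq_prime_pow h1 h2
  simpa using this

theorem pxy_odd_sq {i : ZMod (2 ^ D.n)} (hi : D.par i = 1) :
    (D.px i * D.y) ^ 2 = D.z := by
  rw [pow_two, D.pxy_sq, D.h_mul_odd hi]
  rfl

theorem px_q_sq : (D.px D.q) ^ 2 = D.z := by
  rw [pow_two, D.px_sq, D.two_q]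
  rfl

theorem pxy_ne_one (i : ZMod (2 ^ D.n)) : D.px i * D.y ≠ 1 := by
  intro h
  have := D.px_ne_px_mul_y 0 i
  rw [D.px_zero] at this
  exact this h.symm

theorem orderOf_pxy_even {i : ZMod (2 ^ D.n)} (hi : D.par i = 0) : orderOf (D.px i * D.y) = 2 := by
  apply orderOf_eq_prime
  · rw [pow_two, D.pxy_sq, D.h_mul_even hi, D.px_zero]
  · exact pxy_ne_one D i

/-- the elements of order four -/
theorem order_four_elts (t : R) (ht : orderOf t = 4) :
    t = D.px D.q ∨ t = D.px (-D.q) ∨ ∃ i, D.par i = 1 ∧ t = D.px i * D.y := by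
  have ht4 : (t * t) * (t * t) = 1 := by
    have := pow_orderOf_eq_one t
    rw [ht] at this
    rw [← this, show (4 : ℕ) = 2 * 2 from rfl, pow_mul, pow_two, pow_two]
  have ht2 : t * t ≠ 1 := by
    intro h
    have : orderOf t ∣ 2 := orderOf_dvd_of_pow_eq_one (by rw [pow_two]; exact h)
    rw [ht] at this
    omega
  obtain ⟨i, rfl | rfl⟩ := D.normal_form t
  · rw [D.px_sq, D.px_sq, D.px_eq_one_iff, D.two_mul_eq_zero_iff] at ht4
    rw [D.px_sq, Ne, D.px_eq_one_iff] at ht2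
    rcases ht4 with h | h
    · exact absurd h ht2
    · have h3 : 2 * (i - D.q) = 0 := by
        have := D.two_q
        linear_combination h - this
      rw [D.two_mul_eq_zero_iff] at h3
      rcases h3 with h3 | h3
      · left
        have : i = D.q := by linear_combination h3
        rw [this]
      · right; left
        have hi : i = D.q + D.h := by linear_combination h3
        rw [hi, neg_q]
  · right; right
    rw [D.pxy_sq, Ne, D.px_eq_one_iff] at ht2
    refine ⟨i, ?_, rfl⟩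
    rcases Data.zmod2_cases (D.par i) with h | h
    · exact absurd (D.h_mul_even h) ht2
    · exact h

/-- conjugates of `x^q` -/
theorem conj_px_q (s : R) : s * D.px D.q * s⁻¹ = D.px D.q ∨ s * D.px D.q * s⁻¹ = D.px (-D.q) := by
  obtain ⟨k, rfl | rfl⟩ := D.normal_form s
  · left
    rw [← D.px_neg, ← D.px_add, ← D.px_add]
    congr 1
    ring
  · right
    have : D.px k * D.y * D.px D.q * (D.px k * D.y)⁻¹ =
        D.px k * (D.y * D.px D.q * D.y⁻¹) * (D.px k)⁻¹ := by group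
    rw [this, D.conj_px, ← D.px_neg, ← D.px_add, ← D.px_add]
    congr 1
    unfold Data.r
    have := D.h_q
    linear_combination this

theorem px_neg_q_eq : D.px (-D.q) = (D.px D.q)⁻¹ := D.px_neg _

theorem conj_px_q_of_pxy (k : ZMod (2 ^ D.n)) :
    (D.px k * D.y) * D.px D.q * (D.px k * D.y)⁻¹ = (D.px D.q)⁻¹ := by
  have : D.px k * D.y * D.px D.q * (D.px k * D.y)⁻¹ =
      D.px k * (D.y * D.px D.q * D.y⁻¹) * (D.px k)⁻¹ := by group
  rw [this, D.conj_px, ← D.px_neg, ← D.px_neg, ← D.px_add, ← D.px_add]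
  congr 1
  unfold Data.r
  have := D.h_q
  linear_combination this

theorem px_q_inv_ne : (D.px D.q)⁻¹ ≠ D.px D.q := by
  intro h
  have h1 : D.px D.q * D.px D.q = 1 := by
    nth_rewrite 1 [← h]
    group
  rw [D.px_sq, D.px_eq_one_iff, D.two_q] at h1
  exact D.h_ne_zero h1

theorem inv_pxy_par (i : ZMod (2 ^ D.n)) : D.par (-(D.r * i)) = D.par i := by
  rw [map_neg, map_mul, D.par_r, one_mul]
  rcases Data.zmod2_cases (D.par i) with h | h <;> rw [h] <;> decide

theorem z_ne_y : D.z ≠ D.y := by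
  intro h
  have := D.px_ne_px_mul_y D.h 0
  rw [D.px_zero, one_mul] at this
  exact this h

theorem z_ne_pxy (i : ZMod (2 ^ D.n)) : D.z ≠ D.px i * D.y := D.px_ne_px_mul_y D.h i

theorem z_mem_center (s : R) : s * D.z * s⁻¹ = D.z := by
  rw [D.z_comm s]
  group

/-- The subgroups of index two are `⟨x⟩`, `quat`, `dih`. -/
theorem index_two_cases (M : Subgroup R) (hidx : M.index = 2) :
    M = Subgroup.zpowers D.x ∨ M = D.quat ∨ M = D.dih := by
  have hx2 : D.px 2 ∈ M := by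
    rw [D.px_two]
    exact Subgroup.sq_mem_of_index_two hidx D.x
  have heven : ∀ i, D.par i = 0 → D.px i ∈ M := by
    intro i hi
    obtain ⟨j, rfl⟩ := (D.par_eq_zero_iff i).mp hi
    have : D.px (2 * j) = (D.px 2) ^ j.val := by
      rw [← D.px_nsmul, ZMod.natCast_zmod_val, mul_comm]
    rw [this]
    exact Subgroup.pow_mem _ hx2 _
  by_cases hxM : D.x ∈ M
  · left
    symm
    apply D.eq_of_le_of_index_two _ D.index_zpowers hidx
    rw [Subgroup.zpowers_le]
    exact hxM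
  · right
    by_cases hyM : D.y ∈ M
    · right
      symm
      apply D.eq_of_le_of_index_two _ D.index_dih hidx
      intro s hs
      obtain ⟨i, rfl | rfl⟩ := D.normal_form s
      · exact heven i ((D.px_mem_dih i).mp hs)
      · exact M.mul_mem (heven i ((D.pxy_mem_dih i).mp hs)) hyM
    · left
      symm
      apply D.eq_of_le_of_index_two _ D.index_quat hidx
      have hxy : D.x * D.y ∈ M :=
        (Subgroup.mul_mem_iff_of_index_two hidx).mpr ⟨fun h => absurd h hxM, fun h => absurd h hyM⟩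
      intro s hs
      obtain ⟨i, rfl | rfl⟩ := D.normal_form s
      · exact heven i ((D.px_mem_quat i).mp hs)
      · have hi := (D.pxy_mem_quat i).mp hs
        obtain ⟨j, rfl⟩ := (D.par_eq_one_iff i).mp hi
        have : D.px (2 * j + 1) * D.y = D.px (2 * j) * (D.x * D.y) := by
          rw [D.px_add, D.px_one, mul_assoc]
        rw [this]
        exact M.mul_mem (heven _ (by rw [map_mul, D.par_two, zero_mul])) hxy

theorem y_notMem_quat : D.y ∉ D.quat := by
  intro h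
  have : D.px 0 * D.y ∈ D.quat := by rw [D.px_zero, one_mul]; exact h
  rw [D.pxy_mem_quat, map_zero] at this
  exact zero_ne_one this

theorem pxy_one_notMem_dih : D.px 1 * D.y ∉ D.dih := by
  intro h
  rw [D.pxy_mem_dih, map_one] at h
  exact one_ne_zero h

theorem pxy_notMem_zpowers (i : ZMod (2 ^ D.n)) : D.px i * D.y ∉ Subgroup.zpowers D.x := by
  intro h
  obtain ⟨j, hj⟩ := (D.mem_zpowers_iff _).mp h
  exact D.px_ne_px_mul_y j i hj.symm

theorem px_q_mem_of_index_two (M : Subgroup R) (hidx : M.index = 2) : D.px D.q ∈ M := by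
  rcases index_two_cases D M hidx with h | h | h <;> rw [h]
  · exact (D.mem_zpowers_iff _).mpr ⟨_, rfl⟩
  · exact (D.px_mem_quat _).mpr D.par_q
  · exact (D.px_mem_dih _).mpr D.par_q

theorem par_h' : D.par D.h = 0 := D.par_h

theorem z_mem_of_index_two (M : Subgroup R) (hidx : M.index = 2) : D.z ∈ M := by
  rcases index_two_cases D M hidx with h | h | h <;> rw [h]
  · exact (D.mem_zpowers_iff _).mpr ⟨_, rfl⟩
  · exact (D.px_mem_quat _).mpr D.par_h
  · exact (D.px_mem_dih _).mpr D.par_h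

/-- involutions are `z` or `x^i y` with `i` even -/
theorem invol_elts (t : R) (ht : orderOf t = 2) : t = D.z ∨ ∃ i, D.par i = 0 ∧ t = D.px i * D.y := by
  have ht2 : t * t = 1 := by
    have := pow_orderOf_eq_one t
    rwa [ht, pow_two] at this
  have ht1 : t ≠ 1 := by
    rintro rfl
    rw [orderOf_one] at ht
    omega
  obtain ⟨i, rfl | rfl⟩ := D.normal_form t
  · left
    rw [D.px_sq, D.px_eq_one_iff, D.two_mul_eq_zero_iff] at ht2
    rcases ht2 with rfl | rfl
    · exact absurd D.px_zero ht1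
    · rfl
  · right
    rw [D.pxy_sq, D.px_eq_one_iff] at ht2
    refine ⟨i, ?_, rfl⟩
    rcases Data.zmod2_cases (D.par i) with h | h
    · exact h
    · rw [D.h_mul_odd h] at ht2
      exact absurd ht2 D.h_ne_zero

theorem invol_mem_dih (t : R) (ht : orderOf t = 2) : t ∈ D.dih := by
  rcases invol_elts D t ht with rfl | ⟨i, hi, rfl⟩
  · exact (D.px_mem_dih _).mpr D.par_h
  · exact (D.pxy_mem_dih _).mpr hi

theorem invol_quat (t : R) (ht : orderOf t = 2) (htq : t ∈ D.quat) : t = D.z := by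
  rcases invol_elts D t ht with rfl | ⟨i, hi, rfl⟩
  · rfl
  · rw [D.pxy_mem_quat, hi] at htq
    exact absurd htq zero_ne_one

theorem y_not_central : D.y * D.px 1 ≠ D.px 1 * D.y := by
  intro h
  rw [D.y_mul_px, mul_one] at h
  have h1 := D.px_mul_y_inj h
  unfold Data.r at h1
  have : D.h = 2 := by linear_combination h1
  exact D.h_ne_two this

theorem mem_center_iff (c : R) : c ∈ Subgroup.center R ↔ c = 1 ∨ c = D.z := by
  constructor
  · intro hc
    rw [Subgroup.mem_center_iff] at hc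
    obtain ⟨i, rfl | rfl⟩ := D.normal_form c
    · have h1 := hc D.y
      rw [D.y_mul_px] at h1
      have h2 := D.px_mul_y_inj h1
      unfold Data.r at h2
      rcases Data.zmod2_cases (D.par i) with hp | hp
      · have h3 := D.h_mul_even hp
        have h4 : 2 * i = 0 := by linear_combination h3 - h2
        rcases (D.two_mul_eq_zero_iff i).mp h4 with e | e
        · left; rw [e, D.px_zero]
        · right; rw [e]; rfl
      · exfalso
        have h3 := D.h_mul_odd hp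
        have h4 : 2 * (i - D.q) = 0 := by
          have := D.two_q
          linear_combination h3 - h2 - this
        have hpq : D.par (i - D.q) = 1 := by rw [map_sub, hp, D.par_q, sub_zero]
        rcases (D.two_mul_eq_zero_iff _).mp h4 with e | e
        · rw [e, map_zero] at hpq
          exact zero_ne_one hpq
        · rw [e, D.par_h] at hpq
          exact zero_ne_one hpq
    · exfalso
      have h1 := hc (D.px 1)
      rw [D.mul_rule1, D.mul_rule2, mul_one] at h1
      have h2 := D.px_mul_y_inj h1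
      unfold Data.r at h2
      have : D.h = 2 := by linear_combination -h2
      exact D.h_ne_two this
  · rintro (rfl | rfl)
    · exact Subgroup.one_mem _
    · rw [Subgroup.mem_center_iff]
      intro g
      exact D.z_comm g

end inS

section transport

variable {G : Type*} [Group G] {S : Subgroup G}

theorem isKleinFour_of_mulEquiv {A B : Type*} [Group A] [Group B] (e : A ≃* B) [IsKleinFour A] :
    IsKleinFour B :=
  ⟨by rw [← Nat.card_congr e.toEquiv]; exact IsKleinFour.card_four,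
   by rw [← Monoid.exponent_eq_of_mulEquiv e]; exact IsKleinFour.exponent_two⟩

theorem map_conj_of_subgroupOf {H₁ H₂ : Subgroup G} (h₁ : H₁ ≤ S) (h₂ : H₂ ≤ S) (s : ↥S)
    (h : (H₁.subgroupOf S).map (MulAut.conj s).toMonoidHom = H₂.subgroupOf S) :
    H₁.map (MulAut.conj (s : G)).toMonoidHom = H₂ := by
  ext g
  rw [Subgroup.mem_map]
  constructor
  · rintro ⟨t, ht, rfl⟩
    have : (MulAut.conj s).toMonoidHom ⟨t, h₁ ht⟩ ∈ H₂.subgroupOf S := by
      rw [← h]
      exact Subgroup.mem_map_of_mem _ (by rw [Subgroup.mem_subgroupOf]; exact ht)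
    rw [Subgroup.mem_subgroupOf] at this
    simpa using this
  · intro hg
    have : (⟨g, h₂ hg⟩ : ↥S) ∈ (H₁.subgroupOf S).map (MulAut.conj s).toMonoidHom := by
      rw [h, Subgroup.mem_subgroupOf]
      exact hg
    obtain ⟨t, ht, hts⟩ := Subgroup.mem_map.mp this
    rw [Subgroup.mem_subgroupOf] at ht
    refine ⟨(t : G), ht, ?_⟩
    have := congrArg (fun a : ↥S => (a : G)) hts
    simpa using this

theorem coe_mem_normalizer {H : Subgroup G} (hH : H ≤ S) (s : ↥S)
    (hs : s ∈ Subgroup.normalizer ((H.subgroupOf S : Subgroup ↥S) : Set ↥S)) :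
    (s : G) ∈ Subgroup.normalizer (H : Set G) := by
  rw [Subgroup.mem_normalizer_iff]
  intro t
  constructor
  · intro ht
    have := (Subgroup.mem_normalizer_iff.mp hs ⟨t, hH ht⟩).mp
      (by rw [Subgroup.mem_subgroupOf]; exact ht)
    rw [Subgroup.mem_subgroupOf] at this
    simpa using this
  · intro ht
    have hS' : (s : G) * t * (s : G)⁻¹ ∈ S := hH ht
    have htS : t ∈ S := by
      have : t = (s : G)⁻¹ * ((s : G) * t * (s : G)⁻¹) * (s : G) := by group
      rw [this]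
      exact S.mul_mem (S.mul_mem (S.inv_mem s.2) hS') s.2
    have := (Subgroup.mem_normalizer_iff.mp hs ⟨t, htS⟩).mpr
      (by rw [Subgroup.mem_subgroupOf]; simpa using ht)
    rw [Subgroup.mem_subgroupOf] at this
    exact this

theorem mem_centralizer_subgroupOf {H : Subgroup G} (s : ↥S)
    (hs : (s : G) ∈ Subgroup.centralizer (H : Set G)) :
    s ∈ Subgroup.centralizer ((H.subgroupOf S : Subgroup ↥S) : Set ↥S) := by
  rw [Subgroup.mem_centralizer_iff] at hs ⊢
  intro t ht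
  apply Subtype.ext
  have := hs (t : G) (by rwa [SetLike.mem_coe, Subgroup.mem_subgroupOf] at ht)
  simpa using this

end transport

section inG

variable {G : Type*} [Group G] {S : Subgroup G} (D : Data ↥S)

/-- the central involution, in `G` -/
def zG : G := ((D.z : ↥S) : G)
/-- the noncentral involution `y`, in `G` -/
def yG : G := ((D.y : ↥S) : G)
/-- the element `x^q` of order 4, in `G` -/
def vG : G := ((D.px D.q : ↥S) : G)
/-- the element `xy` of order 4, in `G` -/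
def uG : G := ((D.px 1 * D.y : ↥S) : G)
/-- the elements `x^i y`, in `G` -/
def pxyG (i : ZMod (2 ^ D.n)) : G := ((D.px i * D.y : ↥S) : G)

theorem zG_mem : zG D ∈ S := (D.z : ↥S).2
theorem yG_mem : yG D ∈ S := (D.y : ↥S).2
theorem vG_mem : vG D ∈ S := (D.px D.q : ↥S).2
theorem uG_mem : uG D ∈ S := (D.px 1 * D.y : ↥S).2
theorem pxyG_mem (i : ZMod (2 ^ D.n)) : pxyG D i ∈ S := (D.px i * D.y : ↥S).2

theorem uG_eq : uG D = pxyG D 1 := rfl

theorem orderOf_zG : orderOf (zG D) = 2 := by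
  rw [zG, Subgroup.orderOf_coe]; exact D.orderOf_z
theorem orderOf_yG : orderOf (yG D) = 2 := by
  rw [yG, Subgroup.orderOf_coe]; exact D.hy
theorem orderOf_vG : orderOf (vG D) = 4 := by
  rw [vG, Subgroup.orderOf_coe]; exact Cfsg.Agent.S1189.orderOf_px_q D
theorem orderOf_pxyG_odd {i : ZMod (2 ^ D.n)} (hi : D.par i = 1) : orderOf (pxyG D i) = 4 := by
  rw [pxyG, Subgroup.orderOf_coe]; exact orderOf_pxy_odd D hi
theorem orderOf_pxyG_even {i : ZMod (2 ^ D.n)} (hi : D.par i = 0) : orderOf (pxyG D i) = 2 := by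
  rw [pxyG, Subgroup.orderOf_coe]; exact orderOf_pxy_even D hi
theorem orderOf_uG : orderOf (uG D) = 4 := orderOf_pxyG_odd D (by rw [map_one])

theorem zG_comm (s : G) (hs : s ∈ S) : s * zG D = zG D * s := by
  have := congrArg (fun a : ↥S => (a : G)) (D.z_comm ⟨s, hs⟩)
  simpa [zG] using this

theorem zG_conj (s : G) (hs : s ∈ S) : s * zG D * s⁻¹ = zG D := by
  rw [zG_comm D s hs]; group

theorem zG_ne_pxyG (i : ZMod (2 ^ D.n)) : zG D ≠ pxyG D i := by
  intro h
  exact z_ne_pxy D i (Subtype.ext h)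

theorem vG_sq : vG D ^ 2 = zG D := by
  have := congrArg (fun a : ↥S => (a : G)) (px_q_sq D)
  simpa [vG, zG] using this

theorem pxyG_odd_sq {i : ZMod (2 ^ D.n)} (hi : D.par i = 1) : pxyG D i ^ 2 = zG D := by
  have := congrArg (fun a : ↥S => (a : G)) (pxy_odd_sq D hi)
  simpa [pxyG, zG] using this

theorem invol_cases_G (t : G) (ht : t ∈ S) (ht2 : orderOf t = 2) :
    t = zG D ∨ ∃ s ∈ S, s * t * s⁻¹ = yG D := by
  have h2 : orderOf (⟨t, ht⟩ : ↥S) = 2 := by rw [← Subgroup.orderOf_coe]; exact ht2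
  rcases Cfsg.Agent.S1189.involution_cases D ⟨t, ht⟩ h2 with h | h
  · left
    exact congrArg (fun a : ↥S => (a : G)) h
  · right
    rw [isConj_iff] at h
    obtain ⟨c, hc⟩ := h
    refine ⟨(c : G), c.2, ?_⟩
    have := congrArg (fun a : ↥S => (a : G)) hc
    simpa [yG] using this

theorem order4_cases_G (t : G) (ht : t ∈ S) (ht4 : orderOf t = 4) :
    (t = vG D ∨ t = (vG D)⁻¹) ∨ ∃ i, D.par i = 1 ∧ t = pxyG D i := by
  have h4 : orderOf (⟨t, ht⟩ : ↥S) = 4 := by rw [← Subgroup.orderOf_coe]; exact ht4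
  rcases order_four_elts D ⟨t, ht⟩ h4 with h | h | ⟨i, hi, h⟩
  · left; left
    exact congrArg (fun a : ↥S => (a : G)) h
  · left; right
    rw [px_neg_q_eq] at h
    have := congrArg (fun a : ↥S => (a : G)) h
    simpa [vG] using this
  · right
    exact ⟨i, hi, congrArg (fun a : ↥S => (a : G)) h⟩

theorem pxyG_conj {i j : ZMod (2 ^ D.n)} (hij : D.par i = D.par j) :
    ∃ s ∈ S, s * pxyG D i * s⁻¹ = pxyG D j := by
  have h := D.isConj_pxy hij
  rw [isConj_iff] at h
  obtain ⟨c, hc⟩ := h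
  refine ⟨(c : G), c.2, ?_⟩
  have := congrArg (fun a : ↥S => (a : G)) hc
  simpa [pxyG] using this

theorem vG_conj (s : G) (hs : s ∈ S) : s * vG D * s⁻¹ = vG D ∨ s * vG D * s⁻¹ = (vG D)⁻¹ := by
  rcases conj_px_q D ⟨s, hs⟩ with h | h
  · left
    have := congrArg (fun a : ↥S => (a : G)) h
    simpa [vG] using this
  · right
    rw [px_neg_q_eq] at h
    have := congrArg (fun a : ↥S => (a : G)) h
    simpa [vG] using this

theorem pxyG_inv (i : ZMod (2 ^ D.n)) : (pxyG D i)⁻¹ = pxyG D (-(D.r * i)) := by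
  have := congrArg (fun a : ↥S => (a : G)) (D.inv_rule i)
  simpa [pxyG] using this

theorem pxyG_conj_vG (i : ZMod (2 ^ D.n)) : pxyG D i * vG D * (pxyG D i)⁻¹ = (vG D)⁻¹ := by
  have := congrArg (fun a : ↥S => (a : G)) (conj_px_q_of_pxy D i)
  simpa [pxyG, vG] using this

theorem vG_inv_ne : (vG D)⁻¹ ≠ vG D := by
  intro h
  apply px_q_inv_ne D
  apply Subtype.ext
  simpa [vG] using h

theorem pxyG_notMem_zpowers_vG (i : ZMod (2 ^ D.n)) : pxyG D i ∉ Subgroup.zpowers (vG D) := by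
  intro h
  obtain ⟨k, hk⟩ := Subgroup.mem_zpowers_iff.mp h
  apply vG_inv_ne D
  rw [← pxyG_conj_vG D i, ← hk]
  group

theorem pxyG_mul_pxyG_ne (i j k : ZMod (2 ^ D.n)) : pxyG D i * pxyG D j ≠ pxyG D k := by
  intro h
  have h1 : (D.px i * D.y) * (D.px j * D.y) = D.px k * D.y := by
    apply Subtype.ext
    simpa [pxyG] using h
  rw [D.mul_rule3] at h1
  exact D.px_ne_px_mul_y _ _ h1

theorem mem_normalizer_zpowers {u p : G} (h1 : p * u * p⁻¹ ∈ Subgroup.zpowers u)
    (h2 : p⁻¹ * u * p ∈ Subgroup.zpowers u) :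
    p ∈ Subgroup.normalizer ((Subgroup.zpowers u : Subgroup G) : Set G) := by
  rw [Subgroup.mem_normalizer_iff]
  intro g
  constructor
  · intro hg
    obtain ⟨k, rfl⟩ := Subgroup.mem_zpowers_iff.mp hg
    have : p * u ^ k * p⁻¹ = (p * u * p⁻¹) ^ k := by
      rw [← MulAut.conj_apply, map_zpow, MulAut.conj_apply]
    rw [this]
    exact Subgroup.zpow_mem _ h1 k
  · intro hg
    obtain ⟨k, hk⟩ := Subgroup.mem_zpowers_iff.mp hg
    have e : g = p⁻¹ * u ^ k * p := by rw [hk]; group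
    have : p⁻¹ * u ^ k * p = (p⁻¹ * u * p) ^ k := by
      have := map_zpow (MulAut.conj p⁻¹) u k
      simp only [MulAut.conj_apply, inv_inv] at this
      exact this
    rw [e, this]
    exact Subgroup.zpow_mem _ h2 k

theorem quat_vG_mem {Q : Subgroup G} (hQS : Q ≤ S) {a b : G} (h : Q8Data Q a b) :
    vG D ∈ Q ∧ ∃ i, D.par i = 1 ∧ pxyG D i ∈ Q := by
  have hv_of : ∀ c ∈ Q, (c = vG D ∨ c = (vG D)⁻¹) → vG D ∈ Q := by
    intro c hc hcv
    rcases hcv with e | e
    · rw [← e]; exact hc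
    · have : vG D = c⁻¹ := by rw [e, inv_inv]
      rw [this]; exact Q.inv_mem hc
  rcases order4_cases_G D a (hQS h.ha) h.orderOf_a with ha | ⟨i, hi, ha⟩ <;>
    rcases order4_cases_G D b (hQS h.hb) h.orderOf_b with hb | ⟨j, hj, hb⟩
  · exfalso
    apply h.not_comm
    have hca : ∃ k : ℤ, a = vG D ^ k := by
      rcases ha with e | e
      · exact ⟨1, by rw [e, zpow_one]⟩
      · exact ⟨-1, by rw [e, zpow_neg_one]⟩
    have hcb : ∃ k : ℤ, b = vG D ^ k := by
      rcases hb with e | e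
      · exact ⟨1, by rw [e, zpow_one]⟩
      · exact ⟨-1, by rw [e, zpow_neg_one]⟩
    obtain ⟨k, hk⟩ := hca
    obtain ⟨l, hl⟩ := hcb
    rw [hk, hl, ← zpow_add, ← zpow_add, add_comm]
  · exact ⟨hv_of a h.ha ha, j, hj, hb ▸ h.hb⟩
  · exact ⟨hv_of b h.hb hb, i, hi, ha ▸ h.ha⟩
  · refine ⟨?_, i, hi, ha ▸ h.ha⟩
    have hab : a * b ∈ Q := Q.mul_mem h.ha h.hb
    rcases order4_cases_G D (a * b) (hQS hab) h.orderOf_ab with e | ⟨k, _, e⟩
    · exact hv_of _ hab e
    · exfalso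
      rw [ha, hb] at e
      exact pxyG_mul_pxyG_ne D i j k e

/-- the dihedral maximal subgroup, in `G` -/
def dihG : Subgroup G := D.dih.map S.subtype
/-- the quaternion maximal subgroup, in `G` -/
def quatG : Subgroup G := D.quat.map S.subtype

theorem subgroupOf_map_subtype' (K : Subgroup ↥S) : (K.map S.subtype).subgroupOf S = K :=
  Subgroup.comap_map_eq_self_of_injective S.subtype_injective K

theorem mem_map_subtype_iff (K : Subgroup ↥S) (g : G) (hg : g ∈ S) :
    g ∈ K.map S.subtype ↔ (⟨g, hg⟩ : ↥S) ∈ K := by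
  rw [Subgroup.mem_map]
  constructor
  · rintro ⟨k, hk, rfl⟩
    exact hk
  · intro h
    exact ⟨⟨g, hg⟩, h, rfl⟩

theorem dihG_le : dihG D ≤ S := Subgroup.map_subtype_le _
theorem quatG_le : quatG D ≤ S := Subgroup.map_subtype_le _

theorem relIndex_dihG : (dihG D).relIndex S = 2 := by
  rw [Subgroup.relIndex, dihG, subgroupOf_map_subtype']
  exact D.index_dih

theorem relIndex_quatG : (quatG D).relIndex S = 2 := by
  rw [Subgroup.relIndex, quatG, subgroupOf_map_subtype']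
  exact D.index_quat

theorem pxyG_mem_dihG (i : ZMod (2 ^ D.n)) : pxyG D i ∈ dihG D ↔ D.par i = 0 := by
  rw [dihG, mem_map_subtype_iff _ _ (pxyG_mem D i)]
  exact D.pxy_mem_dih i

theorem pxyG_mem_quatG (i : ZMod (2 ^ D.n)) : pxyG D i ∈ quatG D ↔ D.par i = 1 := by
  rw [quatG, mem_map_subtype_iff _ _ (pxyG_mem D i)]
  exact D.pxy_mem_quat i

theorem yG_eq : yG D = pxyG D 0 := by
  simp [yG, pxyG, D.px_zero]

theorem yG_notMem_quatG : yG D ∉ quatG D := by
  rw [yG_eq, pxyG_mem_quatG, map_zero]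
  exact zero_ne_one

theorem uG_notMem_dihG : uG D ∉ dihG D := by
  rw [uG_eq, pxyG_mem_dihG, map_one]
  exact one_ne_zero

theorem invol_mem_dihG (t : G) (ht : t ∈ S) (ht2 : orderOf t = 2) : t ∈ dihG D := by
  rw [dihG, mem_map_subtype_iff _ _ ht]
  apply invol_mem_dih
  rw [← Subgroup.orderOf_coe]
  exact ht2

theorem invol_quatG (t : G) (ht2 : orderOf t = 2) (htq : t ∈ quatG D) : t = zG D := by
  have ht : t ∈ S := quatG_le D htq
  rw [quatG, mem_map_subtype_iff _ _ ht] at htq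
  have := invol_quat D ⟨t, ht⟩ (by rw [← Subgroup.orderOf_coe]; exact ht2) htq
  exact congrArg Subtype.val this

theorem yG_ne_zG : yG D ≠ zG D := by
  intro h
  exact z_ne_y D (Subtype.ext h.symm)

theorem yG_not_central : ∃ s ∈ S, s * yG D * s⁻¹ ≠ yG D := by
  refine ⟨((D.px 1 : ↥S) : G), (D.px 1 : ↥S).2, ?_⟩
  intro h
  apply y_not_central D
  apply Subtype.ext
  have : ((D.px 1 : ↥S) : G) * yG D = yG D * ((D.px 1 : ↥S) : G) := by
    calc ((D.px 1 : ↥S) : G) * yG D = (((D.px 1 : ↥S) : G) * yG D * ((D.px 1 : ↥S) : G)⁻¹) *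
        ((D.px 1 : ↥S) : G) := by group
      _ = yG D * ((D.px 1 : ↥S) : G) := by rw [h]
  simpa [yG] using this.symm

theorem mem_centerG_iff (w : G) :
    w ∈ (Subgroup.center ↥S).map S.subtype ↔ w = 1 ∨ w = zG D := by
  rw [Subgroup.mem_map]
  constructor
  · rintro ⟨c, hc, rfl⟩
    rcases (mem_center_iff D c).mp hc with e | e
    · left; rw [e]; rfl
    · right; rw [e]; rfl
  · rintro (e | e)
    · exact ⟨1, Subgroup.one_mem _, by rw [e]; rfl⟩
    · exact ⟨D.z, (mem_center_iff D _).mpr (Or.inr rfl), by rw [e]; rfl⟩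

theorem order4_mem_quatG (t : G) (ht : t ∈ S) (ht4 : orderOf t = 4) : t ∈ quatG D := by
  have hv : vG D ∈ quatG D := by
    rw [quatG, mem_map_subtype_iff _ _ (vG_mem D)]
    exact (D.px_mem_quat _).mpr D.par_q
  rcases order4_cases_G D t ht ht4 with (h | h) | ⟨i, hi, h⟩
  · rw [h]; exact hv
  · rw [h]; exact Subgroup.inv_mem _ hv
  · rw [h]; exact (pxyG_mem_quatG D i).mpr hi

theorem quat_le_quatG {Q : Subgroup G} (hQS : Q ≤ S) {a b : G} (h : Q8Data Q a b) :
    Q ≤ quatG D :=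
  h.le_of_mem _ (order4_mem_quatG D a (hQS h.ha) h.orderOf_a)
    (order4_mem_quatG D b (hQS h.hb) h.orderOf_b)

theorem klein_le_dihG (T : Subgroup G) [IsKleinFour T] (hTS : T ≤ S) : T ≤ dihG D := by
  intro t ht
  by_cases h1 : t = 1
  · rw [h1]; exact Subgroup.one_mem _
  · exact invol_mem_dihG D t (hTS ht) (klein_orderOf T ht h1)

section klein

variable [Finite ↥S] (hS : Cfsg.IsQuasiDihedral ↥S)
include hS

theorem klein_zG_mem (T : Subgroup G) [IsKleinFour T] (hTS : T ≤ S) : zG D ∈ T := by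
  have : IsKleinFour ↥(T.subgroupOf S) :=
    isKleinFour_of_mulEquiv (Subgroup.subgroupOfEquivOfLe hTS).symm
  have h := ((Cfsg.Agent.S1190.result hS).2 (T.subgroupOf S) this).1
  have hz : D.z ∈ Subgroup.centralizer ((T.subgroupOf S : Subgroup ↥S) : Set ↥S) := by
    rw [Subgroup.mem_centralizer_iff]
    intro t _
    exact D.z_comm t
  rw [h, Subgroup.mem_subgroupOf] at hz
  exact hz

theorem klein_exists_normalizing (T : Subgroup G) [IsKleinFour T] (hTS : T ≤ S) :
    ∃ s₀ ∈ S, s₀ ∈ Subgroup.normalizer (T : Set G) ∧ s₀ ∉ Subgroup.centralizer (T : Set G) := by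
  have : IsKleinFour ↥(T.subgroupOf S) :=
    isKleinFour_of_mulEquiv (Subgroup.subgroupOfEquivOfLe hTS).symm
  obtain ⟨hc, hn⟩ := (Cfsg.Agent.S1190.result hS).2 (T.subgroupOf S) this
  have hnot : ¬ Subgroup.normalizer ((T.subgroupOf S : Subgroup ↥S) : Set ↥S) ≤ T.subgroupOf S := by
    intro hle
    rw [← Subgroup.relIndex_eq_one] at hle
    omega
  obtain ⟨s, hsN, hsT⟩ := SetLike.not_le_iff_exists.mp hnot
  refine ⟨(s : G), s.2, coe_mem_normalizer hTS s hsN, ?_⟩
  intro hcen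
  apply hsT
  rw [← hc]
  exact mem_centralizer_subgroupOf s hcen

theorem klein_conj (T T₂ : Subgroup G) [IsKleinFour T] [IsKleinFour T₂] (hTS : T ≤ S)
    (hT₂S : T₂ ≤ S) : ∃ s ∈ S, T.map (MulAut.conj s).toMonoidHom = T₂ := by
  have h1 : IsKleinFour ↥(T.subgroupOf S) :=
    isKleinFour_of_mulEquiv (Subgroup.subgroupOfEquivOfLe hTS).symm
  have h2 : IsKleinFour ↥(T₂.subgroupOf S) :=
    isKleinFour_of_mulEquiv (Subgroup.subgroupOfEquivOfLe hT₂S).symm
  obtain ⟨s, hs⟩ := (Cfsg.Agent.S1190.result hS).1 _ _ h1 h2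
  exact ⟨(s : G), s.2, map_conj_of_subgroupOf hTS hT₂S s hs⟩

theorem quat_exists_normalizing (Q : Subgroup G) (hQS : Q ≤ S) (eQ : Q ≃* QuaternionGroup 2) :
    ∃ s₀ ∈ S, s₀ ∈ Subgroup.normalizer (Q : Set G) ∧
      s₀ ∉ Q ⊔ Subgroup.centralizer (Q : Set G) := by
  have e' : Nonempty (↥(Q.subgroupOf S) ≃* QuaternionGroup 2) :=
    ⟨(Subgroup.subgroupOfEquivOfLe hQS).trans eQ⟩
  obtain ⟨hc, hn⟩ := (Cfsg.Agent.S1191.result hS).2 (Q.subgroupOf S) e'
  have hnot : ¬ Subgroup.normalizer ((Q.subgroupOf S : Subgroup ↥S) : Set ↥S) ≤ Q.subgroupOf S := by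
    intro hle
    rw [← Subgroup.relIndex_eq_one] at hle
    omega
  obtain ⟨s, hsN, hsQ⟩ := SetLike.not_le_iff_exists.mp hnot
  refine ⟨(s : G), s.2, coe_mem_normalizer hQS s hsN, ?_⟩
  intro hsup
  apply hsQ
  have hnorm : Q ≤ Subgroup.normalizer ((Subgroup.centralizer (Q : Set G) : Subgroup G) : Set G) := by
    intro q hq
    rw [Subgroup.mem_normalizer_iff]
    intro c
    simp only [Subgroup.mem_centralizer_iff]
    constructor
    · intro hcq g hg
      have h1 := hcq (q⁻¹ * g * q) (Q.mul_mem (Q.mul_mem (Q.inv_mem hq) hg) hq)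
      calc g * (q * c * q⁻¹) = q * ((q⁻¹ * g * q) * c) * q⁻¹ := by group
        _ = q * (c * (q⁻¹ * g * q)) * q⁻¹ := by rw [h1]
        _ = q * c * q⁻¹ * g := by group
    · intro hcq g hg
      have h1 := hcq (q * g * q⁻¹) (Q.mul_mem (Q.mul_mem hq hg) (Q.inv_mem hq))
      calc g * c = q⁻¹ * ((q * g * q⁻¹) * (q * c * q⁻¹)) * q := by group
        _ = q⁻¹ * ((q * c * q⁻¹) * (q * g * q⁻¹)) * q := by rw [h1]
        _ = c * g := by group
  have hmem : (s : G) ∈ ((Q ⊔ Subgroup.centralizer (Q : Set G) : Subgroup G) : Set G) := hsup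
  rw [Subgroup.coe_mul_of_left_le_normalizer_right _ _ hnorm] at hmem
  obtain ⟨q, hq, c, hc', hqc⟩ := Set.mem_mul.mp hmem
  have hcS : c ∈ S := by
    have : c = q⁻¹ * (s : G) := by rw [← hqc]; group
    rw [this]
    exact S.mul_mem (S.inv_mem (hQS hq)) s.2
  have hc2 : (⟨c, hcS⟩ : ↥S) ∈ Subgroup.centralizer ((Q.subgroupOf S : Subgroup ↥S) : Set ↥S) :=
    mem_centralizer_subgroupOf ⟨c, hcS⟩ hc'
  rw [hc] at hc2
  obtain ⟨c', _, hc'eq⟩ := Subgroup.mem_map.mp hc2
  have hcQ : c ∈ Q := by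
    have h3 : ((c' : ↥(Q.subgroupOf S)) : ↥S) = ⟨c, hcS⟩ := hc'eq
    have h4 := (c' : ↥(Q.subgroupOf S)).2
    rw [Subgroup.mem_subgroupOf, h3] at h4
    exact h4
  rw [Subgroup.mem_subgroupOf, ← hqc]
  exact Q.mul_mem hq hcQ

theorem quat_conj (Q Q₂ : Subgroup G) (hQS : Q ≤ S) (hQ₂S : Q₂ ≤ S)
    (eQ : Q ≃* QuaternionGroup 2) (eQ₂ : Q₂ ≃* QuaternionGroup 2) :
    ∃ s ∈ S, Q.map (MulAut.conj s).toMonoidHom = Q₂ := by
  have e1 : Nonempty (↥(Q.subgroupOf S) ≃* QuaternionGroup 2) :=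
    ⟨(Subgroup.subgroupOfEquivOfLe hQS).trans eQ⟩
  have e2 : Nonempty (↥(Q₂.subgroupOf S) ≃* QuaternionGroup 2) :=
    ⟨(Subgroup.subgroupOfEquivOfLe hQ₂S).trans eQ₂⟩
  obtain ⟨s, hs⟩ := (Cfsg.Agent.S1191.result hS).1 _ _ e1 e2
  exact ⟨(s : G), s.2, map_conj_of_subgroupOf hQS hQ₂S s hs⟩

end klein

end inG

theorem pow_two_pow_eq_one_of_mem {G : Type*} [Group G] (S : Sylow 2 G) (s : G)
    (hs : s ∈ (S : Subgroup G)) : ∃ k : ℕ, s ^ 2 ^ k = 1 := by
  obtain ⟨k, hk⟩ := S.2 ⟨s, hs⟩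
  exact ⟨k, by simpa using congrArg Subtype.val hk⟩

theorem eq_two_or_six {m : ℕ} (h2 : 2 ∣ m) (h6 : m ∣ 6) : m = 2 ∨ m = 6 := by
  have hle : m ≤ 6 := Nat.le_of_dvd (by norm_num) h6
  interval_cases m <;> omega

section fusion

variable {G : Type*} [Group G] [Finite G] (S : Sylow 2 G) (D : Data ↥(S : Subgroup G))
  (hS : Cfsg.IsQuasiDihedral ↥(S : Subgroup G))
include hS

/-- If the central involution is fused to a noncentral involution of `S`, then `3` divides
`|N_G(T) : C_G(T)|`. -/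
theorem three_dvd_klein (T : Subgroup G) [IsKleinFour T] (hTS : T ≤ (S : Subgroup G)) (t : G)
    (ht : t ∈ (S : Subgroup G)) (ht2 : orderOf t = 2) (htz : t ≠ zG D) (g : G)
    (hg : g * zG D * g⁻¹ = t) :
    3 ∣ (Subgroup.centralizer (T : Set G)).relIndex (Subgroup.normalizer (T : Set G)) := by
  have hzT : zG D ∈ T := klein_zG_mem D hS T hTS
  obtain ⟨t₀, ht₀T, ht₀1, ht₀z⟩ := klein_exists_third T (zG D)
  have ht₀2 : orderOf t₀ = 2 := klein_orderOf T ht₀T ht₀1
  -- t₀ and t are both S-conjugate to y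
  obtain ⟨s₁, hs₁S, hs₁⟩ := (invol_cases_G D t₀ (hTS ht₀T) ht₀2).resolve_left ht₀z
  obtain ⟨s₂, hs₂S, hs₂⟩ := (invol_cases_G D t ht ht2).resolve_left htz
  obtain ⟨g', hg'def⟩ : ∃ g' : G, g' = s₁⁻¹ * s₂ * g := ⟨_, rfl⟩
  have hg' : g' * zG D * g'⁻¹ = t₀ := by
    have e1 : g' * zG D * g'⁻¹ = s₁⁻¹ * (s₂ * (g * zG D * g⁻¹) * s₂⁻¹) * s₁ := by
      rw [hg'def]; group
    rw [e1, hg, hs₂, ← hs₁]
    group
  -- the Sylow subgroup g' S g'⁻¹ centralizes t₀
  have hPH : ((g' • S : Sylow 2 G) : Subgroup G) ≤ Subgroup.centralizer ({t₀} : Set G) := by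
    intro p hp
    rw [mem_smul_sylow_iff] at hp
    rw [Subgroup.mem_centralizer_iff]
    intro x hx
    rw [Set.mem_singleton_iff] at hx
    rw [hx, ← hg']
    have hc := zG_comm D _ hp
    calc g' * zG D * g'⁻¹ * p = g' * (zG D * (g'⁻¹ * p * g')) * g'⁻¹ := by group
      _ = g' * ((g'⁻¹ * p * g') * zG D) * g'⁻¹ := by rw [hc]
      _ = p * (g' * zG D * g'⁻¹) := by group
  have hTH : T ≤ Subgroup.centralizer ({t₀} : Set G) := by
    intro r hr
    rw [Subgroup.mem_centralizer_iff]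
    intro x hx
    rw [Set.mem_singleton_iff] at hx
    rw [hx]
    exact klein_comm T ht₀T hr
  have hT2 : IsPGroup 2 T := IsPGroup.of_card (n := 2) (by
    rw [IsKleinFour.card_four (G := T)]; norm_num)
  obtain ⟨c, hcH, hc⟩ := exists_conj_mem_sylow (g' • S) _ hPH T hT2 hTH
  have hct₀ : c * t₀ * c⁻¹ = t₀ := by
    rw [Subgroup.mem_centralizer_iff] at hcH
    have := hcH t₀ rfl
    rw [← this]
    group
  -- the conjugate T₂ of T inside S
  obtain ⟨T₂, hT₂def⟩ : ∃ T₂ : Subgroup G, T₂ = T.map (MulAut.conj (g'⁻¹ * c)).toMonoidHom :=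
    ⟨_, rfl⟩
  have hT₂S : T₂ ≤ (S : Subgroup G) := by
    intro r hr
    rw [hT₂def, mem_map_conj_iff] at hr
    have h1 := hc _ hr
    rw [mem_smul_sylow_iff] at h1
    have : g'⁻¹ * (c * ((g'⁻¹ * c)⁻¹ * r * (g'⁻¹ * c)) * c⁻¹) * g' = r := by group
    rw [this] at h1
    exact h1
  have hT₂K : IsKleinFour T₂ := by
    rw [hT₂def]
    exact isKleinFour_of_mulEquiv
      (Subgroup.equivMapOfInjective T _ (MulAut.conj (g'⁻¹ * c)).injective)
  obtain ⟨s, hsS, hs⟩ := klein_conj hS T T₂ hTS hT₂S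
  obtain ⟨m, hmdef⟩ : ∃ m : G, m = s⁻¹ * (g'⁻¹ * c) := ⟨_, rfl⟩
  have hmN : m ∈ Subgroup.normalizer (T : Set G) := by
    apply mem_normalizer_of_map_conj_eq
    rw [hmdef, ← map_conj_map_conj, ← hT₂def, ← hs, map_conj_map_conj, inv_mul_cancel]
    ext r
    rw [mem_map_conj_iff]
    simp
  have hmt₀ : m * t₀ * m⁻¹ = zG D := by
    have e1 : m * t₀ * m⁻¹ = s⁻¹ * (g'⁻¹ * (c * t₀ * c⁻¹) * g') * s := by rw [hmdef]; group
    rw [e1, hct₀, ← hg']
    have e2 : g'⁻¹ * (g' * zG D * g'⁻¹) * g' = zG D := by group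
    rw [e2]
    have := zG_conj D s⁻¹ (Subgroup.inv_mem _ hsS)
    rw [inv_inv] at this
    exact this
  -- the element of S normalizing but not centralizing T
  obtain ⟨s₀, hs₀S, hs₀N, hs₀C⟩ := klein_exists_normalizing hS T hTS
  have hzne1 : zG D ≠ 1 := by
    intro h
    have := orderOf_zG D
    rw [h, orderOf_one] at this
    omega
  have ht₁T : s₀ * t₀ * s₀⁻¹ ∈ T := (Subgroup.mem_normalizer_iff.mp hs₀N t₀).mp ht₀T
  have ht₁1 : s₀ * t₀ * s₀⁻¹ ≠ 1 := by
    intro h
    apply ht₀1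
    have : t₀ = s₀⁻¹ * (s₀ * t₀ * s₀⁻¹) * s₀ := by group
    rw [this, h]
    group
  have ht₁z : s₀ * t₀ * s₀⁻¹ ≠ zG D := by
    intro h
    apply ht₀z
    have : t₀ = s₀⁻¹ * (s₀ * t₀ * s₀⁻¹) * s₀ := by group
    rw [this, h]
    have := zG_conj D s₀⁻¹ (Subgroup.inv_mem _ hs₀S)
    rw [inv_inv] at this
    exact this
  have ht₁t₀ : s₀ * t₀ * s₀⁻¹ ≠ t₀ := by
    intro h
    apply hs₀C
    rw [Subgroup.mem_centralizer_iff]
    intro r hr
    have hcz : zG D * s₀ = s₀ * zG D := (zG_comm D s₀ hs₀S).symm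
    have hct : t₀ * s₀ = s₀ * t₀ := by
      calc t₀ * s₀ = (s₀ * t₀ * s₀⁻¹) * s₀ := by rw [h]
        _ = s₀ * t₀ := by group
    rcases klein_elems T hzT ht₀T hzne1 ht₀1 (Ne.symm ht₀z) r hr with e | e | e | e
    · rw [e]; simp
    · rw [e]; exact hcz
    · rw [e]; exact hct
    · rw [e, mul_assoc, hct, ← mul_assoc, hcz, mul_assoc]
  have ht₁ : s₀ * t₀ * s₀⁻¹ = zG D * t₀ := by
    rcases klein_elems T hzT ht₀T hzne1 ht₀1 (Ne.symm ht₀z) _ ht₁T with e | e | e | e
    · exact absurd e ht₁1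
    · exact absurd e ht₁z
    · exact absurd e ht₁t₀
    · exact e
  apply klein_three_dvd T t₀ ht₀T ht₀1
  intro t' ht'T ht'1
  rcases klein_elems T hzT ht₀T hzne1 ht₀1 (Ne.symm ht₀z) t' ht'T with e | e | e | e
  · exact absurd e ht'1
  · exact ⟨m, hmN, by rw [hmt₀, e]⟩
  · exact ⟨1, Subgroup.one_mem _, by rw [e]; simp⟩
  · exact ⟨s₀, hs₀N, by rw [ht₁, e]⟩

/-- If `x^q` is fused to an element `x^i y` of order four of `S`, then `3` divides
`|N_G(Q) : Q C_G(Q)|`. -/
theorem three_dvd_quat (Q : Subgroup G) (hQS : Q ≤ (S : Subgroup G))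
    (eQ : Q ≃* QuaternionGroup 2) (i : ZMod (2 ^ D.n)) (hi : D.par i = 1) (g : G)
    (hg : g * vG D * g⁻¹ = pxyG D i) :
    3 ∣ (Q ⊔ Subgroup.centralizer (Q : Set G)).relIndex (Subgroup.normalizer (Q : Set G)) := by
  obtain ⟨a, b, hab⟩ := exists_q8Data Q eQ
  obtain ⟨hvQ, i₀, hi₀, hu₀Q⟩ := quat_vG_mem D hQS hab
  obtain ⟨s₁, hs₁S, hs₁⟩ := pxyG_conj D (i := i) (j := i₀) (by rw [hi, hi₀])
  obtain ⟨u₀, hu₀def⟩ : ∃ u₀ : G, u₀ = pxyG D i₀ := ⟨_, rfl⟩
  rw [← hu₀def] at hu₀Q hs₁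
  have hu₀4 : orderOf u₀ = 4 := by rw [hu₀def]; exact orderOf_pxyG_odd D hi₀
  obtain ⟨g', hg'def⟩ : ∃ g' : G, g' = s₁ * g := ⟨_, rfl⟩
  have hg' : g' * vG D * g'⁻¹ = u₀ := by
    have e1 : g' * vG D * g'⁻¹ = s₁ * (g * vG D * g⁻¹) * s₁⁻¹ := by rw [hg'def]; group
    rw [e1, hg, hs₁]
  have hU₀subs : Subgroup.zpowers u₀ ∈ Q8Data.subs Q := Q8Data.zpowers_mem_subs u₀ hu₀Q hu₀4
  have hV₀subs : Subgroup.zpowers (vG D) ∈ Q8Data.subs Q :=
    Q8Data.zpowers_mem_subs (vG D) hvQ (orderOf_vG D)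
  -- conjugation by elements of S preserves ⟨v⟩
  have hvS : ∀ s ∈ (S : Subgroup G), s * vG D * s⁻¹ ∈ Subgroup.zpowers (vG D) := by
    intro s hs
    rcases vG_conj D s hs with e | e
    · rw [e]; exact Subgroup.mem_zpowers _
    · rw [e]; exact Subgroup.inv_mem _ (Subgroup.mem_zpowers _)
  -- the Sylow subgroup g' S g'⁻¹ normalizes ⟨u₀⟩
  have hconj : ∀ s ∈ (S : Subgroup G), (g' * s * g'⁻¹) * u₀ * (g' * s * g'⁻¹)⁻¹ ∈
      Subgroup.zpowers u₀ := by
    intro s hs
    obtain ⟨k, hk⟩ := Subgroup.mem_zpowers_iff.mp (hvS s hs)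
    have e1 : (g' * s * g'⁻¹) * u₀ * (g' * s * g'⁻¹)⁻¹ = g' * (s * vG D * s⁻¹) * g'⁻¹ := by
      rw [← hg']; group
    rw [e1, ← hk]
    have : g' * vG D ^ k * g'⁻¹ = (g' * vG D * g'⁻¹) ^ k := by
      rw [← MulAut.conj_apply, map_zpow, MulAut.conj_apply]
    rw [this, hg']
    exact Subgroup.zpow_mem _ (Subgroup.mem_zpowers _) k
  have hPH : ((g' • S : Sylow 2 G) : Subgroup G) ≤
      Subgroup.normalizer ((Subgroup.zpowers u₀ : Subgroup G) : Set G) := by
    intro p hp
    rw [mem_smul_sylow_iff] at hp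
    have hp' : p = g' * (g'⁻¹ * p * g') * g'⁻¹ := by group
    apply mem_normalizer_zpowers
    · rw [hp']
      exact hconj _ hp
    · have h2 := hconj _ (Subgroup.inv_mem _ hp)
      have e : (g' * (g'⁻¹ * p * g')⁻¹ * g'⁻¹) = p⁻¹ := by group
      rw [e, inv_inv] at h2
      exact h2
  have hQH : Q ≤ Subgroup.normalizer ((Subgroup.zpowers u₀ : Subgroup G) : Set G) := by
    intro r hr
    exact mem_normalizer_of_map_conj_eq (hab.normal_of_mem_subs hU₀subs hr)
  have hQ2 : IsPGroup 2 Q := IsPGroup.of_card (n := 3) (by rw [hab.card8]; norm_num)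
  obtain ⟨c, hcH, hc⟩ := exists_conj_mem_sylow (g' • S) _ hPH Q hQ2 hQH
  obtain ⟨Q₂, hQ₂def⟩ : ∃ Q₂ : Subgroup G, Q₂ = Q.map (MulAut.conj (g'⁻¹ * c)).toMonoidHom :=
    ⟨_, rfl⟩
  have hQ₂S : Q₂ ≤ (S : Subgroup G) := by
    intro r hr
    rw [hQ₂def, mem_map_conj_iff] at hr
    have h1 := hc _ hr
    rw [mem_smul_sylow_iff] at h1
    have : g'⁻¹ * (c * ((g'⁻¹ * c)⁻¹ * r * (g'⁻¹ * c)) * c⁻¹) * g' = r := by group
    rw [this] at h1
    exact h1
  have eQ₂ : Q₂ ≃* QuaternionGroup 2 := by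
    rw [hQ₂def]
    exact (Subgroup.equivMapOfInjective Q _ (MulAut.conj (g'⁻¹ * c)).injective).symm.trans eQ
  obtain ⟨s, hsS, hs⟩ := quat_conj hS Q Q₂ hQS hQ₂S eQ eQ₂
  obtain ⟨m, hmdef⟩ : ∃ m : G, m = s⁻¹ * (g'⁻¹ * c) := ⟨_, rfl⟩
  have hmN : m ∈ Subgroup.normalizer (Q : Set G) := by
    apply mem_normalizer_of_map_conj_eq
    rw [hmdef, ← map_conj_map_conj, ← hQ₂def, ← hs, map_conj_map_conj, inv_mul_cancel]
    ext r
    rw [mem_map_conj_iff]
    simp
  -- m maps ⟨u₀⟩ to ⟨v⟩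
  have hmU : (Subgroup.zpowers u₀).map (MulAut.conj m).toMonoidHom = Subgroup.zpowers (vG D) := by
    rw [hmdef, ← map_conj_map_conj, ← map_conj_map_conj,
      map_conj_eq_of_mem_normalizer hcH, MonoidHom.map_zpowers, MonoidHom.map_zpowers]
    simp only [MulEquiv.coe_toMonoidHom, MulAut.conj_apply, inv_inv]
    have e1 : g'⁻¹ * u₀ * g' = vG D := by rw [← hg']; group
    rw [e1]
    rcases vG_conj D s⁻¹ (Subgroup.inv_mem _ hsS) with e | e
    · rw [inv_inv] at e; rw [e]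
    · rw [inv_inv] at e; rw [e, Subgroup.zpowers_inv]
  -- the element of S normalizing Q outside Q C(Q)
  obtain ⟨s₀, hs₀S, hs₀N, hs₀M⟩ := quat_exists_normalizing hS Q hQS eQ
  have hs₀V : (Subgroup.zpowers (vG D)).map (MulAut.conj s₀).toMonoidHom =
      Subgroup.zpowers (vG D) := by
    rw [MonoidHom.map_zpowers]
    simp only [MulEquiv.coe_toMonoidHom, MulAut.conj_apply]
    rcases vG_conj D s₀ hs₀S with e | e
    · rw [e]
    · rw [e, Subgroup.zpowers_inv]
  have hUV : Subgroup.zpowers u₀ ≠ Subgroup.zpowers (vG D) := by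
    intro e
    apply pxyG_notMem_zpowers_vG D i₀
    rw [← hu₀def, ← e]
    exact Subgroup.mem_zpowers _
  have hfin : Finite ↥(Q8Data.subs Q) :=
    Nat.finite_of_card_ne_zero (by rw [hab.card_subs]; decide)
  have hs₀U : (Subgroup.zpowers u₀).map (MulAut.conj s₀).toMonoidHom ≠ Subgroup.zpowers u₀ := by
    intro e
    apply hs₀M
    have hker : (⟨s₀, hs₀N⟩ : ↥(Subgroup.normalizer (Q : Set G))) ∈ (Q8Data.quatHom Q).ker := by
      rw [MonoidHom.mem_ker]
      apply perm_eq_one_of_fix_two hab.card_subs _ ⟨_, hU₀subs⟩ ⟨_, hV₀subs⟩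
      · intro h
        exact hUV (congrArg Subtype.val h)
      · apply Subtype.ext
        rw [Q8Data.quatHom_apply]
        exact e
      · apply Subtype.ext
        rw [Q8Data.quatHom_apply]
        exact hs₀V
    rw [hab.quatHom_ker, Subgroup.mem_subgroupOf] at hker
    exact hker
  have hs₀UV : (Subgroup.zpowers u₀).map (MulAut.conj s₀).toMonoidHom ≠
      Subgroup.zpowers (vG D) := by
    intro e
    apply hUV
    have h1 := congrArg (fun H : Subgroup G => H.map (MulAut.conj s₀⁻¹).toMonoidHom) e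
    simp only [map_conj_map_conj, inv_mul_cancel] at h1
    have h2 : (Subgroup.zpowers (vG D)).map (MulAut.conj s₀⁻¹).toMonoidHom =
        Subgroup.zpowers (vG D) := by
      rw [MonoidHom.map_zpowers]
      simp only [MulEquiv.coe_toMonoidHom, MulAut.conj_apply]
      rcases vG_conj D s₀⁻¹ (Subgroup.inv_mem _ hs₀S) with e' | e'
      · rw [e']
      · rw [e', Subgroup.zpowers_inv]
    rw [h2] at h1
    rw [← h1]
    ext r
    rw [mem_map_conj_iff]
    simp
  have hWsubs : (Subgroup.zpowers u₀).map (MulAut.conj s₀).toMonoidHom ∈ Q8Data.subs Q :=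
    Q8Data.subs_stable Q s₀ hs₀N _ hU₀subs
  -- the three subgroups exhaust `subs Q`
  have hall : Q8Data.subs Q = {Subgroup.zpowers u₀, Subgroup.zpowers (vG D),
      (Subgroup.zpowers u₀).map (MulAut.conj s₀).toMonoidHom} := by
    symm
    apply Set.eq_of_subset_of_ncard_le
    · intro H hH
      simp only [Set.mem_insert_iff, Set.mem_singleton_iff] at hH
      rcases hH with e | e | e <;> rw [e]
      · exact hU₀subs
      · exact hV₀subs
      · exact hWsubs
    · have h3 : (Q8Data.subs Q).ncard = 3 := by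
        rw [← Nat.card_coe_set_eq]; exact hab.card_subs
      rw [h3]
      have : ({Subgroup.zpowers u₀, Subgroup.zpowers (vG D),
          (Subgroup.zpowers u₀).map (MulAut.conj s₀).toMonoidHom} : Set (Subgroup G)).ncard = 3 := by
        rw [Set.ncard_eq_three]
        exact ⟨_, _, _, hUV, hs₀U.symm, hs₀UV.symm, rfl⟩
      rw [this]
    · exact Set.toFinite _
  apply hab.three_dvd _ hU₀subs
  intro H' hH'
  rw [hall] at hH'
  simp only [Set.mem_insert_iff, Set.mem_singleton_iff] at hH'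
  rcases hH' with e | e | e
  · refine ⟨1, Subgroup.one_mem _, ?_⟩
    rw [e]
    ext r
    rw [mem_map_conj_iff]
    simp
  · exact ⟨m, hmN, by rw [hmU, e]⟩
  · exact ⟨s₀, hs₀N, by rw [e]⟩

theorem klein_index_cases (T : Subgroup G) [IsKleinFour T] (hTS : T ≤ (S : Subgroup G)) :
    (Subgroup.centralizer (T : Set G)).relIndex (Subgroup.normalizer (T : Set G)) = 2 ∨
    (Subgroup.centralizer (T : Set G)).relIndex (Subgroup.normalizer (T : Set G)) = 6 := by
  obtain ⟨s₀, hs₀S, hs₀N, hs₀C⟩ := klein_exists_normalizing hS T hTS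
  obtain ⟨k, hk⟩ := pow_two_pow_eq_one_of_mem S s₀ hs₀S
  exact eq_two_or_six (klein_two_dvd T s₀ hs₀N hs₀C k hk) (klein_relIndex_dvd_six T)

theorem quat_index_cases (Q : Subgroup G) (hQS : Q ≤ (S : Subgroup G))
    (eQ : Q ≃* QuaternionGroup 2) :
    (Q ⊔ Subgroup.centralizer (Q : Set G)).relIndex (Subgroup.normalizer (Q : Set G)) = 2 ∨
    (Q ⊔ Subgroup.centralizer (Q : Set G)).relIndex (Subgroup.normalizer (Q : Set G)) = 6 := by
  obtain ⟨a, b, hab⟩ := exists_q8Data Q eQ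
  obtain ⟨s₀, hs₀S, hs₀N, hs₀M⟩ := quat_exists_normalizing hS Q hQS eQ
  obtain ⟨k, hk⟩ := pow_two_pow_eq_one_of_mem S s₀ hs₀S
  exact eq_two_or_six (hab.two_dvd s₀ hs₀N hs₀M k hk) hab.relIndex_dvd_six

/-- no fusion of `z` and `y` when the index is two -/
theorem not_fuse_z (T : Subgroup G) [IsKleinFour T] (hTS : T ≤ (S : Subgroup G))
    (h2 : (Subgroup.centralizer (T : Set G)).relIndex (Subgroup.normalizer (T : Set G)) = 2)
    (g : G) : g * zG D * g⁻¹ ≠ yG D := by
  intro hg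
  have := three_dvd_klein S D hS T hTS (yG D) (yG_mem D) (orderOf_yG D) (yG_ne_zG D) g hg
  rw [h2] at this
  omega

/-- fusion of `z` and `y` (by an element of odd order) when the index is six -/
theorem fuse_z (T : Subgroup G) [IsKleinFour T] (hTS : T ≤ (S : Subgroup G))
    (h6 : (Subgroup.centralizer (T : Set G)).relIndex (Subgroup.normalizer (T : Set G)) = 6) :
    ∃ g : G, g * zG D * g⁻¹ = yG D := by
  obtain ⟨n, hnN, _, hn⟩ := klein_exists_odd T h6
  have hzT : zG D ∈ T := klein_zG_mem D hS T hTS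
  obtain ⟨t₀, ht₀T, ht₀1, ht₀z⟩ := klein_exists_third T (zG D)
  have hzne1 : zG D ≠ 1 := by
    intro h
    have := orderOf_zG D
    rw [h, orderOf_one] at this
    omega
  obtain ⟨k, hk⟩ := hn (zG D) hzT hzne1 t₀ ht₀T ht₀1
  obtain ⟨s₁, _, hs₁⟩ := (invol_cases_G D t₀ (hTS ht₀T) (klein_orderOf T ht₀T ht₀1)).resolve_left
    ht₀z
  refine ⟨s₁ * n ^ k, ?_⟩
  rw [← hs₁, ← hk]
  group

/-- no fusion of `x^q` and `xy` when the index is two -/
theorem not_fuse_v (Q : Subgroup G) (hQS : Q ≤ (S : Subgroup G)) (eQ : Q ≃* QuaternionGroup 2)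
    (h2 : (Q ⊔ Subgroup.centralizer (Q : Set G)).relIndex (Subgroup.normalizer (Q : Set G)) = 2)
    (g : G) (i : ZMod (2 ^ D.n)) (hi : D.par i = 1) : g * vG D * g⁻¹ ≠ pxyG D i := by
  intro hg
  have := three_dvd_quat S D hS Q hQS eQ i hi g hg
  rw [h2] at this
  omega

omit hS in
/-- fusion of `x^q` and `xy` when the index is six -/
theorem fuse_v (Q : Subgroup G) (hQS : Q ≤ (S : Subgroup G)) (eQ : Q ≃* QuaternionGroup 2)
    (h6 : (Q ⊔ Subgroup.centralizer (Q : Set G)).relIndex (Subgroup.normalizer (Q : Set G)) = 6) :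
    ∃ g : G, g * vG D * g⁻¹ = uG D := by
  obtain ⟨a, b, hab⟩ := exists_q8Data Q eQ
  obtain ⟨hvQ, i₀, hi₀, hu₀Q⟩ := quat_vG_mem D hQS hab
  obtain ⟨n, hnN, _, hn⟩ := hab.exists_odd h6
  have hu₀4 : orderOf (pxyG D i₀) = 4 := orderOf_pxyG_odd D hi₀
  obtain ⟨k, hk⟩ := hn _ (Q8Data.zpowers_mem_subs (vG D) hvQ (orderOf_vG D)) _
    (Q8Data.zpowers_mem_subs _ hu₀Q hu₀4)
  rw [MonoidHom.map_zpowers] at hk
  simp only [MulEquiv.coe_toMonoidHom, MulAut.conj_apply] at hk
  have hmem : n ^ k * vG D * (n ^ k)⁻¹ ∈ Subgroup.zpowers (pxyG D i₀) := by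
    rw [← hk]; exact Subgroup.mem_zpowers _
  have ho : orderOf (n ^ k * vG D * (n ^ k)⁻¹) = 4 := by
    rw [← orderOf_vG D]
    exact MulEquiv.orderOf_eq (MulAut.conj (n ^ k)) (vG D)
  rcases Q8Data.order_four_cases hu₀4 hmem ho with e | e
  · obtain ⟨s, _, hs⟩ := pxyG_conj D (i := i₀) (j := 1) (by rw [hi₀, map_one])
    refine ⟨s * n ^ k, ?_⟩
    rw [uG_eq, ← hs, ← e]
    group
  · rw [pxyG_inv] at e
    obtain ⟨s, _, hs⟩ := pxyG_conj D (i := -(D.r * i₀)) (j := 1) (by
      rw [inv_pxy_par, hi₀, map_one])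
    refine ⟨s * n ^ k, ?_⟩
    rw [uG_eq, ← hs, ← e]
    group

omit hS in
/-- every 2-element is conjugate into `S` -/
theorem exists_conj_mem (t : G) (k : ℕ) (ht : orderOf t = 2 ^ k) :
    ∃ c : G, c * t * c⁻¹ ∈ (S : Subgroup G) := by
  have hp : IsPGroup 2 (Subgroup.zpowers t) := IsPGroup.of_card (n := k) (by
    rw [Nat.card_zpowers, ht])
  obtain ⟨c, _, hc⟩ := exists_conj_mem_sylow S ⊤ le_top (Subgroup.zpowers t) hp le_top
  exact ⟨c, hc t (Subgroup.mem_zpowers t)⟩

omit hS in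
theorem index_subgroupOf_of_index_two (H : Subgroup G) (hH : H.index = 2) :
    (H.subgroupOf (S : Subgroup G)).index = 2 := by
  have hn : H.Normal := Subgroup.normal_of_index_eq_two hH
  have h1 : H.relIndex (S : Subgroup G) ∣ 2 := by
    have := Subgroup.relIndex_dvd_index_of_normal H (S : Subgroup G)
    rwa [hH] at this
  have h2 : H.relIndex (S : Subgroup G) ≠ 1 := by
    intro h
    rw [Subgroup.relIndex_eq_one] at h
    have h3 := Subgroup.relIndex_mul_index h
    rw [hH] at h3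
    exact S.not_dvd_index ⟨_, by rw [← h3, mul_comm]⟩
  have h3 : H.relIndex (S : Subgroup G) ≤ 2 := Nat.le_of_dvd (by norm_num) h1
  have h4 : H.relIndex (S : Subgroup G) ≠ 0 := fun h => by rw [h] at h1; omega
  change H.relIndex (S : Subgroup G) = 2
  omega

omit hS in
theorem index_two_of_fuse_z (H : Subgroup G) (hH : H.index = 2) (g : G)
    (hg : g * zG D * g⁻¹ = yG D) : H.subgroupOf (S : Subgroup G) = D.dih := by
  have hn : H.Normal := Subgroup.normal_of_index_eq_two hH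
  have hidx := index_subgroupOf_of_index_two S H hH
  have hz : zG D ∈ H := by
    have := z_mem_of_index_two D _ hidx
    rwa [Subgroup.mem_subgroupOf] at this
  have hy : D.y ∈ H.subgroupOf (S : Subgroup G) := by
    rw [Subgroup.mem_subgroupOf]
    have := hn.conj_mem _ hz g
    rw [hg] at this
    exact this
  rcases index_two_cases D _ hidx with h | h | h
  · rw [h] at hy
    exfalso
    have := pxy_notMem_zpowers D 0
    rw [D.px_zero, one_mul] at this
    exact this hy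
  · rw [h] at hy
    exact absurd hy (y_notMem_quat D)
  · exact h

omit hS in
theorem index_two_of_fuse_v (H : Subgroup G) (hH : H.index = 2) (g : G)
    (hg : g * vG D * g⁻¹ = uG D) : H.subgroupOf (S : Subgroup G) = D.quat := by
  have hn : H.Normal := Subgroup.normal_of_index_eq_two hH
  have hidx := index_subgroupOf_of_index_two S H hH
  have hv : vG D ∈ H := by
    have := px_q_mem_of_index_two D _ hidx
    rwa [Subgroup.mem_subgroupOf] at this
  have hu : D.px 1 * D.y ∈ H.subgroupOf (S : Subgroup G) := by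
    rw [Subgroup.mem_subgroupOf]
    have := hn.conj_mem _ hv g
    rw [hg] at this
    exact this
  rcases index_two_cases D _ hidx with h | h | h
  · rw [h] at hu
    exact absurd hu (pxy_notMem_zpowers D 1)
  · exact h
  · rw [h] at hu
    exact absurd hu (pxy_one_notMem_dih D)

omit hS [Finite G] in
theorem dih_ne_quat : D.dih ≠ D.quat := by
  intro h
  have := y_notMem_quat D
  rw [← h] at this
  apply this
  have h0 : D.px 0 * D.y ∈ D.dih := (D.pxy_mem_dih 0).mpr (map_zero _)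
  rwa [D.px_zero, one_mul] at h0

omit hS in
/-- every involution of `G` is conjugate to `z` or to `y` -/
theorem invol_conj (t : G) (ht : orderOf t = 2) : IsConj t (zG D) ∨ IsConj t (yG D) := by
  obtain ⟨c, hc⟩ := exists_conj_mem S t 1 (by rw [ht, pow_one])
  have ho : orderOf (c * t * c⁻¹) = 2 := by
    rw [← ht]; exact MulEquiv.orderOf_eq (MulAut.conj c) t
  rcases invol_cases_G D _ hc ho with h | ⟨s, _, hs⟩
  · left
    rw [isConj_iff]
    exact ⟨c, h⟩
  · right
    rw [isConj_iff]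
    refine ⟨s * c, ?_⟩
    rw [← hs]
    group

omit hS [Finite G] in
theorem vG_inv_conj : IsConj (vG D)⁻¹ (vG D) := by
  rw [isConj_iff]
  refine ⟨pxyG D 0, ?_⟩
  have := pxyG_conj_vG D 0
  calc pxyG D 0 * (vG D)⁻¹ * (pxyG D 0)⁻¹ = (pxyG D 0 * vG D * (pxyG D 0)⁻¹)⁻¹ := by group
    _ = vG D := by rw [this, inv_inv]

omit hS in
/-- every element of order four of `G` is conjugate to `x^q` or to `xy` -/
theorem order4_conj (t : G) (ht : orderOf t = 4) : IsConj t (vG D) ∨ IsConj t (uG D) := by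
  obtain ⟨c, hc⟩ := exists_conj_mem S t 2 (by rw [ht]; norm_num)
  have ho : orderOf (c * t * c⁻¹) = 4 := by
    rw [← ht]; exact MulEquiv.orderOf_eq (MulAut.conj c) t
  have hct : IsConj t (c * t * c⁻¹) := isConj_iff.mpr ⟨c, rfl⟩
  rcases order4_cases_G D _ hc ho with (h | h) | ⟨i, hi, h⟩
  · left
    rw [← h]; exact hct
  · left
    exact (h ▸ hct).trans (vG_inv_conj S D)
  · right
    obtain ⟨s, _, hs⟩ := pxyG_conj D (i := i) (j := 1) (by rw [hi, map_one])
    rw [uG_eq, ← hs, ← h]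
    exact hct.trans (isConj_iff.mpr ⟨s, rfl⟩)

/-- when `|N(T) : C(T)| = 2` there is a normal subgroup of index two missing `y` -/
theorem exists_K_of_klein_two (T : Subgroup G) [IsKleinFour T] (hTS : T ≤ (S : Subgroup G))
    (h2 : (Subgroup.centralizer (T : Set G)).relIndex (Subgroup.normalizer (T : Set G)) = 2) :
    ∃ K : Subgroup G, K.Normal ∧ K.index = 2 ∧ yG D ∉ K := by
  rcases Cfsg.Agent.S0111.result S (quatG D) (quatG_le D) (relIndex_quatG D) (yG D)
    (orderOf_yG D) (yG_mem D) (yG_notMem_quatG D) with h | ⟨g, hg⟩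
  · exact h
  · exfalso
    have ho : orderOf (g * yG D * g⁻¹) = 2 :=
      (MulEquiv.orderOf_eq (MulAut.conj g) (yG D)).trans (orderOf_yG D)
    have hz := invol_quatG D _ ho hg
    apply not_fuse_z S D hS T hTS h2 g⁻¹
    rw [← hz]
    group

/-- when `|N(Q) : Q C(Q)| = 2` there is a normal subgroup of index two missing `xy` -/
theorem exists_K_of_quat_two (Q : Subgroup G) (hQS : Q ≤ (S : Subgroup G))
    (eQ : Q ≃* QuaternionGroup 2)
    (h2 : (Q ⊔ Subgroup.centralizer (Q : Set G)).relIndex (Subgroup.normalizer (Q : Set G)) = 2) :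
    ∃ K : Subgroup G, K.Normal ∧ K.index = 2 ∧ uG D ∉ K := by
  have hu4 : uG D ^ 4 = 1 := by
    have := pow_orderOf_eq_one (uG D)
    rwa [orderOf_uG D] at this
  apply exists_index_two_of_order_four S (dihG D) (relIndex_dihG D) (uG D) hu4
  · intro g hgS hgM
    have ho : orderOf (g⁻¹ * uG D * g) = 4 := by
      have := (MulEquiv.orderOf_eq (MulAut.conj g⁻¹) (uG D)).trans (orderOf_uG D)
      simpa using this
    rcases order4_cases_G D _ hgS ho with (h | h) | ⟨i, hi, h⟩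
    · apply not_fuse_v S D hS Q hQS eQ h2 g 1 (by rw [map_one])
      rw [← h, ← uG_eq]
      group
    · apply not_fuse_v S D hS Q hQS eQ h2 (g * pxyG D 0) 1 (by rw [map_one])
      have h' : vG D = (g⁻¹ * uG D * g)⁻¹ := by rw [h, inv_inv]
      have e1 : g * pxyG D 0 * vG D * (g * pxyG D 0)⁻¹ =
          g * (pxyG D 0 * vG D * (pxyG D 0)⁻¹) * g⁻¹ := by group
      rw [e1, pxyG_conj_vG, ← h, ← uG_eq]
      group
    · rw [h, pxyG_mem_dihG, hi] at hgM
      exact one_ne_zero hgM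
  · intro g hgS
    apply invol_mem_dihG D _ hgS
    have hsq : uG D ^ 2 = zG D := by rw [uG_eq]; exact pxyG_odd_sq D (by rw [map_one])
    rw [hsq]
    have := (MulEquiv.orderOf_eq (MulAut.conj g⁻¹) (zG D)).trans (orderOf_zG D)
    simpa using this

omit hS in
theorem subgroupOf_cases_of_yG_notMem (K : Subgroup G) (hK : K.index = 2) (hy : yG D ∉ K) :
    K.subgroupOf (S : Subgroup G) = Subgroup.zpowers D.x ∨
      K.subgroupOf (S : Subgroup G) = D.quat := by
  rcases index_two_cases D _ (index_subgroupOf_of_index_two S K hK) with h | h | h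
  · exact Or.inl h
  · exact Or.inr h
  · exfalso
    apply hy
    have : D.y ∈ K.subgroupOf (S : Subgroup G) := by
      rw [h]
      have h0 : D.px 0 * D.y ∈ D.dih := (D.pxy_mem_dih 0).mpr (map_zero _)
      rwa [D.px_zero, one_mul] at h0
    rwa [Subgroup.mem_subgroupOf] at this

omit hS in
theorem subgroupOf_cases_of_uG_notMem (K : Subgroup G) (hK : K.index = 2) (hu : uG D ∉ K) :
    K.subgroupOf (S : Subgroup G) = Subgroup.zpowers D.x ∨
      K.subgroupOf (S : Subgroup G) = D.dih := by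
  rcases index_two_cases D _ (index_subgroupOf_of_index_two S K hK) with h | h | h
  · exact Or.inl h
  · exfalso
    apply hu
    have : D.px 1 * D.y ∈ K.subgroupOf (S : Subgroup G) := by
      rw [h]
      exact (D.pxy_mem_quat 1).mpr (map_one _)
    rwa [Subgroup.mem_subgroupOf] at this
  · exact Or.inr h

omit hS [Finite G] in
theorem odd_closed_conj (L : Subgroup G) (hL : ∀ n : G, Odd (orderOf n) → n ∈ L) (s : G) :
    ∀ n : G, Odd (orderOf n) → n ∈ L.map (MulAut.conj s).toMonoidHom := by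
  intro n hn
  rw [mem_map_conj_iff]
  apply hL
  have := MulEquiv.orderOf_eq (MulAut.conj s⁻¹) n
  simp only [MulAut.conj_apply, inv_inv] at this
  rw [this]
  exact hn

omit hS in
/-- A subgroup containing all elements of odd order and an element of order four of `Q` contains
the quaternion maximal subgroup of `S`, when `|N(Q) : Q C(Q)| = 6`. -/
theorem quatG_le_of_odd_closed (Q : Subgroup G) (hQS : Q ≤ (S : Subgroup G))
    (eQ : Q ≃* QuaternionGroup 2)
    (h6 : (Q ⊔ Subgroup.centralizer (Q : Set G)).relIndex (Subgroup.normalizer (Q : Set G)) = 6)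
    (L : Subgroup G) (hL : ∀ n : G, Odd (orderOf n) → n ∈ L) (c : G) (hcQ : c ∈ Q) (hcL : c ∈ L)
    (hc4 : orderOf c = 4) : quatG D ≤ L := by
  obtain ⟨a, b, hab⟩ := exists_q8Data Q eQ
  obtain ⟨hvQ, i₀, hi₀, hu₀Q⟩ := quat_vG_mem D hQS hab
  have hQL : Q ≤ L := hab.le_of_odd_closed h6 L hL c hcQ hcL hc4
  have hvL : vG D ∈ L := hQL hvQ
  have hodd : ∀ i, D.par i = 1 → pxyG D i ∈ L := by
    intro i hi
    obtain ⟨s, hsS, hs⟩ := pxyG_conj D (i := i₀) (j := i) (by rw [hi₀, hi])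
    have hQL' : Q ≤ L.map (MulAut.conj s⁻¹).toMonoidHom := by
      apply hab.le_of_odd_closed h6 _ (odd_closed_conj L hL s⁻¹) (s⁻¹ * vG D * s)
      · rcases vG_conj D s⁻¹ (Subgroup.inv_mem _ hsS) with e | e
        · rw [inv_inv] at e; rw [e]; exact hvQ
        · rw [inv_inv] at e; rw [e]; exact Q.inv_mem hvQ
      · rw [mem_map_conj_iff]
        have : s⁻¹⁻¹ * (s⁻¹ * vG D * s) * s⁻¹ = vG D := by group
        rw [this]
        exact hvL
      · have := (MulEquiv.orderOf_eq (MulAut.conj s⁻¹) (vG D)).trans (orderOf_vG D)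
        simpa using this
    have := hQL' hu₀Q
    rw [mem_map_conj_iff, inv_inv, hs] at this
    exact this
  intro g hg
  obtain ⟨t, ht, rfl⟩ := Subgroup.mem_map.mp hg
  obtain ⟨i, rfl | rfl⟩ := D.normal_form t
  · have hi : D.par i = 0 := (D.px_mem_quat i).mp ht
    have e : (D.px i : ↥(S : Subgroup G)) = (D.px (i + 1) * D.y) * (D.px 1 * D.y)⁻¹ := by
      rw [D.px_add]
      group
    have h1 := hodd (i + 1) (by rw [map_add, hi, map_one, zero_add])
    have h2 := hodd 1 (by rw [map_one])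
    have e' : ((Subgroup.subtype (S : Subgroup G)) (D.px i)) = pxyG D (i + 1) * (pxyG D 1)⁻¹ := by
      rw [e]
      simp [pxyG]
    rw [e']
    exact L.mul_mem h1 (L.inv_mem h2)
  · exact hodd i ((D.pxy_mem_quat i).mp ht)

/-- A subgroup containing all elements of odd order and meeting `T` nontrivially contains the
dihedral maximal subgroup of `S`, when `|N(T) : C(T)| = 6`. -/
theorem dihG_le_of_odd_closed (T : Subgroup G) [IsKleinFour T] (hTS : T ≤ (S : Subgroup G))
    (h6 : (Subgroup.centralizer (T : Set G)).relIndex (Subgroup.normalizer (T : Set G)) = 6)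
    (L : Subgroup G) (hL : ∀ n : G, Odd (orderOf n) → n ∈ L) (c : G) (hcT : c ∈ T) (hcL : c ∈ L)
    (hc1 : c ≠ 1) : dihG D ≤ L := by
  have hzT : zG D ∈ T := klein_zG_mem D hS T hTS
  have hTL : T ≤ L := klein_le_of_odd_closed T h6 L hL c hcT hcL hc1
  have hzL : zG D ∈ L := hTL hzT
  have hzne1 : zG D ≠ 1 := by
    intro h
    have := orderOf_zG D
    rw [h, orderOf_one] at this
    omega
  obtain ⟨t₀, ht₀T, ht₀1, ht₀z⟩ := klein_exists_third T (zG D)
  obtain ⟨s₁, hs₁S, hs₁⟩ := (invol_cases_G D t₀ (hTS ht₀T) (klein_orderOf T ht₀T ht₀1)).resolve_left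
    ht₀z
  have heven : ∀ i, D.par i = 0 → pxyG D i ∈ L := by
    intro i hi
    obtain ⟨s₂, hs₂S, hs₂⟩ := pxyG_conj D (i := 0) (j := i) (by rw [map_zero, hi])
    rw [← yG_eq, ← hs₁] at hs₂
    obtain ⟨s, hsdef⟩ : ∃ s : G, s = s₂ * s₁ := ⟨_, rfl⟩
    have hsS : s ∈ (S : Subgroup G) := by rw [hsdef]; exact Subgroup.mul_mem _ hs₂S hs₁S
    have hs : s * t₀ * s⁻¹ = pxyG D i := by
      rw [← hs₂, hsdef]; group
    have hTL' : T ≤ L.map (MulAut.conj s⁻¹).toMonoidHom := by
      apply klein_le_of_odd_closed T h6 _ (odd_closed_conj L hL s⁻¹) (zG D) hzT _ hzne1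
      rw [mem_map_conj_iff, inv_inv, zG_conj D s hsS]
      exact hzL
    have := hTL' ht₀T
    rw [mem_map_conj_iff, inv_inv, hs] at this
    exact this
  intro g hg
  obtain ⟨t, ht, rfl⟩ := Subgroup.mem_map.mp hg
  obtain ⟨i, rfl | rfl⟩ := D.normal_form t
  · have hi : D.par i = 0 := (D.px_mem_dih i).mp ht
    have e : (D.px i : ↥(S : Subgroup G)) = (D.px i * D.y) * (D.px 0 * D.y)⁻¹ := by
      rw [D.px_zero]
      group
    have h1 := heven i hi
    have h2 := heven 0 (map_zero _)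
    have e' : ((Subgroup.subtype (S : Subgroup G)) (D.px i)) = pxyG D i * (pxyG D 0)⁻¹ := by
      rw [e]
      simp [pxyG]
    rw [e']
    exact L.mul_mem h1 (L.inv_mem h2)
  · exact heven i ((D.pxy_mem_dih i).mp ht)

/-- the centre of `S` is weakly closed when `z` is not fused to `y` -/
theorem center_weaklyClosed (hnf : ∀ g : G, g * zG D * g⁻¹ ≠ yG D) :
    Cfsg.IsWeaklyClosed ((Subgroup.center ↥(S : Subgroup G)).map (S : Subgroup G).subtype)
      (S : Subgroup G) := by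
  refine ⟨Subgroup.map_subtype_le _, ?_⟩
  intro g hg
  have hzW : zG D ∈ (Subgroup.center ↥(S : Subgroup G)).map (S : Subgroup G).subtype :=
    (mem_centerG_iff D _).mpr (Or.inr rfl)
  have hgz : g * zG D * g⁻¹ ∈ (S : Subgroup G) := hg (Subgroup.mem_map.mpr ⟨_, hzW, rfl⟩)
  have ho : orderOf (g * zG D * g⁻¹) = 2 :=
    (MulEquiv.orderOf_eq (MulAut.conj g) (zG D)).trans (orderOf_zG D)
  have hfix : g * zG D * g⁻¹ = zG D := by
    rcases invol_cases_G D _ hgz ho with h | ⟨s, _, hs⟩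
    · exact h
    · exfalso
      apply hnf (s * g)
      rw [← hs]
      group
  ext x
  rw [mem_map_conj_iff, mem_centerG_iff, mem_centerG_iff]
  constructor
  · rintro (h | h)
    · left
      have : x = g * (g⁻¹ * x * g) * g⁻¹ := by group
      rw [this, h]
      group
    · right
      have : x = g * (g⁻¹ * x * g) * g⁻¹ := by group
      rw [this, h, hfix]
  · rintro (h | h)
    · left
      rw [h]
      group
    · right
      rw [h]
      calc g⁻¹ * zG D * g = g⁻¹ * (g * zG D * g⁻¹) * g := by rw [hfix]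
        _ = zG D := by group

end fusion

end Cfsg.Agent.Lib.Helper23.QDFusion
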