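import Mathlib

set_option autoImplicit false

/-!
# Odd order automorphisms of 2-groups: stability lemmas
-/

namespace Cfsg.Agent.Lib.Helper23.OddAut

variable {H : Type*} [Group H]

theorem pow_apply_mul (α : MulAut H) (x t : H) (hx : α x = x * t) (ht : α t = t) (j : ℕ) :
    (α ^ j) x = x * t ^ j := by
  induction j with
  | zero => simp
  | succ j ih =>
    rw [pow_succ', MulAut.mul_apply, ih, map_mul, map_pow, hx, ht, mul_assoc, ← pow_succ']

/-- The stability lemma. -/
theorem stab (α : MulAut H) (m : ℕ) (hm : Odd m) (hα : α ^ m = 1) (x t : H)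
    (hx : α x = x * t) (ht : α t = t) (k : ℕ) (htk : t ^ (2 ^ k) = 1) : t = 1 := by
  have h1 := pow_apply_mul α x t hx ht m
  rw [hα, MulAut.one_apply] at h1
  have h2 : t ^ m = 1 := by
    have := h1.symm
    rwa [mul_eq_left] at this
  have hco : Nat.Coprime m (2 ^ k) := Nat.Coprime.pow_right k (Nat.Coprime.symm (by
    rw [Nat.coprime_two_left]; exact hm))
  have := (pow_gcd_eq_one (a := t) (m := m) (n := 2 ^ k)).2 ⟨h2, htk⟩
  rwa [hco, pow_one] at this

theorem fix_of_mul (α : MulAut H) (m : ℕ) (hm : Odd m) (hα : α ^ m = 1) (x t : H)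
    (hx : α x = x * t) (ht : α t = t) (k : ℕ) (htk : t ^ (2 ^ k) = 1) : α x = x := by
  rw [hx, stab α m hm hα x t hx ht k htk, mul_one]

/-- An involution `t` with `α t ∈ {t, t c}`, `α c = c`, `c² = 1` is fixed. -/
theorem fix_invol (α : MulAut H) (m : ℕ) (hm : Odd m) (hα : α ^ m = 1) (c t : H) (hc : α c = c)
    (hc2 : c * c = 1) (ht : α t = t ∨ α t = t * c) : α t = t := by
  rcases ht with ht | ht
  · exact ht
  · exact fix_of_mul α m hm hα t c ht hc 1 (by rw [pow_one, pow_two]; exact hc2)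

/-- An odd order automorphism fixing all involutions of an invariant abelian 2-subgroup fixes it
pointwise. -/
theorem fix_abelian (α : MulAut H) (m : ℕ) (hm : Odd m) (hα : α ^ m = 1) (H0 : Subgroup H)
    (hcomm : ∀ a ∈ H0, ∀ b ∈ H0, a * b = b * a) (hinv : ∀ y ∈ H0, α y ∈ H0)
    (h2 : ∀ y ∈ H0, ∃ k : ℕ, y ^ (2 ^ k) = 1)
    (hfix : ∀ t ∈ H0, t * t = 1 → α t = t) : ∀ y ∈ H0, α y = y := by
  have key : ∀ k : ℕ, ∀ y ∈ H0, y ^ (2 ^ k) = 1 → α y = y := by
    intro k
    induction k with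
    | zero =>
      intro y _ hy
      rw [pow_zero, pow_one] at hy
      rw [hy, map_one]
    | succ k ih =>
      intro y hy hyk
      have hyy : α (y * y) = y * y := by
        apply ih (y * y) (mul_mem hy hy)
        rw [← pow_two, ← pow_mul, ← pow_succ']
        exact hyk
      set t := y⁻¹ * α y with ht
      have htm : t ∈ H0 := mul_mem (inv_mem hy) (hinv y hy)
      have htt : t * t = 1 := by
        have hc := hcomm (α y) (hinv y hy) y⁻¹ (inv_mem hy)
        calc t * t = y⁻¹ * (α y * y⁻¹) * α y := by rw [ht]; group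
          _ = y⁻¹ * (y⁻¹ * α y) * α y := by rw [hc]
          _ = (y * y)⁻¹ * (α y * α y) := by group
          _ = (y * y)⁻¹ * α (y * y) := by rw [map_mul]
          _ = 1 := by rw [hyy, inv_mul_cancel]
      have hαt : α t = t := hfix t htm htt
      have hxy : α y = y * t := by rw [ht, mul_inv_cancel_left]
      exact fix_of_mul α m hm hα y t hxy hαt 1 (by rw [pow_one, pow_two]; exact htt)
  intro y hy
  obtain ⟨k, hk⟩ := h2 y hy
  exact key k y hy hk

/-- An odd order automorphism fixing pointwise a 2-subgroup of index two is trivial. -/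
theorem eq_one_of_index_two (α : MulAut H) (m : ℕ) (hm : Odd m) (hα : α ^ m = 1)
    (H0 : Subgroup H) (hidx : H0.index = 2) (hfix : ∀ y ∈ H0, α y = y)
    (h2 : ∀ y ∈ H0, ∃ k : ℕ, y ^ (2 ^ k) = 1) : α = 1 := by
  ext x
  rw [MulAut.one_apply]
  by_cases hx : x ∈ H0
  · exact hfix x hx
  · have hαx : α x ∉ H0 := by
      intro h
      have := hfix (α x) h
      have h' : α x = x := α.injective this
      rw [h'] at h
      exact hx h
    have ht : x⁻¹ * α x ∈ H0 := by
      rw [Subgroup.mul_mem_iff_of_index_two hidx, inv_mem_iff]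
      exact ⟨fun h => absurd h hx, fun h => absurd h hαx⟩
    obtain ⟨k, hk⟩ := h2 _ ht
    exact fix_of_mul α m hm hα x (x⁻¹ * α x) (by rw [mul_inv_cancel_left]) (hfix _ ht) k hk

/-- If a group has two distinct abelian subgroups of index 2, their intersection is central. -/
theorem inf_le_center_of_two_abelian (H0 H1 : Subgroup H) (h0 : H0.index = 2)
    (hne : ¬ H1 ≤ H0)
    (c0 : ∀ a ∈ H0, ∀ b ∈ H0, a * b = b * a) (c1 : ∀ a ∈ H1, ∀ b ∈ H1, a * b = b * a) :
    H0 ⊓ H1 ≤ Subgroup.center H := by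
  obtain ⟨h1, hh1, hh1'⟩ := SetLike.not_le_iff_exists.mp hne
  rintro y ⟨hy0, hy1⟩
  rw [Subgroup.mem_center_iff]
  intro g
  by_cases hg : g ∈ H0
  · exact c0 g hg y hy0
  · have hgh : g * h1⁻¹ ∈ H0 := by
      rw [Subgroup.mul_mem_iff_of_index_two h0, inv_mem_iff]
      exact ⟨fun h => absurd h hg, fun h => absurd h hh1'⟩
    have e1 := c0 (g * h1⁻¹) hgh y hy0
    have e2 := c1 h1 hh1 y hy1
    calc g * y = (g * h1⁻¹) * (h1 * y) := by group
      _ = (g * h1⁻¹) * (y * h1) := by rw [e2]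
      _ = ((g * h1⁻¹) * y) * h1 := by group
      _ = (y * (g * h1⁻¹)) * h1 := by rw [e1]
      _ = y * g := by group

/-- Existence of a nontrivial odd order automorphism when the automorphism group is not a
2-group. -/
theorem exists_odd_of_not_isPGroup [Finite H] (hA : ¬ IsPGroup 2 (MulAut H)) :
    ∃ (α : MulAut H) (m : ℕ), Odd m ∧ α ^ m = 1 ∧ α ≠ 1 := by
  haveI : Finite (MulAut H) := Finite.of_injective (fun f : MulAut H => (f : H → H))
    (fun f g h => MulEquiv.ext (congrFun h))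
  unfold IsPGroup at hA
  push Not at hA
  obtain ⟨β, hβ⟩ := hA
  obtain ⟨j, m, hm, hord⟩ := Nat.exists_eq_two_pow_mul_odd (orderOf_pos β).ne'
  refine ⟨β ^ (2 ^ j), m, hm, ?_, hβ j⟩
  rw [← pow_mul, ← hord, pow_orderOf_eq_one]

end Cfsg.Agent.Lib.Helper23.OddAut
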