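import Mathlib
import Cfsg.Agent.Lib.Helper16.SylowNormal
import Cfsg.Agent.Lib.Helper23.OddAut
import Cfsg.Agent.Lib.Helper23.ThreePoint

set_option autoImplicit false

/-!
# Index computations for local subgroups: `|N : C| ∈ {2, 6}` from a three-point action
-/

namespace Cfsg.Agent.Lib.Helper23.LocalIndex

open Cfsg.Agent.Lib.Helper23.OddAut

variable {G : Type*} [Group G]

theorem relIndex_mul_card {H K : Subgroup G} (h : H ≤ K) :
    H.relIndex K * Nat.card H = Nat.card K := by
  have e : Nat.card (H.subgroupOf K) = Nat.card H :=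
    Nat.card_congr (Subgroup.subgroupOfEquivOfLe h).toEquiv
  rw [Subgroup.relIndex, ← e, mul_comm]
  exact Subgroup.card_mul_index _

/-- Lemma A: a Sylow subgroup of `N` meets a normal subgroup `C` of `N` in a Sylow subgroup. -/
theorem not_dvd_relIndex_inf_of_normal [Finite G] {p : ℕ} [Fact p.Prime] (P N C : Subgroup G)
    (hP : IsPGroup p P) (hidx : ¬ p ∣ P.relIndex N) (hCN : C ≤ N)
    (hn : N ≤ Subgroup.normalizer (C : Set G)) : ¬ p ∣ (P ⊓ C).relIndex C := by
  have hpS : IsPGroup p (P.subgroupOf N) := hP.comap_subtype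
  let P' : Sylow p N := hpS.toSylow hidx
  have hCn : (C.subgroupOf N).Normal := (Subgroup.normal_subgroupOf_iff_le_normalizer hCN).mpr hn
  have h1 := Cfsg.Agent.Lib.Helper16.not_dvd_relIndex_sylow_normal P' (C.subgroupOf N)
  have h2 : ((P' : Subgroup N)).relIndex (C.subgroupOf N) = P.relIndex C := by
    show (P.subgroupOf N).relIndex (C.subgroupOf N) = _
    exact Subgroup.relIndex_subgroupOf hCN
  rw [h2] at h1
  rwa [Subgroup.inf_relIndex_right]

/-- Lemma B: the `p`-part of `|N : C|`. -/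
theorem relIndex_eq_pow_mul [Finite G] {p : ℕ} [Fact p.Prime] (P N C : Subgroup G)
    (hP : IsPGroup p P) (hPN : P ≤ N) (hidx : ¬ p ∣ P.relIndex N) (hCN : C ≤ N)
    (hn : N ≤ Subgroup.normalizer (C : Set G)) (k : ℕ) (hk : (P ⊓ C).relIndex P = p ^ k) :
    ∃ m, ¬ p ∣ m ∧ C.relIndex N = p ^ k * m := by
  have hp : p.Prime := Fact.out
  have e1 := relIndex_mul_card hCN
  have e2 := relIndex_mul_card hPN
  have e3 := relIndex_mul_card (inf_le_right : P ⊓ C ≤ C)
  have e4 := relIndex_mul_card (inf_le_left : P ⊓ C ≤ P)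
  have hA := not_dvd_relIndex_inf_of_normal P N C hP hidx hCN hn
  set R := C.relIndex N
  set i1 := P.relIndex N
  set i2 := (P ⊓ C).relIndex C
  set c0 := Nat.card (P ⊓ C : Subgroup G)
  have hc0 : 0 < c0 := Nat.card_pos
  rw [hk] at e4
  have key : R * i2 = i1 * p ^ k := by
    have : R * i2 * c0 = i1 * p ^ k * c0 := by
      calc R * i2 * c0 = R * (i2 * c0) := by ring
        _ = R * Nat.card C := by rw [e3]
        _ = Nat.card N := e1
        _ = i1 * Nat.card P := e2.symm
        _ = i1 * (p ^ k * c0) := by rw [e4]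
        _ = i1 * p ^ k * c0 := by ring
    exact Nat.eq_of_mul_eq_mul_right hc0 this
  have hco : Nat.Coprime (p ^ k) i2 :=
    Nat.Coprime.pow_left k ((Nat.Prime.coprime_iff_not_dvd hp).mpr hA)
  have hdvd : p ^ k ∣ R := by
    have : p ^ k ∣ R * i2 := ⟨i1, by rw [key, mul_comm]⟩
    exact hco.dvd_of_dvd_mul_right this
  obtain ⟨m, hm⟩ := hdvd
  refine ⟨m, ?_, hm⟩
  intro hpm
  apply hidx
  have h5 : m * i2 = i1 := by
    have : p ^ k * (m * i2) = p ^ k * i1 := by
      rw [← mul_assoc, ← hm, key, mul_comm]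
    exact Nat.eq_of_mul_eq_mul_left (pow_pos hp.pos k) this
  rw [← h5]
  exact Dvd.dvd.mul_right hpm _

/-- Abstract `2 or 6` lemma. -/
theorem index_two_or_six {N Ω : Type*} [Group N] [Finite N] [Finite Ω] (ρ : N →* Equiv.Perm Ω)
    (hΩ : Nat.card Ω = 3) (C : Subgroup N) [C.Normal] (hCK : C ≤ ρ.ker)
    (hodd : ∀ k ∈ ρ.ker, Odd (orderOf k) → k ∈ C)
    (h2 : ∃ m, ¬ 2 ∣ m ∧ C.index = 2 ^ 1 * m) : C.index = 2 ∨ C.index = 6 := by
  have h6 := Cfsg.Agent.Lib.Helper23.ThreePoint.index_ker_dvd_six ρ hΩ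
  have e := Subgroup.relIndex_mul_index hCK
  -- the relative index is a power of 2
  have hpow : ∃ j : ℕ, C.relIndex ρ.ker = 2 ^ j := by
    have hpg : IsPGroup 2 (ρ.ker ⧸ C.subgroupOf ρ.ker) := by
      intro g
      induction g using QuotientGroup.induction_on with
      | H k =>
        obtain ⟨j, m, hm, hord⟩ := Nat.exists_eq_two_pow_mul_odd (orderOf_pos k).ne'
        refine ⟨j, ?_⟩
        rw [← QuotientGroup.mk_pow, QuotientGroup.eq_one_iff, Subgroup.mem_subgroupOf]
        have hk : Odd (orderOf ((k : N) ^ 2 ^ j)) := by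
          have h1 : orderOf (k ^ 2 ^ j) = m := by
            rw [orderOf_pow_of_dvd (by positivity) ⟨m, hord⟩, hord]
            exact Nat.mul_div_cancel_left m (by positivity)
          have h2 : orderOf ((k : N) ^ 2 ^ j) = orderOf (k ^ 2 ^ j) := by
            rw [← Subgroup.coe_pow, Subgroup.orderOf_coe]
          rw [h2, h1]; exact hm
        rw [Subgroup.coe_pow]
        exact hodd _ (pow_mem k.2 _) hk
    obtain ⟨j, hj⟩ := IsPGroup.iff_card.mp hpg
    refine ⟨j, ?_⟩
    rw [Subgroup.relIndex, Subgroup.index_eq_card]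
    exact hj
  obtain ⟨j, hj⟩ := hpow
  obtain ⟨m, hm, hCm⟩ := h2
  rw [hj, hCm] at e
  rw [hCm]
  have hmodd : m % 2 = 1 := by
    rcases Nat.mod_two_eq_zero_or_one m with h | h
    · exact absurd (Nat.dvd_of_mod_eq_zero h) hm
    · exact h
  set d := ρ.ker.index with hd
  have hdpos : 0 < d := Nat.pos_of_dvd_of_pos h6 (by norm_num)
  have hdle : d ≤ 6 := Nat.le_of_dvd (by norm_num) h6
  -- case analysis on j
  rcases Nat.lt_or_ge j 2 with hj2 | hj2
  · interval_cases j <;> interval_cases d <;> simp at e h6 <;> omega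
  · exfalso
    obtain ⟨j', rfl⟩ : ∃ j', j = j' + 2 := ⟨j - 2, by omega⟩
    have h4 : 4 ∣ 2 ^ 1 * m := by
      rw [← e, pow_add]
      exact Dvd.dvd.mul_right (Dvd.dvd.mul_left (by norm_num) _) _
    omega

/-! ### Odd order elements acting on 2-groups -/

theorem conj_pow (x t : G) (j : ℕ) : x ^ j * t * (x ^ j)⁻¹ = (MulAut.conj x ^ j) t := by
  rw [← map_pow, MulAut.conj_apply]

/-- If `x` of odd order conjugates `t` to `t c` and fixes `c` with `c² = 1` then `c = 1`. -/
theorem eq_one_of_odd_conj (x : G) (hodd : Odd (orderOf x)) (t c : G)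
    (h1 : x * t * x⁻¹ = t * c) (h2 : x * c * x⁻¹ = c) (hc : c * c = 1) : c = 1 := by
  have hα : (MulAut.conj x) ^ orderOf x = 1 := by
    rw [← map_pow, pow_orderOf_eq_one, map_one]
  exact stab (MulAut.conj x) (orderOf x) hodd hα t c (by rw [MulAut.conj_apply]; exact h1)
    (by rw [MulAut.conj_apply]; exact h2) 1 (by rw [pow_one, pow_two]; exact hc)

theorem normalizerMonoidHom_pow_orderOf (T : Subgroup G) (x : G)
    (hx : x ∈ Subgroup.normalizer (T : Set G)) :
    (T.normalizerMonoidHom ⟨x, hx⟩) ^ orderOf x = 1 := by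
  rw [← map_pow]
  have : (⟨x, hx⟩ : Subgroup.normalizer (T : Set G)) ^ orderOf x = 1 := by
    apply Subtype.ext
    rw [Subgroup.coe_pow, Subgroup.coe_one]
    exact pow_orderOf_eq_one x
  rw [this, map_one]

/-- An odd order element normalizing an abelian 2-group and fixing its involutions centralizes
it. -/
theorem mem_centralizer_of_odd_abelian (T : Subgroup G)
    (hab : ∀ a ∈ T, ∀ b ∈ T, a * b = b * a) (h2 : ∀ t ∈ T, ∃ k : ℕ, t ^ (2 ^ k) = 1) (x : G)
    (hx : x ∈ Subgroup.normalizer (T : Set G)) (hodd : Odd (orderOf x))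
    (hfix : ∀ t ∈ T, t * t = 1 → x * t * x⁻¹ = t) : x ∈ Subgroup.centralizer (T : Set G) := by
  set α := T.normalizerMonoidHom ⟨x, hx⟩ with hα
  have hαm := normalizerMonoidHom_pow_orderOf T x hx
  have hall := fix_abelian α (orderOf x) hodd hαm ⊤
    (fun a _ b _ => Subtype.ext (by
      rw [Subgroup.coe_mul, Subgroup.coe_mul]; exact hab _ a.2 _ b.2))
    (fun y _ => Subgroup.mem_top _)
    (fun y _ => by
      obtain ⟨k, hk⟩ := h2 y y.2
      exact ⟨k, Subtype.ext (by rw [Subgroup.coe_pow, Subgroup.coe_one]; exact hk)⟩)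
    (fun t _ htt => by
      apply Subtype.ext
      show x * (t : G) * x⁻¹ = t
      exact hfix t t.2 (by
        have := congrArg Subtype.val htt
        simpa using this))
  rw [Subgroup.mem_centralizer_iff]
  intro t ht
  have h1 := congrArg Subtype.val (hall ⟨t, ht⟩ (Subgroup.mem_top _))
  have h3 : x * t * x⁻¹ = t := h1
  calc t * x = (x * t * x⁻¹) * x := by rw [h3]
    _ = x * t := by group

/-- An odd order element normalizing a 2-group `T` and an abelian subgroup `T0` of index 2, and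
fixing the involutions of `T0`, centralizes `T`. -/
theorem mem_centralizer_of_odd_index_two (T T0 : Subgroup G) (hidx : T0.relIndex T = 2)
    (hab : ∀ a ∈ T0, ∀ b ∈ T0, a * b = b * a) (h2 : ∀ t ∈ T, ∃ k : ℕ, t ^ (2 ^ k) = 1) (x : G)
    (hx : x ∈ Subgroup.normalizer (T : Set G)) (hx0 : ∀ t ∈ T0, x * t * x⁻¹ ∈ T0)
    (hodd : Odd (orderOf x))
    (hfix : ∀ t ∈ T0, t * t = 1 → x * t * x⁻¹ = t) : x ∈ Subgroup.centralizer (T : Set G) := by
  set α := T.normalizerMonoidHom ⟨x, hx⟩ with hα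
  have hαm := normalizerMonoidHom_pow_orderOf T x hx
  have h2' : ∀ y : T, ∃ k : ℕ, y ^ (2 ^ k) = 1 := by
    intro y
    obtain ⟨k, hk⟩ := h2 y y.2
    exact ⟨k, Subtype.ext (by rw [Subgroup.coe_pow, Subgroup.coe_one]; exact hk)⟩
  have hfix0 := fix_abelian α (orderOf x) hodd hαm (T0.subgroupOf T)
    (fun a ha b hb => Subtype.ext (by
      rw [Subgroup.coe_mul, Subgroup.coe_mul]
      exact hab _ (Subgroup.mem_subgroupOf.mp ha) _ (Subgroup.mem_subgroupOf.mp hb)))
    (fun y hy => by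
      rw [Subgroup.mem_subgroupOf]
      exact hx0 _ (Subgroup.mem_subgroupOf.mp hy))
    (fun y _ => h2' y)
    (fun t ht htt => by
      apply Subtype.ext
      show x * (t : G) * x⁻¹ = t
      exact hfix t (Subgroup.mem_subgroupOf.mp ht) (by
        have := congrArg Subtype.val htt
        simpa using this))
  have hone := eq_one_of_index_two α (orderOf x) hodd hαm (T0.subgroupOf T) hidx hfix0
    (fun y _ => h2' y)
  rw [Subgroup.mem_centralizer_iff]
  intro t ht
  have h1 : ((α ⟨t, ht⟩ : T) : G) = t := by rw [hone]; rfl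
  have h3 : x * t * x⁻¹ = t := h1
  calc t * x = (x * t * x⁻¹) * x := by rw [h3]
    _ = x * t := by group

/-! ### The set of involutions of a subgroup -/

/-- involutions of `T` -/
def invSet (T : Subgroup G) : Set G := {t | t ∈ T ∧ t ≠ 1 ∧ t * t = 1}

theorem invSet_stable (T : Subgroup G) : ∀ n ∈ Subgroup.normalizer (T : Set G), ∀ a ∈ invSet T,
    n * a * n⁻¹ ∈ invSet T := by
  intro n hn a ha
  refine ⟨(Subgroup.mem_normalizer_iff.mp hn a).mp ha.1, ?_, ?_⟩
  · intro h
    apply ha.2.1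
    have : a = n⁻¹ * (n * a * n⁻¹) * n := by group
    rw [this, h]
    group
  · calc n * a * n⁻¹ * (n * a * n⁻¹) = n * (a * a) * n⁻¹ := by group
      _ = 1 := by rw [ha.2.2]; group

/-! ### Decompositions -/

/-- If `|N : C| = 2` and `t ∈ N \ C` then `N = C ∪ C t`. -/
theorem mem_or_mul_inv_mem_of_relIndex_two {C N : Subgroup G} (h2 : C.relIndex N = 2) {t : G}
    (htN : t ∈ N) (htC : t ∉ C) {x : G} (hx : x ∈ N) : x ∈ C ∨ x * t⁻¹ ∈ C := by
  by_cases hxC : x ∈ C
  · exact Or.inl hxC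
  right
  have h := Subgroup.mul_mem_iff_of_index_two (H := C.subgroupOf N) h2
    (a := (⟨x, hx⟩ : N)) (b := (⟨t, htN⟩ : N)⁻¹)
  rw [Subgroup.mem_subgroupOf, Subgroup.mem_subgroupOf, inv_mem_iff (x := (⟨t, htN⟩ : N)),
    Subgroup.mem_subgroupOf] at h
  exact h.mpr ⟨fun h' => absurd h' hxC, fun h' => absurd h' htC⟩

/-- A normal subgroup `M` of `N` containing a Sylow 2-subgroup of `N` and all elements of odd
order of `N` is `N`. -/
theorem eq_of_sylow_le_of_odd_mem [Finite G] {P M N : Subgroup G} (hPM : P ≤ M) (hMN : M ≤ N)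
    (hn : N ≤ Subgroup.normalizer (M : Set G)) (hidx : ¬ 2 ∣ P.relIndex N)
    (hodd : ∀ x ∈ N, Odd (orderOf x) → x ∈ M) : M = N := by
  have hnorm : (M.subgroupOf N).Normal :=
    (Subgroup.normal_subgroupOf_iff_le_normalizer hMN).mpr hn
  have hpg : IsPGroup 2 (N ⧸ M.subgroupOf N) := by
    intro g
    induction g using QuotientGroup.induction_on with
    | H k =>
      obtain ⟨j, m, hm, hord⟩ := Nat.exists_eq_two_pow_mul_odd (orderOf_pos k).ne'
      refine ⟨j, ?_⟩
      rw [← QuotientGroup.mk_pow, QuotientGroup.eq_one_iff, Subgroup.mem_subgroupOf]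
      have hk : Odd (orderOf ((k : G) ^ 2 ^ j)) := by
        have h1 : orderOf (k ^ 2 ^ j) = m := by
          rw [orderOf_pow_of_dvd (by positivity) ⟨m, hord⟩, hord]
          exact Nat.mul_div_cancel_left m (by positivity)
        have h2 : orderOf ((k : G) ^ 2 ^ j) = orderOf (k ^ 2 ^ j) := by
          rw [← Subgroup.coe_pow, Subgroup.orderOf_coe]
        rw [h2, h1]; exact hm
      rw [Subgroup.coe_pow]
      exact hodd _ (pow_mem k.2 _) hk
  obtain ⟨j, hj⟩ := IsPGroup.iff_card.mp hpg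
  have h1 : M.relIndex N = 2 ^ j := by
    rw [Subgroup.relIndex, Subgroup.index_eq_card]; exact hj
  have h2 : M.relIndex N ∣ P.relIndex N := Subgroup.relIndex_dvd_of_le_left N hPM
  have hj0 : j = 0 := by
    by_contra h0
    apply hidx
    exact (dvd_pow_self 2 h0).trans (h1 ▸ h2)
  rw [hj0, pow_zero, Subgroup.relIndex_eq_one] at h1
  exact le_antisymm hMN h1

/-- In a 2-group a nontrivial element has a power which is an involution. -/
theorem exists_pow_involution {g : G} (hg : g ≠ 1) (h2 : ∃ k : ℕ, g ^ (2 ^ k) = 1) :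
    ∃ m : ℕ, g ^ m ≠ 1 ∧ g ^ m * g ^ m = 1 := by
  classical
  set k := Nat.find h2 with hk
  have hk1 : g ^ (2 ^ k) = 1 := Nat.find_spec h2
  have hk0 : k ≠ 0 := by
    intro h0
    rw [h0, pow_zero, pow_one] at hk1
    exact hg hk1
  refine ⟨2 ^ (k - 1), ?_, ?_⟩
  · intro h
    have := Nat.find_min h2 (m := k - 1) (by omega)
    exact this h
  · rw [← pow_add, ← two_mul, ← pow_succ']
    have : k - 1 + 1 = k := by omega
    rw [this]; exact hk1

end Cfsg.Agent.Lib.Helper23.LocalIndex
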