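import Mathlib
import Cfsg.Agent.Lib.Helper12.Wreathed
import Cfsg.Agent.Lib.Lead.QuatIso
import Cfsg.Agent.Lib.Helper23.OddAut
import Cfsg.Agent.Lib.Helper23.ThreePoint

set_option autoImplicit false

/-!
# Wreathed 2-groups: self-centralizing subgroups with an odd order automorphism

Coordinates from `Cfsg.Agent.Lib.Helper12.Wr.Data`.  `Vr r` is the subgroup `Q Z(S)`, `Q ≅ Q₈`.
-/

namespace Cfsg.Agent.Lib.Helper23.WrAut

open Cfsg.Agent.Lib.Helper12.Wr Cfsg.Agent.Lib.Helper23.OddAut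

variable {S : Type*} [Group S] (D : Data S)

/-! ### Ring facts in `ZMod (2 ^ n)` -/

/-- quarter: `2 ^ (n - 2)` -/
def q : ZMod (2 ^ D.n) := ((2 ^ (D.n - 2) : ℕ) : ZMod (2 ^ D.n))

theorem two_q : 2 * q D = D.h := by
  unfold q Data.h
  have : (2 : ZMod (2 ^ D.n)) = ((2 : ℕ) : ZMod (2 ^ D.n)) := by norm_num
  rw [this, ← Nat.cast_mul, ← pow_succ']
  have hn := D.hn
  have : D.n - 2 + 1 = D.n - 1 := by omega
  rw [this]

theorem four_q : 4 * q D = 0 := by
  have h1 := two_q D
  have h2 := D.two_h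
  linear_combination 2 * h1 + h2

theorem h_add_h : D.h + D.h = 0 := by
  have := D.two_h
  linear_combination this

theorem exists_mul_eq_h (d : ZMod (2 ^ D.n)) (hd : d ≠ 0) : ∃ j : ℕ, (j : ZMod (2 ^ D.n)) * d = D.h := by
  have h1 : addOrderOf d ∣ 2 ^ D.n := by
    have := addOrderOf_dvd_natCard d
    rwa [Nat.card_zmod] at this
  obtain ⟨k, hk, hk2⟩ := (Nat.dvd_prime_pow Nat.prime_two).mp h1
  have hk0 : k ≠ 0 := by
    intro h0
    rw [h0, pow_zero, AddMonoid.addOrderOf_eq_one_iff] at hk2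
    exact hd hk2
  refine ⟨2 ^ (k - 1), ?_⟩
  set e := ((2 ^ (k - 1) : ℕ) : ZMod (2 ^ D.n)) * d with he
  have h2 : 2 * e = 0 := by
    have h3 : (addOrderOf d) • d = 0 := addOrderOf_nsmul_eq_zero d
    rw [hk2, nsmul_eq_mul] at h3
    have h4 : (2 ^ k : ℕ) = 2 * 2 ^ (k - 1) := by
      rw [← pow_succ']; congr 1; omega
    rw [h4] at h3
    rw [he, ← mul_assoc]
    push_cast at h3 ⊢
    exact h3
  rcases (D.two_mul_eq_zero_iff e).mp h2 with h0 | hh
  · exfalso
    have h5 : (2 ^ (k - 1)) • d = 0 := by rw [nsmul_eq_mul]; exact h0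
    have h6 := addOrderOf_dvd_of_nsmul_eq_zero h5
    rw [hk2] at h6
    have h7 := Nat.le_of_dvd (by positivity) h6
    have h8 : 2 ^ (k - 1) < 2 ^ k := Nat.pow_lt_pow_right (by norm_num) (by omega)
    omega
  · exact hh

/-! ### Elements -/

/-- the central involution -/
def cc : S := D.pa (D.h, D.h)
/-- the involution `x ^ (2 ^ (n-1))` -/
def aa : S := D.pa (D.h, 0)
/-- the involution `y ^ (2 ^ (n-1))` -/
def bb : S := D.pa (0, D.h)

theorem pa_mul_self (v : D.E) : D.pa v * D.pa v = D.pa (v + v) := (D.pa_add v v).symm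

theorem cc_ne_one : cc D ≠ 1 := by
  unfold cc
  rw [Ne, D.pa_eq_one_iff]
  intro h
  exact D.h_ne_zero (congrArg Prod.fst h)

theorem aa_ne_one : aa D ≠ 1 := by
  unfold aa
  rw [Ne, D.pa_eq_one_iff]
  intro h
  exact D.h_ne_zero (congrArg Prod.fst h)

theorem aa_ne_cc : aa D ≠ cc D := by
  unfold aa cc
  intro h
  have := D.pa_injective h
  exact D.h_ne_zero (congrArg Prod.snd this).symm

theorem cc_mul_self : cc D * cc D = 1 := by
  unfold cc
  rw [pa_mul_self, D.pa_eq_one_iff]
  exact Prod.ext (h_add_h D) (h_add_h D)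

theorem aa_mul_self : aa D * aa D = 1 := by
  unfold aa
  rw [pa_mul_self, D.pa_eq_one_iff]
  exact Prod.ext (h_add_h D) (by simp)

theorem aa_mul_cc : aa D * cc D = bb D := by
  unfold aa cc bb
  rw [← D.pa_add]
  congr 1
  exact Prod.ext (by simpa using h_add_h D) (by simp)

theorem cc_mem_center : cc D ∈ Subgroup.center S := (D.mem_center_iff _).mpr ⟨D.h, rfl⟩

/-- involutions of `A` -/
theorem invol_A (v : D.E) (hv : D.pa v * D.pa v = 1) :
    D.pa v = 1 ∨ D.pa v = aa D ∨ D.pa v = bb D ∨ D.pa v = cc D := by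
  rw [pa_mul_self, D.pa_eq_one_iff] at hv
  have h1 : 2 * v.1 = 0 := by
    have := congrArg Prod.fst hv
    simp only [Prod.fst_add, Prod.fst_zero] at this
    linear_combination this
  have h2 : 2 * v.2 = 0 := by
    have := congrArg Prod.snd hv
    simp only [Prod.snd_add, Prod.snd_zero] at this
    linear_combination this
  rcases (D.two_mul_eq_zero_iff _).mp h1 with e1 | e1 <;>
    rcases (D.two_mul_eq_zero_iff _).mp h2 with e2 | e2
  · left
    have : v = 0 := Prod.ext e1 e2
    rw [this, D.pa_zero]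
  · right; right; left
    unfold bb
    congr 1
    exact Prod.ext e1 e2
  · right; left
    unfold aa
    congr 1
    exact Prod.ext e1 e2
  · right; right; right
    unfold cc
    congr 1
    exact Prod.ext e1 e2

/-- central involution is unique -/
theorem invol_center (i : ZMod (2 ^ D.n)) (hv : D.pa (i, i) * D.pa (i, i) = 1) :
    D.pa (i, i) = 1 ∨ D.pa (i, i) = cc D := by
  rw [pa_mul_self, D.pa_eq_one_iff] at hv
  have h1 : 2 * i = 0 := by
    have := congrArg Prod.fst hv
    simp only [Prod.fst_add, Prod.fst_zero] at this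
    linear_combination this
  rcases (D.two_mul_eq_zero_iff _).mp h1 with e1 | e1
  · left
    rw [e1]
    exact D.pa_zero
  · right
    rw [e1]
    rfl

theorem paz_mul_self (v : D.E) : (D.pa v * D.z) * (D.pa v * D.z) = D.pa (D.sig v, D.sig v) := by
  rw [D.mul_rule3]
  congr 1
  unfold Data.sig
  exact Prod.ext rfl (by simp [add_comm])

theorem paz_mul_self_eq_one (v : D.E) (hv : (D.pa v * D.z) * (D.pa v * D.z) = 1) :
    D.sig v = 0 := by
  rw [paz_mul_self, D.pa_eq_one_iff] at hv
  exact congrArg Prod.fst hv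

theorem paz_mul_paz_inv (v u : D.E) : (D.pa v * D.z) * (D.pa u * D.z)⁻¹ = D.pa (v - u) := by
  rw [D.inv_rule, D.mul_rule3]
  congr 1
  rw [Prod.swap_neg, Prod.swap_swap, sub_eq_add_neg]

theorem pow_two_pow_eq_one [Finite S] (s : S) : s ^ (2 ^ (2 * D.n + 1)) = 1 := by
  rw [← D.card]
  exact pow_card_eq_one'

/-! ### Subgroups containing the centre -/

section X

variable (X : Subgroup S)

theorem center_le_of_centralizer_le (hC : Subgroup.centralizer (X : Set S) ≤ X) :
    Subgroup.center S ≤ X :=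
  (Subgroup.center_le_centralizer _).trans hC

theorem eq_A_of_le (hC : Subgroup.centralizer (X : Set S) ≤ X) (hXA : X ≤ D.A) : X = D.A := by
  apply le_antisymm hXA
  intro s hs
  apply hC
  rw [Subgroup.mem_centralizer_iff]
  intro x hx
  obtain ⟨u, rfl⟩ := hs
  obtain ⟨v, rfl⟩ := hXA hx
  exact D.pa_comm _ _

theorem exists_paz_mem (hXA : ¬ X ≤ D.A) : ∃ u, D.pa u * D.z ∈ X := by
  obtain ⟨x, hx, hxA⟩ := SetLike.not_le_iff_exists.mp hXA
  obtain ⟨u, rfl | rfl⟩ := D.normal_form x
  · exact absurd ⟨u, rfl⟩ hxA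
  · exact ⟨u, hx⟩

variable {X}

theorem diag_mem (hZ : Subgroup.center S ≤ X) (i : ZMod (2 ^ D.n)) : D.pa (i, i) ∈ X :=
  hZ ((D.mem_center_iff _).mpr ⟨i, rfl⟩)

theorem swap_mem {u : D.E} (hw : D.pa u * D.z ∈ X) {v : D.E} (hv : D.pa v ∈ X) :
    D.pa v.swap ∈ X := by
  have h1 : (D.pa u * D.z) * D.pa v * (D.pa u * D.z)⁻¹ ∈ X := mul_mem (mul_mem hw hv) (inv_mem hw)
  rw [D.mul_rule2, paz_mul_paz_inv] at h1
  rwa [add_sub_cancel_left] at h1

theorem sub_mem_of_paz {u v : D.E} (hw : D.pa u * D.z ∈ X) (hv : D.pa v * D.z ∈ X) :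
    D.pa (v - u) ∈ X := by
  rw [← paz_mul_paz_inv]
  exact mul_mem hv (inv_mem hw)

theorem paz_mem_of_sub {u v : D.E} (hw : D.pa u * D.z ∈ X) (hv : D.pa (v - u) ∈ X) :
    D.pa v * D.z ∈ X := by
  have := mul_mem hv hw
  rwa [D.mul_rule1, sub_add_cancel] at this

/-- If some `pa v ∈ X` is not central then `a ∈ X`. -/
theorem aa_mem (hZ : Subgroup.center S ≤ X) {v : D.E} (hv : D.pa v ∈ X) (hne : v.1 ≠ v.2) :
    aa D ∈ X := by
  have h1 : D.pa (v.1 - v.2, 0) ∈ X := by
    have := mul_mem hv (diag_mem D hZ (-v.2))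
    rw [← D.pa_add] at this
    convert this using 2
    exact Prod.ext (by simp [sub_eq_add_neg]) (by simp)
  obtain ⟨j, hj⟩ := exists_mul_eq_h D (v.1 - v.2) (sub_ne_zero.mpr hne)
  have h2 := pow_mem h1 j
  rw [← D.pa_nsmul] at h2
  unfold aa
  convert h2 using 2
  exact Prod.ext (by simp [hj]) (by simp)

/-- An element of `X` commuting with `X` is central in `S` (when `X` contains `a` and some
element outside `A`). -/
theorem mem_center_of_comm {u : D.E} (hw : D.pa u * D.z ∈ X) (ha : aa D ∈ X) {x : S}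
    (hcomm : ∀ y ∈ X, x * y = y * x) : x ∈ Subgroup.center S := by
  obtain ⟨v, rfl | rfl⟩ := D.normal_form x
  · have h1 := hcomm _ hw
    rw [D.mul_rule1, D.mul_rule2] at h1
    have h2 := D.pa_mul_z_inj h1
    rw [D.mem_center_iff]
    refine ⟨v.1, ?_⟩
    congr 1
    have h3 := congrArg Prod.fst h2
    simp only [Prod.fst_add, Prod.fst_swap] at h3
    have h4 : v.2 = v.1 := by linear_combination -h3
    exact Prod.ext rfl h4
  · exfalso
    have h1 := hcomm _ ha
    unfold aa at h1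
    rw [D.mul_rule2, D.mul_rule1] at h1
    have h2 := D.pa_mul_z_inj h1
    have h3 := congrArg Prod.fst h2
    simp only [Prod.fst_add, Prod.swap_prod_mk] at h3
    have h4 : D.h = 0 := by linear_combination -h3
    exact D.h_ne_zero h4

end X

/-! ### The subgroups `Vr r = Q Z(S)` -/

/-- exponent set of `Vr ∩ A` -/
def VP : Set D.E := {v | 2 * (v.1 - v.2) = 0}
/-- exponent set of `Vr \ A` -/
def VQ (r : ZMod (2 ^ D.n)) : Set D.E := {v | 2 * (v.1 - v.2) = 4 * r}

/-- The subgroup `Q Z(S)` with parameter `r`. -/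
def Vr (r : ZMod (2 ^ D.n)) : Subgroup S :=
  D.mkSub (VP D) (VQ D r)
    (by simp [VP])
    (by
      intro u v hu hv
      simp only [VP, Set.mem_setOf_eq, Prod.fst_add, Prod.snd_add] at *
      linear_combination hu + hv)
    (by
      intro u hu
      simp only [VP, Set.mem_setOf_eq, Prod.fst_neg, Prod.snd_neg] at *
      linear_combination -hu)
    (by
      intro u v hu hv
      simp only [VP, VQ, Set.mem_setOf_eq, Prod.fst_add, Prod.snd_add] at *
      linear_combination hu + hv)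
    (by
      intro u v hu hv
      simp only [VP, VQ, Set.mem_setOf_eq, Prod.fst_add, Prod.snd_add, Prod.fst_swap,
        Prod.snd_swap] at *
      linear_combination hu - hv)
    (by
      intro u v hu hv
      simp only [VP, VQ, Set.mem_setOf_eq, Prod.fst_add, Prod.snd_add, Prod.fst_swap,
        Prod.snd_swap] at *
      linear_combination hu - hv)
    (by
      intro u hu
      simp only [VQ, Set.mem_setOf_eq, Prod.fst_neg, Prod.snd_neg, Prod.fst_swap,
        Prod.snd_swap] at *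
      linear_combination hu)

theorem pa_mem_Vr (r : ZMod (2 ^ D.n)) (v : D.E) : D.pa v ∈ Vr D r ↔ 2 * (v.1 - v.2) = 0 :=
  D.pa_mem_mkSub ..

theorem paz_mem_Vr (r : ZMod (2 ^ D.n)) (v : D.E) :
    D.pa v * D.z ∈ Vr D r ↔ 2 * (v.1 - v.2) = 4 * r :=
  D.paz_mem_mkSub ..

section X2

variable {X : Subgroup S}

theorem pa_mem_of_VP (hZ : Subgroup.center S ≤ X) (ha : aa D ∈ X) (v : D.E)
    (hv : 2 * (v.1 - v.2) = 0) : D.pa v ∈ X := by
  rcases (D.two_mul_eq_zero_iff _).mp hv with h | h
  · have : v = (v.2, v.2) := Prod.ext (by simpa [sub_eq_zero] using h) rfl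
    rw [this]
    exact diag_mem D hZ _
  · have : v = (v.2, v.2) + (D.h, 0) := Prod.ext (by simp; linear_combination h) (by simp)
    rw [this, D.pa_add]
    exact mul_mem (diag_mem D hZ _) ha

theorem eq_Vr (hZ : Subgroup.center S ≤ X) {u : D.E} (hw : D.pa u * D.z ∈ X) (ha : aa D ∈ X)
    (hP1 : ∀ v, D.pa v ∈ X → 2 * (v.1 - v.2) = 0) (r : ZMod (2 ^ D.n))
    (hr : u.1 - u.2 = 2 * r) : X = Vr D r := by
  ext s
  obtain ⟨v, rfl | rfl⟩ := D.normal_form s
  · rw [pa_mem_Vr]
    exact ⟨hP1 v, pa_mem_of_VP D hZ ha v⟩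
  · rw [paz_mem_Vr]
    constructor
    · intro hv
      have := hP1 _ (sub_mem_of_paz D hw hv)
      simp only [Prod.fst_sub, Prod.snd_sub] at this
      linear_combination this + 2 * hr
    · intro hv
      apply paz_mem_of_sub D hw
      apply pa_mem_of_VP D hZ ha
      simp only [Prod.fst_sub, Prod.snd_sub]
      linear_combination hv - 2 * hr

end X2

/-! ### Automorphisms of odd order -/

section Aut

variable {X : Subgroup S}

theorem index_X0 (hXA : ¬ X ≤ D.A) : (D.A.subgroupOf X).index = 2 := by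
  have h1 : D.A.relIndex X ∣ D.A.index := by
    haveI := D.A_normal
    exact Subgroup.relIndex_dvd_index_of_normal _ _
  rw [D.index_A] at h1
  have h2 : D.A.relIndex X ≠ 1 := fun h => hXA (Subgroup.relIndex_eq_one.mp h)
  rcases (Nat.dvd_prime Nat.prime_two).mp h1 with h | h
  · exact absurd h h2
  · exact h

theorem comm_X0 : ∀ a ∈ D.A.subgroupOf X, ∀ b ∈ D.A.subgroupOf X, a * b = b * a := by
  intro a ha b hb
  obtain ⟨u, hu⟩ := Subgroup.mem_subgroupOf.mp ha
  obtain ⟨v, hv⟩ := Subgroup.mem_subgroupOf.mp hb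
  apply Subtype.ext
  rw [Subgroup.coe_mul, Subgroup.coe_mul, ← hu, ← hv]
  exact D.pa_comm u v

theorem two_pow_X [Finite S] (D : Data S) (y : X) : ∃ k : ℕ, y ^ (2 ^ k) = 1 :=
  ⟨2 * D.n + 1, Subtype.ext (by
    rw [Subgroup.coe_pow, Subgroup.coe_one]; exact pow_two_pow_eq_one D _)⟩

theorem aut_cc (hZ : Subgroup.center S ≤ X) {u : D.E} (hw : D.pa u * D.z ∈ X) (ha : aa D ∈ X)
    (α : MulAut X) :
    α ⟨cc D, hZ (cc_mem_center D)⟩ = ⟨cc D, hZ (cc_mem_center D)⟩ := by
  set c' : X := ⟨cc D, hZ (cc_mem_center D)⟩ with hc'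
  have hcen : ∀ x' : X, α c' * x' = x' * α c' := by
    intro x'
    have h1 : c' * α.symm x' = α.symm x' * c' := Subtype.ext (by
      simp only [Subgroup.coe_mul]
      exact ((Subgroup.mem_center_iff.mp (cc_mem_center D)) _).symm)
    have h2 := congrArg α h1
    rwa [map_mul, map_mul, MulEquiv.apply_symm_apply] at h2
  have hS : ((α c' : X) : S) ∈ Subgroup.center S :=
    mem_center_of_comm D hw ha (x := (α c' : S)) (fun y hy => by
      have := congrArg Subtype.val (hcen ⟨y, hy⟩)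
      simpa using this)
  obtain ⟨i, hi⟩ := (D.mem_center_iff _).mp hS
  have hcc : c' * c' = 1 := Subtype.ext (cc_mul_self D)
  have hsq : ((α c' : X) : S) * ((α c' : X) : S) = 1 := by
    have : α c' * α c' = 1 := by rw [← map_mul, hcc, map_one]
    exact congrArg Subtype.val this
  rw [hi] at hsq
  rcases invol_center D i hsq with h1 | h1
  · exfalso
    have h2 : α c' = 1 := Subtype.ext (by rw [hi, h1]; rfl)
    have h3 : c' = 1 := by
      have := α.injective (h2.trans (map_one α).symm)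
      exact this
    exact cc_ne_one D (congrArg Subtype.val h3)
  · exact Subtype.ext (by rw [hi, h1])

/-- involutions of `X ∩ A` -/
theorem invol_X0 (hZ : Subgroup.center S ≤ X) (ha : aa D ∈ X) (t : X)
    (ht : t ∈ D.A.subgroupOf X) (htt : t * t = 1) :
    t = 1 ∨ t = ⟨aa D, ha⟩ ∨ t = ⟨aa D, ha⟩ * ⟨cc D, hZ (cc_mem_center D)⟩ ∨
      t = ⟨cc D, hZ (cc_mem_center D)⟩ := by
  obtain ⟨v, hv⟩ := Subgroup.mem_subgroupOf.mp ht
  have h1 : D.pa v * D.pa v = 1 := by rw [hv]; exact congrArg Subtype.val htt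
  rcases invol_A D v h1 with h | h | h | h
  · left; exact Subtype.ext (by rw [← hv, h]; rfl)
  · right; left; exact Subtype.ext (by rw [← hv, h])
  · right; right; left
    exact Subtype.ext (by rw [← hv, h, Subgroup.coe_mul]; exact (aa_mul_cc D).symm)
  · right; right; right; exact Subtype.ext (by rw [← hv, h])

theorem aut_aa (hZ : Subgroup.center S ≤ X) {u : D.E} (hw : D.pa u * D.z ∈ X) (ha : aa D ∈ X)
    (α : MulAut X) (m : ℕ) (hm : Odd m) (hα : α ^ m = 1)
    (hA : α ⟨aa D, ha⟩ ∈ D.A.subgroupOf X) : α ⟨aa D, ha⟩ = ⟨aa D, ha⟩ := by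
  set c' : X := ⟨cc D, hZ (cc_mem_center D)⟩ with hc'
  set a' : X := ⟨aa D, ha⟩ with ha'
  have hc := aut_cc D hZ hw ha α
  have hc2 : c' * c' = 1 := Subtype.ext (cc_mul_self D)
  have ha2 : a' * a' = 1 := Subtype.ext (aa_mul_self D)
  apply fix_invol α m hm hα c' a' hc hc2
  have h1 := invol_X0 D hZ ha (α a') hA (by rw [← map_mul, ha2, map_one])
  rcases h1 with h | h | h | h
  · exfalso
    have h3 : a' = 1 := α.injective (h.trans (map_one α).symm)
    exact aa_ne_one D (congrArg Subtype.val h3)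
  · left; exact h
  · right; exact h
  · exfalso
    have h3 : a' = c' := α.injective (h.trans hc.symm)
    exact aa_ne_cc D (congrArg Subtype.val h3)

theorem eq_one_of_invariant [Finite S] (hZ : Subgroup.center S ≤ X) {u : D.E}
    (hw : D.pa u * D.z ∈ X)
    (ha : aa D ∈ X) (hXA : ¬ X ≤ D.A) (α : MulAut X) (m : ℕ) (hm : Odd m) (hα : α ^ m = 1)
    (hinv : ∀ y ∈ D.A.subgroupOf X, α y ∈ D.A.subgroupOf X) : α = 1 := by
  set c' : X := ⟨cc D, hZ (cc_mem_center D)⟩ with hc'
  set a' : X := ⟨aa D, ha⟩ with ha'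
  have hc := aut_cc D hZ hw ha α
  have haA : a' ∈ D.A.subgroupOf X := Subgroup.mem_subgroupOf.mpr ⟨(D.h, 0), rfl⟩
  have hαa : α a' = a' := aut_aa D hZ hw ha α m hm hα (hinv a' haA)
  have hfix : ∀ t ∈ D.A.subgroupOf X, t * t = 1 → α t = t := by
    intro t ht htt
    rcases invol_X0 D hZ ha t ht htt with h | h | h | h
    · rw [h, map_one]
    · rw [h]; exact hαa
    · rw [h, map_mul, hαa, hc]
    · rw [h]; exact hc
  have hfixall := fix_abelian α m hm hα (D.A.subgroupOf X) (comm_X0 D) hinv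
    (fun y _ => two_pow_X D y) hfix
  exact eq_one_of_index_two α m hm hα (D.A.subgroupOf X) (index_X0 D hXA) hfixall
    (fun y _ => two_pow_X D y)

theorem P1 [Finite S] (hZ : Subgroup.center S ≤ X) {u : D.E} (hw : D.pa u * D.z ∈ X)
    (ha : aa D ∈ X) (hXA : ¬ X ≤ D.A) (α : MulAut X) (m : ℕ) (hm : Odd m) (hα : α ^ m = 1)
    (hne : α ≠ 1) : ∀ v, D.pa v ∈ X → 2 * (v.1 - v.2) = 0 := by
  intro v hv
  by_contra hbad
  apply hne
  apply eq_one_of_invariant D hZ hw ha hXA α m hm hα
  by_contra hni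
  push Not at hni
  obtain ⟨y, hy0, hy1⟩ := hni
  set H0 := D.A.subgroupOf X with hH0
  set H1 := H0.map α.toMonoidHom with hH1
  have hidx0 := index_X0 D hXA
  have hidx1 : H1.index = 2 := by
    rw [hH1, Subgroup.index_map_of_bijective α.bijective]; exact hidx0
  have hnle : ¬ H1 ≤ H0 := fun h => hy1 (h ⟨y, hy0, rfl⟩)
  have c1 : ∀ a ∈ H1, ∀ b ∈ H1, a * b = b * a := by
    rintro _ ⟨a, ha, rfl⟩ _ ⟨b, hb, rfl⟩
    show α a * α b = α b * α a
    rw [← map_mul, ← map_mul, comm_X0 D a ha b hb]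
  have hcen := inf_le_center_of_two_abelian H0 H1 hidx0 hnle (comm_X0 D) c1
  set x : X := ⟨D.pa v, hv⟩ with hx
  have hx0 : x * x ∈ H0 := mul_mem (Subgroup.mem_subgroupOf.mpr ⟨v, rfl⟩)
    (Subgroup.mem_subgroupOf.mpr ⟨v, rfl⟩)
  have hx1 : x * x ∈ H1 := by
    have := Subgroup.sq_mem_of_index_two hidx1 x
    rwa [pow_two] at this
  have hxc : x * x ∈ Subgroup.center X := hcen ⟨hx0, hx1⟩
  have hS : D.pa v * D.pa v ∈ Subgroup.center S := mem_center_of_comm D hw ha (fun y hy => by
    have := Subgroup.mem_center_iff.mp hxc ⟨y, hy⟩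
    exact (congrArg Subtype.val this).symm)
  rw [pa_mul_self, D.mem_center_iff] at hS
  obtain ⟨i, hi⟩ := hS
  have hvi := D.pa_injective hi
  apply hbad
  have e1 := congrArg Prod.fst hvi
  have e2 := congrArg Prod.snd hvi
  simp only [Prod.fst_add, Prod.snd_add] at e1 e2
  linear_combination e1 - e2

theorem P2 [Finite S] (hZ : Subgroup.center S ≤ X) {u : D.E} (hw : D.pa u * D.z ∈ X)
    (ha : aa D ∈ X) (hXA : ¬ X ≤ D.A) (α : MulAut X) (m : ℕ) (hm : Odd m) (hα : α ^ m = 1)
    (hne : α ≠ 1) : ∃ r, u.1 - u.2 = 2 * r := by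
  by_contra hodd
  apply hne
  have hP1 := P1 D hZ hw ha hXA α m hm hα hne
  have hno : ∀ v, D.pa v * D.z ∈ X → (D.pa v * D.z) * (D.pa v * D.z) ≠ 1 := by
    intro v hv hvv
    have hs := paz_mul_self_eq_one D v hvv
    unfold Data.sig at hs
    have h1 := hP1 _ (sub_mem_of_paz D hw hv)
    simp only [Prod.fst_sub, Prod.snd_sub] at h1
    apply hodd
    rcases (D.two_mul_eq_zero_iff _).mp h1 with h | h
    · exact ⟨-v.2, by linear_combination -h + hs⟩
    · exact ⟨-v.2 - q D, by linear_combination -h + hs + two_q D⟩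
  set a' : X := ⟨aa D, ha⟩ with ha'
  have ha2 : a' * a' = 1 := Subtype.ext (aa_mul_self D)
  have haA : a' ∈ D.A.subgroupOf X := Subgroup.mem_subgroupOf.mpr ⟨(D.h, 0), rfl⟩
  have hαaA : α a' ∈ D.A.subgroupOf X := by
    obtain ⟨v, hv | hv⟩ := D.normal_form ((α a' : X) : S)
    · exact Subgroup.mem_subgroupOf.mpr ⟨v, hv.symm⟩
    · exfalso
      have h1 : D.pa v * D.z ∈ X := hv ▸ (α a').2
      apply hno v h1
      rw [← hv]
      have : α a' * α a' = 1 := by rw [← map_mul, ha2, map_one]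
      exact congrArg Subtype.val this
  have hαa : α a' = a' := aut_aa D hZ hw ha α m hm hα hαaA
  apply eq_one_of_invariant D hZ hw ha hXA α m hm hα
  intro y hy
  have hcomm : α y * a' = a' * α y := by
    rw [← hαa, ← map_mul, ← map_mul, comm_X0 D y hy a' haA]
  obtain ⟨v, hv | hv⟩ := D.normal_form ((α y : X) : S)
  · exact Subgroup.mem_subgroupOf.mpr ⟨v, hv.symm⟩
  · exfalso
    have h1 := congrArg Subtype.val hcomm
    rw [Subgroup.coe_mul, Subgroup.coe_mul, hv] at h1
    have h2 : ((a' : X) : S) = D.pa (D.h, 0) := rfl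
    rw [h2, D.mul_rule2, D.mul_rule1] at h1
    have h3 := congrArg Prod.fst (D.pa_mul_z_inj h1)
    simp only [Prod.fst_add, Prod.swap_prod_mk] at h3
    exact D.h_ne_zero (by linear_combination -h3)

/-- In the abelian case `X ≰ A` every odd order automorphism is trivial. -/
theorem eq_one_of_abelian [Finite S] (hZ : Subgroup.center S ≤ X) {u : D.E}
    (hw : D.pa u * D.z ∈ X) (hab : ∀ a ∈ X, ∀ b ∈ X, a * b = b * a)
    (α : MulAut X) (m : ℕ) (hm : Odd m) (hα : α ^ m = 1) : α = 1 := by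
  -- X ∩ A is central
  have hXA0 : ∀ v, D.pa v ∈ X → v.1 = v.2 := by
    intro v hv
    have h1 := hab _ hv _ hw
    rw [D.mul_rule1, D.mul_rule2] at h1
    have h3 := congrArg Prod.fst (D.pa_mul_z_inj h1)
    simp only [Prod.fst_add, Prod.fst_swap] at h3
    linear_combination h3
  -- squares are central
  have hsq : ∀ x ∈ X, x * x ∈ Subgroup.center S := by
    intro x hx
    obtain ⟨v, rfl | rfl⟩ := D.normal_form x
    · rw [pa_mul_self, D.mem_center_iff]
      refine ⟨v.1 + v.1, ?_⟩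
      congr 1
      exact Prod.ext rfl (by simp [hXA0 v hx])
    · rw [paz_mul_self, D.mem_center_iff]
      exact ⟨_, rfl⟩
  set c' : X := ⟨cc D, hZ (cc_mem_center D)⟩ with hc'
  set d' : X := ⟨D.pa (q D, q D), diag_mem D hZ _⟩ with hd'
  have hdd : d' * d' = c' := Subtype.ext (by
    show D.pa (q D, q D) * D.pa (q D, q D) = cc D
    rw [pa_mul_self]
    unfold cc
    congr 1
    exact Prod.ext (by simp; linear_combination two_q D) (by simp; linear_combination two_q D))
  have hc2 : c' * c' = 1 := Subtype.ext (cc_mul_self D)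
  have hc : α c' = c' := by
    have h1 : ((α c' : X) : S) ∈ Subgroup.center S := by
      rw [← hdd, map_mul, Subgroup.coe_mul]
      exact hsq _ (α d').2
    obtain ⟨i, hi⟩ := (D.mem_center_iff _).mp h1
    have h2 : ((α c' : X) : S) * ((α c' : X) : S) = 1 := by
      have : α c' * α c' = 1 := by rw [← map_mul, hc2, map_one]
      exact congrArg Subtype.val this
    rw [hi] at h2
    rcases invol_center D i h2 with h3 | h3
    · exfalso
      have h4 : α c' = 1 := Subtype.ext (by rw [hi, h3]; rfl)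
      have h5 : c' = 1 := α.injective (h4.trans (map_one α).symm)
      exact cc_ne_one D (congrArg Subtype.val h5)
    · exact Subtype.ext (by rw [hi, h3])
  -- involutions in A
  have hinvA : ∀ t : X, t * t = 1 → (t : S) ∈ D.A → t = 1 ∨ t = c' := by
    intro t htt htA
    obtain ⟨v, hv⟩ := htA
    have hvX : D.pa v ∈ X := hv ▸ t.2
    have hd := hXA0 v hvX
    have hv' : v = (v.1, v.1) := Prod.ext rfl hd.symm
    have h1 : D.pa (v.1, v.1) * D.pa (v.1, v.1) = 1 := by
      rw [← hv', hv]; exact congrArg Subtype.val htt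
    rcases invol_center D v.1 h1 with h | h
    · left; exact Subtype.ext (by rw [← hv, hv', h]; rfl)
    · right; exact Subtype.ext (by rw [← hv, hv', h])
  have hfix : ∀ t : X, t * t = 1 → α t = t := by
    by_cases hex : ∃ t1 : X, t1 * t1 = 1 ∧ (t1 : S) ∉ D.A
    · obtain ⟨t1, ht1, ht1A⟩ := hex
      obtain ⟨v1, hv1 | hv1⟩ := D.normal_form (t1 : S)
      · exact absurd ⟨v1, hv1.symm⟩ ht1A
      have hv1X : D.pa v1 * D.z ∈ X := hv1 ▸ t1.2
      have hs1 : D.sig v1 = 0 := by
        apply paz_mul_self_eq_one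
        rw [← hv1]; exact congrArg Subtype.val ht1
      have key : ∀ t : X, t * t = 1 → t = 1 ∨ t = c' ∨ t = t1 ∨ t = t1 * c' := by
        intro t htt
        by_cases htA : (t : S) ∈ D.A
        · rcases hinvA t htt htA with h | h
          · left; exact h
          · right; left; exact h
        · obtain ⟨v, hv | hv⟩ := D.normal_form (t : S)
          · exact absurd ⟨v, hv.symm⟩ htA
          have hvX : D.pa v * D.z ∈ X := hv ▸ t.2
          have hs : D.sig v = 0 := by
            apply paz_mul_self_eq_one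
            rw [← hv]; exact congrArg Subtype.val htt
          have hd := hXA0 _ (sub_mem_of_paz D hv1X hvX)
          simp only [Prod.fst_sub, Prod.snd_sub] at hd
          unfold Data.sig at hs hs1
          have h2 : 2 * (v.1 - v1.1) = 0 := by linear_combination hs - hs1 + hd
          rcases (D.two_mul_eq_zero_iff _).mp h2 with h | h
          · right; right; left
            apply Subtype.ext
            rw [hv, hv1]
            congr 2
            exact Prod.ext (by linear_combination h) (by linear_combination h - hd)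
          · right; right; right
            apply Subtype.ext
            rw [Subgroup.coe_mul, hv, hv1]
            show D.pa v * D.z = D.pa v1 * D.z * cc D
            unfold cc
            rw [D.mul_rule2]
            congr 2
            exact Prod.ext (by simp; linear_combination h) (by simp; linear_combination h - hd)
      have hαt1 : α t1 = t1 := by
        apply fix_invol α m hm hα c' t1 hc hc2
        rcases key (α t1) (by rw [← map_mul, ht1, map_one]) with h | h | h | h
        · exfalso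
          have h5 : t1 = 1 := α.injective (h.trans (map_one α).symm)
          apply ht1A
          rw [h5]; exact one_mem _
        · exfalso
          have h5 : t1 = c' := α.injective (h.trans hc.symm)
          apply ht1A
          rw [h5]; exact ⟨_, rfl⟩
        · left; exact h
        · right; exact h
      intro t htt
      rcases key t htt with h | h | h | h
      · rw [h, map_one]
      · rw [h]; exact hc
      · rw [h]; exact hαt1
      · rw [h, map_mul, hαt1, hc]
    · push Not at hex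
      intro t htt
      rcases hinvA t htt (hex t htt) with h | h
      · rw [h, map_one]
      · rw [h]; exact hc
  have hall := fix_abelian α m hm hα ⊤
    (fun a _ b _ => Subtype.ext (by
      rw [Subgroup.coe_mul, Subgroup.coe_mul]; exact hab _ a.2 _ b.2))
    (fun y _ => Subgroup.mem_top _) (fun y _ => two_pow_X D y) (fun t _ htt => hfix t htt)
  ext y
  rw [MulAut.one_apply, hall y (Subgroup.mem_top _)]

/-- **Classification**: a self-centralizing subgroup of a wreathed group with a non-2-group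
automorphism group is `A` or some `Vr r`. -/
theorem classify [Finite S] (X : Subgroup S) (hC : Subgroup.centralizer (X : Set S) ≤ X)
    (hA : ¬ IsPGroup 2 (MulAut X)) : X = D.A ∨ ∃ r, X = Vr D r := by
  have hZ := center_le_of_centralizer_le X hC
  by_cases hXA : X ≤ D.A
  · left; exact eq_A_of_le D X hC hXA
  right
  obtain ⟨u, hw⟩ := exists_paz_mem D X hXA
  obtain ⟨α, m, hm, hα, hne⟩ := exists_odd_of_not_isPGroup hA
  by_cases hab : ∀ a ∈ X, ∀ b ∈ X, a * b = b * a
  · exact absurd (eq_one_of_abelian D hZ hw hab α m hm hα) hne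
  -- nonabelian: some non-central pa v
  have hna : ∃ v, D.pa v ∈ X ∧ v.1 ≠ v.2 := by
    by_contra hcon
    push Not at hcon
    apply hab
    have hform : ∀ x ∈ X, x ∈ Subgroup.center S ∨ ∃ i, x = D.pa (i, i) * (D.pa u * D.z) := by
      intro x hx
      obtain ⟨v, rfl | rfl⟩ := D.normal_form x
      · left
        rw [D.mem_center_iff]
        exact ⟨v.1, by congr 1; exact Prod.ext rfl (hcon v hx).symm⟩
      · right
        have h1 := hcon _ (sub_mem_of_paz D hw hx)
        simp only [Prod.fst_sub, Prod.snd_sub] at h1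
        refine ⟨v.1 - u.1, ?_⟩
        rw [D.mul_rule1]
        congr 2
        exact Prod.ext (by simp) (by simp; linear_combination -h1)
    intro a ha b hb
    rcases hform a ha with hca | ⟨i, rfl⟩
    · exact (Subgroup.mem_center_iff.mp hca b).symm
    rcases hform b hb with hcb | ⟨j, rfl⟩
    · exact Subgroup.mem_center_iff.mp hcb _
    have hi : D.pa (i, i) ∈ Subgroup.center S := (D.mem_center_iff _).mpr ⟨i, rfl⟩
    have hj : D.pa (j, j) ∈ Subgroup.center S := (D.mem_center_iff _).mpr ⟨j, rfl⟩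
    set w := D.pa u * D.z
    have e1 := Subgroup.mem_center_iff.mp hi
    have e2 := Subgroup.mem_center_iff.mp hj
    calc D.pa (i, i) * w * (D.pa (j, j) * w) = D.pa (i, i) * (w * D.pa (j, j)) * w := by group
      _ = D.pa (i, i) * (D.pa (j, j) * w) * w := by rw [e2 w]
      _ = (D.pa (i, i) * D.pa (j, j)) * w * w := by group
      _ = (D.pa (j, j) * D.pa (i, i)) * w * w := by rw [e1 (D.pa (j, j))]
      _ = D.pa (j, j) * (D.pa (i, i) * w) * w := by group
      _ = D.pa (j, j) * (w * D.pa (i, i)) * w := by rw [e1 w]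
      _ = D.pa (j, j) * w * (D.pa (i, i) * w) := by group
  obtain ⟨v, hv, hvne⟩ := hna
  have ha := aa_mem D hZ hv hvne
  have hP1 := P1 D hZ hw ha hXA α m hm hα hne
  obtain ⟨r, hr⟩ := P2 D hZ hw ha hXA α m hm hα hne
  exact ⟨r, eq_Vr D hZ hw ha hP1 r hr⟩

end Aut

/-! ### Conjugates and normalizers of `Vr r` -/

theorem center_le_Vr (r : ZMod (2 ^ D.n)) : Subgroup.center S ≤ Vr D r := by
  intro s hs
  obtain ⟨i, rfl⟩ := (D.mem_center_iff s).mp hs
  rw [pa_mem_Vr]
  simp

theorem aa_mem_Vr (r : ZMod (2 ^ D.n)) : aa D ∈ Vr D r := by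
  unfold aa
  rw [pa_mem_Vr]
  simp only [sub_zero]
  exact D.two_h

theorem Vr_congr {r r' : ZMod (2 ^ D.n)} (h : 4 * r = 4 * r') : Vr D r = Vr D r' := by
  ext s
  obtain ⟨v, rfl | rfl⟩ := D.normal_form s
  · rw [pa_mem_Vr, pa_mem_Vr]
  · rw [paz_mem_Vr, paz_mem_Vr, h]

theorem conj_symm_pa_paz (e v : D.E) :
    (D.pa e)⁻¹ * (D.pa v * D.z) * D.pa e = D.pa (v - e + e.swap) * D.z := by
  rw [← D.pa_neg, D.mul_rule1, D.mul_rule2]
  congr 2
  abel

theorem conj_pa_paz' (e v : D.E) :
    D.pa e * (D.pa v * D.z) * (D.pa e)⁻¹ = D.pa (v + e - e.swap) * D.z := by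
  rw [← D.pa_neg, D.mul_rule1, D.mul_rule2]
  congr 2
  rw [Prod.swap_neg]
  abel

/-- Conjugation by `pa e` maps `Vr r` to `Vr (r + (e.1 - e.2))`. -/
theorem map_conj_Vr (r : ZMod (2 ^ D.n)) (e : D.E) :
    (Vr D r).map (MulAut.conj (D.pa e)).toMonoidHom = Vr D (r + (e.1 - e.2)) := by
  ext s
  rw [Subgroup.mem_map_equiv, MulAut.conj_symm_apply]
  obtain ⟨v, rfl | rfl⟩ := D.normal_form s
  · have : (D.pa e)⁻¹ * D.pa v * D.pa e = D.pa v := by
      rw [mul_assoc, D.pa_comm v e, ← mul_assoc, inv_mul_cancel, one_mul]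
    rw [this, pa_mem_Vr, pa_mem_Vr]
  · rw [conj_symm_pa_paz, paz_mem_Vr, paz_mem_Vr]
    simp only [Prod.fst_add, Prod.fst_sub, Prod.snd_add, Prod.snd_sub, Prod.fst_swap, Prod.snd_swap]
    constructor
    · intro h; linear_combination h
    · intro h; linear_combination h

theorem Vr_conj (r r' : ZMod (2 ^ D.n)) :
    ∃ s : S, (Vr D r).map (MulAut.conj s).toMonoidHom = Vr D r' := by
  refine ⟨D.pa (r' - r, 0), ?_⟩
  rw [map_conj_Vr]
  congr 1
  simp

theorem paq_mem_normalizer (r : ZMod (2 ^ D.n)) :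
    D.pa (q D, 0) ∈ Subgroup.normalizer ((Vr D r : Subgroup S) : Set S) := by
  have h1 := map_conj_Vr D r (q D, 0)
  have h2 : Vr D (r + ((q D, (0 : ZMod (2 ^ D.n))).1 - (q D, (0 : ZMod (2 ^ D.n))).2)) = Vr D r := by
    apply Vr_congr
    simp only [sub_zero]
    linear_combination four_q D
  rw [h2] at h1
  rw [Subgroup.mem_normalizer_iff]
  intro x
  constructor
  · intro hx
    rw [← h1]
    exact ⟨x, hx, rfl⟩
  · intro hx
    rw [← h1] at hx
    obtain ⟨y, hy, hyx⟩ := hx
    have : y = x := by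
      have h3 : D.pa (q D, 0) * y * (D.pa (q D, 0))⁻¹ = D.pa (q D, 0) * x * (D.pa (q D, 0))⁻¹ := hyx
      have h4 := congrArg (fun t => (D.pa (q D, 0))⁻¹ * t * D.pa (q D, 0)) h3
      simpa [mul_assoc] using h4
    rw [← this]; exact hy

theorem paz_two_r_mem (r : ZMod (2 ^ D.n)) : D.pa (2 * r, 0) * D.z ∈ Vr D r := by
  rw [paz_mem_Vr]
  ring

theorem relIndex_normalizer_Vr (r : ZMod (2 ^ D.n)) :
    (Vr D r).relIndex (Subgroup.normalizer ((Vr D r : Subgroup S) : Set S)) = 2 := by
  rw [Subgroup.relIndex_eq_two_iff_exists_notMem_and]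
  refine ⟨D.pa (q D, 0), paq_mem_normalizer D r, ?_, ?_⟩
  · rw [pa_mem_Vr]
    simp only [sub_zero]
    rw [two_q]
    exact D.h_ne_zero
  · intro b hb
    have hb' := (Subgroup.mem_normalizer_iff.mp hb (D.pa (2 * r, 0) * D.z)).mp (paz_two_r_mem D r)
    obtain ⟨v, rfl | rfl⟩ := D.normal_form b
    · rw [conj_pa_paz', paz_mem_Vr] at hb'
      simp only [Prod.fst_add, Prod.fst_sub, Prod.snd_add, Prod.snd_sub, Prod.fst_swap,
        Prod.snd_swap] at hb'
      have h4 : 2 * (2 * (v.1 - v.2)) = 0 := by linear_combination hb'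
      rcases (D.two_mul_eq_zero_iff _).mp h4 with h | h
      · right
        rw [pa_mem_Vr]; exact h
      · left
        rw [← D.pa_add, pa_mem_Vr]
        simp only [Prod.fst_add, Prod.snd_add, add_zero]
        linear_combination h + two_q D + D.two_h
    · rw [D.mul_rule3, D.inv_rule, D.mul_rule1, paz_mem_Vr] at hb'
      simp only [Prod.fst_add, Prod.snd_add, Prod.fst_swap, Prod.snd_swap, Prod.fst_neg,
        Prod.snd_neg, Prod.swap_prod_mk] at hb'
      have h4 : 2 * (2 * (v.1 - v.2) - 4 * r) = 0 := by linear_combination hb'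
      rcases (D.two_mul_eq_zero_iff _).mp h4 with h | h
      · right
        rw [paz_mem_Vr]; linear_combination h
      · left
        rw [D.mul_rule2, paz_mem_Vr]
        simp only [Prod.fst_add, Prod.snd_add, Prod.swap_prod_mk, add_zero]
        linear_combination h - two_q D

/-! ### Quaternion subgroups -/

theorem neg_q_eq : -(q D) = q D + D.h := by
  have h1 := four_q D
  have h2 := two_q D
  linear_combination -h1 + h2

/-- Key lemma on generators of a quaternion subgroup. -/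
theorem quat_gens (v w : D.E) (h1 : D.pa v * D.pa v = (D.pa w * D.z) * (D.pa w * D.z))
    (h2 : D.pa v * D.pa v ≠ 1)
    (h4 : (D.pa w * D.z) * D.pa v * (D.pa w * D.z)⁻¹ = (D.pa v)⁻¹) :
    D.sig w = D.h ∧ (v = (q D, -(q D)) ∨ v = (-(q D), q D)) := by
  rw [D.mul_rule2, paz_mul_paz_inv, add_sub_cancel_left, ← D.pa_neg] at h4
  have h5 := D.pa_injective h4
  have e2 : v.2 = -v.1 := by
    have := congrArg Prod.fst h5
    simpa using this
  rw [pa_mul_self, paz_mul_self] at h1
  have h6 := D.pa_injective h1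
  have e3 : v.1 + v.1 = D.sig w := by simpa using congrArg Prod.fst h6
  have e4 : v.2 + v.2 = D.sig w := by simpa using congrArg Prod.snd h6
  have e5 : 2 * (2 * v.1) = 0 := by linear_combination e3 - e4 + 2 * e2
  have e6 : 2 * v.1 ≠ 0 := by
    intro h0
    apply h2
    rw [pa_mul_self, D.pa_eq_one_iff]
    exact Prod.ext (by simp; linear_combination h0) (by simp [e2]; linear_combination -h0)
  have e7 : 2 * v.1 = D.h := by
    rcases (D.two_mul_eq_zero_iff _).mp e5 with h | h
    · exact absurd h e6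
    · exact h
  refine ⟨by linear_combination -e3 + e7, ?_⟩
  have e8 : 2 * (v.1 - q D) = 0 := by linear_combination e7 - two_q D
  rcases (D.two_mul_eq_zero_iff _).mp e8 with h | h
  · left
    have : v.1 = q D := by linear_combination h
    exact Prod.ext this (by rw [e2, this])
  · right
    have : v.1 = -(q D) := by rw [neg_q_eq]; linear_combination h
    exact Prod.ext this (by rw [e2, this, neg_neg])

open Cfsg.Agent.Lib.Helper23.ThreePoint in
/-- Every quaternion subgroup of order 8 of `S` is generated by `pa (q, -q)` and an element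
`pa w z` with `sig w = h`. -/
theorem exists_quat_data (Q : Subgroup S) (eQ : Q ≃* QuaternionGroup 2) :
    ∃ w : D.E, D.sig w = D.h ∧ D.pa (q D, -(q D)) ∈ Q ∧ D.pa w * D.z ∈ Q ∧
      ∀ L : Subgroup S, D.pa (q D, -(q D)) ∈ L → D.pa w * D.z ∈ L → Q ≤ L := by
  obtain ⟨a, b, hd⟩ := exists_q8Data Q eQ
  have hneg : ∀ L : Subgroup S, D.pa (q D, -(q D)) ∈ L ↔ D.pa (-(q D), q D) ∈ L := by
    intro L
    have : D.pa (-(q D), q D) = (D.pa (q D, -(q D)))⁻¹ := by
      rw [← D.pa_neg]; congr 1; simp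
    rw [this, inv_mem_iff]
  have fin : ∀ (v w : D.E), D.pa v ∈ Q → D.pa w * D.z ∈ Q →
      D.pa v * D.pa v = (D.pa w * D.z) * (D.pa w * D.z) → D.pa v * D.pa v ≠ 1 →
      (D.pa w * D.z) * D.pa v * (D.pa w * D.z)⁻¹ = (D.pa v)⁻¹ →
      (∀ L : Subgroup S, D.pa v ∈ L → D.pa w * D.z ∈ L → Q ≤ L) →
      ∃ w : D.E, D.sig w = D.h ∧ D.pa (q D, -(q D)) ∈ Q ∧ D.pa w * D.z ∈ Q ∧
        ∀ L : Subgroup S, D.pa (q D, -(q D)) ∈ L → D.pa w * D.z ∈ L → Q ≤ L := by
    intro v w hv hw h1 h2 h4 hL
    obtain ⟨hs, hvq | hvq⟩ := quat_gens D v w h1 h2 h4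
    · subst hvq
      exact ⟨w, hs, hv, hw, hL⟩
    · subst hvq
      exact ⟨w, hs, (hneg Q).mpr hv, hw, fun L h1 h2 => hL L ((hneg L).mp h1) h2⟩
  have ha2 : a * a ≠ 1 := by rw [← pow_two]; exact hd.a2
  have hb2 : b * b = a * a := by rw [← pow_two, ← pow_two]; exact hd.b2
  obtain ⟨v, hv | hv⟩ := D.normal_form a <;> obtain ⟨w, hw | hw⟩ := D.normal_form b
  · exfalso
    apply hd.not_comm
    rw [hv, hw]
    exact D.pa_comm _ _
  · refine fin v w (hv ▸ hd.ha) (hw ▸ hd.hb) ?_ ?_ ?_ ?_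
    · rw [← hv, ← hw]; exact hb2.symm
    · rw [← hv]; exact ha2
    · rw [← hv, ← hw]; exact hd.bab
    · intro L h1 h2
      exact hd.le_of_mem L (hv ▸ h1) (hw ▸ h2)
  · refine fin w v (hw ▸ hd.hb) (hv ▸ hd.ha) ?_ ?_ ?_ ?_
    · rw [← hv, ← hw]; exact hb2
    · rw [← hw, hb2]; exact ha2
    · rw [← hv, ← hw]; exact hd.aba
    · intro L h1 h2
      exact hd.le_of_mem L (hv ▸ h2) (hw ▸ h1)
  · have hab : a * b = D.pa (v + w.swap) := by rw [hv, hw, D.mul_rule3]
    have habQ : a * b ∈ Q := mul_mem hd.ha hd.hb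
    refine fin (v + w.swap) w (hab ▸ habQ) (hw ▸ hd.hb) ?_ ?_ ?_ ?_
    · rw [← hab, ← hw, hb2, ← pow_two, ← pow_two]; exact hd.ab_sq
    · rw [← hab, ← pow_two, hd.ab_sq, pow_two]; exact ha2
    · rw [← hab, ← hw]
      have h1 := hd.aba
      have h2 : a * b = b⁻¹ * a := by
        calc a * b = (a * b * a⁻¹) * a := by group
          _ = b⁻¹ * a := by rw [h1]
      calc b * (a * b) * b⁻¹ = b * a := by group
        _ = a⁻¹ * b := hd.ba
        _ = (b⁻¹ * a)⁻¹ := by group
        _ = (a * b)⁻¹ := by rw [← h2]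
    · intro L h1 h2
      have hbL : b ∈ L := hw ▸ h2
      have haL : a ∈ L := by
        have : a = (a * b) * b⁻¹ := by group
        rw [this]
        exact mul_mem (hab ▸ h1) (inv_mem hbL)
      exact hd.le_of_mem L haL hbL

theorem paq_mem_Vr (r : ZMod (2 ^ D.n)) : D.pa (q D, -(q D)) ∈ Vr D r := by
  rw [pa_mem_Vr]
  simp only [sub_neg_eq_add]
  linear_combination 2 * two_q D + D.two_h

theorem paz_mem_Vr_of_sig (w : D.E) (hw : D.sig w = D.h) : D.pa w * D.z ∈ Vr D (q D - w.2) := by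
  rw [paz_mem_Vr]
  unfold Data.sig at hw
  linear_combination 2 * hw - 2 * two_q D

theorem sup_center_eq_Vr (Q : Subgroup S) (w : D.E) (hw : D.sig w = D.h)
    (h1 : D.pa (q D, -(q D)) ∈ Q) (h2 : D.pa w * D.z ∈ Q) (h3 : Q ≤ Vr D (q D - w.2)) :
    Q ⊔ Subgroup.center S = Vr D (q D - w.2) := by
  have hle : Q ⊔ Subgroup.center S ≤ Vr D (q D - w.2) := sup_le h3 (center_le_Vr D _)
  have ha : aa D ∈ Q ⊔ Subgroup.center S := by
    have : aa D = D.pa (q D, -(q D)) * D.pa (q D, q D) := by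
      unfold aa
      rw [← D.pa_add]
      congr 1
      exact Prod.ext (by simp; linear_combination -(two_q D)) (by simp)
    rw [this]
    exact mul_mem (Subgroup.mem_sup_left h1)
      (Subgroup.mem_sup_right ((D.mem_center_iff _).mpr ⟨_, rfl⟩))
  refine eq_Vr D le_sup_right (Subgroup.mem_sup_left h2) ha ?_ _ ?_
  · intro v hv
    exact (pa_mem_Vr D _ v).mp (hle hv)
  · unfold Data.sig at hw
    linear_combination hw - two_q D

theorem quat_sup_center (Q : Subgroup S) (eQ : Q ≃* QuaternionGroup 2) :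
    ∃ r, Q ⊔ Subgroup.center S = Vr D r := by
  obtain ⟨w, hw, h1, h2, hL⟩ := exists_quat_data D Q eQ
  exact ⟨_, sup_center_eq_Vr D Q w hw h1 h2
    (hL _ (paq_mem_Vr D _) (paz_mem_Vr_of_sig D w hw))⟩

theorem A_isMulCommutative : IsMulCommutative D.A :=
  ⟨⟨fun a b => Subtype.ext (by
    obtain ⟨u, hu⟩ := a.2
    obtain ⟨v, hv⟩ := b.2
    rw [Subgroup.coe_mul, Subgroup.coe_mul, ← hu, ← hv]
    exact D.pa_comm u v)⟩⟩

theorem paq_sq : D.pa (q D, -(q D)) * D.pa (q D, -(q D)) = cc D := by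
  rw [pa_mul_self]
  unfold cc
  congr 1
  exact Prod.ext (by simp; linear_combination two_q D)
    (by simp; linear_combination -(two_q D) - D.two_h)

theorem orderOf_paq : orderOf (D.pa (q D, -(q D))) = 4 := by
  have h1 : ¬ (D.pa (q D, -(q D))) ^ 2 ^ 1 = 1 := by
    rw [pow_one, pow_two, paq_sq]
    exact cc_ne_one D
  have h2 : (D.pa (q D, -(q D))) ^ 2 ^ (1 + 1) = 1 := by
    have : (2 : ℕ) ^ (1 + 1) = 2 * 2 := by norm_num
    rw [this, pow_mul, pow_two (D.pa (q D, -(q D))), paq_sq, pow_two, cc_mul_self]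
  simpa using orderOf_eq_prime_pow h1 h2

/-- The standard `w` with `sig w = h` and `w.1 - w.2 = 2 r`. -/
def wr (r : ZMod (2 ^ D.n)) : D.E := (r + q D, q D - r)

theorem sig_wr (r : ZMod (2 ^ D.n)) : D.sig (wr D r) = D.h := by
  unfold Data.sig wr
  simp only
  linear_combination two_q D

open Cfsg.Agent.Lib.Lead.QuatIso in
theorem exists_quat_of_Vr (r : ZMod (2 ^ D.n)) :
    ∃ Q : Subgroup S, Nonempty (Q ≃* QuaternionGroup 2) ∧ Vr D r = Q ⊔ Subgroup.center S := by
  set a := D.pa (q D, -(q D)) with ha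
  set b := D.pa (wr D r) * D.z with hb
  have hoa : orderOf a = 2 * 2 := orderOf_paq D
  have hb2 : b ^ 2 = a ^ 2 := by
    rw [pow_two, pow_two, hb, paz_mul_self, sig_wr, ha, paq_sq]
    rfl
  have hinv : b * a * b⁻¹ = a⁻¹ := by
    rw [hb, ha, D.mul_rule2, paz_mul_paz_inv, add_sub_cancel_left, ← D.pa_neg]
    congr 1
    simp
  have hbn : b ∉ Subgroup.zpowers a := by
    intro hmem
    have hle : Subgroup.zpowers a ≤ D.A := by
      rw [Subgroup.zpowers_le]; exact ⟨_, rfl⟩
    obtain ⟨v, hv⟩ := hle hmem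
    exact D.pa_ne_pa_mul_z _ _ hv
  have hinj := quatHom_injective hoa hb2 hinv hbn
  set φ := quatHom hoa hb2 hinv with hφ
  have haQ : a ∈ φ.range := by
    refine ⟨QuaternionGroup.a 1, ?_⟩
    show a ^ (((1 : ZMod (2 * 2))).cast : ℤ) = a
    have : (((1 : ZMod (2 * 2))).cast : ℤ) = 1 := by decide
    rw [this, zpow_one]
  have hbQ : b ∈ φ.range := by
    refine ⟨QuaternionGroup.xa 0, ?_⟩
    show b * a ^ (((0 : ZMod (2 * 2))).cast : ℤ) = b
    have : (((0 : ZMod (2 * 2))).cast : ℤ) = 0 := by decide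
    rw [this, zpow_zero, mul_one]
  have hr : (wr D r).2 = q D - r := rfl
  have hle : φ.range ≤ Vr D (q D - (wr D r).2) := by
    rintro _ ⟨x, rfl⟩
    have hav : a ∈ Vr D (q D - (wr D r).2) := paq_mem_Vr D _
    have hbv : b ∈ Vr D (q D - (wr D r).2) := paz_mem_Vr_of_sig D _ (sig_wr D r)
    cases x with
    | a i => exact Subgroup.zpow_mem _ hav _
    | xa i => exact mul_mem hbv (Subgroup.zpow_mem _ hav _)
  refine ⟨φ.range, ⟨(MonoidHom.ofInjective hinj).symm⟩, ?_⟩
  have := sup_center_eq_Vr D φ.range (wr D r) (sig_wr D r) haQ hbQ hle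
  rw [this]
  congr 1
  rw [hr]; ring

theorem bb_ne_one : bb D ≠ 1 := by
  unfold bb
  rw [Ne, D.pa_eq_one_iff]
  intro h
  exact D.h_ne_zero (congrArg Prod.snd h)

theorem aa_ne_bb : aa D ≠ bb D := by
  unfold aa bb
  intro h
  exact D.h_ne_zero (congrArg Prod.fst (D.pa_injective h))

theorem bb_ne_cc : bb D ≠ cc D := by
  unfold bb cc
  intro h
  exact D.h_ne_zero (congrArg Prod.fst (D.pa_injective h)).symm

theorem bb_mul_self : bb D * bb D = 1 := by
  unfold bb
  rw [pa_mul_self, D.pa_eq_one_iff]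
  exact Prod.ext (by simp) (h_add_h D)


/-! ### More on `Vr r` and its quaternion subgroups -/

theorem four_mul_eq_zero_iff (x : ZMod (2 ^ D.n)) :
    4 * x = 0 ↔ x = 0 ∨ x = q D ∨ x = D.h ∨ x = q D + D.h := by
  constructor
  · intro h4
    have h1 : 2 * (2 * x) = 0 := by linear_combination h4
    rcases (D.two_mul_eq_zero_iff _).mp h1 with h | h
    · rcases (D.two_mul_eq_zero_iff _).mp h with h' | h'
      · left; exact h'
      · right; right; left; exact h'
    · have h2 : 2 * (x - q D) = 0 := by linear_combination h - two_q D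
      rcases (D.two_mul_eq_zero_iff _).mp h2 with h' | h'
      · right; left; linear_combination h'
      · right; right; right; linear_combination h'
  · rintro (rfl | rfl | rfl | rfl)
    · ring
    · exact four_q D
    · linear_combination 2 * D.two_h
    · linear_combination four_q D + 2 * D.two_h

theorem mem_center_of_comm' {X : Subgroup S} {w : D.E} (hw : D.pa w * D.z ∈ X)
    (hi : D.pa (q D, -(q D)) ∈ X) {x : S} (hcomm : ∀ y ∈ X, x * y = y * x) :
    x ∈ Subgroup.center S := by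
  obtain ⟨v, rfl | rfl⟩ := D.normal_form x
  · have h1 := hcomm _ hw
    rw [D.mul_rule1, D.mul_rule2] at h1
    have h2 := D.pa_mul_z_inj h1
    rw [D.mem_center_iff]
    refine ⟨v.1, ?_⟩
    congr 1
    have h3 := congrArg Prod.fst h2
    simp only [Prod.fst_add, Prod.fst_swap] at h3
    have h4 : v.2 = v.1 := by linear_combination -h3
    exact Prod.ext rfl h4
  · exfalso
    have h1 := hcomm _ hi
    rw [D.mul_rule2, D.mul_rule1] at h1
    have h2 := D.pa_mul_z_inj h1
    have h3 := congrArg Prod.fst h2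
    simp only [Prod.fst_add, Prod.swap_prod_mk] at h3
    have h4 : D.h = 0 := by linear_combination -h3 - two_q D
    exact D.h_ne_zero h4

theorem pa_neg_q : D.pa (-(q D), q D) = (D.pa (q D, -(q D)))⁻¹ := by
  rw [← D.pa_neg]; congr 1; simp

/-- Non-central elements of order 4 of `Vr r` lie in any quaternion subgroup of `Vr r`. -/
theorem order_four_mem_quat (r : ZMod (2 ^ D.n)) (Q' : Subgroup S) (w : D.E)
    (hsig : D.sig w = D.h) (hi : D.pa (q D, -(q D)) ∈ Q') (hj : D.pa w * D.z ∈ Q')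
    (hjV : D.pa w * D.z ∈ Vr D r) (x : S) (hx : x ∈ Vr D r)
    (hx4 : x * x * (x * x) = 1) (hx2 : x * x ≠ 1) (hxc : x ∉ Subgroup.center S) : x ∈ Q' := by
  rw [paz_mem_Vr] at hjV
  obtain ⟨v, rfl | rfl⟩ := D.normal_form x
  · rw [pa_mem_Vr] at hx
    rw [pa_mul_self, pa_mul_self, D.pa_eq_one_iff] at hx4
    rw [pa_mul_self, Ne, D.pa_eq_one_iff] at hx2
    rcases (D.two_mul_eq_zero_iff _).mp hx with h | h
    · exfalso
      apply hxc
      rw [D.mem_center_iff]
      exact ⟨v.1, by congr 1; exact Prod.ext rfl (by linear_combination -h)⟩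
    · have h4 : 4 * v.2 = 0 := by
        have := congrArg Prod.snd hx4
        simp only [Prod.snd_add, Prod.snd_zero] at this
        linear_combination this
      have h2 : 2 * v.2 ≠ 0 := by
        intro h0
        apply hx2
        exact Prod.ext (by simp; linear_combination h0 + 2 * h + D.two_h)
          (by simp; linear_combination h0)
      rcases (four_mul_eq_zero_iff D v.2).mp h4 with e | e | e | e
      · exact absurd (by rw [e]; ring) h2
      · have : v = (-(q D), q D) :=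
          Prod.ext (by simp; rw [neg_q_eq]; linear_combination h + e) e
        rw [this, pa_neg_q]
        exact inv_mem hi
      · exact absurd (by rw [e]; exact D.two_h) h2
      · have : v = (q D, -(q D)) :=
          Prod.ext (by simp; linear_combination h + e + D.two_h)
            (by simp; rw [neg_q_eq]; exact e)
        rw [this]; exact hi
  · rw [paz_mem_Vr] at hx
    rw [paz_mul_self, pa_mul_self, D.pa_eq_one_iff] at hx4
    rw [paz_mul_self, Ne, D.pa_eq_one_iff] at hx2
    have hs2 : 2 * D.sig v = 0 := by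
      have := congrArg Prod.fst hx4
      simp only [Prod.fst_add, Prod.fst_zero] at this
      linear_combination this
    have hs : D.sig v = D.h := by
      rcases (D.two_mul_eq_zero_iff _).mp hs2 with h | h
      · exfalso; apply hx2; rw [h]; rfl
      · exact h
    unfold Data.sig at hs hsig
    have h4 : 4 * (v.1 - w.1) = 0 := by linear_combination hx - hjV + 2 * hs - 2 * hsig
    have hpow : ∀ e : D.E, e.1 + e.2 = 0 → 4 * e.1 = 0 → D.pa e ∈ Q' := by
      intro e he1 he2
      have he : e = (e.1, -e.1) := Prod.ext rfl (by linear_combination he1)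
      rcases (four_mul_eq_zero_iff D e.1).mp he2 with h0 | h0 | h0 | h0
      · rw [he, h0]
        have : ((0 : ZMod (2 ^ D.n)), -(0 : ZMod (2 ^ D.n))) = (0 : D.E) := by simp
        rw [this, D.pa_zero]; exact one_mem _
      · rw [he, h0]; exact hi
      · rw [he, h0]
        have : D.pa (D.h, -D.h) = D.pa (q D, -(q D)) * D.pa (q D, -(q D)) := by
          rw [pa_mul_self]; congr 1
          exact Prod.ext (by simp; linear_combination -(two_q D))
            (by simp; linear_combination two_q D)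
        rw [this]; exact mul_mem hi hi
      · rw [he, h0]
        have : D.pa (q D + D.h, -(q D + D.h)) = (D.pa (q D, -(q D)))⁻¹ := by
          rw [← pa_neg_q]; congr 1
          exact Prod.ext (by show q D + D.h = -(q D); linear_combination two_q D + D.two_h)
            (by show -(q D + D.h) = q D; linear_combination -(two_q D) - D.two_h)
        rw [this]; exact inv_mem hi
    have hmem := hpow (v - w) (by simp; linear_combination hs - hsig) (by simpa using h4)
    have := mul_mem hmem hj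
    rwa [D.mul_rule1, sub_add_cancel] at this

theorem Vr_not_le_A (r : ZMod (2 ^ D.n)) : ¬ Vr D r ≤ D.A := by
  intro h
  obtain ⟨v, hv⟩ := h (paz_two_r_mem D r)
  exact D.pa_ne_pa_mul_z _ _ hv

theorem relIndex_Vr_inf_A (r : ZMod (2 ^ D.n)) : (Vr D r ⊓ D.A).relIndex (Vr D r) = 2 := by
  rw [inf_comm, Subgroup.inf_relIndex_right]
  exact index_X0 D (Vr_not_le_A D r)

theorem Vr_inf_A_cases (v : D.E) (hv : 2 * (v.1 - v.2) = 0) :
    (∃ i, D.pa v = D.pa (i, i)) ∨ (∃ i, D.pa v = D.pa (i, i) * D.pa (q D, -(q D))) := by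
  rcases (D.two_mul_eq_zero_iff _).mp hv with h | h
  · left
    exact ⟨v.1, by congr 1; exact Prod.ext rfl (by linear_combination -h)⟩
  · right
    refine ⟨v.2 + q D, ?_⟩
    rw [← D.pa_add]
    congr 1
    exact Prod.ext (by simp; linear_combination h - two_q D) (by simp)

theorem mem_Vr_inf_A (r : ZMod (2 ^ D.n)) (x : S) :
    x ∈ Vr D r ⊓ D.A ↔ ∃ v : D.E, 2 * (v.1 - v.2) = 0 ∧ x = D.pa v := by
  rw [Subgroup.mem_inf]
  constructor
  · rintro ⟨h1, v, rfl⟩
    exact ⟨v, (pa_mem_Vr D r v).mp h1, rfl⟩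
  · rintro ⟨v, hv, rfl⟩
    exact ⟨(pa_mem_Vr D r v).mpr hv, v, rfl⟩

/-- Coordinates of a quaternion subgroup of order 8. -/
structure QDat (Q' : Subgroup S) (w : D.E) : Prop where
  sig : D.sig w = D.h
  hi : D.pa (q D, -(q D)) ∈ Q'
  hj : D.pa w * D.z ∈ Q'
  le_of : ∀ L : Subgroup S, D.pa (q D, -(q D)) ∈ L → D.pa w * D.z ∈ L → Q' ≤ L

theorem exists_qDat (Q' : Subgroup S) (eQ : Q' ≃* QuaternionGroup 2) : ∃ w, QDat D Q' w := by
  obtain ⟨w, hw, h1, h2, hL⟩ := exists_quat_data D Q' eQ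
  exact ⟨w, ⟨hw, h1, h2, hL⟩⟩

namespace QDat

variable {D} {Q' : Subgroup S} {w : D.E}

theorem le_Vr (h : QDat D Q' w) : Q' ≤ Vr D (q D - w.2) :=
  h.le_of _ (paq_mem_Vr D _) (paz_mem_Vr_of_sig D w h.sig)

theorem sup_center (h : QDat D Q' w) : Q' ⊔ Subgroup.center S = Vr D (q D - w.2) :=
  sup_center_eq_Vr D Q' w h.sig h.hi h.hj h.le_Vr

theorem order_four_mem (h : QDat D Q' w) (x : S) (hx : x ∈ Vr D (q D - w.2))
    (hx4 : x * x * (x * x) = 1) (hx2 : x * x ≠ 1) (hxc : x ∉ Subgroup.center S) : x ∈ Q' :=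
  order_four_mem_quat D _ Q' w h.sig h.hi h.hj (paz_mem_Vr_of_sig D w h.sig) x hx hx4 hx2 hxc

theorem mem_center_of_comm (h : QDat D Q' w) {X : Subgroup S} (hQX : Q' ≤ X) {x : S}
    (hcomm : ∀ y ∈ X, x * y = y * x) : x ∈ Subgroup.center S :=
  mem_center_of_comm' D (hQX h.hj) (hQX h.hi) hcomm

end QDat

theorem card_Vr_eq (r r' : ZMod (2 ^ D.n)) : Nat.card (Vr D r) = Nat.card (Vr D r') := by
  obtain ⟨s, hs⟩ := Vr_conj D r r'
  rw [← hs]
  exact (Subgroup.card_map_of_injective (MulAut.conj s).injective).symm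

theorem q_sub_wr (r : ZMod (2 ^ D.n)) : q D - (wr D r).2 = r := by
  unfold wr; ring

open Cfsg.Agent.Lib.Lead.QuatIso in
/-- A quaternion subgroup with prescribed parameter. -/
theorem exists_qDat_wr (r : ZMod (2 ^ D.n)) :
    ∃ Q' : Subgroup S, Nonempty (Q' ≃* QuaternionGroup 2) ∧ QDat D Q' (wr D r) := by
  set a := D.pa (q D, -(q D)) with ha
  set b := D.pa (wr D r) * D.z with hb
  have hoa : orderOf a = 2 * 2 := orderOf_paq D
  have hb2 : b ^ 2 = a ^ 2 := by
    rw [pow_two, pow_two, hb, paz_mul_self, sig_wr, ha, paq_sq]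
    rfl
  have hinv : b * a * b⁻¹ = a⁻¹ := by
    rw [hb, ha, D.mul_rule2, paz_mul_paz_inv, add_sub_cancel_left, ← D.pa_neg]
    congr 1
    simp
  have hbn : b ∉ Subgroup.zpowers a := by
    intro hmem
    have hle : Subgroup.zpowers a ≤ D.A := by
      rw [Subgroup.zpowers_le]; exact ⟨_, rfl⟩
    obtain ⟨v, hv⟩ := hle hmem
    exact D.pa_ne_pa_mul_z _ _ hv
  have hinj := quatHom_injective hoa hb2 hinv hbn
  set φ := quatHom hoa hb2 hinv with hφ
  have haQ : a ∈ φ.range := by
    refine ⟨QuaternionGroup.a 1, ?_⟩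
    show a ^ (((1 : ZMod (2 * 2))).cast : ℤ) = a
    have : (((1 : ZMod (2 * 2))).cast : ℤ) = 1 := by decide
    rw [this, zpow_one]
  have hbQ : b ∈ φ.range := by
    refine ⟨QuaternionGroup.xa 0, ?_⟩
    show b * a ^ (((0 : ZMod (2 * 2))).cast : ℤ) = b
    have : (((0 : ZMod (2 * 2))).cast : ℤ) = 0 := by decide
    rw [this, zpow_zero, mul_one]
  refine ⟨φ.range, ⟨(MonoidHom.ofInjective hinj).symm⟩, ⟨sig_wr D r, haQ, hbQ, ?_⟩⟩
  intro L haL hbL
  rintro _ ⟨x, rfl⟩
  cases x with
  | a i => exact Subgroup.zpow_mem _ haL _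
  | xa i => exact mul_mem hbL (Subgroup.zpow_mem _ haL _)

theorem two_ne_zero_R : (2 : ZMod (2 ^ D.n)) ≠ 0 := by
  intro h2
  have h1 : (2 : ZMod (2 ^ D.n)) * 1 = 0 := by rw [mul_one]; exact h2
  rcases (D.two_mul_eq_zero_iff 1).mp h1 with h | h
  · exact D.one_ne_zero' h
  · apply D.h_ne_zero
    have e1 : D.h * D.h = 0 := by linear_combination (-D.h) * two_q D + (q D) * D.two_h
    have e2 : D.h * 1 = D.h * D.h := congrArg (D.h * ·) h
    rw [mul_one, e1] at e2
    exact e2

/-- The automorphism group of a wreathed 2-group is a 2-group. -/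
theorem isPGroup_mulAut [Finite S] (D : Data S) : IsPGroup 2 (MulAut S) := by
  by_contra hA
  have hA' : ¬ IsPGroup 2 (MulAut (⊤ : Subgroup S)) := by
    intro h
    apply hA
    exact h.of_equiv (MulAut.congr Subgroup.topEquiv)
  rcases classify D ⊤ le_top hA' with h | ⟨r, h⟩
  · apply D.z_notMem
    rw [← h]; exact Subgroup.mem_top _
  · have : D.pa (1, 0) ∈ Vr D r := by rw [← h]; exact Subgroup.mem_top _
    rw [pa_mem_Vr] at this
    simp only [sub_zero, mul_one] at this
    exact two_ne_zero_R D this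

end Cfsg.Agent.Lib.Helper23.WrAut
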