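import Mathlib
import Cfsg.Agent.Lib.Helper23.WreathedAut
import Cfsg.Agent.Lib.Helper23.AlperinCentric
import Cfsg.Agent.Lib.Helper23.LocalIndex
import Cfsg.Agent.Lib.Helper23.FusionTools
import Cfsg.Agent.Lib.Helper1.SectionTransfer
import Cfsg.Agent.S1196
import Cfsg.Agent.S1199

set_option autoImplicit false

/-!
# Fusion in groups with wreathed Sylow 2-subgroups (ABG, Proposition 2)
-/

namespace Cfsg.Agent.Lib.Helper23.WrFus

open Cfsg.Agent.Lib.Helper12.Wr Cfsg.Agent.Lib.Helper23.WrAut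
open Cfsg.Agent.Lib.Helper23.AlperinCentric Cfsg.Agent.Lib.Helper29 Cfsg.Agent.Lib.Helper1
open Cfsg.Agent.Lib.Helper23.LocalIndex

variable {G : Type*} [Group G] (S : Sylow 2 G)

/-- image in `G` of a subgroup of `S` -/
abbrev im (X : Subgroup ↥(S : Subgroup G)) : Subgroup G := X.map (S : Subgroup G).subtype

theorem mem_im {X : Subgroup ↥(S : Subgroup G)} {g : G} :
    g ∈ im S X ↔ ∃ s : ↥(S : Subgroup G), s ∈ X ∧ (s : G) = g := by
  rw [Subgroup.mem_map]
  rfl

theorem coe_mem_im {X : Subgroup ↥(S : Subgroup G)} (s : ↥(S : Subgroup G)) :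
    (s : G) ∈ im S X ↔ s ∈ X := by
  rw [mem_im]
  constructor
  · rintro ⟨s', hs', h⟩
    rwa [← Subtype.ext h]
  · intro h
    exact ⟨s, h, rfl⟩

theorem im_le (X : Subgroup ↥(S : Subgroup G)) : im S X ≤ (S : Subgroup G) :=
  Subgroup.map_subtype_le X

theorem im_subgroupOf {T : Subgroup G} (hT : T ≤ (S : Subgroup G)) :
    im S (T.subgroupOf (S : Subgroup G)) = T := Subgroup.map_subgroupOf_eq_of_le hT

theorem im_injective : Function.Injective (im S) :=
  Subgroup.map_injective (Subgroup.subtype_injective _)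

theorem im_sup (X Y : Subgroup ↥(S : Subgroup G)) : im S (X ⊔ Y) = im S X ⊔ im S Y :=
  Subgroup.map_sup X Y _

theorem card_im (X : Subgroup ↥(S : Subgroup G)) : Nat.card (im S X) = Nat.card X :=
  Subgroup.card_map_of_injective (Subgroup.subtype_injective _)

variable (D : Data ↥(S : Subgroup G))

/-- the abelian subgroup of index 2 -/
abbrev AG : Subgroup G := im S D.A
/-- the centre of `S` -/
abbrev ZG : Subgroup G := im S (Subgroup.center ↥(S : Subgroup G))
/-- the subgroups `Q Z(S)` -/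
abbrev VG (r : ZMod (2 ^ D.n)) : Subgroup G := im S (Vr D r)

/-- The conjugation family. -/
def fam : Set (Subgroup G) := {T | T = (S : Subgroup G) ∨ T = AG S D ∨ ∃ r, T = VG S D r}

theorem eq_AG [Finite G] (U : Subgroup G) (hUS : U ≤ S) (hUab : IsMulCommutative U)
    (hUcard : Nat.card U = 2 ^ (2 * D.n)) : U = AG S D := by
  have h1 : IsMulCommutative (U.subgroupOf (S : Subgroup G)) :=
    ⟨⟨fun a b => Subtype.ext (Subtype.ext (by
      have := hUab.is_comm.comm ⟨(a : G), Subgroup.mem_subgroupOf.mp a.2⟩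
        ⟨(b : G), Subgroup.mem_subgroupOf.mp b.2⟩
      have h := congrArg Subtype.val this
      simpa using h))⟩⟩
  have h2 : Nat.card (U.subgroupOf (S : Subgroup G)) = 2 ^ (2 * D.n) := by
    rw [← hUcard]
    exact Nat.card_congr (Subgroup.subgroupOfEquivOfLe hUS).toEquiv
  have h3 := Cfsg.Agent.S1196.eq_A_of_comm D _ h1 h2
  rw [AG, ← h3, im_subgroupOf S hUS]

theorem eq_VG (Q : Subgroup G) (hQS : Q ≤ S) (eQ : Q ≃* QuaternionGroup 2) :
    ∃ r, Q ⊔ ZG S = VG S D r := by
  have e : Q.subgroupOf (S : Subgroup G) ≃* QuaternionGroup 2 :=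
    (Subgroup.subgroupOfEquivOfLe hQS).trans eQ
  obtain ⟨r, hr⟩ := quat_sup_center D _ e
  refine ⟨r, ?_⟩
  rw [VG, ← hr, im_sup, im_subgroupOf S hQS]

/-- All fusion in `S` is generated by `N_G(S)`, `N_G(A)` and the `N_G(V_r)`. -/
theorem fus_wreathed [Finite G] (A : Set G) (hA : A ⊆ ((S : Subgroup G) : Set G)) (g : G)
    (hg : rcs g A ⊆ ((S : Subgroup G) : Set G)) : Fus (fam S D) A g := by
  have := D.finite
  refine fus_of_centric S (fam S D) (Or.inl rfl) ?_ A hA g hg
  intro T hTS hsyl hcen hdec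
  have hAut : ¬ IsPGroup 2 (MulAut T) := fun h =>
    hdec (normalizer_eq_of_isPGroup_mulAut S T hsyl h)
  set T' := T.subgroupOf (S : Subgroup G) with hT'
  have hAut' : ¬ IsPGroup 2 (MulAut T') := by
    intro h
    apply hAut
    exact h.of_equiv (MulAut.congr (Subgroup.subgroupOfEquivOfLe hTS))
  have hC' : Subgroup.centralizer (T' : Set ↥(S : Subgroup G)) ≤ T' := by
    intro s hs
    rw [hT', Subgroup.mem_subgroupOf]
    apply hcen
    refine ⟨s.2, ?_⟩
    show (s : G) ∈ Subgroup.centralizer (T : Set G)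
    rw [Subgroup.mem_centralizer_iff]
    intro t ht
    have := Subgroup.mem_centralizer_iff.mp hs ⟨t, hTS ht⟩ (by
      rw [SetLike.mem_coe, hT', Subgroup.mem_subgroupOf]; exact ht)
    exact congrArg Subtype.val this
  rcases classify D T' hC' hAut' with h | ⟨r, h⟩
  · right; left
    rw [AG, ← h, hT', im_subgroupOf S hTS]
  · right; right
    refine ⟨r, ?_⟩
    rw [VG, ← h, hT', im_subgroupOf S hTS]

/-! ### General lemmas on normalizers -/

section general

variable {S}

theorem normalizer_le_normalizer_centralizer (T : Subgroup G) :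
    Subgroup.normalizer (T : Set G) ≤
      Subgroup.normalizer ((Subgroup.centralizer (T : Set G) : Subgroup G) : Set G) := by
  intro x hx
  apply mem_normalizer_of_cj_eq
  rw [cj_centralizer, cj_eq_of_mem_normalizer hx]

theorem normalizer_le_normalizer_sup_centralizer (T : Subgroup G) :
    Subgroup.normalizer (T : Set G) ≤
      Subgroup.normalizer ((T ⊔ Subgroup.centralizer (T : Set G) : Subgroup G) : Set G) := by
  intro x hx
  apply mem_normalizer_of_cj_eq
  rw [cj_sup, cj_centralizer, cj_eq_of_mem_normalizer hx]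

theorem normalizer_le_normalizer_inf_centralizer (T : Subgroup G) :
    Subgroup.normalizer (T : Set G) ≤
      Subgroup.normalizer ((T ⊓ Subgroup.centralizer (T : Set G) : Subgroup G) : Set G) := by
  intro x hx
  apply mem_normalizer_of_cj_eq
  rw [cj_inf, cj_centralizer, cj_eq_of_mem_normalizer hx]

theorem sup_centralizer_le_normalizer (T : Subgroup G) :
    T ⊔ Subgroup.centralizer (T : Set G) ≤ Subgroup.normalizer (T : Set G) :=
  sup_le Subgroup.le_normalizer (Subgroup.centralizer_le_normalizer _)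

theorem mem_sup_centralizer {T : Subgroup G} {g : G}
    (hg : g ∈ T ⊔ Subgroup.centralizer (T : Set G)) :
    ∃ v ∈ T, ∃ c ∈ Subgroup.centralizer (T : Set G), g = v * c := by
  have hle : T ≤ Subgroup.normalizer ((Subgroup.centralizer (T : Set G) : Subgroup G) : Set G) :=
    Subgroup.le_normalizer.trans (normalizer_le_normalizer_centralizer T)
  rw [← SetLike.mem_coe, Subgroup.coe_mul_of_left_le_normalizer_right _ _ hle] at hg
  obtain ⟨v, hv, c, hc, h⟩ := Set.mem_mul.mp hg
  exact ⟨v, hv, c, hc, h.symm⟩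

end general

theorem relIndex_im (X Y : Subgroup ↥(S : Subgroup G)) :
    (im S X).relIndex (im S Y) = X.relIndex Y :=
  Subgroup.relIndex_map_map_of_injective X Y (Subgroup.subtype_injective _)

theorem im_top : im S ⊤ = (S : Subgroup G) := by
  rw [im, ← MonoidHom.range_eq_map, Subgroup.range_subtype]

theorem S_inf_normalizer_im (X : Subgroup ↥(S : Subgroup G)) :
    (S : Subgroup G) ⊓ Subgroup.normalizer ((im S X : Subgroup G) : Set G) =
      im S (Subgroup.normalizer (X : Set ↥(S : Subgroup G))) := by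
  ext g
  rw [Subgroup.mem_inf, mem_im]
  constructor
  · rintro ⟨hgS, hgN⟩
    refine ⟨⟨g, hgS⟩, ?_, rfl⟩
    rw [Subgroup.mem_normalizer_iff]
    intro x
    have := Subgroup.mem_normalizer_iff.mp hgN (x : G)
    rw [coe_mem_im] at this
    rw [this]
    have e : g * (x : G) * g⁻¹ = (((⟨g, hgS⟩ : ↥(S : Subgroup G)) * x * ⟨g, hgS⟩⁻¹ :
      ↥(S : Subgroup G)) : G) := rfl
    rw [e, coe_mem_im]
  · rintro ⟨s, hs, rfl⟩
    refine ⟨s.2, ?_⟩
    rw [Subgroup.mem_normalizer_iff]
    intro g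
    constructor
    · intro hg
      obtain ⟨x, hx, rfl⟩ := (mem_im S).mp hg
      have e : (s : G) * (x : G) * (s : G)⁻¹ = ((s * x * s⁻¹ : ↥(S : Subgroup G)) : G) := rfl
      rw [e, coe_mem_im]
      exact (Subgroup.mem_normalizer_iff.mp hs x).mp hx
    · intro hg
      have hgS : g ∈ (S : Subgroup G) := by
        have h1 := im_le S X hg
        have : g = (s : G)⁻¹ * ((s : G) * g * (s : G)⁻¹) * (s : G) := by group
        rw [this]
        exact mul_mem (mul_mem (inv_mem s.2) h1) s.2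
      have e : (s : G) * g * (s : G)⁻¹ =
          ((s * ⟨g, hgS⟩ * s⁻¹ : ↥(S : Subgroup G)) : G) := rfl
      rw [e, coe_mem_im] at hg
      have := (Subgroup.mem_normalizer_iff.mp hs ⟨g, hgS⟩).mpr hg
      exact (coe_mem_im S (⟨g, hgS⟩ : ↥(S : Subgroup G))).mpr this

theorem S_le_normalizer_im (X : Subgroup ↥(S : Subgroup G)) [X.Normal] :
    (S : Subgroup G) ≤ Subgroup.normalizer ((im S X : Subgroup G) : Set G) := by
  have h := S_inf_normalizer_im S X
  rw [Subgroup.normalizer_eq_top (H := X), im_top] at h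
  exact inf_eq_left.mp h

theorem two_pow_of_mem_S {g : G} (hg : g ∈ (S : Subgroup G)) : ∃ k : ℕ, g ^ (2 ^ k) = 1 := by
  obtain ⟨k, hk⟩ := S.isPGroup' ⟨g, hg⟩
  refine ⟨k, ?_⟩
  have := congrArg Subtype.val hk
  simpa using this

theorem not_dvd_relIndex_S [Finite G] {N : Subgroup G} (hSN : (S : Subgroup G) ≤ N) :
    ¬ 2 ∣ (S : Subgroup G).relIndex N := by
  intro h
  apply S.not_dvd_index
  rw [← Subgroup.relIndex_mul_index hSN]
  exact Dvd.dvd.mul_right h _

/-! ### The normalizer of `A` -/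

/-- the involutions `a`, `b`, `c` in `G` -/
abbrev aG : G := ((aa D : ↥(S : Subgroup G)) : G)
abbrev bG : G := ((bb D : ↥(S : Subgroup G)) : G)
abbrev cG : G := ((cc D : ↥(S : Subgroup G)) : G)

theorem AG_comm : ∀ a ∈ AG S D, ∀ b ∈ AG S D, a * b = b * a := by
  intro a ha b hb
  obtain ⟨s, ⟨u, rfl⟩, rfl⟩ := (mem_im S).mp ha
  obtain ⟨t, ⟨v, rfl⟩, rfl⟩ := (mem_im S).mp hb
  have := D.pa_comm u v
  exact congrArg Subtype.val this

theorem AG_le_centralizer : AG S D ≤ Subgroup.centralizer ((AG S D : Subgroup G) : Set G) := by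
  intro a ha
  rw [Subgroup.mem_centralizer_iff]
  intro b hb
  exact AG_comm S D b hb a ha

theorem S_inf_centralizer_AG :
    (S : Subgroup G) ⊓ Subgroup.centralizer ((AG S D : Subgroup G) : Set G) = AG S D := by
  apply le_antisymm
  · rintro g ⟨hgS, hgC⟩
    obtain ⟨v, hv | hv⟩ := D.normal_form (⟨g, hgS⟩ : ↥(S : Subgroup G))
    · exact (mem_im S).mpr ⟨⟨g, hgS⟩, ⟨v, hv.symm⟩, rfl⟩
    · exfalso
      have h1 := Subgroup.mem_centralizer_iff.mp hgC ((D.pa (1, 0) : ↥(S : Subgroup G)) : G)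
        ((coe_mem_im S _).mpr ⟨_, rfl⟩)
      have h2 : D.pa (1, 0) * (⟨g, hgS⟩ : ↥(S : Subgroup G)) = ⟨g, hgS⟩ * D.pa (1, 0) :=
        Subtype.ext h1
      rw [hv, D.mul_rule1, D.mul_rule2] at h2
      have h3 := congrArg Prod.fst (D.pa_mul_z_inj h2)
      simp only [Prod.fst_add, Prod.swap_prod_mk] at h3
      exact D.one_ne_zero' (by linear_combination h3)
  · exact le_inf (im_le S _) (AG_le_centralizer S D)

theorem relIndex_AG_S : (AG S D).relIndex (S : Subgroup G) = 2 := by
  have := relIndex_im S D.A ⊤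
  rw [im_top, Subgroup.relIndex_top_right, D.index_A] at this
  exact this

theorem S_le_normalizer_AG :
    (S : Subgroup G) ≤ Subgroup.normalizer ((AG S D : Subgroup G) : Set G) := by
  have := D.A_normal
  exact S_le_normalizer_im S D.A

theorem invSet_AG : invSet (AG S D) = {aG S D, bG S D, cG S D} := by
  ext t
  simp only [invSet, Set.mem_setOf_eq, Set.mem_insert_iff, Set.mem_singleton_iff]
  constructor
  · rintro ⟨ht, ht1, htt⟩
    obtain ⟨s, ⟨v, rfl⟩, rfl⟩ := (mem_im S).mp ht
    have h1 : D.pa v * D.pa v = 1 := Subtype.ext htt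
    rcases invol_A D v h1 with h | h | h | h
    · exfalso; apply ht1; rw [h]; rfl
    · left; rw [h]
    · right; left; rw [h]
    · right; right; rw [h]
  · rintro (rfl | rfl | rfl)
    · refine ⟨(coe_mem_im S _).mpr ⟨_, rfl⟩, ?_, ?_⟩
      · intro h
        exact aa_ne_one D (Subtype.ext h)
      · exact congrArg Subtype.val (aa_mul_self D)
    · refine ⟨(coe_mem_im S _).mpr ⟨_, rfl⟩, ?_, ?_⟩
      · intro h
        exact bb_ne_one D (Subtype.ext h)
      · exact congrArg Subtype.val (bb_mul_self D)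
    · refine ⟨(coe_mem_im S _).mpr ⟨_, rfl⟩, ?_, ?_⟩
      · intro h
        exact cc_ne_one D (Subtype.ext h)
      · exact congrArg Subtype.val (cc_mul_self D)

theorem card_invSet_AG : Nat.card ↥(invSet (AG S D)) = 3 := by
  rw [Nat.card_coe_set_eq, Set.ncard_eq_three]
  refine ⟨aG S D, bG S D, cG S D, ?_, ?_, ?_, invSet_AG S D⟩
  · intro h; exact aa_ne_bb D (Subtype.ext h)
  · intro h; exact aa_ne_cc D (Subtype.ext h)
  · intro h; exact bb_ne_cc D (Subtype.ext h)

/-- the action of `N_G(A)` on the three involutions of `A` -/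
def rhoU : ↥(Subgroup.normalizer ((AG S D : Subgroup G) : Set G)) →*
    Equiv.Perm ↥(invSet (AG S D)) :=
  Cfsg.Agent.Lib.Helper23.ThreePoint.conjPerm _ _ (invSet_stable (AG S D))

theorem mem_ker_rhoU (n : ↥(Subgroup.normalizer ((AG S D : Subgroup G) : Set G))) :
    n ∈ (rhoU S D).ker ↔ ∀ a ∈ invSet (AG S D), (n : G) * a * (n : G)⁻¹ = a :=
  Cfsg.Agent.Lib.Helper23.ThreePoint.mem_ker_conjPerm _ _ _ n

theorem centralizer_le_ker_rhoU :
    (Subgroup.centralizer ((AG S D : Subgroup G) : Set G)).subgroupOf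
      (Subgroup.normalizer ((AG S D : Subgroup G) : Set G)) ≤ (rhoU S D).ker := by
  intro n hn
  rw [mem_ker_rhoU]
  intro a ha
  have := Subgroup.mem_centralizer_iff.mp (Subgroup.mem_subgroupOf.mp hn) a ha.1
  rw [← this]
  group

theorem odd_ker_rhoU (k : ↥(Subgroup.normalizer ((AG S D : Subgroup G) : Set G)))
    (hk : k ∈ (rhoU S D).ker) (hodd : Odd (orderOf k)) :
    k ∈ (Subgroup.centralizer ((AG S D : Subgroup G) : Set G)).subgroupOf
      (Subgroup.normalizer ((AG S D : Subgroup G) : Set G)) := by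
  rw [Subgroup.mem_subgroupOf]
  rw [mem_ker_rhoU] at hk
  apply mem_centralizer_of_odd_abelian (AG S D) (AG_comm S D)
    (fun t ht => two_pow_of_mem_S S (im_le S _ ht)) (k : G) k.2
  · rwa [Subgroup.orderOf_coe]
  · intro t ht htt
    by_cases h1 : t = 1
    · rw [h1]; group
    · exact hk t ⟨ht, h1, htt⟩

theorem centralizer_subgroupOf_normal (T : Subgroup G) :
    ((Subgroup.centralizer (T : Set G)).subgroupOf (Subgroup.normalizer (T : Set G))).Normal := by
  rw [← Subgroup.normalizerMonoidHom_ker]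
  infer_instance

/-- `|N_G(A) : C_G(A)| ∈ {2, 6}`. -/
theorem index_AG [Finite G] :
    (Subgroup.centralizer ((AG S D : Subgroup G) : Set G)).relIndex
      (Subgroup.normalizer ((AG S D : Subgroup G) : Set G)) = 2 ∨
    (Subgroup.centralizer ((AG S D : Subgroup G) : Set G)).relIndex
      (Subgroup.normalizer ((AG S D : Subgroup G) : Set G)) = 6 := by
  set N := Subgroup.normalizer ((AG S D : Subgroup G) : Set G) with hN
  set C := Subgroup.centralizer ((AG S D : Subgroup G) : Set G) with hC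
  have hSN := S_le_normalizer_AG S D
  have hB := relIndex_eq_pow_mul (p := 2) (S : Subgroup G) N C S.isPGroup' hSN
    (not_dvd_relIndex_S S hSN) (Subgroup.centralizer_le_normalizer _)
    (normalizer_le_normalizer_centralizer _) 1 (by
      rw [hC, S_inf_centralizer_AG, relIndex_AG_S]; rfl)
  have : Finite ↥(invSet (AG S D)) :=
    Nat.finite_of_card_ne_zero (by rw [card_invSet_AG]; decide)
  have := centralizer_subgroupOf_normal (AG S D)
  exact index_two_or_six (rhoU S D) (card_invSet_AG S D) (C.subgroupOf N)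
    (centralizer_le_ker_rhoU S D) (odd_ker_rhoU S D) hB

/-! ### The normalizer of `V = Q Z(S)` -/

section V

open Cfsg.Agent.Lib.Helper23.ThreePoint

variable {S D}
variable {Q' : Subgroup ↥(S : Subgroup G)} {w : D.E}

theorem Q_le_V (hq : QDat D Q' w) : im S Q' ≤ VG S D (q D - w.2) := Subgroup.map_mono hq.le_Vr

theorem Q_sup_ZG (hq : QDat D Q' w) : im S Q' ⊔ ZG S = VG S D (q D - w.2) := by
  rw [← im_sup, hq.sup_center]

theorem ZG_le_VG (r : ZMod (2 ^ D.n)) : ZG S ≤ VG S D r := Subgroup.map_mono (center_le_Vr D r)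

theorem ZG_le_centralizer_of_le {T : Subgroup G} (hT : T ≤ (S : Subgroup G)) :
    ZG S ≤ Subgroup.centralizer (T : Set G) := by
  intro g hg
  obtain ⟨s, hs, rfl⟩ := (mem_im S).mp hg
  rw [Subgroup.mem_centralizer_iff]
  intro t ht
  have := Subgroup.mem_center_iff.mp hs ⟨t, hT ht⟩
  exact congrArg Subtype.val this

theorem S_inf_centralizer_VG (hq : QDat D Q' w) :
    (S : Subgroup G) ⊓ Subgroup.centralizer ((VG S D (q D - w.2) : Subgroup G) : Set G) = ZG S := by
  apply le_antisymm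
  · rintro g ⟨hgS, hgC⟩
    refine (mem_im S).mpr ⟨⟨g, hgS⟩, ?_, rfl⟩
    apply hq.mem_center_of_comm hq.le_Vr
    intro y hy
    have := Subgroup.mem_centralizer_iff.mp hgC (y : G) ((coe_mem_im S y).mpr hy)
    exact Subtype.ext this.symm
  · exact le_inf (im_le S _) (ZG_le_centralizer_of_le (im_le S _))

theorem VG_inf_centralizer_VG (hq : QDat D Q' w) :
    VG S D (q D - w.2) ⊓ Subgroup.centralizer ((VG S D (q D - w.2) : Subgroup G) : Set G) =
      ZG S := by
  apply le_antisymm
  · rw [← S_inf_centralizer_VG hq]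
    exact inf_le_inf_right _ (im_le S _)
  · exact le_inf (ZG_le_VG _) (ZG_le_centralizer_of_le (im_le S _))

theorem normalizer_VG_le_normalizer_ZG (hq : QDat D Q' w) :
    Subgroup.normalizer ((VG S D (q D - w.2) : Subgroup G) : Set G) ≤
      Subgroup.normalizer ((ZG S : Subgroup G) : Set G) := by
  have := normalizer_le_normalizer_inf_centralizer (VG S D (q D - w.2))
  rwa [VG_inf_centralizer_VG hq] at this

theorem conj_mem_iff_of_mem_normalizer {T : Subgroup G} {x : G}
    (hx : x ∈ Subgroup.normalizer (T : Set G)) (t : G) : x * t * x⁻¹ ∈ T ↔ t ∈ T :=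
  (Subgroup.mem_normalizer_iff.mp hx t).symm

theorem normalizer_VG_le_normalizer_Q [Finite G] (hq : QDat D Q' w)
    (e : Q' ≃* QuaternionGroup 2) :
    Subgroup.normalizer ((VG S D (q D - w.2) : Subgroup G) : Set G) ≤
      Subgroup.normalizer ((im S Q' : Subgroup G) : Set G) := by
  intro x hx
  have eG : im S Q' ≃* QuaternionGroup 2 :=
    (Subgroup.equivMapOfInjective Q' _ (Subgroup.subtype_injective _)).symm.trans e
  obtain ⟨a, b, hd⟩ := exists_q8Data (im S Q') eG
  have hxZ := normalizer_VG_le_normalizer_ZG hq hx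
  have key : ∀ c ∈ im S Q', c ^ 4 = 1 → c ^ 2 ≠ 1 → c ∉ ZG S → x * c * x⁻¹ ∈ im S Q' := by
    intro c hc hc4 hc2 hcZ
    have h1 : x * c * x⁻¹ ∈ VG S D (q D - w.2) :=
      (conj_mem_iff_of_mem_normalizer hx c).mpr (Q_le_V hq hc)
    obtain ⟨s, hs, hsc⟩ := (mem_im S).mp h1
    have hpow : ∀ k : ℕ, (x * c * x⁻¹) ^ k = x * c ^ k * x⁻¹ := by
      intro k
      have := map_pow (MulAut.conj x) c k
      simpa [MulAut.conj_apply] using this
    rw [← hsc, coe_mem_im]
    apply hq.order_four_mem s hs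
    · apply Subtype.ext
      have : ((s * s * (s * s) : ↥(S : Subgroup G)) : G) = (s : G) ^ 4 := by
        simp only [Subgroup.coe_mul]
        rw [pow_succ, pow_succ, pow_succ, pow_one, mul_assoc, mul_assoc, mul_assoc]
      rw [this, hsc, hpow, hc4]
      simp
    · intro h
      apply hc2
      have h2 : (s : G) ^ 2 = 1 := by
        have := congrArg Subtype.val h
        simpa [pow_two] using this
      rw [hsc, hpow] at h2
      have : c ^ 2 = x⁻¹ * (x * c ^ 2 * x⁻¹) * x := by group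
      rw [this, h2]; group
    · intro h
      apply hcZ
      have h2 : x * c * x⁻¹ ∈ ZG S := by rw [← hsc]; exact (coe_mem_im S s).mpr h
      exact (conj_mem_iff_of_mem_normalizer hxZ c).mp h2
  have hnotZ : ∀ c d : G, c ∈ (S : Subgroup G) → d ∈ (S : Subgroup G) → d * c ≠ c * d →
      c ∉ ZG S := by
    intro c d hc hd hne hcZ
    apply hne
    have := Subgroup.mem_centralizer_iff.mp
      (ZG_le_centralizer_of_le (T := (S : Subgroup G)) le_rfl hcZ) d hd
    exact this
  have haS := im_le S _ hd.ha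
  have hbS := im_le S _ hd.hb
  have ha' := key a hd.ha hd.a4 hd.a2 (hnotZ a b haS hbS hd.not_comm)
  have hb' := key b hd.hb hd.b4 (by rw [hd.b2]; exact hd.a2)
    (hnotZ b a hbS haS (fun h => hd.not_comm h.symm))
  have hle : im S Q' ≤ cj x⁻¹ (im S Q') := by
    apply hd.le_of_mem
    · rw [mem_cj, inv_inv]; exact ha'
    · rw [mem_cj, inv_inv]; exact hb'
  have heq : cj x⁻¹ (im S Q') = im S Q' := by
    symm
    apply Subgroup.eq_of_le_of_card_ge hle
    rw [card_cj]
  have := mem_normalizer_of_cj_eq heq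
  simpa using inv_mem this

theorem isPGroup_of_le_S {T : Subgroup G} (hT : T ≤ (S : Subgroup G)) : IsPGroup 2 T :=
  S.isPGroup'.to_le hT

theorem card_S_inf_normalizer_VG [Finite G] (r : ZMod (2 ^ D.n)) :
    Nat.card ((S : Subgroup G) ⊓ Subgroup.normalizer ((VG S D r : Subgroup G) : Set G) :
      Subgroup G) = 2 * Nat.card (Vr D r) := by
  rw [S_inf_normalizer_im, card_im]
  have := relIndex_mul_card (Subgroup.le_normalizer (H := Vr D r))
  rw [relIndex_normalizer_Vr] at this
  exact this.symm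

/-- `N_S(V)` is a Sylow 2-subgroup of `N_G(V)`. -/
theorem sylow_normalizer_VG [Finite G] (hq : QDat D Q' w) (e : Q' ≃* QuaternionGroup 2) :
    ¬ 2 ∣ ((S : Subgroup G) ⊓
      Subgroup.normalizer ((VG S D (q D - w.2) : Subgroup G) : Set G)).relIndex
      (Subgroup.normalizer ((VG S D (q D - w.2) : Subgroup G) : Set G)) := by
  have := D.finite
  set V := VG S D (q D - w.2) with hV
  rw [← sylCond_iff]
  obtain ⟨g, hgS, hsc⟩ := exists_cj_sylCond S V V Subgroup.le_normalizer
    (isPGroup_of_le_S (im_le S _))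
  -- the conjugate `V'` of `V`
  set V' := cj g V with hV'
  set X' := V'.subgroupOf (S : Subgroup G) with hX'
  have hQle : cj g (im S Q') ≤ V' := cj_mono (Q_le_V hq)
  set Q'' := (cj g (im S Q')).subgroupOf (S : Subgroup G) with hQ''
  have e'' : Q'' ≃* QuaternionGroup 2 :=
    ((Subgroup.subgroupOfEquivOfLe (hQle.trans hgS)).trans
      ((Subgroup.equivMapOfInjective (im S Q') _ (MulAut.conj g).injective).symm.trans
        (Subgroup.equivMapOfInjective Q' _ (Subgroup.subtype_injective _)).symm)).trans e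
  obtain ⟨w'', hq''⟩ := exists_qDat D Q'' e''
  have hQ''X' : Q'' ≤ X' := by
    intro s hs
    rw [hX', Subgroup.mem_subgroupOf]
    exact hQle (Subgroup.mem_subgroupOf.mp hs)
  -- the centre
  set Z' := (cj g (ZG S)).subgroupOf (S : Subgroup G) with hZ'
  have hZ'le : Z' ≤ Subgroup.center ↥(S : Subgroup G) := by
    intro s hs
    apply hq''.mem_center_of_comm hQ''X'
    intro y hy
    rw [hZ', Subgroup.mem_subgroupOf, mem_cj] at hs
    rw [hX', Subgroup.mem_subgroupOf, hV', mem_cj] at hy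
    have h1 := Subgroup.mem_centralizer_iff.mp
      (ZG_le_centralizer_of_le (im_le S (Vr D (q D - w.2))) hs) _ hy
    apply Subtype.ext
    have h2 : g * (g⁻¹ * (y : G) * g * (g⁻¹ * (s : G) * g)) * g⁻¹ =
        g * (g⁻¹ * (s : G) * g * (g⁻¹ * (y : G) * g)) * g⁻¹ := by rw [h1]
    have h3 : (y : G) * (s : G) = (s : G) * (y : G) := by
      have e1 : g * (g⁻¹ * (y : G) * g * (g⁻¹ * (s : G) * g)) * g⁻¹ = (y : G) * s := by group
      have e2 : g * (g⁻¹ * (s : G) * g * (g⁻¹ * (y : G) * g)) * g⁻¹ = (s : G) * y := by group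
      rw [e1, e2] at h2
      exact h2
    exact h3.symm
  have hZ'card : Nat.card Z' = Nat.card (Subgroup.center ↥(S : Subgroup G)) := by
    have hle : cj g (ZG S) ≤ (S : Subgroup G) := (cj_mono (ZG_le_VG _)).trans hgS
    rw [hZ', Nat.card_congr (Subgroup.subgroupOfEquivOfLe hle).toEquiv, card_cj, card_im]
  have hZ'eq : Z' = Subgroup.center ↥(S : Subgroup G) :=
    Subgroup.eq_of_le_of_card_ge hZ'le hZ'card.ge
  have hcenX' : Subgroup.center ↥(S : Subgroup G) ≤ X' := by
    rw [← hZ'eq]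
    intro s hs
    rw [hX', Subgroup.mem_subgroupOf]
    rw [hZ', Subgroup.mem_subgroupOf] at hs
    exact cj_mono (ZG_le_VG _) hs
  have hVrX' : Vr D (q D - w''.2) ≤ X' := by
    rw [← hq''.sup_center]
    exact sup_le hQ''X' hcenX'
  have hcardX' : Nat.card X' = Nat.card (Vr D (q D - w''.2)) := by
    rw [hX', Nat.card_congr (Subgroup.subgroupOfEquivOfLe hgS).toEquiv, hV', card_cj, hV, card_im]
    exact card_Vr_eq D _ _
  have hX'eq : Vr D (q D - w''.2) = X' := Subgroup.eq_of_le_of_card_ge hVrX' hcardX'.le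
  have hV'eq : V' = VG S D (q D - w''.2) := by
    rw [VG, hX'eq, hX', im_subgroupOf S hgS]
  -- cardinalities
  unfold SylCond nS at hsc ⊢
  have hN : Nat.card (Subgroup.normalizer ((V' : Subgroup G) : Set G)) =
      Nat.card (Subgroup.normalizer ((V : Subgroup G) : Set G)) := by
    rw [hV', ← cj_normalizer, card_cj]
  rw [hN, hV'eq, card_S_inf_normalizer_VG] at hsc
  rw [hV, card_S_inf_normalizer_VG, card_Vr_eq D _ (q D - w''.2)]
  exact hsc

/-- the element `i = pa (q, -q)` in `G` -/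
abbrev iG (S : Sylow 2 G) (D : Data ↥(S : Subgroup G)) : G :=
  ((D.pa (q D, -(q D)) : ↥(S : Subgroup G)) : G)

theorem orderOf_iG : orderOf (iG S D) = 4 := by
  rw [iG, Subgroup.orderOf_coe]
  exact orderOf_paq D

theorem conj_mul (k x y : G) : k * (x * y) * k⁻¹ = (k * x * k⁻¹) * (k * y * k⁻¹) := by group

/-- An odd order element of `N_G(V)` normalizing `⟨i⟩` centralizes `V`. -/
theorem odd_mem_centralizer_VG (hq : QDat D Q' w) (k : G)
    (hk : k ∈ Subgroup.normalizer ((VG S D (q D - w.2) : Subgroup G) : Set G))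
    (hodd : Odd (orderOf k)) (hki : k * iG S D * k⁻¹ ∈ Subgroup.zpowers (iG S D)) :
    k ∈ Subgroup.centralizer ((VG S D (q D - w.2) : Subgroup G) : Set G) := by
  set r := q D - w.2 with hr
  set T0 := im S (Vr D r ⊓ D.A) with hT0
  have hkZ := normalizer_VG_le_normalizer_ZG hq hk
  have hidx : T0.relIndex (VG S D r) = 2 := by
    rw [hT0, relIndex_im]; exact relIndex_Vr_inf_A D r
  have hT0A : T0 ≤ AG S D := Subgroup.map_mono inf_le_right
  have hab : ∀ a ∈ T0, ∀ b ∈ T0, a * b = b * a := fun a ha b hb =>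
    AG_comm S D a (hT0A ha) b (hT0A hb)
  have hZT0 : ZG S ≤ T0 := by
    apply Subgroup.map_mono
    intro s hs
    refine ⟨center_le_Vr D r hs, ?_⟩
    obtain ⟨i, rfl⟩ := (D.mem_center_iff s).mp hs
    exact ⟨_, rfl⟩
  have hiT0 : iG S D ∈ T0 := by
    rw [hT0, iG, coe_mem_im]
    exact ⟨paq_mem_Vr D r, ⟨_, rfl⟩⟩
  have hx0 : ∀ t ∈ T0, k * t * k⁻¹ ∈ T0 := by
    intro t ht
    obtain ⟨s, hs, rfl⟩ := (mem_im S).mp ht
    obtain ⟨v, hv, rfl⟩ := (mem_Vr_inf_A D r s).mp hs
    rcases Vr_inf_A_cases D v hv with ⟨i, hi⟩ | ⟨i, hi⟩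
    · rw [hi]
      apply hZT0
      apply (conj_mem_iff_of_mem_normalizer hkZ _).mpr
      exact (coe_mem_im S _).mpr ((D.mem_center_iff _).mpr ⟨i, rfl⟩)
    · rw [hi, Subgroup.coe_mul, conj_mul]
      apply mul_mem
      · apply hZT0
        apply (conj_mem_iff_of_mem_normalizer hkZ _).mpr
        exact (coe_mem_im S _).mpr ((D.mem_center_iff _).mpr ⟨i, rfl⟩)
      · have hle : Subgroup.zpowers (iG S D) ≤ T0 := by
          rw [Subgroup.zpowers_le]; exact hiT0
        exact hle hki
  -- the involutions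
  have hcfix : k * cG S D * k⁻¹ = cG S D := by
    have h1 : k * cG S D * k⁻¹ ∈ ZG S :=
      (conj_mem_iff_of_mem_normalizer hkZ _).mpr ((coe_mem_im S _).mpr (cc_mem_center D))
    obtain ⟨s, hs, hsc⟩ := (mem_im S).mp h1
    obtain ⟨i, rfl⟩ := (D.mem_center_iff s).mp hs
    have h2 : D.pa (i, i) * D.pa (i, i) = 1 := by
      apply Subtype.ext
      rw [Subgroup.coe_mul, hsc, ← conj_mul]
      have : cG S D * cG S D = 1 := congrArg Subtype.val (cc_mul_self D)
      rw [this]; simp
    rcases invol_center D i h2 with h | h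
    · exfalso
      rw [h] at hsc
      have : cG S D = 1 := by
        have e1 : cG S D = k⁻¹ * (k * cG S D * k⁻¹) * k := by group
        rw [e1, ← hsc]; simp
      exact cc_ne_one D (Subtype.ext this)
    · rw [← hsc, h]
  have hacG : aG S D * cG S D = bG S D := congrArg Subtype.val (aa_mul_cc D)
  have haT0 : aG S D ∈ T0 := by
    rw [hT0, aG, coe_mem_im]
    exact ⟨aa_mem_Vr D r, ⟨_, rfl⟩⟩
  have hafix : k * aG S D * k⁻¹ = aG S D := by
    have h1 := hx0 _ haT0
    obtain ⟨s, hs, hsc⟩ := (mem_im S).mp h1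
    obtain ⟨v, hv, rfl⟩ := (mem_Vr_inf_A D r s).mp hs
    have h2 : D.pa v * D.pa v = 1 := by
      apply Subtype.ext
      rw [Subgroup.coe_mul, hsc, ← conj_mul]
      have : aG S D * aG S D = 1 := congrArg Subtype.val (aa_mul_self D)
      rw [this]; simp
    rcases invol_A D v h2 with h | h | h | h
    · exfalso
      rw [h] at hsc
      have : aG S D = 1 := by
        have e1 : aG S D = k⁻¹ * (k * aG S D * k⁻¹) * k := by group
        rw [e1, ← hsc]; simp
      exact aa_ne_one D (Subtype.ext this)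
    · rw [← hsc, h]
    · exfalso
      have h3 : k * aG S D * k⁻¹ = aG S D * cG S D := by rw [← hsc, h, hacG]
      have := eq_one_of_odd_conj k hodd (aG S D) (cG S D) h3 hcfix
        (congrArg Subtype.val (cc_mul_self D))
      exact cc_ne_one D (Subtype.ext this)
    · exfalso
      have h3 : k * aG S D * k⁻¹ = k * cG S D * k⁻¹ := by rw [← hsc, h, hcfix]
      have : aG S D = cG S D := by
        have e1 : aG S D = k⁻¹ * (k * aG S D * k⁻¹) * k := by group
        rw [e1, h3]; group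
      exact aa_ne_cc D (Subtype.ext this)
  have hfix : ∀ t ∈ T0, t * t = 1 → k * t * k⁻¹ = t := by
    intro t ht htt
    obtain ⟨s, hs, rfl⟩ := (mem_im S).mp ht
    obtain ⟨v, hv, rfl⟩ := (mem_Vr_inf_A D r s).mp hs
    have h2 : D.pa v * D.pa v = 1 := Subtype.ext htt
    rcases invol_A D v h2 with h | h | h | h
    · rw [h]; simp
    · rw [h]; exact hafix
    · rw [h]
      show k * bG S D * k⁻¹ = bG S D
      rw [← hacG, conj_mul, hafix, hcfix]
    · rw [h]; exact hcfix
  exact mem_centralizer_of_odd_index_two (VG S D r) T0 hidx hab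
    (fun t ht => two_pow_of_mem_S S (im_le S _ ht)) k hk hx0 hodd hfix

theorem S_inf_N_inf_C (hq : QDat D Q' w) :
    ((S : Subgroup G) ⊓ Subgroup.normalizer ((VG S D (q D - w.2) : Subgroup G) : Set G)) ⊓
      (VG S D (q D - w.2) ⊔
        Subgroup.centralizer ((VG S D (q D - w.2) : Subgroup G) : Set G)) =
      VG S D (q D - w.2) := by
  apply le_antisymm
  · rintro g ⟨⟨hgS, _⟩, hgC⟩
    obtain ⟨v, hv, c, hc, rfl⟩ := mem_sup_centralizer hgC
    have hcS : c ∈ (S : Subgroup G) := by
      have : c = v⁻¹ * (v * c) := by group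
      rw [this]
      exact mul_mem (inv_mem (im_le S _ hv)) hgS
    have hcZ : c ∈ ZG S := by
      rw [← S_inf_centralizer_VG hq]
      exact ⟨hcS, hc⟩
    exact mul_mem hv (ZG_le_VG _ hcZ)
  · exact le_inf (le_inf (im_le S _) Subgroup.le_normalizer) le_sup_left

/-- the action of `N_G(V)` on the three cyclic subgroups of order 4 of `Q` -/
def rhoV [Finite G] (hq : QDat D Q' w) (e : Q' ≃* QuaternionGroup 2) :
    ↥(Subgroup.normalizer ((VG S D (q D - w.2) : Subgroup G) : Set G)) →*
      Equiv.Perm ↥(Q8Data.subs (im S Q')) :=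
  (Q8Data.quatHom (im S Q')).comp (Subgroup.inclusion (normalizer_VG_le_normalizer_Q hq e))

theorem mem_ker_rhoV [Finite G] (hq : QDat D Q' w) (e : Q' ≃* QuaternionGroup 2)
    (n : ↥(Subgroup.normalizer ((VG S D (q D - w.2) : Subgroup G) : Set G))) :
    n ∈ (rhoV hq e).ker ↔ ∀ H ∈ Q8Data.subs (im S Q'),
      H.map (MulAut.conj (n : G)).toMonoidHom = H := by
  rw [MonoidHom.mem_ker, rhoV, MonoidHom.comp_apply, ← MonoidHom.mem_ker, Q8Data.quatHom,
    mem_ker_conjPermSub]
  rfl

/-- `|N_G(V) : V C_G(V)| ∈ {2, 6}`. -/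
theorem index_VG [Finite G] (hq : QDat D Q' w) (e : Q' ≃* QuaternionGroup 2) :
    (VG S D (q D - w.2) ⊔
      Subgroup.centralizer ((VG S D (q D - w.2) : Subgroup G) : Set G)).relIndex
      (Subgroup.normalizer ((VG S D (q D - w.2) : Subgroup G) : Set G)) = 2 ∨
    (VG S D (q D - w.2) ⊔
      Subgroup.centralizer ((VG S D (q D - w.2) : Subgroup G) : Set G)).relIndex
      (Subgroup.normalizer ((VG S D (q D - w.2) : Subgroup G) : Set G)) = 6 := by
  set V := VG S D (q D - w.2) with hV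
  set N := Subgroup.normalizer ((V : Subgroup G) : Set G) with hN
  set C := V ⊔ Subgroup.centralizer ((V : Subgroup G) : Set G) with hC
  have hCN : C ≤ N := sup_centralizer_le_normalizer V
  have hn : N ≤ Subgroup.normalizer ((C : Subgroup G) : Set G) :=
    normalizer_le_normalizer_sup_centralizer V
  have hB := relIndex_eq_pow_mul (p := 2) ((S : Subgroup G) ⊓ N) N C
    (isPGroup_of_le_S inf_le_left) inf_le_right (sylow_normalizer_VG hq e) hCN hn 1 (by
      rw [hC, hN, hV, S_inf_N_inf_C hq, S_inf_normalizer_im, relIndex_im, relIndex_normalizer_Vr]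
      rfl)
  have eG : im S Q' ≃* QuaternionGroup 2 :=
    (Subgroup.equivMapOfInjective Q' _ (Subgroup.subtype_injective _)).symm.trans e
  obtain ⟨a, b, hd⟩ := exists_q8Data (im S Q') eG
  have : Finite ↥(Q8Data.subs (im S Q')) :=
    Nat.finite_of_card_ne_zero (by rw [hd.card_subs]; decide)
  have hnorm : (C.subgroupOf N).Normal :=
    (Subgroup.normal_subgroupOf_iff_le_normalizer hCN).mpr hn
  have hCQ : C ≤ im S Q' ⊔ Subgroup.centralizer ((im S Q' : Subgroup G) : Set G) := by
    rw [hC]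
    apply sup_le
    · rw [hV, ← Q_sup_ZG hq]
      exact sup_le_sup_left (ZG_le_centralizer_of_le (im_le S _)) _
    · exact le_sup_of_le_right (Subgroup.centralizer_le (Q_le_V hq))
  refine index_two_or_six (rhoV hq e) hd.card_subs (C.subgroupOf N) ?_ ?_ hB
  · intro n hn'
    rw [MonoidHom.mem_ker, rhoV, MonoidHom.comp_apply, ← MonoidHom.mem_ker, hd.quatHom_ker,
      Subgroup.mem_subgroupOf]
    exact hCQ (Subgroup.mem_subgroupOf.mp hn')
  · intro k hk hodd
    rw [Subgroup.mem_subgroupOf]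
    apply le_sup_right (a := V)
    rw [mem_ker_rhoV] at hk
    apply odd_mem_centralizer_VG hq (k : G) k.2 (by rwa [Subgroup.orderOf_coe])
    have hH := hk _ (Q8Data.zpowers_mem_subs (iG S D) ((coe_mem_im S _).mpr hq.hi)
      (orderOf_iG (S := S) (D := D)))
    rw [← hH]
    exact ⟨iG S D, Subgroup.mem_zpowers _, rfl⟩

end V

/-- Setting up coordinates from the hypotheses of the ABG statements. -/
theorem setup [Finite G] (S : Sylow 2 G) (hS : Cfsg.IsWreathed (S : Subgroup G)) (n : ℕ)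
    (hn : Nat.card S = 2 ^ (2 * n + 1)) (U : Subgroup G) (hUS : U ≤ S)
    (hUab : IsMulCommutative U) (hUcard : Nat.card U = 2 ^ (2 * n)) (Q : Subgroup G)
    (hQS : Q ≤ S) (eQ : Q ≃* QuaternionGroup 2) :
    ∃ (D : Data ↥(S : Subgroup G)) (Q' : Subgroup ↥(S : Subgroup G)) (w : D.E),
      n = D.n ∧ U = AG S D ∧ im S Q' = Q ∧ Nonempty (Q' ≃* QuaternionGroup 2) ∧ QDat D Q' w ∧
      Q ⊔ ((Subgroup.center (S : Subgroup G)).map (S : Subgroup G).subtype) =
        VG S D (q D - w.2) := by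
  obtain ⟨D⟩ := exists_data hS
  have hnD : n = D.n := by
    have h1 := D.card
    have h2 : Nat.card ↥(S : Subgroup G) = 2 ^ (2 * n + 1) := hn
    rw [h2] at h1
    have := Nat.pow_right_injective (le_refl 2) h1
    omega
  subst hnD
  set Q' := Q.subgroupOf (S : Subgroup G) with hQ'
  have e : Q' ≃* QuaternionGroup 2 := (Subgroup.subgroupOfEquivOfLe hQS).trans eQ
  obtain ⟨w, hq⟩ := exists_qDat D Q' e
  have hQim : im S Q' = Q := im_subgroupOf S hQS
  refine ⟨D, Q', w, rfl, eq_AG S D U hUS hUab hUcard, hQim, ⟨e⟩, hq, ?_⟩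
  rw [← hQim]
  exact Q_sup_ZG hq

end Cfsg.Agent.Lib.Helper23.WrFus
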