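import Mathlib
import Cfsg.Agent.Lib.Helper23.WreathedFusion

set_option autoImplicit false

/-!
# Fusion in groups with wreathed Sylow 2-subgroups, part 2: local control and involutions
-/

namespace Cfsg.Agent.Lib.Helper23.WrFus

open Cfsg.Agent.Lib.Helper12.Wr Cfsg.Agent.Lib.Helper23.WrAut
open Cfsg.Agent.Lib.Helper23.AlperinCentric Cfsg.Agent.Lib.Helper29 Cfsg.Agent.Lib.Helper1
open Cfsg.Agent.Lib.Helper23.LocalIndex

variable {G : Type*} [Group G] (S : Sylow 2 G) (D : Data ↥(S : Subgroup G))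

theorem card_classes_eq_three (k : ℕ) (a b c : G) (ha : orderOf a = k) (hb : orderOf b = k)
    (hc : orderOf c = k) (hab : ¬ IsConj a b) (hac : ¬ IsConj a c) (hbc : ¬ IsConj b c)
    (hall : ∀ t : G, orderOf t = k → IsConj t a ∨ IsConj t b ∨ IsConj t c) :
    Nat.card {C : ConjClasses G // ∃ t : G, orderOf t = k ∧ ConjClasses.mk t = C} = 3 := by
  rw [← Set.ncard_univ, Set.ncard_eq_three]
  refine ⟨⟨ConjClasses.mk a, a, ha, rfl⟩, ⟨ConjClasses.mk b, b, hb, rfl⟩,
    ⟨ConjClasses.mk c, c, hc, rfl⟩, ?_, ?_, ?_, ?_⟩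
  · intro h
    have h1 := congrArg Subtype.val h
    simp only at h1
    exact hab (ConjClasses.mk_eq_mk_iff_isConj.mp h1)
  · intro h
    have h1 := congrArg Subtype.val h
    simp only at h1
    exact hac (ConjClasses.mk_eq_mk_iff_isConj.mp h1)
  · intro h
    have h1 := congrArg Subtype.val h
    simp only at h1
    exact hbc (ConjClasses.mk_eq_mk_iff_isConj.mp h1)
  · symm
    apply Set.eq_univ_of_forall
    rintro ⟨C, t, ht, rfl⟩
    rcases hall t ht with h | h | h
    · left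
      apply Subtype.ext
      exact ConjClasses.mk_eq_mk_iff_isConj.mpr h
    · right; left
      apply Subtype.ext
      exact ConjClasses.mk_eq_mk_iff_isConj.mpr h
    · right; right
      apply Subtype.ext
      exact ConjClasses.mk_eq_mk_iff_isConj.mpr h

/-- the involution `z` in `G` -/
abbrev zG : G := ((D.z : ↥(S : Subgroup G)) : G)
/-- the element `x ^ (2 ^ (n-2))` in `G` -/
abbrev tG : G := ((D.pa (q D, 0) : ↥(S : Subgroup G)) : G)

/-! ### Local control -/

theorem normalizer_S_decomp [Finite G] (D : Data ↥(S : Subgroup G)) :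
    ∀ x ∈ Subgroup.normalizer (((S : Subgroup G) : Subgroup G) : Set G),
      ∃ c ∈ Subgroup.centralizer (((S : Subgroup G) : Subgroup G) : Set G),
      ∃ s ∈ (S : Subgroup G), x = c * s := by
  have := D.finite
  intro x hx
  have hsyl : ¬ 2 ∣ ((S : Subgroup G) ⊓
      Subgroup.normalizer (((S : Subgroup G) : Subgroup G) : Set G)).relIndex
      (Subgroup.normalizer (((S : Subgroup G) : Subgroup G) : Set G)) := by
    rw [inf_eq_left.mpr Subgroup.le_normalizer]
    exact not_dvd_relIndex_S S Subgroup.le_normalizer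
  obtain ⟨c, hc, s, hs, rfl⟩ :=
    normalizer_eq_of_isPGroup_mulAut S (S : Subgroup G) hsyl (isPGroup_mulAut D) x hx
  exact ⟨c, hc, s, hs.1, rfl⟩

theorem local_S [Finite G] (D : Data ↥(S : Subgroup G)) : ∀ x ∈ Subgroup.normalizer (((S : Subgroup G) : Subgroup G) : Set G),
    ∃ s ∈ (S : Subgroup G), ∀ a ∈ (S : Subgroup G), x⁻¹ * a * x = s⁻¹ * a * s := by
  intro x hx
  obtain ⟨c, hc, s, hs, rfl⟩ := normalizer_S_decomp S D x hx
  refine ⟨s, hs, fun a ha => ?_⟩
  have := Subgroup.mem_centralizer_iff.mp hc a ha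
  calc (c * s)⁻¹ * a * (c * s) = s⁻¹ * (c⁻¹ * (a * c)) * s := by group
    _ = s⁻¹ * (c⁻¹ * (c * a)) * s := by rw [this]
    _ = s⁻¹ * a * s := by group

theorem zG_mem_S : zG S D ∈ (S : Subgroup G) := (D.z : ↥(S : Subgroup G)).2

theorem zG_notMem_AG : zG S D ∉ AG S D := by
  intro h
  exact D.z_notMem ((coe_mem_im S D.z).mp h)

theorem zG_notMem_centralizer_AG :
    zG S D ∉ Subgroup.centralizer ((AG S D : Subgroup G) : Set G) := by
  intro h
  apply zG_notMem_AG S D
  rw [← S_inf_centralizer_AG S D]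
  exact ⟨zG_mem_S S D, h⟩

theorem local_AG_two
    (h₁ : (Subgroup.centralizer ((AG S D : Subgroup G) : Set G)).relIndex
      (Subgroup.normalizer ((AG S D : Subgroup G) : Set G)) = 2) :
    ∀ x ∈ Subgroup.normalizer ((AG S D : Subgroup G) : Set G),
    ∃ s ∈ (S : Subgroup G), ∀ a ∈ AG S D, x⁻¹ * a * x = s⁻¹ * a * s := by
  intro x hx
  rcases mem_or_mul_inv_mem_of_relIndex_two h₁ (S_le_normalizer_AG S D (zG_mem_S S D))
    (zG_notMem_centralizer_AG S D) hx with h | h
  · refine ⟨1, one_mem _, fun a ha => ?_⟩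
    have := Subgroup.mem_centralizer_iff.mp h a ha
    calc x⁻¹ * a * x = x⁻¹ * (a * x) := by group
      _ = x⁻¹ * (x * a) := by rw [this]
      _ = 1⁻¹ * a * 1 := by group
  · refine ⟨zG S D, zG_mem_S S D, fun a ha => ?_⟩
    have := Subgroup.mem_centralizer_iff.mp h a ha
    have hx' : x = (x * (zG S D)⁻¹) * zG S D := by group
    set c := x * (zG S D)⁻¹ with hc
    rw [hx']
    calc (c * zG S D)⁻¹ * a * (c * zG S D) = (zG S D)⁻¹ * (c⁻¹ * (a * c)) * zG S D := by group
      _ = (zG S D)⁻¹ * (c⁻¹ * (c * a)) * zG S D := by rw [this]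
      _ = (zG S D)⁻¹ * a * zG S D := by group

section V

variable {S D}
variable {Q' : Subgroup ↥(S : Subgroup G)} {w : D.E}

theorem tG_mem_S : tG S D ∈ (S : Subgroup G) := (D.pa (q D, 0) : ↥(S : Subgroup G)).2

theorem tG_mem_normalizer_VG (r : ZMod (2 ^ D.n)) :
    tG S D ∈ Subgroup.normalizer ((VG S D r : Subgroup G) : Set G) := by
  have h : tG S D ∈ (S : Subgroup G) ⊓ Subgroup.normalizer ((VG S D r : Subgroup G) : Set G) := by
    rw [S_inf_normalizer_im, tG, coe_mem_im]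
    exact paq_mem_normalizer D r
  exact h.2

theorem tG_notMem_VG (r : ZMod (2 ^ D.n)) : tG S D ∉ VG S D r := by
  rw [tG, coe_mem_im, pa_mem_Vr]
  simp only [sub_zero]
  rw [two_q]
  exact D.h_ne_zero

theorem tG_notMem (hq : QDat D Q' w) :
    tG S D ∉ VG S D (q D - w.2) ⊔
      Subgroup.centralizer ((VG S D (q D - w.2) : Subgroup G) : Set G) := by
  intro h
  apply tG_notMem_VG (S := S) (D := D) (q D - w.2)
  rw [← S_inf_N_inf_C hq]
  exact ⟨⟨tG_mem_S, tG_mem_normalizer_VG _⟩, h⟩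

theorem local_VG_two (hq : QDat D Q' w)
    (h₂ : (VG S D (q D - w.2) ⊔
      Subgroup.centralizer ((VG S D (q D - w.2) : Subgroup G) : Set G)).relIndex
      (Subgroup.normalizer ((VG S D (q D - w.2) : Subgroup G) : Set G)) = 2) :
    ∀ x ∈ Subgroup.normalizer ((VG S D (q D - w.2) : Subgroup G) : Set G),
    ∃ s ∈ (S : Subgroup G), ∀ a ∈ VG S D (q D - w.2), x⁻¹ * a * x = s⁻¹ * a * s := by
  intro x hx
  set V := VG S D (q D - w.2) with hV
  have key : ∀ y ∈ V ⊔ Subgroup.centralizer ((V : Subgroup G) : Set G),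
      ∃ v ∈ V, ∀ a ∈ V, y⁻¹ * a * y = v⁻¹ * a * v := by
    intro y hy
    obtain ⟨v, hv, c, hc, rfl⟩ := mem_sup_centralizer hy
    refine ⟨v, hv, fun a ha => ?_⟩
    have hva : v⁻¹ * a * v ∈ V := mul_mem (mul_mem (inv_mem hv) ha) hv
    have := Subgroup.mem_centralizer_iff.mp hc _ hva
    calc (v * c)⁻¹ * a * (v * c) = c⁻¹ * ((v⁻¹ * a * v) * c) := by group
      _ = c⁻¹ * (c * (v⁻¹ * a * v)) := by rw [this]
      _ = v⁻¹ * a * v := by group
  rcases mem_or_mul_inv_mem_of_relIndex_two h₂ (tG_mem_normalizer_VG _) (tG_notMem hq) hx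
    with h | h
  · obtain ⟨v, hv, hva⟩ := key x h
    exact ⟨v, im_le S _ hv, hva⟩
  · obtain ⟨v, hv, hva⟩ := key _ h
    refine ⟨v * tG S D, mul_mem (im_le S _ hv) tG_mem_S, fun a ha => ?_⟩
    have hx' : x = (x * (tG S D)⁻¹) * tG S D := by group
    set y := x * (tG S D)⁻¹ with hy
    rw [hx']
    calc (y * tG S D)⁻¹ * a * (y * tG S D) = (tG S D)⁻¹ * (y⁻¹ * a * y) * tG S D := by group
      _ = (tG S D)⁻¹ * (v⁻¹ * a * v) * tG S D := by rw [hva a ha]
      _ = (v * tG S D)⁻¹ * a * (v * tG S D) := by group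

end V

/-! ### Conjugacy of the `VG r` -/

theorem im_map_conj (X : Subgroup ↥(S : Subgroup G)) (s : ↥(S : Subgroup G)) :
    im S (X.map (MulAut.conj s).toMonoidHom) = cj (s : G) (im S X) := by
  rw [im, im, cj, Subgroup.map_map, Subgroup.map_map]
  congr 1

theorem VG_conj (r r' : ZMod (2 ^ D.n)) :
    cj ((D.pa (r' - r, 0) : ↥(S : Subgroup G)) : G) (VG S D r) = VG S D r' := by
  rw [← im_map_conj, map_conj_Vr]
  congr 2
  simp

theorem relIndex_cj (g : G) (H K : Subgroup G) : (cj g H).relIndex (cj g K) = H.relIndex K :=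
  Subgroup.relIndex_map_map_of_injective H K (MulAut.conj g).injective

/-- The index `|N_G(V) : V C_G(V)|` does not depend on `r`. -/
theorem relIndex_VG_eq (r r' : ZMod (2 ^ D.n)) :
    (VG S D r' ⊔ Subgroup.centralizer ((VG S D r' : Subgroup G) : Set G)).relIndex
      (Subgroup.normalizer ((VG S D r' : Subgroup G) : Set G)) =
    (VG S D r ⊔ Subgroup.centralizer ((VG S D r : Subgroup G) : Set G)).relIndex
      (Subgroup.normalizer ((VG S D r : Subgroup G) : Set G)) := by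
  rw [← VG_conj S D r r', ← cj_normalizer, ← cj_centralizer, ← cj_sup, relIndex_cj]

/-! ### Involutions of `S` -/

theorem orderOf_eq_two_iff' {t : G} : orderOf t = 2 ↔ t ≠ 1 ∧ t * t = 1 := by
  rw [orderOf_eq_iff (by norm_num)]
  constructor
  · rintro ⟨h1, h2⟩
    refine ⟨?_, by rw [← pow_two]; exact h1⟩
    intro h
    exact h2 1 (by norm_num) (by norm_num) (by rw [pow_one]; exact h)
  · rintro ⟨h1, h2⟩
    refine ⟨by rw [pow_two]; exact h2, ?_⟩
    intro m hm hm0
    interval_cases m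
    rw [pow_one]; exact h1

theorem invol_S_cases {t : G} (htS : t ∈ (S : Subgroup G)) (ht : orderOf t = 2) :
    t = cG S D ∨ t = aG S D ∨ t = bG S D ∨
      ∃ i, t = ((D.pa (i, -i) * D.z : ↥(S : Subgroup G)) : G) := by
  obtain ⟨ht1, htt⟩ := orderOf_eq_two_iff'.mp ht
  obtain ⟨v, hv | hv⟩ := D.normal_form (⟨t, htS⟩ : ↥(S : Subgroup G))
  · have h1 : D.pa v * D.pa v = 1 := by
      rw [← hv]; exact Subtype.ext htt
    have htv : t = ((D.pa v : ↥(S : Subgroup G)) : G) := congrArg Subtype.val hv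
    rcases invol_A D v h1 with h | h | h | h
    · exfalso; apply ht1; rw [htv, h]; rfl
    · right; left; rw [htv, h]
    · right; right; left; rw [htv, h]
    · left; rw [htv, h]
  · right; right; right
    have h1 : (D.pa v * D.z) * (D.pa v * D.z) = 1 := by
      rw [← hv]; exact Subtype.ext htt
    have hs := paz_mul_self_eq_one D v h1
    unfold Data.sig at hs
    refine ⟨v.1, ?_⟩
    have htv : t = ((D.pa v * D.z : ↥(S : Subgroup G)) : G) := congrArg Subtype.val hv
    rw [htv]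
    congr 3
    exact Prod.ext rfl (by simp; linear_combination hs)

theorem orderOf_cG : orderOf (cG S D) = 2 :=
  orderOf_eq_two_iff'.mpr ⟨fun h => cc_ne_one D (Subtype.ext h),
    congrArg Subtype.val (cc_mul_self D)⟩

theorem orderOf_aG : orderOf (aG S D) = 2 :=
  orderOf_eq_two_iff'.mpr ⟨fun h => aa_ne_one D (Subtype.ext h),
    congrArg Subtype.val (aa_mul_self D)⟩

theorem orderOf_zG : orderOf (zG S D) = 2 := by
  rw [zG, Subgroup.orderOf_coe]; exact D.hz

theorem bG_eq : bG S D = zG S D * aG S D * (zG S D)⁻¹ := by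
  have : bb D = D.z * aa D * D.z⁻¹ := by
    unfold aa bb
    rw [D.conj_pa]
    rfl
  exact congrArg Subtype.val this

theorem paz_eq (i : ZMod (2 ^ D.n)) :
    ((D.pa (i, -i) * D.z : ↥(S : Subgroup G)) : G) =
      ((D.pa (i, 0) : ↥(S : Subgroup G)) : G) * zG S D *
        (((D.pa (i, 0) : ↥(S : Subgroup G)) : G))⁻¹ := by
  have : D.pa (i, -i) * D.z = D.pa (i, 0) * D.z * (D.pa (i, 0))⁻¹ := by
    rw [← D.pa_neg]
    have h0 : D.pa (i, 0) * D.z = D.pa (i, 0) * D.z := rfl
    rw [D.mul_rule2]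
    congr 2
    simp
  exact congrArg Subtype.val this

/-- Every involution of `G` is conjugate to `c`, `a` or `z`. -/
theorem invol_isConj [Finite G] (t : G) (ht : orderOf t = 2) :
    IsConj t (cG S D) ∨ IsConj t (aG S D) ∨ IsConj t (zG S D) := by
  -- conjugate into S
  have hp : IsPGroup 2 (Subgroup.zpowers t) := by
    rw [IsPGroup.iff_card, Nat.card_zpowers, ht]
    exact ⟨1, by norm_num⟩
  obtain ⟨g, hg⟩ := exists_cj_le_sylow S hp
  have htS : g * t * g⁻¹ ∈ (S : Subgroup G) := hg (conj_mem_cj (Subgroup.mem_zpowers t))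
  have hord : orderOf (g * t * g⁻¹) = 2 := by
    have := (MulAut.conj g).orderOf_eq t
    rw [MulAut.conj_apply] at this
    rw [this, ht]
  have hc1 : IsConj t (g * t * g⁻¹) := isConj_iff.mpr ⟨g, rfl⟩
  rcases invol_S_cases S D htS hord with h | h | h | ⟨i, h⟩
  · left; rw [← h]; exact hc1
  · right; left; rw [← h]; exact hc1
  · right; left
    refine hc1.trans ?_
    rw [h, bG_eq]
    exact (isConj_iff.mpr ⟨zG S D, rfl⟩).symm
  · right; right
    refine hc1.trans ?_
    rw [h, paz_eq]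
    exact (isConj_iff.mpr ⟨_, rfl⟩).symm

/-! ### The nilpotent case -/

section cases

variable {S D}
variable {Q' : Subgroup ↥(S : Subgroup G)} {w : D.E}

/-- for each `r` a quaternion subgroup with its coordinates -/
theorem exists_qDat_r (r : ZMod (2 ^ D.n)) :
    ∃ (Q'' : Subgroup ↥(S : Subgroup G)) (w' : D.E), Nonempty (Q'' ≃* QuaternionGroup 2) ∧
      QDat D Q'' w' ∧ q D - w'.2 = r := by
  obtain ⟨Q'', e, hq⟩ := exists_qDat_wr D r
  exact ⟨Q'', wr D r, e, hq, q_sub_wr D r⟩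

theorem relIndex_VG_of (hq : QDat D Q' w) {k : ℕ}
    (h₂ : (VG S D (q D - w.2) ⊔
      Subgroup.centralizer ((VG S D (q D - w.2) : Subgroup G) : Set G)).relIndex
      (Subgroup.normalizer ((VG S D (q D - w.2) : Subgroup G) : Set G)) = k)
    (r : ZMod (2 ^ D.n)) :
    (VG S D r ⊔ Subgroup.centralizer ((VG S D r : Subgroup G) : Set G)).relIndex
      (Subgroup.normalizer ((VG S D r : Subgroup G) : Set G)) = k := by
  rw [relIndex_VG_eq S D (q D - w.2) r]; exact h₂

/-- In the case `(2, 2)` the Sylow subgroup controls fusion. -/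
theorem controlled_two_two [Finite G] (hq : QDat D Q' w)
    (h₁ : (Subgroup.centralizer ((AG S D : Subgroup G) : Set G)).relIndex
      (Subgroup.normalizer ((AG S D : Subgroup G) : Set G)) = 2)
    (h₂ : (VG S D (q D - w.2) ⊔
      Subgroup.centralizer ((VG S D (q D - w.2) : Subgroup G) : Set G)).relIndex
      (Subgroup.normalizer ((VG S D (q D - w.2) : Subgroup G) : Set G)) = 2)
    (A : Set G) (hA : A ⊆ ((S : Subgroup G) : Set G)) (g : G)
    (hg : rcs g A ⊆ ((S : Subgroup G) : Set G)) :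
    ∃ s ∈ (S : Subgroup G), ∀ a ∈ A, g⁻¹ * a * g = s⁻¹ * a * s := by
  refine Fus.controlled (S := (S : Subgroup G)) ?_ (fus_wreathed S D A hA g hg)
  rintro T (rfl | rfl | ⟨r, rfl⟩) x hx
  · exact local_S S D x hx
  · exact local_AG_two S D h₁ x hx
  · obtain ⟨Q'', w', _, hq', rfl⟩ := exists_qDat_r (S := S) (D := D) r
    exact local_VG_two hq' (relIndex_VG_of hq h₂ _) x hx

theorem conj_eq_of_controlled
    (hctl : ∀ (A : Set G), A ⊆ ((S : Subgroup G) : Set G) → ∀ g : G,
      rcs g A ⊆ ((S : Subgroup G) : Set G) →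
      ∃ s ∈ (S : Subgroup G), ∀ a ∈ A, g⁻¹ * a * g = s⁻¹ * a * s)
    {a : G} (ha : a ∈ (S : Subgroup G)) {g : G} (hg : g * a * g⁻¹ ∈ (S : Subgroup G)) :
    ∃ x ∈ (S : Subgroup G), g * a * g⁻¹ = x * a * x⁻¹ := by
  obtain ⟨s, hs, h⟩ := hctl {a} (Set.singleton_subset_iff.mpr ha) g⁻¹ (by
    rw [rcs_singleton]
    simp only [inv_inv]
    exact Set.singleton_subset_iff.mpr hg)
  refine ⟨s⁻¹, inv_mem hs, ?_⟩
  have := h a rfl
  simpa using this

theorem cG_mem_S : cG S D ∈ (S : Subgroup G) := (cc D : ↥(S : Subgroup G)).2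
theorem aG_mem_S : aG S D ∈ (S : Subgroup G) := (aa D : ↥(S : Subgroup G)).2

theorem aG_mem_AG : aG S D ∈ AG S D := (coe_mem_im S _).mpr ⟨_, rfl⟩
theorem cG_mem_AG : cG S D ∈ AG S D := (coe_mem_im S _).mpr ⟨_, rfl⟩
theorem cG_mem_ZG : cG S D ∈ ZG S := (coe_mem_im S _).mpr (cc_mem_center D)

theorem conj_cG_of_mem_S {x : G} (hx : x ∈ (S : Subgroup G)) : x * cG S D * x⁻¹ = cG S D := by
  have := Subgroup.mem_center_iff.mp (cc_mem_center D) (⟨x, hx⟩ : ↥(S : Subgroup G))
  have h : x * cG S D = cG S D * x := congrArg Subtype.val this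
  calc x * cG S D * x⁻¹ = (cG S D * x) * x⁻¹ := by rw [h]
    _ = cG S D := by group

theorem conj_mem_AG_of_mem_S {x : G} (hx : x ∈ (S : Subgroup G)) {a : G} (ha : a ∈ AG S D) :
    x * a * x⁻¹ ∈ AG S D :=
  (conj_mem_iff_of_mem_normalizer (S_le_normalizer_AG S D hx) a).mpr ha

/-- Under control of fusion there are three classes of involutions. -/
theorem three_classes_of_controlled [Finite G] (S : Sylow 2 G) (D : Data ↥(S : Subgroup G))
    (hctl : ∀ (A : Set G), A ⊆ ((S : Subgroup G) : Set G) → ∀ g : G,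
      rcs g A ⊆ ((S : Subgroup G) : Set G) →
      ∃ s ∈ (S : Subgroup G), ∀ a ∈ A, g⁻¹ * a * g = s⁻¹ * a * s) :
    Nat.card {C : ConjClasses G // ∃ t : G, orderOf t = 2 ∧ ConjClasses.mk t = C} = 3 := by
  apply card_classes_eq_three 2 (cG S D) (aG S D) (zG S D) (orderOf_cG S D) (orderOf_aG S D)
    (orderOf_zG S D)
  · intro h
    obtain ⟨g, hg⟩ := isConj_iff.mp h
    obtain ⟨x, hx, hxe⟩ := conj_eq_of_controlled hctl cG_mem_S (g := g) (by rw [hg]; exact aG_mem_S)
    rw [hg, conj_cG_of_mem_S hx] at hxe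
    exact aa_ne_cc D (Subtype.ext hxe)
  · intro h
    obtain ⟨g, hg⟩ := isConj_iff.mp h
    obtain ⟨x, hx, hxe⟩ := conj_eq_of_controlled hctl cG_mem_S (g := g)
      (by rw [hg]; exact zG_mem_S S D)
    rw [hg, conj_cG_of_mem_S hx] at hxe
    apply zG_notMem_AG S D
    rw [hxe]; exact cG_mem_AG
  · intro h
    obtain ⟨g, hg⟩ := isConj_iff.mp h
    obtain ⟨x, hx, hxe⟩ := conj_eq_of_controlled hctl aG_mem_S (g := g)
      (by rw [hg]; exact zG_mem_S S D)
    rw [hg] at hxe
    apply zG_notMem_AG S D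
    rw [hxe]
    exact conj_mem_AG_of_mem_S hx aG_mem_AG
  · exact invol_isConj S D

end cases

end Cfsg.Agent.Lib.Helper23.WrFus
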