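import Mathlib
import Cfsg.Agent.Lib.Helper23.WreathedFusion2
import Cfsg.Agent.Lib.Helper24.HyperfocalGroup
import Cfsg.Agent.Lib.Helper16.SylowNormal
import Cfsg.Agent.S1199

set_option autoImplicit false

/-!
# Fusion in groups with wreathed Sylow 2-subgroups, part 3: the non-nilpotent cases

The residual `O^2(G)` is computed through the hyperfocal subgroup theorem.
-/

namespace Cfsg.Agent.Lib.Helper23.WrFus

open Cfsg.Agent.Lib.Helper12.Wr Cfsg.Agent.Lib.Helper23.WrAut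
open Cfsg.Agent.Lib.Helper23.AlperinCentric Cfsg.Agent.Lib.Helper29 Cfsg.Agent.Lib.Helper1
open Cfsg.Agent.Lib.Helper23.LocalIndex Cfsg.Agent.Lib.Helper23.ThreePoint
open Cfsg.Agent.Lib.Helper23.FusionTools

/-! ### Abstract three point lemmas -/

section abstract

theorem relIndex_ker_two_pow {N Ω : Type*} [Group N] [Finite N] (ρ : N →* Equiv.Perm Ω)
    (C : Subgroup N) [C.Normal] (hodd : ∀ k ∈ ρ.ker, Odd (orderOf k) → k ∈ C) :
    ∃ j : ℕ, C.relIndex ρ.ker = 2 ^ j := by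
  have hpg : IsPGroup 2 (ρ.ker ⧸ C.subgroupOf ρ.ker) := by
    intro g
    induction g using QuotientGroup.induction_on with
    | H k =>
      obtain ⟨j, m, hm, hord⟩ := Nat.exists_eq_two_pow_mul_odd (orderOf_pos k).ne'
      refine ⟨j, ?_⟩
      rw [← QuotientGroup.mk_pow, QuotientGroup.eq_one_iff, Subgroup.mem_subgroupOf]
      have hk : Odd (orderOf ((k : N) ^ 2 ^ j)) := by
        have h1 : orderOf (k ^ 2 ^ j) = m := by
          rw [orderOf_pow_of_dvd (by positivity) ⟨m, hord⟩, hord]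
          exact Nat.mul_div_cancel_left m (by positivity)
        have h2 : orderOf ((k : N) ^ 2 ^ j) = orderOf (k ^ 2 ^ j) := by
          rw [← Subgroup.coe_pow, Subgroup.orderOf_coe]
        rw [h2, h1]; exact hm
      rw [Subgroup.coe_pow]
      exact hodd _ (pow_mem k.2 _) hk
  obtain ⟨j, hj⟩ := IsPGroup.iff_card.mp hpg
  refine ⟨j, ?_⟩
  rw [Subgroup.relIndex, Subgroup.index_eq_card]
  exact hj

theorem exists_odd_transitive_of_six {N Ω : Type*} [Group N] [Finite N] [Finite Ω]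
    (ρ : N →* Equiv.Perm Ω) (hΩ : Nat.card Ω = 3) (C : Subgroup N) [C.Normal] (hCK : C ≤ ρ.ker)
    (hodd : ∀ k ∈ ρ.ker, Odd (orderOf k) → k ∈ C) (h6 : C.index = 6)
    (n : N) (k : ℕ) (hn : n ^ 2 ^ k = 1) (hnk : n ∉ ρ.ker) :
    ∃ d : N, Odd (orderOf d) ∧ ∀ ω ω' : Ω, ∃ k : ℕ, ρ (d ^ k) ω = ω' := by
  have h6' := index_ker_dvd_six ρ hΩ
  have e := Subgroup.relIndex_mul_index hCK
  obtain ⟨j, hj⟩ := relIndex_ker_two_pow ρ C hodd
  have h2 := two_dvd_index_ker ρ n k hn hnk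
  rw [hj, h6] at e
  have hker : ρ.ker.index = 6 := by
    set d := ρ.ker.index with hd
    have hdle : d ≤ 6 := Nat.le_of_dvd (by norm_num) h6'
    have hj2 : j < 2 := by
      by_contra hcon
      obtain ⟨j', rfl⟩ : ∃ j', j = j' + 2 := ⟨j - 2, by omega⟩
      have h4 : 4 ∣ 6 := by
        rw [← e, pow_add]
        exact Dvd.dvd.mul_right (Dvd.dvd.mul_left (by norm_num) _) _
      omega
    interval_cases j <;> interval_cases d <;> omega
  exact exists_odd_transitive ρ hΩ hker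

open scoped commutatorElement in
theorem comm_eq_pa {S' : Type*} [Group S'] (D : Data S') (a s : S') :
    ∃ i, a⁻¹ * (s⁻¹ * a * s) = D.pa (i, -i) := by
  have h1 : a⁻¹ * (s⁻¹ * a * s) = ⁅a⁻¹, s⁻¹⁆ := by
    rw [commutatorElement_def]; group
  have h2 : ⁅a⁻¹, s⁻¹⁆ ∈ commutator S' := by
    rw [commutator_def]
    exact Subgroup.commutator_mem_commutator (Subgroup.mem_top _) (Subgroup.mem_top _)
  rw [D.commutator_eq, D.mem_zpowers_antidiag] at h2
  obtain ⟨i, hi⟩ := h2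
  exact ⟨i, by rw [h1, hi]⟩

theorem orderOf_paz_of_sig {S' : Type*} [Group S'] (D : Data S') (v : D.E)
    (hv : D.sig v = D.h) : orderOf (D.pa v * D.z) = 4 := by
  have hsq : (D.pa v * D.z) * (D.pa v * D.z) = cc D := by rw [paz_mul_self, hv]; rfl
  have h1 : ¬ (D.pa v * D.z) ^ 2 ^ 1 = 1 := by
    rw [pow_one, pow_two, hsq]; exact cc_ne_one D
  have h2 : (D.pa v * D.z) ^ 2 ^ (1 + 1) = 1 := by
    have : (2 : ℕ) ^ (1 + 1) = 2 * 2 := by norm_num
    rw [this, pow_mul, pow_two (D.pa v * D.z), hsq, pow_two, cc_mul_self]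
  simpa using orderOf_eq_prime_pow h1 h2

end abstract

variable {G : Type*} [Group G] (S : Sylow 2 G) (D : Data ↥(S : Subgroup G))

/-! ### The case `|N(U) : C(U)| = 6` -/

theorem aG_mem_invSet : aG S D ∈ invSet (AG S D) := by
  rw [invSet_AG]; simp

theorem bG_mem_invSet : bG S D ∈ invSet (AG S D) := by
  rw [invSet_AG]; simp

theorem cG_mem_invSet : cG S D ∈ invSet (AG S D) := by
  rw [invSet_AG]; simp

theorem exists_dU [Finite G]
    (h₁ : (Subgroup.centralizer ((AG S D : Subgroup G) : Set G)).relIndex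
      (Subgroup.normalizer ((AG S D : Subgroup G) : Set G)) = 6) :
    ∃ d ∈ Subgroup.normalizer ((AG S D : Subgroup G) : Set G), Odd (orderOf d) ∧
      ∀ t ∈ invSet (AG S D), ∀ t' ∈ invSet (AG S D), ∃ k : ℕ, d ^ k * t * (d ^ k)⁻¹ = t' := by
  set N := Subgroup.normalizer ((AG S D : Subgroup G) : Set G) with hN
  set C := Subgroup.centralizer ((AG S D : Subgroup G) : Set G) with hC
  have : Finite ↥(invSet (AG S D)) :=
    Nat.finite_of_card_ne_zero (by rw [card_invSet_AG]; decide)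
  have := centralizer_subgroupOf_normal (AG S D)
  have hzN : zG S D ∈ N := S_le_normalizer_AG S D (zG_mem_S S D)
  obtain ⟨d, hodd, hd⟩ := exists_odd_transitive_of_six (rhoU S D) (card_invSet_AG S D)
    (C.subgroupOf N) (centralizer_le_ker_rhoU S D) (odd_ker_rhoU S D) h₁ ⟨zG S D, hzN⟩ 1
    (by
      apply Subtype.ext
      have h := orderOf_zG S D
      have : zG S D ^ 2 = 1 := by rw [← h]; exact pow_orderOf_eq_one _
      rw [pow_one, Subgroup.coe_pow, Subgroup.coe_one]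
      exact this)
    (by
      rw [mem_ker_rhoU]
      intro h
      have h1 := h (aG S D) (aG_mem_invSet S D)
      have h2 := bG_eq S D
      simp only at h1
      rw [← h2] at h1
      exact aa_ne_bb D (Subtype.ext h1.symm))
  refine ⟨d, d.2, by rwa [Subgroup.orderOf_coe], ?_⟩
  intro t ht t' ht'
  obtain ⟨k, hk⟩ := hd ⟨t, ht⟩ ⟨t', ht'⟩
  refine ⟨k, ?_⟩
  have := congrArg Subtype.val hk
  rw [rhoU, conjPerm_apply, Subgroup.coe_pow] at this
  exact this

theorem isConj_aG_cG [Finite G]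
    (h₁ : (Subgroup.centralizer ((AG S D : Subgroup G) : Set G)).relIndex
      (Subgroup.normalizer ((AG S D : Subgroup G) : Set G)) = 6) :
    IsConj (cG S D) (aG S D) := by
  obtain ⟨d, -, -, hd⟩ := exists_dU S D h₁
  obtain ⟨k, hk⟩ := hd _ (cG_mem_invSet S D) _ (aG_mem_invSet S D)
  exact isConj_iff.mpr ⟨d ^ k, hk⟩

/-- `U = [U, d]` lies in every subgroup containing the elements of odd order and normalized
by `U`. -/
theorem AG_le_of_closed [Finite G]
    (h₁ : (Subgroup.centralizer ((AG S D : Subgroup G) : Set G)).relIndex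
      (Subgroup.normalizer ((AG S D : Subgroup G) : Set G)) = 6) (L : Subgroup G)
    (hL : ∀ x : G, Odd (orderOf x) → x ∈ L)
    (hnorm : ∀ u ∈ AG S D, ∀ x ∈ L, u⁻¹ * x * u ∈ L) : AG S D ≤ L := by
  obtain ⟨d, hdN, hodd, hd⟩ := exists_dU S D h₁
  have hdL : d ∈ L := hL d hodd
  have hfpf : ∀ u ∈ AG S D, d * u * d⁻¹ = u → u = 1 := by
    intro u hu hfix
    by_contra hu1
    obtain ⟨m, hm1, hmm⟩ := exists_pow_involution hu1 (two_pow_of_mem_S S (im_le S _ hu))
    have ht : u ^ m ∈ invSet (AG S D) := ⟨pow_mem hu m, hm1, hmm⟩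
    have h1 : d * u ^ m * d⁻¹ = u ^ m := by rw [← _root_.conj_pow, hfix]
    have hfix' : ∀ k : ℕ, d ^ k * u ^ m * (d ^ k)⁻¹ = u ^ m := by
      intro k
      induction k with
      | zero => simp
      | succ k ih =>
        calc d ^ (k + 1) * u ^ m * (d ^ (k + 1))⁻¹
            = d ^ k * (d * u ^ m * d⁻¹) * (d ^ k)⁻¹ := by rw [pow_succ]; group
          _ = u ^ m := by rw [h1, ih]
    obtain ⟨t', ht', hne⟩ : ∃ t' ∈ invSet (AG S D), t' ≠ u ^ m := by
      by_cases h : u ^ m = aG S D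
      · refine ⟨bG S D, bG_mem_invSet S D, ?_⟩
        rw [h]
        intro h'
        exact aa_ne_bb D (Subtype.ext h'.symm)
      · exact ⟨aG S D, aG_mem_invSet S D, fun h' => h h'.symm⟩
    obtain ⟨k, hk⟩ := hd _ ht t' ht'
    exact hne (by rw [← hk, hfix' k])
  have hconj : ∀ u ∈ AG S D, d * u * d⁻¹ ∈ AG S D := fun u hu =>
    (conj_mem_iff_of_mem_normalizer hdN u).mpr hu
  let f : ↥(AG S D) → ↥(AG S D) := fun u =>
    ⟨(u : G)⁻¹ * (d * u * d⁻¹), mul_mem (inv_mem u.2) (hconj u u.2)⟩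
  have hinj : Function.Injective f := by
    intro u v huv
    have e : (u : G)⁻¹ * (d * u * d⁻¹) = (v : G)⁻¹ * (d * v * d⁻¹) := congrArg Subtype.val huv
    have h2 : d * ((u : G) * (v : G)⁻¹) * d⁻¹ = (u : G) * (v : G)⁻¹ := by
      calc d * ((u : G) * (v : G)⁻¹) * d⁻¹
          = (u : G) * ((u : G)⁻¹ * (d * u * d⁻¹)) * (d * v * d⁻¹)⁻¹ := by group
        _ = (u : G) * ((v : G)⁻¹ * (d * v * d⁻¹)) * (d * v * d⁻¹)⁻¹ := by rw [e]
        _ = (u : G) * (v : G)⁻¹ := by group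
    have h3 := hfpf _ (mul_mem u.2 (inv_mem v.2)) h2
    apply Subtype.ext
    exact mul_inv_eq_one.mp h3
  have hsurj : Function.Surjective f := Finite.surjective_of_injective hinj
  intro u hu
  obtain ⟨v, hv⟩ := hsurj ⟨u, hu⟩
  have e : (v : G)⁻¹ * (d * v * d⁻¹) = u := congrArg Subtype.val hv
  have e2 : u = ((v : G)⁻¹ * d * v) * d⁻¹ := by rw [← e]; group
  rw [e2]
  exact mul_mem (hnorm v v.2 d hdL) (inv_mem hdL)

/-! ### The focal subgroup -/

open Cfsg.Agent.Lib.Helper24 in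
/-- transport along the fusion: `a⁻¹ a^g` lies in any subgroup containing the local commutators -/
theorem focal_mem [Finite G] (Y : Subgroup G)
    (hSS : ∀ a ∈ (S : Subgroup G), ∀ s ∈ (S : Subgroup G), a⁻¹ * (s⁻¹ * a * s) ∈ Y)
    (hA : ∀ x ∈ Subgroup.normalizer ((AG S D : Subgroup G) : Set G), ∀ a ∈ AG S D,
      a⁻¹ * (x⁻¹ * a * x) ∈ Y)
    (hV : ∀ r, ∀ x ∈ Subgroup.normalizer ((VG S D r : Subgroup G) : Set G), ∀ a ∈ VG S D r,
      a⁻¹ * (x⁻¹ * a * x) ∈ Y)
    {a : G} (ha : a ∈ (S : Subgroup G)) {g : G} (hg : g⁻¹ * a * g ∈ (S : Subgroup G)) :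
    a⁻¹ * (g⁻¹ * a * g) ∈ Y := by
  have hF := fus_wreathed S D {a} (Set.singleton_subset_iff.mpr ha) g (by
    rw [rcs_singleton]; exact Set.singleton_subset_iff.mpr hg)
  refine Fus.elem (R := fun a b => a⁻¹ * b ∈ Y) ?_ ?_ ?_ hF
  · intro a; simp
  · intro a b c h1 h2
    have : a⁻¹ * c = (a⁻¹ * b) * (b⁻¹ * c) := by group
    rw [this]; exact mul_mem h1 h2
  · rintro T (rfl | rfl | ⟨r, rfl⟩) x hx a ha
    · obtain ⟨s, hs, h⟩ := local_S S D x hx
      rw [h a ha]; exact hSS a ha s hs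
    · exact hA x hx a ha
    · exact hV r x hx a ha

open Cfsg.Agent.Lib.Helper24 in
theorem S_inf_pResidual_le [Finite G] (Y : Subgroup G)
    (hSS : ∀ a ∈ (S : Subgroup G), ∀ s ∈ (S : Subgroup G), a⁻¹ * (s⁻¹ * a * s) ∈ Y)
    (hA : ∀ x ∈ Subgroup.normalizer ((AG S D : Subgroup G) : Set G), ∀ a ∈ AG S D,
      a⁻¹ * (x⁻¹ * a * x) ∈ Y)
    (hV : ∀ r, ∀ x ∈ Subgroup.normalizer ((VG S D r : Subgroup G) : Set G), ∀ a ∈ VG S D r,
      a⁻¹ * (x⁻¹ * a * x) ∈ Y) :
    (S : Subgroup G) ⊓ Cfsg.pResidual 2 G ≤ Y := by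
  refine (inf_pResidual_le_hypG S).trans ?_
  unfold hypG
  rw [Subgroup.closure_le]
  rintro _ ⟨Q, h, x, hQS, hh, -, hx, rfl⟩
  have h1 : h * x * h⁻¹ ∈ Q := (Subgroup.mem_normalizer_iff.mp hh x).mp hx
  have := focal_mem S D Y hSS hA hV (hQS hx) (g := h⁻¹) (by simpa using hQS h1)
  simpa using this

/-! ### The residual `O^2(G)` -/

section residual

theorem index_pResidual [Finite G] :
    (Cfsg.pResidual 2 G).index =
      ((S : Subgroup G) ⊓ Cfsg.pResidual 2 G).relIndex (S : Subgroup G) := by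
  have hN : (Cfsg.pResidual 2 G).Normal := pResidual_normal' 2
  have hsup := pResidual_sup_sylow 2 S
  have h1 : (Cfsg.pResidual 2 G).relIndex (Cfsg.pResidual 2 G ⊔ (S : Subgroup G)) =
      (Cfsg.pResidual 2 G).relIndex (S : Subgroup G) := Subgroup.relIndex_sup_left _ _
  rw [hsup, Subgroup.relIndex_top_right] at h1
  rw [h1, inf_comm, Subgroup.inf_relIndex_right]

omit S D in
theorem odd_mem_pResidual {x : G} (hx : Odd (orderOf x)) : x ∈ Cfsg.pResidual 2 G :=
  Subgroup.subset_closure (Nat.coprime_two_right.mpr hx)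

omit S D in
theorem no_index_two_pResidual (H : Subgroup ↥(Cfsg.pResidual 2 G)) : H.index ≠ 2 := by
  intro hH
  have hle : Cfsg.pResidual 2 ↥(Cfsg.pResidual 2 G) ≤ H := by
    show Subgroup.closure _ ≤ H
    rw [Subgroup.closure_le]
    intro x hx
    exact mem_of_odd_of_index_two hH (Nat.coprime_two_right.mp hx)
  rw [Cfsg.Agent.Lib.Helper24.pResidual_pResidual_eq_top, top_le_iff] at hle
  rw [hle, Subgroup.index_top] at hH
  omega

omit S D in
theorem pResidual_le_of_index_two {H : Subgroup G} (hH : H.index = 2) :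
    Cfsg.pResidual 2 G ≤ H := by
  show Subgroup.closure _ ≤ H
  rw [Subgroup.closure_le]
  intro x hx
  exact mem_of_odd_of_index_two hH (Nat.coprime_two_right.mp hx)

theorem sylow_pResidual_iso [Finite G] (P : Sylow 2 ↥(Cfsg.pResidual 2 G)) :
    Nonempty (↥(P : Subgroup ↥(Cfsg.pResidual 2 G)) ≃*
      ↥((S : Subgroup G) ⊓ Cfsg.pResidual 2 G)) := by
  have hN : (Cfsg.pResidual 2 G).Normal := pResidual_normal' 2
  obtain ⟨P₀, hP₀⟩ :=
    Cfsg.Agent.Lib.Helper16.exists_sylow_subgroupOf_normal S (Cfsg.pResidual 2 G)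
  have e1 : ↥(P : Subgroup ↥(Cfsg.pResidual 2 G)) ≃* ↥(P₀ : Subgroup ↥(Cfsg.pResidual 2 G)) :=
    Sylow.equiv P P₀
  have e2 : ↥(P₀ : Subgroup ↥(Cfsg.pResidual 2 G)) ≃*
      ↥(((S : Subgroup G) ⊓ Cfsg.pResidual 2 G).subgroupOf (Cfsg.pResidual 2 G)) :=
    MulEquiv.subgroupCongr (by rw [hP₀, Subgroup.inf_subgroupOf_right])
  have e3 : ↥(((S : Subgroup G) ⊓ Cfsg.pResidual 2 G).subgroupOf (Cfsg.pResidual 2 G)) ≃*
      ↥((S : Subgroup G) ⊓ Cfsg.pResidual 2 G) := Subgroup.subgroupOfEquivOfLe inf_le_right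
  exact ⟨e1.trans (e2.trans e3)⟩

end residual

/-! ### Commutators of `S` -/

theorem comm_mem_AG {a s : G} (ha : a ∈ (S : Subgroup G)) (hs : s ∈ (S : Subgroup G)) :
    a⁻¹ * (s⁻¹ * a * s) ∈ AG S D := by
  obtain ⟨i, hi⟩ := comm_eq_pa D (⟨a, ha⟩ : ↥(S : Subgroup G)) ⟨s, hs⟩
  have := congrArg Subtype.val hi
  simp only [Subgroup.coe_mul, Subgroup.coe_inv] at this
  rw [this, coe_mem_im]
  exact ⟨_, rfl⟩

open Cfsg.Agent.S1199 in
theorem comm_mem_Y0 {a s : G} (ha : a ∈ (S : Subgroup G)) (hs : s ∈ (S : Subgroup G)) :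
    a⁻¹ * (s⁻¹ * a * s) ∈ im S (Y0 D) := by
  obtain ⟨i, hi⟩ := comm_eq_pa D (⟨a, ha⟩ : ↥(S : Subgroup G)) ⟨s, hs⟩
  have := congrArg Subtype.val hi
  simp only [Subgroup.coe_mul, Subgroup.coe_inv] at this
  rw [this, coe_mem_im, pa_mem_Y0]
  unfold Data.sig
  simp

/-! ### The case `(6, 2)` -/

section cases

variable {S D}
variable {Q' : Subgroup ↥(S : Subgroup G)} {w : D.E}

theorem local_VG_two_all (hq : QDat D Q' w)
    (h₂ : (VG S D (q D - w.2) ⊔
      Subgroup.centralizer ((VG S D (q D - w.2) : Subgroup G) : Set G)).relIndex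
      (Subgroup.normalizer ((VG S D (q D - w.2) : Subgroup G) : Set G)) = 2)
    (r : ZMod (2 ^ D.n)) :
    ∀ x ∈ Subgroup.normalizer ((VG S D r : Subgroup G) : Set G),
    ∃ s ∈ (S : Subgroup G), ∀ a ∈ VG S D r, x⁻¹ * a * x = s⁻¹ * a * s := by
  obtain ⟨Q'', w', _, hq', rfl⟩ := exists_qDat_r (S := S) (D := D) r
  exact local_VG_two hq' (relIndex_VG_of hq h₂ _)

theorem S_inf_pResidual_six_two [Finite G] (hq : QDat D Q' w)
    (h₁ : (Subgroup.centralizer ((AG S D : Subgroup G) : Set G)).relIndex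
      (Subgroup.normalizer ((AG S D : Subgroup G) : Set G)) = 6)
    (h₂ : (VG S D (q D - w.2) ⊔
      Subgroup.centralizer ((VG S D (q D - w.2) : Subgroup G) : Set G)).relIndex
      (Subgroup.normalizer ((VG S D (q D - w.2) : Subgroup G) : Set G)) = 2) :
    (S : Subgroup G) ⊓ Cfsg.pResidual 2 G = AG S D := by
  have hN : (Cfsg.pResidual 2 G).Normal := pResidual_normal' 2
  apply le_antisymm
  · apply S_inf_pResidual_le S D
    · intro a ha s hs
      exact comm_mem_AG S D ha hs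
    · intro x hx a ha
      have := (conj_mem_iff_of_mem_normalizer (inv_mem hx) a).mpr ha
      rw [inv_inv] at this
      exact mul_mem (inv_mem ha) this
    · intro r x hx a ha
      obtain ⟨s, hs, h⟩ := local_VG_two_all hq h₂ r x hx
      rw [h a ha]
      exact comm_mem_AG S D (im_le S _ ha) hs
  · refine le_inf (im_le S _) (AG_le_of_closed S D h₁ _ (fun x hx => odd_mem_pResidual hx) ?_)
    intro u _ x hx
    have := hN.conj_mem x hx u⁻¹
    rwa [inv_inv] at this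

theorem case_six_two [Finite G] (hq : QDat D Q' w)
    (h₁ : (Subgroup.centralizer ((AG S D : Subgroup G) : Set G)).relIndex
      (Subgroup.normalizer ((AG S D : Subgroup G) : Set G)) = 6)
    (h₂ : (VG S D (q D - w.2) ⊔
      Subgroup.centralizer ((VG S D (q D - w.2) : Subgroup G) : Set G)).relIndex
      (Subgroup.normalizer ((VG S D (q D - w.2) : Subgroup G) : Set G)) = 2) :
    (∃ K : Subgroup G, K.Normal ∧ K.index = 2 ∧ AG S D ≤ K ∧
      (∀ H : Subgroup ↥K, H.index ≠ 2)) ∧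
    Nat.card {C : ConjClasses G // ∃ t : G, orderOf t = 2 ∧ ConjClasses.mk t = C} = 2 := by
  have hN : (Cfsg.pResidual 2 G).Normal := pResidual_normal' 2
  have hK := S_inf_pResidual_six_two hq h₁ h₂
  refine ⟨⟨Cfsg.pResidual 2 G, hN, ?_, ?_, no_index_two_pResidual⟩, ?_⟩
  · rw [index_pResidual S, hK, relIndex_AG_S]
  · rw [← hK]; exact inf_le_right
  · apply card_classes_eq_two 2 (aG S D) (zG S D) (orderOf_aG S D) (orderOf_zG S D)
    · intro h
      obtain ⟨g, hg⟩ := isConj_iff.mp h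
      apply zG_notMem_AG S D
      rw [← hK]
      refine ⟨zG_mem_S S D, ?_⟩
      rw [← hg]
      apply hN.conj_mem
      have : aG S D ∈ (S : Subgroup G) ⊓ Cfsg.pResidual 2 G := by rw [hK]; exact aG_mem_AG
      exact this.2
    · intro t ht
      rcases invol_isConj S D t ht with h | h | h
      · left; exact h.trans (isConj_aG_cG S D h₁)
      · left; exact h
      · right; exact h

end cases

/-! ### The case `|N(V) : V C(V)| = 6` -/

section V6

variable {S D}
variable {Q' : Subgroup ↥(S : Subgroup G)} {w : D.E}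

/-- the element `j = pa w * z` in `G` -/
abbrev jG (S : Sylow 2 G) (D : Data ↥(S : Subgroup G)) (w : D.E) : G :=
  ((D.pa w * D.z : ↥(S : Subgroup G)) : G)

theorem tG_notMem_Q_sup (hq : QDat D Q' w) :
    tG S D ∉ im S Q' ⊔ Subgroup.centralizer ((im S Q' : Subgroup G) : Set G) := by
  intro h
  obtain ⟨v, hv, c, hc, e⟩ := mem_sup_centralizer h
  have hvS : v ∈ (S : Subgroup G) := im_le S _ hv
  have hcS : c ∈ (S : Subgroup G) := by
    have : c = v⁻¹ * tG S D := by rw [e]; group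
    rw [this]; exact mul_mem (inv_mem hvS) tG_mem_S
  have hcZ : c ∈ ZG S := by
    refine (mem_im S).mpr ⟨⟨c, hcS⟩, ?_, rfl⟩
    apply hq.mem_center_of_comm (le_refl Q')
    intro y hy
    have := Subgroup.mem_centralizer_iff.mp hc (y : G) ((coe_mem_im S y).mpr hy)
    exact Subtype.ext this.symm
  apply tG_notMem_VG (S := S) (D := D) (q D - w.2)
  rw [e]
  exact mul_mem (Q_le_V hq hv) (ZG_le_VG _ hcZ)

theorem exists_dV [Finite G] (hq : QDat D Q' w) (e : Q' ≃* QuaternionGroup 2)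
    (h₂ : (VG S D (q D - w.2) ⊔
      Subgroup.centralizer ((VG S D (q D - w.2) : Subgroup G) : Set G)).relIndex
      (Subgroup.normalizer ((VG S D (q D - w.2) : Subgroup G) : Set G)) = 6) :
    ∃ d ∈ Subgroup.normalizer ((VG S D (q D - w.2) : Subgroup G) : Set G), Odd (orderOf d) ∧
      ∀ H ∈ Q8Data.subs (im S Q'), ∀ H' ∈ Q8Data.subs (im S Q'), ∃ k : ℕ,
        H.map (MulAut.conj (d ^ k)).toMonoidHom = H' := by
  set V := VG S D (q D - w.2) with hV
  set N := Subgroup.normalizer ((V : Subgroup G) : Set G) with hN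
  set C := V ⊔ Subgroup.centralizer ((V : Subgroup G) : Set G) with hC
  have hCN : C ≤ N := sup_centralizer_le_normalizer V
  have hn : N ≤ Subgroup.normalizer ((C : Subgroup G) : Set G) :=
    normalizer_le_normalizer_sup_centralizer V
  have eG : im S Q' ≃* QuaternionGroup 2 :=
    (Subgroup.equivMapOfInjective Q' _ (Subgroup.subtype_injective _)).symm.trans e
  obtain ⟨a, b, hd⟩ := exists_q8Data (im S Q') eG
  have : Finite ↥(Q8Data.subs (im S Q')) :=
    Nat.finite_of_card_ne_zero (by rw [hd.card_subs]; decide)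
  have hnorm : (C.subgroupOf N).Normal :=
    (Subgroup.normal_subgroupOf_iff_le_normalizer hCN).mpr hn
  have hCQ : C ≤ im S Q' ⊔ Subgroup.centralizer ((im S Q' : Subgroup G) : Set G) := by
    rw [hC]
    apply sup_le
    · rw [hV, ← Q_sup_ZG hq]
      exact sup_le_sup_left (ZG_le_centralizer_of_le (im_le S _)) _
    · exact le_sup_of_le_right (Subgroup.centralizer_le (Q_le_V hq))
  have hker : C.subgroupOf N ≤ (rhoV hq e).ker := by
    intro n hn'
    rw [MonoidHom.mem_ker, rhoV, MonoidHom.comp_apply, ← MonoidHom.mem_ker, hd.quatHom_ker,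
      Subgroup.mem_subgroupOf]
    exact hCQ (Subgroup.mem_subgroupOf.mp hn')
  have hoddk : ∀ k ∈ (rhoV hq e).ker, Odd (orderOf k) → k ∈ C.subgroupOf N := by
    intro k hk hodd
    rw [Subgroup.mem_subgroupOf]
    apply le_sup_right (a := V)
    rw [mem_ker_rhoV] at hk
    apply odd_mem_centralizer_VG hq (k : G) k.2 (by rwa [Subgroup.orderOf_coe])
    have hH := hk _ (Q8Data.zpowers_mem_subs (iG S D) ((coe_mem_im S _).mpr hq.hi)
      (orderOf_iG (S := S) (D := D)))
    rw [← hH]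
    exact ⟨iG S D, Subgroup.mem_zpowers _, rfl⟩
  obtain ⟨k0, hk0⟩ := two_pow_of_mem_S S (tG_mem_S (S := S) (D := D))
  have htN : tG S D ∈ N := tG_mem_normalizer_VG _
  obtain ⟨d, hodd, hdt⟩ := exists_odd_transitive_of_six (rhoV hq e) hd.card_subs (C.subgroupOf N)
    hker hoddk h₂ ⟨tG S D, htN⟩ k0
    (by
      apply Subtype.ext
      rw [Subgroup.coe_pow, Subgroup.coe_one]
      exact hk0)
    (by
      rw [MonoidHom.mem_ker, rhoV, MonoidHom.comp_apply, ← MonoidHom.mem_ker, hd.quatHom_ker,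
        Subgroup.mem_subgroupOf]
      exact tG_notMem_Q_sup hq)
  refine ⟨d, d.2, by rwa [Subgroup.orderOf_coe], ?_⟩
  intro H hH H' hH'
  obtain ⟨k, hk⟩ := hdt ⟨H, hH⟩ ⟨H', hH'⟩
  refine ⟨k, ?_⟩
  have := congrArg Subtype.val hk
  rw [rhoV, MonoidHom.comp_apply, Q8Data.quatHom_apply] at this
  exact this

theorem ZG_le_AG : ZG S ≤ AG S D := by
  apply Subgroup.map_mono
  intro s hs
  obtain ⟨i, rfl⟩ := (D.mem_center_iff s).mp hs
  exact ⟨_, rfl⟩

/-- elements of odd order normalizing `Z(S)` centralize it -/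
theorem odd_mem_centralizer_ZG (D : Data ↥(S : Subgroup G)) (k : G)
    (hkZ : k ∈ Subgroup.normalizer ((ZG S : Subgroup G) : Set G)) (hodd : Odd (orderOf k)) :
    k ∈ Subgroup.centralizer ((ZG S : Subgroup G) : Set G) := by
  have hcfix : k * cG S D * k⁻¹ = cG S D := by
    have h1 : k * cG S D * k⁻¹ ∈ ZG S :=
      (conj_mem_iff_of_mem_normalizer hkZ _).mpr ((coe_mem_im S _).mpr (cc_mem_center D))
    obtain ⟨s, hs, hsc⟩ := (mem_im S).mp h1
    obtain ⟨i, rfl⟩ := (D.mem_center_iff s).mp hs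
    have h2 : D.pa (i, i) * D.pa (i, i) = 1 := by
      apply Subtype.ext
      rw [Subgroup.coe_mul, hsc, ← conj_mul]
      have : cG S D * cG S D = 1 := congrArg Subtype.val (cc_mul_self D)
      rw [this]; simp
    rcases invol_center D i h2 with h | h
    · exfalso
      rw [h] at hsc
      have : cG S D = 1 := by
        have e1 : cG S D = k⁻¹ * (k * cG S D * k⁻¹) * k := by group
        rw [e1, ← hsc]; simp
      exact cc_ne_one D (Subtype.ext this)
    · rw [← hsc, h]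
  apply mem_centralizer_of_odd_abelian (ZG S)
    (fun a ha b hb => AG_comm S D a (ZG_le_AG ha) b (ZG_le_AG hb))
    (fun t ht => two_pow_of_mem_S S (im_le S _ ht)) k hkZ hodd
  intro t ht htt
  obtain ⟨s, hs, rfl⟩ := (mem_im S).mp ht
  obtain ⟨i, rfl⟩ := (D.mem_center_iff s).mp hs
  have h2 : D.pa (i, i) * D.pa (i, i) = 1 := Subtype.ext htt
  rcases invol_center D i h2 with h | h
  · rw [h]; simp
  · rw [h]; exact hcfix

/-- `N_G(V)` centralizes `Z(S)`. -/
theorem normalizer_VG_le_centralizer_ZG [Finite G] (hq : QDat D Q' w)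
    (e : Q' ≃* QuaternionGroup 2) :
    Subgroup.normalizer ((VG S D (q D - w.2) : Subgroup G) : Set G) ≤
      Subgroup.centralizer ((ZG S : Subgroup G) : Set G) := by
  set N := Subgroup.normalizer ((VG S D (q D - w.2) : Subgroup G) : Set G) with hN
  set CZ := Subgroup.centralizer ((ZG S : Subgroup G) : Set G) with hCZ
  have hNZ : N ≤ Subgroup.normalizer ((ZG S : Subgroup G) : Set G) :=
    normalizer_VG_le_normalizer_ZG hq
  have hSC : (S : Subgroup G) ≤ CZ := by
    intro s hs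
    rw [hCZ, Subgroup.mem_centralizer_iff]
    intro t ht
    have := Subgroup.mem_centralizer_iff.mp (ZG_le_centralizer_of_le (le_refl (S : Subgroup G)) ht)
      s hs
    exact this.symm
  have key : N ⊓ CZ = N := by
    apply eq_of_sylow_le_of_odd_mem (P := (S : Subgroup G) ⊓ N)
    · exact le_inf inf_le_right (inf_le_left.trans hSC)
    · exact inf_le_left
    · intro x hx
      rw [Subgroup.mem_normalizer_iff]
      intro m
      have hxC := normalizer_le_normalizer_centralizer (ZG S) (hNZ hx)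
      rw [Subgroup.mem_inf, Subgroup.mem_inf]
      constructor
      · rintro ⟨hm1, hm2⟩
        exact ⟨mul_mem (mul_mem hx hm1) (inv_mem hx),
          (conj_mem_iff_of_mem_normalizer hxC m).mpr hm2⟩
      · rintro ⟨hm1, hm2⟩
        refine ⟨?_, (conj_mem_iff_of_mem_normalizer hxC m).mp hm2⟩
        have : m = x⁻¹ * (x * m * x⁻¹) * x := by group
        rw [this]
        exact mul_mem (mul_mem (inv_mem hx) hm1) hx
    · exact sylow_normalizer_VG hq e
    · intro x hx hodd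
      exact ⟨hx, odd_mem_centralizer_ZG D x (hNZ hx) hodd⟩
  rw [← key]
  exact inf_le_right

theorem isConj_zG_of_notMem_AG (S : Sylow 2 G) (D : Data ↥(S : Subgroup G)) {t : G}
    (htS : t ∈ (S : Subgroup G)) (ht : orderOf t = 2) (hA : t ∉ AG S D) :
    IsConj t (zG S D) := by
  rcases invol_S_cases S D htS ht with h | h | h | ⟨i, h⟩
  · exact absurd (h ▸ cG_mem_AG) hA
  · exact absurd (h ▸ aG_mem_AG) hA
  · exfalso; apply hA; rw [h]; exact (coe_mem_im S _).mpr ⟨_, rfl⟩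
  · rw [h, paz_eq]
    exact (isConj_iff.mpr ⟨_, rfl⟩).symm

theorem jG_mem_Q (hq : QDat D Q' w) : jG S D w ∈ im S Q' := (coe_mem_im S _).mpr hq.hj
theorem iG_mem_Q (hq : QDat D Q' w) : iG S D ∈ im S Q' := (coe_mem_im S _).mpr hq.hi

theorem orderOf_jG (hq : QDat D Q' w) : orderOf (jG S D w) = 4 := by
  rw [jG, Subgroup.orderOf_coe]
  exact orderOf_paz_of_sig D w hq.sig

theorem jG_notMem_AG : jG S D w ∉ AG S D := by
  rw [jG, coe_mem_im]
  rintro ⟨u, hu⟩
  exact D.pa_ne_pa_mul_z u w hu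

/-- the image of `i` under the transitive element lies in `⟨j⟩` -/
theorem exists_conj_iG [Finite G] (hq : QDat D Q' w) (e : Q' ≃* QuaternionGroup 2)
    (h₂ : (VG S D (q D - w.2) ⊔
      Subgroup.centralizer ((VG S D (q D - w.2) : Subgroup G) : Set G)).relIndex
      (Subgroup.normalizer ((VG S D (q D - w.2) : Subgroup G) : Set G)) = 6) :
    ∃ d ∈ Subgroup.normalizer ((VG S D (q D - w.2) : Subgroup G) : Set G), Odd (orderOf d) ∧
      (d * iG S D * d⁻¹ = jG S D w ∨ d * iG S D * d⁻¹ = (jG S D w)⁻¹) := by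
  obtain ⟨d, hdN, hodd, hd⟩ := exists_dV hq e h₂
  obtain ⟨k, hk⟩ := hd _ (Q8Data.zpowers_mem_subs (iG S D) (iG_mem_Q hq)
    (orderOf_iG (S := S) (D := D))) _ (Q8Data.zpowers_mem_subs (jG S D w) (jG_mem_Q hq)
    (orderOf_jG hq))
  have hmem : d ^ k * iG S D * (d ^ k)⁻¹ ∈ Subgroup.zpowers (jG S D w) := by
    rw [← hk]
    exact ⟨iG S D, Subgroup.mem_zpowers _, rfl⟩
  have hord : orderOf (d ^ k * iG S D * (d ^ k)⁻¹) = 4 := by
    have := (MulAut.conj (d ^ k)).orderOf_eq (iG S D)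
    rw [MulAut.conj_apply] at this
    rw [this, orderOf_iG]
  refine ⟨d ^ k, pow_mem hdN k, Odd.of_dvd_nat hodd (orderOf_pow_dvd k), Q8Data.order_four_cases (orderOf_jG hq) hmem hord⟩

/-- the element `pa (q, q)` of order 4 in the centre -/
abbrev yG (S : Sylow 2 G) (D : Data ↥(S : Subgroup G)) : G :=
  ((D.pa (q D, q D) : ↥(S : Subgroup G)) : G)

theorem yG_mem_ZG : yG S D ∈ ZG S :=
  (coe_mem_im S _).mpr ((D.mem_center_iff _).mpr ⟨q D, rfl⟩)

theorem aG_eq : aG S D = iG S D * yG S D := by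
  have : aa D = D.pa (q D, -(q D)) * D.pa (q D, q D) := by
    unfold aa
    rw [← D.pa_add]
    congr 1
    exact Prod.ext (by simp only [Prod.mk_add_mk]; linear_combination -(two_q D)) (by simp)
  exact congrArg Subtype.val this

theorem jG_mem_S : jG S D w ∈ (S : Subgroup G) := (D.pa w * D.z : ↥(S : Subgroup G)).2

theorem iG_mem_AG : iG S D ∈ AG S D := (coe_mem_im S _).mpr ⟨_, rfl⟩

theorem isConj_aG_zG [Finite G] (hq : QDat D Q' w) (e : Q' ≃* QuaternionGroup 2)
    (h₂ : (VG S D (q D - w.2) ⊔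
      Subgroup.centralizer ((VG S D (q D - w.2) : Subgroup G) : Set G)).relIndex
      (Subgroup.normalizer ((VG S D (q D - w.2) : Subgroup G) : Set G)) = 6) :
    IsConj (aG S D) (zG S D) := by
  obtain ⟨d, hdN, hodd, hd⟩ := exists_conj_iG hq e h₂
  have hdZ := normalizer_VG_le_centralizer_ZG hq e hdN
  have hy : d * yG S D * d⁻¹ = yG S D := by
    have := Subgroup.mem_centralizer_iff.mp hdZ _ (yG_mem_ZG (S := S) (D := D))
    rw [← this]; group
  have ht_eq : d * aG S D * d⁻¹ = (d * iG S D * d⁻¹) * yG S D := by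
    rw [aG_eq, conj_mul, hy]
  have hjS : jG S D w ∈ (S : Subgroup G) := jG_mem_S
  have hxS : d * iG S D * d⁻¹ ∈ (S : Subgroup G) := by
    rcases hd with h | h
    · rw [h]; exact hjS
    · rw [h]; exact inv_mem hjS
  have htS : d * aG S D * d⁻¹ ∈ (S : Subgroup G) := by
    rw [ht_eq]; exact mul_mem hxS (im_le S _ yG_mem_ZG)
  have htord : orderOf (d * aG S D * d⁻¹) = 2 := by
    have := (MulAut.conj d).orderOf_eq (aG S D)
    rw [MulAut.conj_apply] at this
    rw [this, orderOf_aG]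
  have htA : d * aG S D * d⁻¹ ∉ AG S D := by
    intro h
    have hx : d * iG S D * d⁻¹ ∈ AG S D := by
      have : d * iG S D * d⁻¹ = (d * aG S D * d⁻¹) * (yG S D)⁻¹ := by rw [ht_eq]; group
      rw [this]; exact mul_mem h (inv_mem (ZG_le_AG yG_mem_ZG))
    rcases hd with h' | h'
    · rw [h'] at hx; exact jG_notMem_AG hx
    · rw [h'] at hx; exact jG_notMem_AG (by simpa using inv_mem hx)
  exact (isConj_iff.mpr ⟨d, rfl⟩).trans (isConj_zG_of_notMem_AG S D htS htord htA)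

/-- `j ∈ O^2(G)` as soon as `U ≤ O^2(G)`. -/
theorem jG_mem_pResidual [Finite G] (hq : QDat D Q' w) (e : Q' ≃* QuaternionGroup 2)
    (h₂ : (VG S D (q D - w.2) ⊔
      Subgroup.centralizer ((VG S D (q D - w.2) : Subgroup G) : Set G)).relIndex
      (Subgroup.normalizer ((VG S D (q D - w.2) : Subgroup G) : Set G)) = 6)
    (hi : iG S D ∈ Cfsg.pResidual 2 G) : jG S D w ∈ Cfsg.pResidual 2 G := by
  have hN : (Cfsg.pResidual 2 G).Normal := pResidual_normal' 2
  obtain ⟨d, hdN, hodd, hd⟩ := exists_conj_iG hq e h₂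
  have hdK : d ∈ Cfsg.pResidual 2 G := odd_mem_pResidual hodd
  have hx : d * iG S D * d⁻¹ ∈ Cfsg.pResidual 2 G := hN.conj_mem _ hi d
  rcases hd with h | h
  · rw [h] at hx; exact hx
  · rw [h] at hx; simpa using inv_mem hx

theorem pResidual_eq_top_six_six [Finite G] (hq : QDat D Q' w) (e : Q' ≃* QuaternionGroup 2)
    (h₁ : (Subgroup.centralizer ((AG S D : Subgroup G) : Set G)).relIndex
      (Subgroup.normalizer ((AG S D : Subgroup G) : Set G)) = 6)
    (h₂ : (VG S D (q D - w.2) ⊔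
      Subgroup.centralizer ((VG S D (q D - w.2) : Subgroup G) : Set G)).relIndex
      (Subgroup.normalizer ((VG S D (q D - w.2) : Subgroup G) : Set G)) = 6) :
    Cfsg.pResidual 2 G = ⊤ := by
  have hN : (Cfsg.pResidual 2 G).Normal := pResidual_normal' 2
  have hAK : AG S D ≤ Cfsg.pResidual 2 G := by
    refine AG_le_of_closed S D h₁ _ (fun x hx => odd_mem_pResidual hx) ?_
    intro u _ x hx
    have := hN.conj_mem x hx u⁻¹
    rwa [inv_inv] at this
  have hjK := jG_mem_pResidual hq e h₂ (hAK iG_mem_AG)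
  have hSK : (S : Subgroup G) ≤ Cfsg.pResidual 2 G := by
    intro s hs
    rcases mem_or_mul_inv_mem_of_relIndex_two (relIndex_AG_S S D) (jG_mem_S (w := w))
      jG_notMem_AG hs with h | h
    · exact hAK h
    · have : s = (s * (jG S D w)⁻¹) * jG S D w := by group
      rw [this]; exact mul_mem (hAK h) hjK
  have := pResidual_sup_sylow 2 S
  rwa [sup_eq_left.mpr hSK] at this

theorem case_six_six [Finite G] (hq : QDat D Q' w) (e : Q' ≃* QuaternionGroup 2)
    (h₁ : (Subgroup.centralizer ((AG S D : Subgroup G) : Set G)).relIndex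
      (Subgroup.normalizer ((AG S D : Subgroup G) : Set G)) = 6)
    (h₂ : (VG S D (q D - w.2) ⊔
      Subgroup.centralizer ((VG S D (q D - w.2) : Subgroup G) : Set G)).relIndex
      (Subgroup.normalizer ((VG S D (q D - w.2) : Subgroup G) : Set G)) = 6) :
    (∀ H : Subgroup G, H.index ≠ 2) ∧
    Nat.card {C : ConjClasses G // ∃ t : G, orderOf t = 2 ∧ ConjClasses.mk t = C} = 1 := by
  constructor
  · intro H hH
    have h1 := pResidual_le_of_index_two hH
    rw [pResidual_eq_top_six_six hq e h₁ h₂, top_le_iff] at h1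
    rw [h1, Subgroup.index_top] at hH
    omega
  · apply card_classes_eq_one 2 (aG S D) (orderOf_aG S D)
    intro t ht
    rcases invol_isConj S D t ht with h | h | h
    · exact h.trans (isConj_aG_cG S D h₁)
    · exact h
    · exact h.trans (isConj_aG_zG hq e h₂).symm

/-- variant of `Q8Data.le_of_odd_closed` with a given transitive element -/
theorem q8_le_of_transitive {Q : Subgroup G} {a b : G} (h : Q8Data Q a b) (n : G)
    (hn : ∀ H ∈ Q8Data.subs Q, ∀ H' ∈ Q8Data.subs Q, ∃ k : ℕ,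
      H.map (MulAut.conj (n ^ k)).toMonoidHom = H')
    (L : Subgroup G) (hnL : n ∈ L) (c : G) (hcQ : c ∈ Q) (hcL : c ∈ L)
    (hc4 : orderOf c = 4) : Q ≤ L := by
  have hcsubs : Subgroup.zpowers c ∈ Q8Data.subs Q := Q8Data.zpowers_mem_subs c hcQ hc4
  have key : ∀ H' ∈ Q8Data.subs Q, H' ≤ L := by
    intro H' hH'
    obtain ⟨k, hk⟩ := hn _ hcsubs H' hH'
    rw [← hk, MonoidHom.map_zpowers, Subgroup.zpowers_le]
    simp only [MulEquiv.coe_toMonoidHom, MulAut.conj_apply]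
    exact L.mul_mem (L.mul_mem (L.pow_mem hnL k) hcL) (L.inv_mem (L.pow_mem hnL k))
  apply h.le_of_mem L
  · exact key _ (Q8Data.zpowers_mem_subs a h.ha h.orderOf_a) (Subgroup.mem_zpowers a)
  · exact key _ (Q8Data.zpowers_mem_subs b h.hb h.orderOf_b) (Subgroup.mem_zpowers b)

theorem orderOf_iG_inv_mul_jG (hq : QDat D Q' w) : orderOf ((iG S D)⁻¹ * jG S D w) = 4 := by
  have : (D.pa (q D, -(q D)))⁻¹ * (D.pa w * D.z) = D.pa (-(q D, -(q D)) + w) * D.z := by
    rw [← D.pa_neg, D.mul_rule1]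
  have h2 : (iG S D)⁻¹ * jG S D w =
      ((D.pa (-(q D, -(q D)) + w) * D.z : ↥(S : Subgroup G)) : G) := by
    rw [← this]; rfl
  rw [h2, Subgroup.orderOf_coe]
  apply orderOf_paz_of_sig
  rw [D.sig_add, D.sig_neg, hq.sig]
  unfold Data.sig
  simp

theorem orderOf_iG_inv_mul_jG_inv (hq : QDat D Q' w) :
    orderOf ((iG S D)⁻¹ * (jG S D w)⁻¹) = 4 := by
  have : (D.pa (q D, -(q D)))⁻¹ * (D.pa w * D.z)⁻¹ =
      D.pa (-(q D, -(q D)) + (-w.swap)) * D.z := by
    rw [← D.pa_neg, D.inv_rule, D.mul_rule1]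
  have h2 : (iG S D)⁻¹ * (jG S D w)⁻¹ =
      ((D.pa (-(q D, -(q D)) + (-w.swap)) * D.z : ↥(S : Subgroup G)) : G) := by
    rw [← this]; rfl
  rw [h2, Subgroup.orderOf_coe]
  apply orderOf_paz_of_sig
  rw [D.sig_add, D.sig_neg, D.sig_neg, D.sig_swap, hq.sig, D.neg_h]
  unfold Data.sig
  simp

/-- `Q ≤ O^2(G)` when `|N(V) : V C(V)| = 6`. -/
theorem Q_le_pResidual [Finite G] (hq : QDat D Q' w) (e : Q' ≃* QuaternionGroup 2)
    (h₂ : (VG S D (q D - w.2) ⊔
      Subgroup.centralizer ((VG S D (q D - w.2) : Subgroup G) : Set G)).relIndex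
      (Subgroup.normalizer ((VG S D (q D - w.2) : Subgroup G) : Set G)) = 6) :
    im S Q' ≤ Cfsg.pResidual 2 G := by
  have hN : (Cfsg.pResidual 2 G).Normal := pResidual_normal' 2
  have eG : im S Q' ≃* QuaternionGroup 2 :=
    (Subgroup.equivMapOfInjective Q' _ (Subgroup.subtype_injective _)).symm.trans e
  obtain ⟨a, b, hd⟩ := exists_q8Data (im S Q') eG
  obtain ⟨d, -, hodd, htr⟩ := exists_dV hq e h₂
  obtain ⟨d', -, hodd', hd'⟩ := exists_conj_iG hq e h₂
  have hdK : d' ∈ Cfsg.pResidual 2 G := odd_mem_pResidual hodd'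
  have hcK : (iG S D)⁻¹ * (d' * iG S D * d'⁻¹) ∈ Cfsg.pResidual 2 G := by
    have : (iG S D)⁻¹ * (d' * iG S D * d'⁻¹) = ((iG S D)⁻¹ * d' * (iG S D)⁻¹⁻¹) * d'⁻¹ := by
      group
    rw [this]; exact mul_mem (hN.conj_mem d' hdK _) (inv_mem hdK)
  rcases hd' with h | h
  · rw [h] at hcK
    exact q8_le_of_transitive hd d htr _ (odd_mem_pResidual hodd) _
      (mul_mem (inv_mem (iG_mem_Q hq)) (jG_mem_Q hq)) hcK (orderOf_iG_inv_mul_jG hq)
  · rw [h] at hcK
    exact q8_le_of_transitive hd d htr _ (odd_mem_pResidual hodd) _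
      (mul_mem (inv_mem (iG_mem_Q hq)) (inv_mem (jG_mem_Q hq))) hcK
      (orderOf_iG_inv_mul_jG_inv hq)

end V6

/-! ### The case `(2, 6)` -/

section twosix

open Cfsg.Agent.S1199

variable {S D}
variable {Q' : Subgroup ↥(S : Subgroup G)} {w : D.E}

theorem Q_le_Y0 (hq : QDat D Q' w) : Q' ≤ Y0 D := by
  apply hq.le_of
  · rw [pa_mem_Y0]; unfold Data.sig; simp
  · rw [paz_mem_Y0]; exact hq.sig

theorem relIndex_VG_six_of (hq : QDat D Q' w)
    (h₂ : (VG S D (q D - w.2) ⊔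
      Subgroup.centralizer ((VG S D (q D - w.2) : Subgroup G) : Set G)).relIndex
      (Subgroup.normalizer ((VG S D (q D - w.2) : Subgroup G) : Set G)) = 6)
    (r : ZMod (2 ^ D.n)) :
    ∃ (Q'' : Subgroup ↥(S : Subgroup G)) (w' : D.E), Nonempty (Q'' ≃* QuaternionGroup 2) ∧
      QDat D Q'' w' ∧ q D - w'.2 = r ∧
      (VG S D (q D - w'.2) ⊔
        Subgroup.centralizer ((VG S D (q D - w'.2) : Subgroup G) : Set G)).relIndex
        (Subgroup.normalizer ((VG S D (q D - w'.2) : Subgroup G) : Set G)) = 6 := by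
  obtain ⟨Q'', w', e', hq', hr⟩ := exists_qDat_r (S := S) (D := D) r
  exact ⟨Q'', w', e', hq', hr, relIndex_VG_of hq h₂ _⟩

/-- elements of `V_r` outside `A` of order four lie in `O^2(G)` -/
theorem paz_mem_pResidual [Finite G] (hq : QDat D Q' w)
    (h₂ : (VG S D (q D - w.2) ⊔
      Subgroup.centralizer ((VG S D (q D - w.2) : Subgroup G) : Set G)).relIndex
      (Subgroup.normalizer ((VG S D (q D - w.2) : Subgroup G) : Set G)) = 6)
    (u : D.E) (hu : D.sig u = D.h) :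
    ((D.pa u * D.z : ↥(S : Subgroup G)) : G) ∈ Cfsg.pResidual 2 G := by
  obtain ⟨Q'', w', ⟨e'⟩, hq', hr, h₂'⟩ := relIndex_VG_six_of hq h₂ u.1
  have hmemV : D.pa u * D.z ∈ Vr D (q D - w'.2) := by
    rw [hr, paz_mem_Vr]
    unfold Data.sig at hu
    linear_combination (-2) * hu - D.two_h
  have hsq : (D.pa u * D.z) * (D.pa u * D.z) = cc D := by rw [paz_mul_self, hu]; rfl
  have hQ : D.pa u * D.z ∈ Q'' := by
    apply hq'.order_four_mem _ hmemV
    · rw [hsq]; exact cc_mul_self D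
    · rw [hsq]; exact cc_ne_one D
    · exact D.paz_notMem_center u
  exact Q_le_pResidual hq' e' h₂' ((coe_mem_im S _).mpr hQ)

theorem Y0G_le_pResidual [Finite G] (hq : QDat D Q' w)
    (h₂ : (VG S D (q D - w.2) ⊔
      Subgroup.centralizer ((VG S D (q D - w.2) : Subgroup G) : Set G)).relIndex
      (Subgroup.normalizer ((VG S D (q D - w.2) : Subgroup G) : Set G)) = 6) :
    im S (Y0 D) ≤ Cfsg.pResidual 2 G := by
  intro g hg
  obtain ⟨s, hs, rfl⟩ := (mem_im S).mp hg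
  obtain ⟨u, hu | hu⟩ := D.normal_form s
  · rw [hu, pa_mem_Y0] at hs
    have e1 : D.pa u = (D.pa (u - (D.h, 0)) * D.z) * (D.pa (0, D.h) * D.z) := by
      rw [D.mul_rule3]
      congr 1
      simp
    rw [hu, e1, Subgroup.coe_mul]
    apply mul_mem
    · apply paz_mem_pResidual hq h₂
      unfold Data.sig at hs ⊢
      simp only [Prod.fst_sub, Prod.snd_sub, sub_zero]
      linear_combination hs - D.two_h
    · apply paz_mem_pResidual hq h₂
      unfold Data.sig
      simp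
  · rw [hu, paz_mem_Y0] at hs
    rw [hu]
    exact paz_mem_pResidual hq h₂ u hs

/-- decomposition of the elements of `V_r` -/
theorem exists_mul_of_mem_VG (hq : QDat D Q' w) {a : G} (ha : a ∈ VG S D (q D - w.2)) :
    ∃ q₁ ∈ im S Q', ∃ z₁ ∈ ZG S, a = q₁ * z₁ := by
  obtain ⟨s, hs, rfl⟩ := (mem_im S).mp ha
  rw [← hq.sup_center, ← SetLike.mem_coe, Subgroup.mul_normal] at hs
  obtain ⟨q₁, hq₁, z₁, hz₁, rfl⟩ := Set.mem_mul.mp hs
  exact ⟨q₁, (coe_mem_im S _).mpr hq₁, z₁, (coe_mem_im S _).mpr hz₁, rfl⟩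

theorem comm_VG_mem_Y0 [Finite G] (hq : QDat D Q' w) (e : Q' ≃* QuaternionGroup 2) :
    ∀ x ∈ Subgroup.normalizer ((VG S D (q D - w.2) : Subgroup G) : Set G),
      ∀ a ∈ VG S D (q D - w.2), a⁻¹ * (x⁻¹ * a * x) ∈ im S (Y0 D) := by
  intro x hx a ha
  obtain ⟨q₁, hq₁, z₁, hz₁, rfl⟩ := exists_mul_of_mem_VG hq ha
  have hxQ := normalizer_VG_le_normalizer_Q hq e hx
  have hxZ := normalizer_VG_le_centralizer_ZG hq e hx
  have h1 : x⁻¹ * z₁ * x = z₁ := by
    have := Subgroup.mem_centralizer_iff.mp hxZ z₁ hz₁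
    calc x⁻¹ * z₁ * x = x⁻¹ * (z₁ * x) := by group
      _ = x⁻¹ * (x * z₁) := by rw [this]
      _ = z₁ := by group
  have h2 : x⁻¹ * q₁ * x ∈ im S Q' := by
    have := (conj_mem_iff_of_mem_normalizer (inv_mem hxQ) q₁).mpr hq₁
    rwa [inv_inv] at this
  set y := q₁⁻¹ * (x⁻¹ * q₁ * x) with hy
  have hyQ : y ∈ im S Q' := mul_mem (inv_mem hq₁) h2
  have hyS : y ∈ (S : Subgroup G) := im_le S _ hyQ
  have hcomm : y * z₁ = z₁ * y :=
    Subgroup.mem_centralizer_iff.mp (ZG_le_centralizer_of_le (le_refl (S : Subgroup G)) hz₁) y hyS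
  have e1 : (q₁ * z₁)⁻¹ * (x⁻¹ * (q₁ * z₁) * x) = y := by
    calc (q₁ * z₁)⁻¹ * (x⁻¹ * (q₁ * z₁) * x)
        = z₁⁻¹ * (q₁⁻¹ * (x⁻¹ * q₁ * x)) * (x⁻¹ * z₁ * x) := by group
      _ = z₁⁻¹ * (y * z₁) := by rw [h1, ← hy]; group
      _ = z₁⁻¹ * (z₁ * y) := by rw [hcomm]
      _ = y := by group
  rw [e1]
  exact Subgroup.map_mono (Q_le_Y0 hq) hyQ

theorem S_inf_pResidual_two_six [Finite G] (hq : QDat D Q' w)
    (h₁ : (Subgroup.centralizer ((AG S D : Subgroup G) : Set G)).relIndex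
      (Subgroup.normalizer ((AG S D : Subgroup G) : Set G)) = 2)
    (h₂ : (VG S D (q D - w.2) ⊔
      Subgroup.centralizer ((VG S D (q D - w.2) : Subgroup G) : Set G)).relIndex
      (Subgroup.normalizer ((VG S D (q D - w.2) : Subgroup G) : Set G)) = 6) :
    (S : Subgroup G) ⊓ Cfsg.pResidual 2 G = im S (Y0 D) := by
  apply le_antisymm
  · apply S_inf_pResidual_le S D
    · intro a ha s hs
      exact comm_mem_Y0 S D ha hs
    · intro x hx a ha
      obtain ⟨s, hs, h⟩ := local_AG_two S D h₁ x hx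
      rw [h a ha]
      exact comm_mem_Y0 S D (im_le S _ ha) hs
    · intro r x hx a ha
      obtain ⟨Q'', w', ⟨e'⟩, hq', rfl, -⟩ := relIndex_VG_six_of hq h₂ r
      exact comm_VG_mem_Y0 hq' e' x hx a ha
  · exact le_inf (im_le S _) (Y0G_le_pResidual hq h₂)

/-- every element of `Z(S)` is isolated -/
theorem ZG_isolated [Finite G] (hq : QDat D Q' w)
    (h₁ : (Subgroup.centralizer ((AG S D : Subgroup G) : Set G)).relIndex
      (Subgroup.normalizer ((AG S D : Subgroup G) : Set G)) = 2)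
    {a : G} (ha : a ∈ ZG S) {g : G} (hg : g⁻¹ * a * g ∈ (S : Subgroup G)) :
    g⁻¹ * a * g = a := by
  have haS : a ∈ (S : Subgroup G) := im_le S _ ha
  have hF := fus_wreathed S D {a} (Set.singleton_subset_iff.mpr haS) g (by
    rw [rcs_singleton]; exact Set.singleton_subset_iff.mpr hg)
  have hcentral : ∀ b ∈ ZG S, ∀ s ∈ (S : Subgroup G), s⁻¹ * b * s = b := by
    intro b hb s hs
    have := Subgroup.mem_centralizer_iff.mp
      (ZG_le_centralizer_of_le (le_refl (S : Subgroup G)) hb) s hs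
    calc s⁻¹ * b * s = s⁻¹ * (b * s) := by group
      _ = s⁻¹ * (s * b) := by rw [this]
      _ = b := by group
  refine Fus.elem (R := fun a b => a ∈ ZG S → b = a) ?_ ?_ ?_ hF ha
  · intro a _; rfl
  · intro a b c h1 h2 ha
    have hb := h1 ha
    rw [h2 (hb ▸ ha), hb]
  · rintro T (rfl | rfl | ⟨r, rfl⟩) x hx a ha haZ
    · obtain ⟨s, hs, h⟩ := local_S S D x hx
      rw [h a ha]; exact hcentral a haZ s hs
    · obtain ⟨s, hs, h⟩ := local_AG_two S D h₁ x hx
      rw [h a ha]; exact hcentral a haZ s hs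
    · obtain ⟨Q'', w', ⟨e'⟩, hq', rfl⟩ := exists_qDat_r (S := S) (D := D) r
      have hxZ := normalizer_VG_le_centralizer_ZG hq' e' hx
      have := Subgroup.mem_centralizer_iff.mp hxZ a haZ
      calc x⁻¹ * a * x = x⁻¹ * (a * x) := by group
        _ = x⁻¹ * (x * a) := by rw [this]
        _ = a := by group

theorem index_Y0 (D : Data ↥(S : Subgroup G)) : (Y0 D).index = 2 ^ D.n := by
  have h1 := Subgroup.card_mul_index (Y0 D)
  rw [card_Y0, D.card] at h1
  have h2 : 2 ^ (2 * D.n + 1) = 2 ^ (D.n + 1) * 2 ^ D.n := by rw [← pow_add]; congr 1; omega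
  rw [h2] at h1
  exact Nat.eq_of_mul_eq_mul_left (by positivity) h1

theorem case_two_six [Finite G] (hq : QDat D Q' w) (e : Q' ≃* QuaternionGroup 2)
    (h₁ : (Subgroup.centralizer ((AG S D : Subgroup G) : Set G)).relIndex
      (Subgroup.normalizer ((AG S D : Subgroup G) : Set G)) = 2)
    (h₂ : (VG S D (q D - w.2) ⊔
      Subgroup.centralizer ((VG S D (q D - w.2) : Subgroup G) : Set G)).relIndex
      (Subgroup.normalizer ((VG S D (q D - w.2) : Subgroup G) : Set G)) = 6) :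
    (∃ K : Subgroup G, K.Normal ∧ K.index = 2 ^ D.n ∧
      (∀ P : Sylow 2 ↥K, ∃ m : ℕ, 1 ≤ m ∧
        Nonempty ((P : Subgroup ↥K) ≃* QuaternionGroup (2 ^ m))) ∧
      (∀ H : Subgroup ↥K, H.index ≠ 2)) ∧
    (∀ Z₀ : Subgroup G, Z₀ ≤ ZG S → Cfsg.IsWeaklyClosed Z₀ (S : Subgroup G)) ∧
    Nat.card {C : ConjClasses G // ∃ t : G, orderOf t = 2 ∧ ConjClasses.mk t = C} = 2 := by
  have hfin := D.finite
  have hN : (Cfsg.pResidual 2 G).Normal := pResidual_normal' 2
  have hK := S_inf_pResidual_two_six hq h₁ h₂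
  refine ⟨⟨Cfsg.pResidual 2 G, hN, ?_, ?_, no_index_two_pResidual⟩, ?_, ?_⟩
  · rw [index_pResidual S, hK]
    have := relIndex_im S (Y0 D) ⊤
    rw [im_top, Subgroup.relIndex_top_right, index_Y0] at this
    exact this
  · intro P
    obtain ⟨e1⟩ := sylow_pResidual_iso S P
    obtain ⟨e4⟩ := Y0_iso D
    have e2 : ↥((S : Subgroup G) ⊓ Cfsg.pResidual 2 G) ≃* ↥(im S (Y0 D)) :=
      MulEquiv.subgroupCongr hK
    have e3 : ↥(im S (Y0 D)) ≃* ↥(Y0 D) :=
      (Subgroup.equivMapOfInjective (Y0 D) _ (Subgroup.subtype_injective _)).symm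
    have := D.hn
    exact ⟨D.n - 1, by omega, ⟨e1.trans (e2.trans (e3.trans e4))⟩⟩
  · intro Z₀ hZ₀
    refine ⟨hZ₀.trans (im_le S _), ?_⟩
    intro g hg
    have key : ∀ a ∈ Z₀, g * a * g⁻¹ = a := by
      intro a ha
      have h1 : g * a * g⁻¹ ∈ (S : Subgroup G) := hg ⟨a, ha, rfl⟩
      have := ZG_isolated hq h₁ (hZ₀ ha) (g := g⁻¹) (by rw [inv_inv]; exact h1)
      rwa [inv_inv] at this
    ext x
    constructor
    · rintro ⟨a, ha, rfl⟩
      show g * a * g⁻¹ ∈ Z₀
      rw [key a ha]; exact ha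
    · intro hx
      exact ⟨x, hx, key x hx⟩
  · apply card_classes_eq_two 2 (cG S D) (aG S D) (orderOf_cG S D) (orderOf_aG S D)
    · intro h
      obtain ⟨g, hg⟩ := isConj_iff.mp h
      have := ZG_isolated hq h₁ (cG_mem_ZG (S := S) (D := D)) (g := g⁻¹) (by
        rw [inv_inv, hg]; exact aG_mem_S)
      rw [inv_inv, hg] at this
      exact aa_ne_cc D (Subtype.ext this)
    · intro t ht
      rcases invol_isConj S D t ht with h | h | h
      · left; exact h
      · right; exact h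
      · right; exact h.trans (isConj_aG_zG hq e h₂).symm

end twosix

end Cfsg.Agent.Lib.Helper23.WrFus
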