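import Mathlib
import Cfsg.Agent.Lib.Helper23.QDFusion
import Cfsg.Agent.Lib.Helper23.WreathedFusion3
import Cfsg.Agent.S1946

set_option autoImplicit false

/-!
# Centralizers of involutions in groups with quasi-dihedral or wreathed Sylow 2-subgroups

(helper23) The structure of `C_G(x)` for an involution `x` when `G` has no subgroup of index 2,
after Alperin–Brauer–Gorenstein.
-/

namespace Cfsg.Agent.Lib.Helper23.CentFus

open Cfsg.Agent.Lib.Helper23.FusionTools Cfsg.Agent.Lib.Helper29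

/-! ### Generic lemmas -/

section generic

variable {G : Type*} [Group G]

theorem exists_index_two_of_normal_two_pow [Finite G] (K : Subgroup G) [K.Normal] (a : ℕ)
    (ha : 1 ≤ a) (hK : K.index = 2 ^ a) : ∃ H : Subgroup G, H.index = 2 := by
  have : Fact (Nat.Prime 2) := ⟨Nat.prime_two⟩
  have hcard : Nat.card (G ⧸ K) = 2 ^ a := by rw [← Subgroup.index_eq_card]; exact hK
  obtain ⟨K', hK'⟩ := Sylow.exists_subgroup_card_pow_prime (G := G ⧸ K) 2 (n := a - 1)
    (by rw [hcard]; exact pow_dvd_pow 2 (by omega))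
  have hidx : K'.index = 2 := by
    have h1 := Subgroup.card_mul_index K'
    rw [hK', hcard] at h1
    have : 2 ^ a = 2 ^ (a - 1) * 2 := by rw [← pow_succ]; congr 1; omega
    rw [this] at h1
    exact Nat.eq_of_mul_eq_mul_left (by positivity) h1
  refine ⟨K'.comap (QuotientGroup.mk' K), ?_⟩
  rw [Subgroup.index_comap_of_surjective _ (QuotientGroup.mk'_surjective K)]
  exact hidx

theorem exists_index_two_of_normalPComplement [Finite G] (S : Sylow 2 G) (k : ℕ) (hk : 1 ≤ k)
    (hS : Nat.card S = 2 ^ k) (h : Cfsg.HasNormalPComplement 2 G) :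
    ∃ H : Subgroup G, H.index = 2 := by
  obtain ⟨P, N, hN, hc⟩ := h
  have h1 : N.index = Nat.card (P : Subgroup G) := hc.symm.index_eq_card
  have h2 : Nat.card (P : Subgroup G) = Nat.card (S : Subgroup G) :=
    Nat.card_congr (Sylow.equiv P S).toEquiv
  exact exists_index_two_of_normal_two_pow N k hk (by rw [h1, h2]; exact hS)

/-- In `O^2(H)`-terms: `H / O^2(H)` is a 2-group. -/
theorem exists_index_pResidual [Finite G] : ∃ a : ℕ, (Cfsg.pResidual 2 G).index = 2 ^ a := by
  have : Fact (Nat.Prime 2) := ⟨Nat.prime_two⟩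
  have hN : (Cfsg.pResidual 2 G).Normal := pResidual_normal' 2
  have hq : IsPGroup 2 (G ⧸ Cfsg.pResidual 2 G) := by
    intro x
    induction x using QuotientGroup.induction_on with
    | H g =>
      obtain ⟨k, hk⟩ := exists_pow_mem_pResidual 2 g
      refine ⟨k, ?_⟩
      rw [← QuotientGroup.mk_pow, QuotientGroup.eq_one_iff]
      exact hk
  obtain ⟨a, ha⟩ := IsPGroup.iff_card.1 hq
  exact ⟨a, by rw [Subgroup.index_eq_card, ha]⟩

/-- the conclusion of the centralizer structure theorem, for a group `H` with Sylow 2-subgroup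
`R` -/
def Concl (H : Type*) [Group H] (R : Sylow 2 H) : Prop :=
  (∃ K : Subgroup H, K.Normal ∧ (∃ a : ℕ, K.index = 2 ^ a) ∧ (∀ M : Subgroup ↥K, M.index ≠ 2) ∧
    (∀ P : Sylow 2 ↥K, ∃ m : ℕ, 1 ≤ m ∧
      Nonempty ((P : Subgroup ↥K) ≃* QuaternionGroup (2 ^ m)))) ∧
  (∀ Z₀ : Subgroup H,
    Z₀ ≤ ((Subgroup.center (R : Subgroup H)).map (R : Subgroup H).subtype) →
      Cfsg.IsWeaklyClosed Z₀ (R : Subgroup H))

/-- a subgroup of central elements is weakly closed -/
theorem isWeaklyClosed_of_central {Z₀ P : Subgroup G} (hZP : Z₀ ≤ P)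
    (hc : ∀ a ∈ Z₀, ∀ g : G, g * a * g⁻¹ = a) : Cfsg.IsWeaklyClosed Z₀ P := by
  refine ⟨hZP, ?_⟩
  intro g _
  ext x
  constructor
  · rintro ⟨a, ha, rfl⟩
    show g * a * g⁻¹ ∈ Z₀
    rw [hc a ha]; exact ha
  · intro hx
    exact ⟨x, hx, hc x hx g⟩

end generic

/-! ### Quasi-dihedral case -/

section qd

open Cfsg.Agent.Lib.Helper12.QD Cfsg.Agent.Lib.Helper23.QDFusion
  Cfsg.Agent.Lib.Helper23.ThreePoint

variable {G : Type*} [Group G] [Finite G] (S : Sylow 2 G) (D : Data ↥(S : Subgroup G))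

theorem qd_fuse_z (hG : ∀ H : Subgroup G, H.index ≠ 2) : ∃ g : G, g * zG D * g⁻¹ = yG D := by
  rcases Cfsg.Agent.S0111.result S (quatG D) (quatG_le D) (relIndex_quatG D) (yG D)
    (orderOf_yG D) (yG_mem D) (yG_notMem_quatG D) with ⟨M, -, hM, -⟩ | ⟨g, hg⟩
  · exact absurd hM (hG M)
  · have ho : orderOf (g * yG D * g⁻¹) = 2 :=
      (MulEquiv.orderOf_eq (MulAut.conj g) (yG D)).trans (orderOf_yG D)
    have hz := invol_quatG D _ ho hg
    refine ⟨g⁻¹, ?_⟩
    rw [← hz]; group

theorem qd_fuse_v (hG : ∀ H : Subgroup G, H.index ≠ 2) :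
    ∃ (g : G) (i : ZMod (2 ^ D.n)), D.par i = 1 ∧ g * vG D * g⁻¹ = pxyG D i := by
  by_contra hcon
  push_neg at hcon
  have hu4 : uG D ^ 4 = 1 := by
    have := pow_orderOf_eq_one (uG D)
    rwa [orderOf_uG D] at this
  obtain ⟨K, -, hK, -⟩ := exists_index_two_of_order_four S (dihG D) (relIndex_dihG D) (uG D) hu4
    (by
      intro g hgS hgM
      have ho : orderOf (g⁻¹ * uG D * g) = 4 := by
        have := (MulEquiv.orderOf_eq (MulAut.conj g⁻¹) (uG D)).trans (orderOf_uG D)
        simpa using this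
      rcases order4_cases_G D _ hgS ho with (h | h) | ⟨i, hi, h⟩
      · apply hcon g 1 (by rw [map_one])
        rw [← h, ← uG_eq]
        group
      · apply hcon (g * pxyG D 0) 1 (by rw [map_one])
        have h' : vG D = (g⁻¹ * uG D * g)⁻¹ := by rw [h, inv_inv]
        have e1 : g * pxyG D 0 * vG D * (g * pxyG D 0)⁻¹ =
            g * (pxyG D 0 * vG D * (pxyG D 0)⁻¹) * g⁻¹ := by group
        rw [e1, pxyG_conj_vG, ← h, ← uG_eq]
        group
      · rw [h, pxyG_mem_dihG, hi] at hgM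
        exact one_ne_zero hgM)
    (by
      intro g hgS
      apply invol_mem_dihG D _ hgS
      have hsq : uG D ^ 2 = zG D := by rw [uG_eq]; exact pxyG_odd_sq D (by rw [map_one])
      rw [hsq]
      have := (MulEquiv.orderOf_eq (MulAut.conj g⁻¹) (zG D)).trans (orderOf_zG D)
      simpa using this)
  exact hG K hK

theorem qd_isConj_vG_uG (hG : ∀ H : Subgroup G, H.index ≠ 2) : IsConj (vG D) (uG D) := by
  obtain ⟨g, i, hi, hg⟩ := qd_fuse_v S D hG
  obtain ⟨s, _, hs⟩ := pxyG_conj D (i := i) (j := 1) (by rw [hi, map_one])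
  rw [isConj_iff]
  refine ⟨s * g, ?_⟩
  rw [uG_eq, ← hs, ← hg]
  group

theorem qd_order4_conj (S : Sylow 2 G) (D : Data ↥(S : Subgroup G))
    (hG : ∀ H : Subgroup G, H.index ≠ 2) (t t' : G) (ht : orderOf t = 4)
    (ht' : orderOf t' = 4) : IsConj t t' := by
  have key : ∀ t : G, orderOf t = 4 → IsConj t (vG D) := by
    intro t ht
    rcases order4_conj S D t ht with h | h
    · exact h
    · exact h.trans (qd_isConj_vG_uG S D hG).symm
  exact (key t ht).trans (key t' ht').symm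

theorem qd_invol_conj (hG : ∀ H : Subgroup G, H.index ≠ 2) (t : G) (ht : orderOf t = 2) :
    IsConj t (zG D) := by
  rcases invol_conj S D t ht with h | h
  · exact h
  · obtain ⟨g, hg⟩ := qd_fuse_z S D hG
    exact h.trans (isConj_iff.mpr ⟨g, hg⟩).symm

omit [Finite G] in
/-- the quaternion maximal subgroup lies in a subgroup containing the `x^i y`, `i` odd -/
theorem quatG_le_of_pxy (L : Subgroup G) (hodd : ∀ i, D.par i = 1 → pxyG D i ∈ L) :
    quatG D ≤ L := by
  intro g hg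
  obtain ⟨t, ht, rfl⟩ := Subgroup.mem_map.mp hg
  obtain ⟨i, rfl | rfl⟩ := D.normal_form t
  · have hi : D.par i = 0 := (D.px_mem_quat i).mp ht
    have e : (D.px i : ↥(S : Subgroup G)) = (D.px (i + 1) * D.y) * (D.px 1 * D.y)⁻¹ := by
      rw [D.px_add]
      group
    have h1 := hodd (i + 1) (by rw [map_add, hi, map_one, zero_add])
    have h2 := hodd 1 (by rw [map_one])
    have e' : ((Subgroup.subtype (S : Subgroup G)) (D.px i)) = pxyG D (i + 1) * (pxyG D 1)⁻¹ := by
      rw [e]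
      simp [pxyG]
    rw [e']
    exact L.mul_mem h1 (L.inv_mem h2)
  · exact hodd i ((D.pxy_mem_quat i).mp ht)

/-- `S ∩ O^2(G)` when the central involution of `S` is central in `G` and the elements of
order four are fused. -/
theorem qd_residual (hzc : ∀ g : G, g * zG D = zG D * g)
    (hfuse : ∃ g : G, g * vG D * g⁻¹ = uG D) :
    (S : Subgroup G) ⊓ Cfsg.pResidual 2 G = quatG D := by
  have hN : (Cfsg.pResidual 2 G).Normal := pResidual_normal' 2
  obtain ⟨g, hg⟩ := hfuse
  apply le_antisymm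
  · -- Thompson transfer
    rcases Cfsg.Agent.S0111.result S (quatG D) (quatG_le D) (relIndex_quatG D) (yG D)
      (orderOf_yG D) (yG_mem D) (yG_notMem_quatG D) with ⟨M, hMn, hM, hyM⟩ | ⟨c, hc⟩
    · have hKM : Cfsg.pResidual 2 G ≤ M := WrFus.pResidual_le_of_index_two hM
      have hMS : M.subgroupOf (S : Subgroup G) = D.quat := by
        rcases subgroupOf_cases_of_yG_notMem S D M hM hyM with h | h
        · exfalso
          have hv : vG D ∈ M := by
            have : D.px D.q ∈ M.subgroupOf (S : Subgroup G) := by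
              rw [h, D.mem_zpowers_iff]; exact ⟨_, rfl⟩
            rwa [Subgroup.mem_subgroupOf] at this
          have hu : uG D ∈ M := by
            rw [← hg]; exact hMn.conj_mem _ hv g
          have : D.px 1 * D.y ∈ M.subgroupOf (S : Subgroup G) := by
            rw [Subgroup.mem_subgroupOf]; exact hu
          rw [h] at this
          exact pxy_notMem_zpowers D 1 this
        · exact h
      intro t ht
      have htS := ht.1
      have : (⟨t, htS⟩ : ↥(S : Subgroup G)) ∈ M.subgroupOf (S : Subgroup G) := by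
        rw [Subgroup.mem_subgroupOf]; exact hKM ht.2
      rw [hMS] at this
      rw [quatG, mem_map_subtype_iff _ _ htS]
      exact this
    · exfalso
      have ho : orderOf (c * yG D * c⁻¹) = 2 :=
        (MulEquiv.orderOf_eq (MulAut.conj c) (yG D)).trans (orderOf_yG D)
      have hz := invol_quatG D _ ho hc
      apply yG_ne_zG D
      have e1 : yG D = c⁻¹ * (c * yG D * c⁻¹) * c := by group
      rw [e1, hz, mul_assoc, ← hzc c]
      group
  · refine le_inf (quatG_le D) ?_
    obtain ⟨k, hk, s, hs, rfl⟩ := exists_mul_pResidual_sylow 2 S g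
    obtain ⟨v', hv'def⟩ : ∃ v' : G, v' = s * vG D * s⁻¹ := ⟨_, rfl⟩
    have hv' : v' = vG D ∨ v' = (vG D)⁻¹ := by rw [hv'def]; exact vG_conj D s hs
    have hu : uG D = k * v' * k⁻¹ := by rw [← hg, hv'def]; group
    have hw : uG D * v'⁻¹ ∈ Cfsg.pResidual 2 G := by
      have e1 : uG D * v'⁻¹ = k * (v' * k⁻¹ * v'⁻¹) := by rw [hu]; group
      rw [e1]
      exact mul_mem hk (hN.conj_mem _ (inv_mem hk) v')
    have hj : ∃ j₀, D.par j₀ = 1 ∧ uG D * v'⁻¹ = pxyG D j₀ := by
      rcases hv' with h | h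
      · refine ⟨1 + D.r * (-D.q), ?_, ?_⟩
        · rw [map_add, map_mul, map_neg, D.par_q, map_one]; simp
        · rw [h]
          have e : (D.px 1 * D.y) * (D.px D.q)⁻¹ = D.px (1 + D.r * (-D.q)) * D.y := by
            rw [← D.px_neg, D.mul_rule2]
          have := congrArg (fun a : ↥(S : Subgroup G) => (a : G)) e
          simpa [uG, vG, pxyG] using this
      · refine ⟨1 + D.r * D.q, ?_, ?_⟩
        · rw [map_add, map_mul, D.par_q, map_one]; simp
        · rw [h, inv_inv]
          have e : (D.px 1 * D.y) * (D.px D.q) = D.px (1 + D.r * D.q) * D.y := by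
            rw [D.mul_rule2]
          have := congrArg (fun a : ↥(S : Subgroup G) => (a : G)) e
          simpa [uG, vG, pxyG] using this
    obtain ⟨j₀, hj₀, hwj⟩ := hj
    rw [hwj] at hw
    apply quatG_le_of_pxy S D
    intro i hi
    obtain ⟨s', _, hs'⟩ := pxyG_conj D (i := j₀) (j := i) (by rw [hj₀, hi])
    rw [← hs']
    exact hN.conj_mem _ hw s'

theorem qd_concl (hzc : ∀ g : G, g * zG D = zG D * g)
    (hfuse : ∃ g : G, g * vG D * g⁻¹ = uG D) : Concl G S := by
  have : Fact (Nat.Prime 2) := ⟨Nat.prime_two⟩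
  have hN : (Cfsg.pResidual 2 G).Normal := pResidual_normal' 2
  have hK := qd_residual S D hzc hfuse
  refine ⟨⟨Cfsg.pResidual 2 G, hN, exists_index_pResidual, WrFus.no_index_two_pResidual, ?_⟩, ?_⟩
  · intro P
    obtain ⟨e1⟩ := WrFus.sylow_pResidual_iso S P
    obtain ⟨e4⟩ := D.quat_iso
    have e2 : ↥((S : Subgroup G) ⊓ Cfsg.pResidual 2 G) ≃* ↥(quatG D) := MulEquiv.subgroupCongr hK
    have e3 : ↥(quatG D) ≃* ↥D.quat :=
      (Subgroup.equivMapOfInjective D.quat _ (Subgroup.subtype_injective _)).symm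
    have := D.hn
    exact ⟨D.n - 2, by omega, ⟨e1.trans (e2.trans (e3.trans e4))⟩⟩
  · intro Z₀ hZ₀
    apply isWeaklyClosed_of_central (hZ₀.trans (Subgroup.map_subtype_le _))
    intro a ha g
    rcases (mem_centerG_iff D a).mp (hZ₀ ha) with h | h
    · rw [h]; group
    · rw [h, hzc g]; group

end qd

/-! ### Wreathed case -/

section wr

open Cfsg.Agent.Lib.Helper12.Wr Cfsg.Agent.Lib.Helper23.WrAut Cfsg.Agent.Lib.Helper23.WrFus

variable {G : Type*} [Group G] [Finite G] (S : Sylow 2 G) (D : Data ↥(S : Subgroup G))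

variable {S D} in
theorem wr_six_six {Q' : Subgroup ↥(S : Subgroup G)} {w : D.E} (hq : QDat D Q' w)
    (e : Q' ≃* QuaternionGroup 2) (hG : ∀ H : Subgroup G, H.index ≠ 2) :
    (Subgroup.centralizer ((AG S D : Subgroup G) : Set G)).relIndex
      (Subgroup.normalizer ((AG S D : Subgroup G) : Set G)) = 6 ∧
    (VG S D (q D - w.2) ⊔
      Subgroup.centralizer ((VG S D (q D - w.2) : Subgroup G) : Set G)).relIndex
      (Subgroup.normalizer ((VG S D (q D - w.2) : Subgroup G) : Set G)) = 6 := by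
  have hn := D.hn
  rcases index_AG S D with h₁ | h₁ <;> rcases index_VG hq e with h₂ | h₂
  · exfalso
    have hctl := controlled_two_two hq h₁ h₂
    have hnpc : Cfsg.HasNormalPComplement 2 G := by
      rw [Cfsg.Agent.S1946.result S]
      intro a ha _ g hg
      exact conj_eq_of_controlled hctl ha hg
    obtain ⟨H, hH⟩ := exists_index_two_of_normalPComplement S (2 * D.n + 1) (by omega) D.card hnpc
    exact hG H hH
  · exfalso
    obtain ⟨⟨K, hKn, hK, -, -⟩, -, -⟩ := case_two_six hq e h₁ h₂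
    obtain ⟨H, hH⟩ := exists_index_two_of_normal_two_pow K D.n (by omega) hK
    exact hG H hH
  · exfalso
    obtain ⟨⟨K, -, hK, -, -⟩, -⟩ := case_six_two hq h₁ h₂
    exact hG K hK
  · exact ⟨h₁, h₂⟩

theorem wr_concl (hcc : ∀ g : G, g * cG S D = cG S D * g)
    (hfuse : ∃ g : G, ∃ a ∈ AG S D, g * a * g⁻¹ ∈ (S : Subgroup G) ∧ g * a * g⁻¹ ∉ AG S D) :
    Concl G S := by
  obtain ⟨Q', ⟨e⟩, hq⟩ := exists_qDat_wr D 0
  have h₁ : (Subgroup.centralizer ((AG S D : Subgroup G) : Set G)).relIndex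
      (Subgroup.normalizer ((AG S D : Subgroup G) : Set G)) = 2 := by
    rcases index_AG S D with h | h
    · exact h
    · exfalso
      obtain ⟨g, hg⟩ := isConj_iff.mp (isConj_aG_cG S D h)
      have : aG S D = cG S D := by
        rw [← hg, hcc g]; group
      exact aa_ne_cc D (Subtype.ext this)
  have h₂ : (VG S D (q D - (wr D 0).2) ⊔
      Subgroup.centralizer ((VG S D (q D - (wr D 0).2) : Subgroup G) : Set G)).relIndex
      (Subgroup.normalizer ((VG S D (q D - (wr D 0).2) : Subgroup G) : Set G)) = 6 := by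
    rcases index_VG hq e with h | h
    · exfalso
      have hctl := controlled_two_two hq h₁ h
      obtain ⟨g, a, ha, hgS, hgA⟩ := hfuse
      obtain ⟨s, hs, hsa⟩ := conj_eq_of_controlled hctl (im_le S _ ha) hgS
      apply hgA
      rw [hsa]
      exact conj_mem_AG_of_mem_S hs ha
    · exact h
  obtain ⟨⟨K, hKn, hK, hP, hM⟩, hZ, -⟩ := case_two_six hq e h₁ h₂
  exact ⟨⟨K, hKn, ⟨D.n, hK⟩, hM, hP⟩, hZ⟩

end wr

/-! ### The centralizer of a central involution of `S` -/

section central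

variable {G : Type*} [Group G]

theorem isQuasiDihedral_congr {A B : Type*} [Group A] [Group B] (e : A ≃* B)
    (h : Cfsg.IsQuasiDihedral A) : Cfsg.IsQuasiDihedral B := by
  obtain ⟨n, hn, hcard, x, y, hx, hy, hrel⟩ := h
  refine ⟨n, hn, by rw [← Nat.card_congr e.toEquiv]; exact hcard, e x, e y, ?_, ?_, ?_⟩
  · rw [MulEquiv.orderOf_eq]; exact hx
  · rw [MulEquiv.orderOf_eq]; exact hy
  · rw [← map_inv, ← map_mul, ← map_mul, hrel, map_pow]

theorem isWreathed_congr {A B : Type*} [Group A] [Group B] (e : A ≃* B)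
    (h : Cfsg.IsWreathed A) : Cfsg.IsWreathed B := by
  obtain ⟨n, hn, hcard, x, y, z, hx, hxy, hinf, hz, hrel⟩ := h
  refine ⟨n, hn, by rw [← Nat.card_congr e.toEquiv]; exact hcard, e x, e y, e z, ?_, ?_, ?_, ?_, ?_⟩
  · rw [MulEquiv.orderOf_eq]; exact hx
  · rw [← map_mul, ← map_mul, hxy]
  · have h1 : Subgroup.zpowers (e x) = (Subgroup.zpowers x).map e.toMonoidHom :=
      (MonoidHom.map_zpowers e.toMonoidHom x).symm
    have h2 : Subgroup.zpowers (e y) = (Subgroup.zpowers y).map e.toMonoidHom :=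
      (MonoidHom.map_zpowers e.toMonoidHom y).symm
    rw [h1, h2, ← Subgroup.map_inf _ _ _ e.injective, hinf, Subgroup.map_bot]
  · rw [MulEquiv.orderOf_eq]; exact hz
  · rw [← map_inv, ← map_mul, ← map_mul, hrel]

variable (S : Sylow 2 G) (x : G)

theorem le_centralizer_of_central (hxc : ∀ s ∈ (S : Subgroup G), s * x = x * s) :
    (S : Subgroup G) ≤ Subgroup.centralizer ({x} : Set G) := by
  intro s hs
  rw [Subgroup.mem_centralizer_iff]
  intro h hh
  rw [Set.mem_singleton_iff] at hh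
  rw [hh]; exact (hxc s hs).symm

theorem mem_centralizer_singleton_iff {g : G} :
    g ∈ Subgroup.centralizer ({x} : Set G) ↔ x * g = g * x := by
  rw [Subgroup.mem_centralizer_iff]
  constructor
  · intro h; exact h x rfl
  · intro h y hy
    rw [Set.mem_singleton_iff] at hy
    rw [hy]; exact h

end central

section mainqd

open Cfsg.Agent.Lib.Helper12.QD Cfsg.Agent.Lib.Helper23.QDFusion

variable {G : Type*} [Group G] [Finite G]

theorem main_central_qd (S : Sylow 2 G) (hS : Cfsg.IsQuasiDihedral ↥(S : Subgroup G))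
    (hG : ∀ H : Subgroup G, H.index ≠ 2) (x : G) (hx : orderOf x = 2)
    (hxS : x ∈ (S : Subgroup G)) (hxc : ∀ s ∈ (S : Subgroup G), s * x = x * s)
    (C : Subgroup G) (hC : C = Subgroup.centralizer ({x} : Set G)) :
    ∃ R : Sylow 2 ↥C, Nat.card R = Nat.card S ∧ Concl ↥C R := by
  have hSC : (S : Subgroup G) ≤ C := by rw [hC]; exact le_centralizer_of_central S x hxc
  have hmemC : ∀ g : G, g ∈ C ↔ x * g = g * x := by
    intro g; rw [hC]; exact mem_centralizer_singleton_iff x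
  obtain ⟨R, hRdef⟩ : ∃ R : Sylow 2 ↥C, R = S.subtype hSC := ⟨_, rfl⟩
  have hR : (R : Subgroup ↥C) = (S : Subgroup G).subgroupOf C := by rw [hRdef]; rfl
  have eRS : ↥(R : Subgroup ↥C) ≃* ↥(S : Subgroup G) :=
    (MulEquiv.subgroupCongr hR).trans (Subgroup.subgroupOfEquivOfLe hSC)
  have hcard : Nat.card R = Nat.card S := Nat.card_congr eRS.toEquiv
  refine ⟨R, hcard, ?_⟩
  have hRqd : Cfsg.IsQuasiDihedral ↥(R : Subgroup ↥C) := isQuasiDihedral_congr eRS.symm hS
  obtain ⟨DR⟩ := exists_data hRqd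
  obtain ⟨DS⟩ := exists_data hS
  have hxC : x ∈ C := (hmemC x).mpr rfl
  have hmemR : ∀ c : ↥C, c ∈ (R : Subgroup ↥C) ↔ (c : G) ∈ (S : Subgroup G) := by
    intro c; rw [hR, Subgroup.mem_subgroupOf]
  have hxR : (⟨x, hxC⟩ : ↥C) ∈ (R : Subgroup ↥C) := (hmemR _).mpr hxS
  have hz : zG DR = ⟨x, hxC⟩ := by
    have hcen : (⟨⟨x, hxC⟩, hxR⟩ : ↥(R : Subgroup ↥C)) ∈
        Subgroup.center ↥(R : Subgroup ↥C) := by
      rw [Subgroup.mem_center_iff]
      intro r
      apply Subtype.ext; apply Subtype.ext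
      exact hxc _ ((hmemR _).mp r.2)
    rcases (Cfsg.Agent.Lib.Helper23.QDFusion.mem_center_iff DR _).mp hcen with h | h
    · exfalso
      have : x = 1 := congrArg (fun a : ↥(R : Subgroup ↥C) => ((a : ↥C) : G)) h
      rw [this, orderOf_one] at hx; omega
    · have := congrArg (fun a : ↥(R : Subgroup ↥C) => (a : ↥C)) h
      exact this.symm
  have hzc : ∀ g : ↥C, g * zG DR = zG DR * g := by
    intro g
    rw [hz]
    apply Subtype.ext
    exact ((hmemC _).mp g.2).symm
  have hfuse : ∃ g : ↥C, g * vG DR * g⁻¹ = uG DR := by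
    have h1 : orderOf ((vG DR : ↥C) : G) = 4 := by
      rw [Subgroup.orderOf_coe]; exact orderOf_vG DR
    have h2 : orderOf ((uG DR : ↥C) : G) = 4 := by
      rw [Subgroup.orderOf_coe]; exact orderOf_uG DR
    obtain ⟨g, hg⟩ := isConj_iff.mp (qd_order4_conj S DS hG _ _ h1 h2)
    have hv2 : ((vG DR : ↥C) : G) ^ 2 = x := by
      have := vG_sq DR
      rw [hz] at this
      have h3 := congrArg (fun a : ↥C => (a : G)) this
      simpa using h3
    have hu2 : ((uG DR : ↥C) : G) ^ 2 = x := by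
      have := pxyG_odd_sq DR (i := 1) (by rw [map_one])
      rw [← uG_eq, hz] at this
      have h3 := congrArg (fun a : ↥C => (a : G)) this
      simpa using h3
    have hgx : g * x * g⁻¹ = x := by
      calc g * x * g⁻¹ = g * (((vG DR : ↥C) : G) ^ 2) * g⁻¹ := by rw [hv2]
        _ = (g * ((vG DR : ↥C) : G) * g⁻¹) ^ 2 := (conj_pow).symm
        _ = x := by rw [hg, hu2]
    have hgC : g ∈ C := by
      rw [hmemC]
      calc x * g = (g * x * g⁻¹) * g := by rw [hgx]
        _ = g * x := by group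
    refine ⟨⟨g, hgC⟩, ?_⟩
    apply Subtype.ext
    simpa using hg
  exact qd_concl R DR hzc hfuse

end mainqd

section mainwr

open Cfsg.Agent.Lib.Helper12.Wr Cfsg.Agent.Lib.Helper23.WrAut Cfsg.Agent.Lib.Helper23.WrFus

variable {G : Type*} [Group G] [Finite G]

/-- a central involution of a wreathed group is `c` -/
theorem eq_cc_of_central {S' : Type*} [Group S'] (D : Data S') (t : S')
    (ht : t ∈ Subgroup.center S') (ht1 : t ≠ 1) (ht2 : t * t = 1) : t = cc D := by
  obtain ⟨i, hi⟩ := (D.mem_center_iff t).mp ht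
  have h2 : D.pa (i, i) * D.pa (i, i) = 1 := by rw [← hi]; exact ht2
  rcases invol_center D i h2 with h | h
  · exact absurd (hi.trans h) ht1
  · exact hi.trans h

theorem main_central_wr (S : Sylow 2 G) (hS : Cfsg.IsWreathed ↥(S : Subgroup G))
    (hG : ∀ H : Subgroup G, H.index ≠ 2) (x : G) (hx : orderOf x = 2)
    (hxS : x ∈ (S : Subgroup G)) (hxc : ∀ s ∈ (S : Subgroup G), s * x = x * s)
    (C : Subgroup G) (hC : C = Subgroup.centralizer ({x} : Set G)) :
    ∃ R : Sylow 2 ↥C, Nat.card R = Nat.card S ∧ Concl ↥C R := by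
  have hSC : (S : Subgroup G) ≤ C := by rw [hC]; exact le_centralizer_of_central S x hxc
  have hmemC : ∀ g : G, g ∈ C ↔ x * g = g * x := by
    intro g; rw [hC]; exact mem_centralizer_singleton_iff x
  obtain ⟨R, hRdef⟩ : ∃ R : Sylow 2 ↥C, R = S.subtype hSC := ⟨_, rfl⟩
  have hR : (R : Subgroup ↥C) = (S : Subgroup G).subgroupOf C := by rw [hRdef]; rfl
  have eRS : ↥(R : Subgroup ↥C) ≃* ↥(S : Subgroup G) :=
    (MulEquiv.subgroupCongr hR).trans (Subgroup.subgroupOfEquivOfLe hSC)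
  have hcard : Nat.card R = Nat.card S := Nat.card_congr eRS.toEquiv
  refine ⟨R, hcard, ?_⟩
  have hRw : Cfsg.IsWreathed ↥(R : Subgroup ↥C) := isWreathed_congr eRS.symm hS
  obtain ⟨DR⟩ := exists_data hRw
  obtain ⟨DS⟩ := exists_data hS
  have hxC : x ∈ C := (hmemC x).mpr rfl
  have hmemR : ∀ c : ↥C, c ∈ (R : Subgroup ↥C) ↔ (c : G) ∈ (S : Subgroup G) := by
    intro c; rw [hR, Subgroup.mem_subgroupOf]
  have hxR : (⟨x, hxC⟩ : ↥C) ∈ (R : Subgroup ↥C) := (hmemR _).mpr hxS
  have hxx : x * x = 1 := by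
    have := pow_orderOf_eq_one x
    rwa [hx, pow_two] at this
  have hx1 : x ≠ 1 := by
    intro h; rw [h, orderOf_one] at hx; omega
  have hcR : cG R DR = ⟨x, hxC⟩ := by
    have hcen : (⟨⟨x, hxC⟩, hxR⟩ : ↥(R : Subgroup ↥C)) ∈
        Subgroup.center ↥(R : Subgroup ↥C) := by
      rw [Subgroup.mem_center_iff]
      intro r
      apply Subtype.ext; apply Subtype.ext
      exact hxc _ ((hmemR _).mp r.2)
    have := eq_cc_of_central DR _ hcen
      (fun h => hx1 (congrArg (fun a : ↥(R : Subgroup ↥C) => ((a : ↥C) : G)) h))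
      (by apply Subtype.ext; apply Subtype.ext; exact hxx)
    exact (congrArg (fun a : ↥(R : Subgroup ↥C) => (a : ↥C)) this).symm
  have hcS : cG S DS = x := by
    have hcen : (⟨x, hxS⟩ : ↥(S : Subgroup G)) ∈ Subgroup.center ↥(S : Subgroup G) := by
      rw [Subgroup.mem_center_iff]
      intro r
      apply Subtype.ext
      exact hxc _ r.2
    have := eq_cc_of_central DS _ hcen
      (fun h => hx1 (congrArg (fun a : ↥(S : Subgroup G) => (a : G)) h))
      (by apply Subtype.ext; exact hxx)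
    exact (congrArg (fun a : ↥(S : Subgroup G) => (a : G)) this).symm
  have hcc : ∀ g : ↥C, g * cG R DR = cG R DR * g := by
    intro g
    rw [hcR]
    apply Subtype.ext
    exact ((hmemC _).mp g.2).symm
  -- the global fusion
  obtain ⟨Q', ⟨e⟩, hq⟩ := exists_qDat_wr DS 0
  obtain ⟨h₁, h₂⟩ := wr_six_six hq e hG
  obtain ⟨d, hdN, hodd, hd⟩ := exists_conj_iG hq e h₂
  have hdZ := normalizer_VG_le_centralizer_ZG hq e hdN
  have hdC : d ∈ C := by
    rw [hmemC, ← hcS]
    exact Subgroup.mem_centralizer_iff.mp hdZ _ (cG_mem_ZG (S := S) (D := DS))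
  -- the abelian subgroup of index two
  have hn : DR.n = DS.n := by
    have h1 := DR.card
    have h2 := DS.card
    have h3 : Nat.card ↥(R : Subgroup ↥C) = Nat.card ↥(S : Subgroup G) := hcard
    rw [h1, h2] at h3
    have := Nat.pow_right_injective (le_refl 2) h3
    omega
  obtain ⟨U', hU'def⟩ : ∃ U' : Subgroup G, U' = (AG R DR).map C.subtype := ⟨_, rfl⟩
  have hU' : U' = AG S DS := by
    apply eq_AG S DS U'
    · rw [hU'def]
      rintro _ ⟨a, ha, rfl⟩
      exact (hmemR a).mp (im_le R _ ha)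
    · refine ⟨⟨fun a b => Subtype.ext ?_⟩⟩
      obtain ⟨a', ha', hae⟩ : (a : G) ∈ (AG R DR).map C.subtype := by rw [← hU'def]; exact a.2
      obtain ⟨b', hb', hbe⟩ : (b : G) ∈ (AG R DR).map C.subtype := by rw [← hU'def]; exact b.2
      have := AG_comm R DR a' ha' b' hb'
      have h3 := congrArg (fun c : ↥C => (c : G)) this
      simp only [Subgroup.coe_mul] at h3
      rw [Subgroup.coe_mul, Subgroup.coe_mul, ← hae, ← hbe]
      exact h3
    · rw [hU'def, Subgroup.card_map_of_injective (Subgroup.subtype_injective _), card_im,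
        DR.card_A, hn]
  have hi : iG S DS ∈ U' := by rw [hU']; exact iG_mem_AG
  rw [hU'def] at hi
  obtain ⟨a, ha, hai⟩ := hi
  have hai' : (a : G) = iG S DS := hai
  have hcoe : (((⟨d, hdC⟩ : ↥C) * a * (⟨d, hdC⟩ : ↥C)⁻¹ : ↥C) : G) = d * iG S DS * d⁻¹ := by
    simp [hai']
  refine wr_concl R DR hcc ⟨⟨d, hdC⟩, a, ha, ?_, ?_⟩
  · rw [hmemR, hcoe]
    rcases hd with h | h
    · rw [h]; exact jG_mem_S
    · rw [h]; exact inv_mem jG_mem_S
  · intro hmem
    have h3 : (((⟨d, hdC⟩ : ↥C) * a * (⟨d, hdC⟩ : ↥C)⁻¹ : ↥C) : G) ∈ U' := by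
      rw [hU'def]; exact ⟨_, hmem, rfl⟩
    rw [hU', hcoe] at h3
    rcases hd with h | h
    · rw [h] at h3; exact jG_notMem_AG h3
    · rw [h] at h3; exact jG_notMem_AG (by simpa using inv_mem h3)

end mainwr

section main

variable {G : Type*} [Group G] [Finite G]

open Cfsg.Agent.Lib.Helper23.WrAut Cfsg.Agent.Lib.Helper23.WrFus in
theorem exists_conj_central (S : Sylow 2 G)
    (hS : Cfsg.IsQuasiDihedral ↥(S : Subgroup G) ∨ Cfsg.IsWreathed ↥(S : Subgroup G))
    (hG : ∀ H : Subgroup G, H.index ≠ 2) (x : G) (hx : orderOf x = 2) :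
    ∃ c : G, c * x * c⁻¹ ∈ (S : Subgroup G) ∧
      ∀ s ∈ (S : Subgroup G), s * (c * x * c⁻¹) = (c * x * c⁻¹) * s := by
  rcases hS with hS | hS
  · obtain ⟨D⟩ := Cfsg.Agent.Lib.Helper12.QD.exists_data hS
    obtain ⟨c, hc⟩ := isConj_iff.mp (qd_invol_conj S D hG x hx)
    refine ⟨c, ?_, fun s hs => ?_⟩
    · rw [hc]; exact Cfsg.Agent.Lib.Helper23.QDFusion.zG_mem D
    · rw [hc]; exact Cfsg.Agent.Lib.Helper23.QDFusion.zG_comm D s hs
  · obtain ⟨D⟩ := Cfsg.Agent.Lib.Helper12.Wr.exists_data hS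
    obtain ⟨Q', ⟨e⟩, hq⟩ := exists_qDat_wr D 0
    obtain ⟨h₁, h₂⟩ := wr_six_six hq e hG
    have hconj : IsConj x (cG S D) := by
      rcases invol_isConj S D x hx with h | h | h
      · exact h
      · exact h.trans (isConj_aG_cG S D h₁).symm
      · exact (h.trans (isConj_aG_zG hq e h₂).symm).trans (isConj_aG_cG S D h₁).symm
    obtain ⟨c, hc⟩ := isConj_iff.mp hconj
    refine ⟨c, ?_, fun s hs => ?_⟩
    · rw [hc]; exact cG_mem_S
    · rw [hc]
      have := conj_cG_of_mem_S (S := S) (D := D) hs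
      calc s * cG S D = (s * cG S D * s⁻¹) * s := by group
        _ = cG S D * s := by rw [this]

theorem main (S : Sylow 2 G)
    (hS : Cfsg.IsQuasiDihedral ↥(S : Subgroup G) ∨ Cfsg.IsWreathed ↥(S : Subgroup G))
    (hG : ∀ H : Subgroup G, H.index ≠ 2) (x : G) (hx : orderOf x = 2) :
    ∃ R : Sylow 2 ↥(Subgroup.centralizer ({x} : Set G)), Nat.card R = Nat.card S ∧
      Concl ↥(Subgroup.centralizer ({x} : Set G)) R := by
  obtain ⟨c, hcS, hcc⟩ := exists_conj_central S hS hG x hx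
  obtain ⟨S', hS'def⟩ : ∃ S' : Sylow 2 G, S' = c⁻¹ • S := ⟨_, rfl⟩
  have hmem : ∀ g, g ∈ (S' : Subgroup G) ↔ c * g * c⁻¹ ∈ (S : Subgroup G) := by
    intro g
    rw [hS'def]
    have := mem_smul_sylow_iff S c⁻¹ g
    rw [inv_inv] at this
    exact this
  have hxS' : x ∈ (S' : Subgroup G) := (hmem x).mpr hcS
  have hxc' : ∀ s ∈ (S' : Subgroup G), s * x = x * s := by
    intro s hs
    have := hcc _ ((hmem s).mp hs)
    have e1 : s * x = c⁻¹ * ((c * s * c⁻¹) * (c * x * c⁻¹)) * c := by group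
    rw [e1, this]; group
  have eS : ↥(S : Subgroup G) ≃* ↥(S' : Subgroup G) := by
    rw [hS'def]; exact Sylow.equivSMul S c⁻¹
  have hcard : Nat.card S' = Nat.card S := (Nat.card_congr eS.toEquiv).symm
  rcases hS with h | h
  · obtain ⟨R, hR, hc⟩ := main_central_qd S' (isQuasiDihedral_congr eS h) hG x hx hxS' hxc' _ rfl
    exact ⟨R, hR.trans hcard, hc⟩
  · obtain ⟨R, hR, hc⟩ := main_central_wr S' (isWreathed_congr eS h) hG x hx hxS' hxc' _ rfl
    exact ⟨R, hR.trans hcard, hc⟩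

end main

end Cfsg.Agent.Lib.Helper23.CentFus
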