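import Mathlib.GroupTheory.SpecificGroups.Cyclic
import Mathlib.GroupTheory.PGroup
import Mathlib.NumberTheory.Basic
import Mathlib.Data.Int.GCD

/-!
# Automorphisms of cyclic `p`-groups (helper23)

* `aut_cyclic_pgroup_eq_one`: an automorphism of a finite cyclic `p`-group that fixes a nontrivial element and whose
  order is coprime to `p` is trivial.
-/

set_option autoImplicit false

namespace Cfsg.Agent.Lib.Helper23

/-- An automorphism `σ` of a finite cyclic `p`-group `P` that fixes a nontrivial element and satisfies `σ ^ r = 1`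
with `r` coprime to `p` is trivial. -/
theorem aut_cyclic_pgroup_eq_one {P : Type*} [Group P] [Finite P] [IsCyclic P] {p : ℕ} [hp : Fact p.Prime]
    (hP : IsPGroup p P) (σ : MulAut P) (x : P) (hx1 : x ≠ 1) (hfix : σ x = x) (r : ℕ) (hr : σ ^ r = 1)
    (hcop : r.Coprime p) : σ = 1 := by
  obtain ⟨a, ha⟩ := MonoidHom.map_cyclic σ.toMonoidHom
  have ha' : ∀ g : P, σ g = g ^ a := fun g => ha g
  obtain ⟨m, hm⟩ := hP.exists_card_eq
  -- m ≥ 1
  obtain ⟨k, rfl⟩ : ∃ k, m = k + 1 := by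
    rcases m with _ | k
    · exfalso
      rw [pow_zero] at hm
      have : Subsingleton P := (Nat.card_eq_one_iff_unique.mp hm).1
      exact hx1 (Subsingleton.elim x 1)
    · exact ⟨k, rfl⟩
  -- p ∣ a - 1
  have hpa : (p : ℤ) ∣ a - 1 := by
    have h1 : x ^ (a - 1) = 1 := by
      rw [zpow_sub, zpow_one, ← ha' x, hfix, mul_inv_cancel]
    have h2 : (orderOf x : ℤ) ∣ a - 1 := orderOf_dvd_iff_zpow_eq_one.mpr h1
    have h3 : orderOf x ∣ p ^ (k + 1) := by
      rw [← hm]; exact orderOf_dvd_natCard x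
    obtain ⟨e, he, heq⟩ := (Nat.dvd_prime_pow hp.out).mp h3
    have he1 : e ≠ 0 := by
      rintro rfl
      rw [pow_zero] at heq
      exact hx1 (orderOf_eq_one_iff.mp heq)
    have h4 : p ∣ orderOf x := by
      rw [heq]; exact dvd_pow_self p he1
    exact (Int.natCast_dvd_natCast.mpr h4).trans h2
  have hpk : ((p : ℤ) ^ (k + 1)) ∣ a ^ p ^ k - 1 := by
    have := dvd_sub_pow_of_dvd_sub (R := ℤ) (p := p) (a := a) (b := 1) hpa k
    simpa using this
  -- σ^n g = g^(a^n)
  have hpow : ∀ n : ℕ, ∀ g : P, (σ ^ n) g = g ^ (a ^ n) := by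
    intro n
    induction n with
    | zero => intro g; simp
    | succ n ih =>
      intro g
      rw [pow_succ, MulAut.mul_apply, ha' g, ih, ← zpow_mul, pow_succ, mul_comm]
  have hσpk : σ ^ (p ^ k) = 1 := by
    ext g
    rw [hpow, MulAut.one_apply]
    have h1 : g ^ (a ^ p ^ k - 1) = 1 := by
      apply orderOf_dvd_iff_zpow_eq_one.mp
      have h3 : orderOf g ∣ p ^ (k + 1) := by
        rw [← hm]; exact orderOf_dvd_natCard g
      have h3' : (orderOf g : ℤ) ∣ ((p ^ (k + 1) : ℕ) : ℤ) := Int.natCast_dvd_natCast.mpr h3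
      rw [Nat.cast_pow] at h3'
      exact h3'.trans hpk
    have h2 : g ^ (a ^ p ^ k) = g ^ (a ^ p ^ k - 1) * g := by
      rw [zpow_sub, zpow_one, inv_mul_cancel_right]
    rw [h2, h1, one_mul]
  have hg : σ ^ (Nat.gcd r (p ^ k)) = 1 := pow_gcd_eq_one.mpr ⟨hr, hσpk⟩
  have hgcd : Nat.gcd r (p ^ k) = 1 := Nat.Coprime.pow_right k hcop
  rwa [hgcd, pow_one] at hg

end Cfsg.Agent.Lib.Helper23
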