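import Mathlib
import Cfsg.Prelude.Def_DStar
import Cfsg.Agent.S0015

set_option autoImplicit false

namespace Cfsg.Agent.Lib.Helper23

open scoped commutatorElement

variable {G : Type*} [Group G]

/-- If the commutators of the generators of `K = closure X` lie in a subgroup `C` centralizing `K`,
then all commutators of elements of `K` lie in `C`. -/
theorem commutator_mem_of_generators (X : Set G) (C : Subgroup G)
    (hC : ∀ c ∈ C, ∀ k ∈ Subgroup.closure X, c * k = k * c)
    (hX : ∀ x ∈ X, ∀ y ∈ X, ⁅x, y⁆ ∈ C) :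
    ∀ g ∈ Subgroup.closure X, ∀ h ∈ Subgroup.closure X, ⁅g, h⁆ ∈ C := by
  intro g hg h hh
  refine Subgroup.closure_induction₂ (p := fun a b _ _ => ⁅a, b⁆ ∈ C)
    (fun x y hx hy => hX x hx y hy) ?_ ?_ ?_ ?_ ?_ ?_ hg hh
  · intro x _
    simp
  · intro x _
    simp
  · intro x y z hx _ _ h1 h2
    have e : ⁅x * y, z⁆ = (x * ⁅y, z⁆ * x⁻¹) * ⁅x, z⁆ := by
      simp only [commutatorElement_def]; group
    rw [e]
    have hc := hC _ h2 x hx
    have : x * ⁅y, z⁆ * x⁻¹ = ⁅y, z⁆ := by rw [← hc]; group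
    rw [this]
    exact C.mul_mem h2 h1
  · intro y z x hy _ _ h1 h2
    have e : ⁅x, y * z⁆ = ⁅x, y⁆ * (y * ⁅x, z⁆ * y⁻¹) := by
      simp only [commutatorElement_def]; group
    rw [e]
    have hc := hC _ h2 y hy
    have : y * ⁅x, z⁆ * y⁻¹ = ⁅x, z⁆ := by rw [← hc]; group
    rw [this]
    exact C.mul_mem h1 h2
  · intro x y hx _ h1
    have e : ⁅x⁻¹, y⁆ = x⁻¹ * ⁅x, y⁆⁻¹ * x := by
      simp only [commutatorElement_def]; group
    rw [e]
    have hc := hC _ (C.inv_mem h1) x hx
    have : x⁻¹ * ⁅x, y⁆⁻¹ * x = ⁅x, y⁆⁻¹ := by rw [mul_assoc, hc]; group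
    rw [this]
    exact C.inv_mem h1
  · intro x y _ hy h1
    have e : ⁅x, y⁻¹⁆ = y⁻¹ * ⁅x, y⁆⁻¹ * y := by
      simp only [commutatorElement_def]; group
    rw [e]
    have hc := hC _ (C.inv_mem h1) y hy
    have : y⁻¹ * ⁅x, y⁆⁻¹ * y = ⁅x, y⁆⁻¹ := by rw [mul_assoc, hc]; group
    rw [this]
    exact C.inv_mem h1

/-- `A ⊔ ⟨x⟩` has class at most two when the commutators `⁅a, x ^ k⁆` lie in a subgroup
centralizing `A` and `x`. -/
theorem class_two_of_sup_zpowers (A : Subgroup G) (hA : ∀ a ∈ A, ∀ b ∈ A, a * b = b * a) (x : G)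
    (C : Subgroup G) (hCA : ∀ c ∈ C, ∀ a ∈ A, c * a = a * c) (hCx : ∀ c ∈ C, c * x = x * c)
    (hcomm : ∀ a ∈ A, ∀ k : ℤ, ⁅a, x ^ k⁆ ∈ C) :
    ⁅⁅A ⊔ Subgroup.zpowers x, A ⊔ Subgroup.zpowers x⁆, A ⊔ Subgroup.zpowers x⁆ = ⊥ := by
  have hsup : A ⊔ Subgroup.zpowers x = Subgroup.closure ((A : Set G) ∪ (Subgroup.zpowers x : Set G)) :=
    Subgroup.sup_eq_closure _ _
  have hCK : ∀ c ∈ C, ∀ k ∈ Subgroup.closure ((A : Set G) ∪ (Subgroup.zpowers x : Set G)),
      c * k = k * c := by
    intro c hc k hk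
    have hle : Subgroup.closure ((A : Set G) ∪ (Subgroup.zpowers x : Set G)) ≤
        Subgroup.centralizer ({c} : Set G) := by
      rw [Subgroup.closure_le]
      rintro y (hy | hy)
      · rw [SetLike.mem_coe, Subgroup.mem_centralizer_iff]
        intro w hw
        rw [Set.mem_singleton_iff] at hw
        subst hw
        exact hCA w hc y hy
      · obtain ⟨j, rfl⟩ := hy
        rw [SetLike.mem_coe, Subgroup.mem_centralizer_iff]
        intro w hw
        rw [Set.mem_singleton_iff] at hw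
        subst hw
        have : Commute w x := hCx w hc
        exact (this.zpow_right j).eq
    have := hle hk
    rw [Subgroup.mem_centralizer_iff] at this
    exact this c rfl
  have hgen : ∀ u ∈ (A : Set G) ∪ (Subgroup.zpowers x : Set G),
      ∀ v ∈ (A : Set G) ∪ (Subgroup.zpowers x : Set G), ⁅u, v⁆ ∈ C := by
    rintro u (hu | hu) v (hv | hv)
    · rw [commutatorElement_eq_one_iff_mul_comm.2 (hA u hu v hv)]
      exact C.one_mem
    · obtain ⟨j, rfl⟩ := hv
      exact hcomm u hu j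
    · obtain ⟨j, rfl⟩ := hu
      rw [← commutatorElement_inv]
      exact C.inv_mem (hcomm v hv j)
    · obtain ⟨j, rfl⟩ := hu
      obtain ⟨i, rfl⟩ := hv
      have : Commute (x ^ j) (x ^ i) := (Commute.refl x).zpow_zpow j i
      rw [commutatorElement_eq_one_iff_mul_comm.2 this.eq]
      exact C.one_mem
  have key := commutator_mem_of_generators _ C hCK hgen
  rw [eq_bot_iff, Subgroup.commutator_le]
  intro w hw k hk
  rw [Subgroup.mem_bot, commutatorElement_eq_one_iff_mul_comm]
  have hwC : w ∈ C := by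
    have hle : ⁅A ⊔ Subgroup.zpowers x, A ⊔ Subgroup.zpowers x⁆ ≤ C := by
      rw [Subgroup.commutator_le]
      intro g hg h hh
      rw [hsup] at hg hh
      exact key g hg h hh
    exact hle hw
  rw [hsup] at hk
  exact hCK w hwC k hk

/-- Every member of `dStarFamily S` lies in each self-centralizing normal abelian subgroup of a
nilpotent group `S`. -/
theorem le_of_mem_dStarFamily {S : Type*} [Group S] [hnil : Group.IsNilpotent S]
    (B : Subgroup S) [hBn : B.Normal] (hBc : ∀ a ∈ B, ∀ b ∈ B, a * b = b * a)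
    (hCB : Subgroup.centralizer (B : Set S) ≤ B) {A : Subgroup S} (hA : A ∈ Cfsg.dStarFamily S) :
    A ≤ B := by
  obtain ⟨hAcomm, hAfam⟩ := hA
  have hAc : ∀ a ∈ A, ∀ b ∈ A, a * b = b * a := by
    intro a ha b hb
    exact congrArg Subtype.val (hAcomm.is_comm.comm ⟨a, ha⟩ ⟨b, hb⟩)
  have key : ∀ i : ℕ, ∀ b ∈ B ⊓ Subgroup.upperCentralSeries S i, ∀ a ∈ A, a * b = b * a := by
    intro i
    induction i with
    | zero =>
      intro b hb a _
      rw [Subgroup.upperCentralSeries_zero, inf_bot_eq, Subgroup.mem_bot] at hb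
      rw [hb, mul_one, one_mul]
    | succ i ih =>
      intro b hb
      apply hAfam b
      apply class_two_of_sup_zpowers A hAc b (B ⊓ Subgroup.upperCentralSeries S i)
      · intro c hc a ha
        exact (ih c hc a ha).symm
      · intro c hc
        exact hBc c hc.1 b hb.1
      · intro a ha k
        have hbk : b ^ k ∈ B ⊓ Subgroup.upperCentralSeries S (i + 1) := Subgroup.zpow_mem _ hb k
        constructor
        · rw [commutatorElement_def]
          have e : a * b ^ k * a⁻¹ * (b ^ k)⁻¹ = (a * b ^ k * a⁻¹) * (b ^ k)⁻¹ := by group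
          rw [e]
          exact B.mul_mem (hBn.conj_mem _ hbk.1 a) (B.inv_mem hbk.1)
        · have := Subgroup.mem_upperCentralSeries_succ_iff.1 hbk.2 a
          rw [← commutatorElement_inv]
          exact Subgroup.inv_mem _ this
  obtain ⟨n, hn⟩ := hnil.nilpotent'
  intro a ha
  apply hCB
  rw [Subgroup.mem_centralizer_iff]
  intro b hb
  have hb' : b ∈ B ⊓ Subgroup.upperCentralSeries S n := by
    rw [hn, inf_top_eq]; exact hb
  exact (key n b hb' a ha).symm

/-- A finite nilpotent group has a maximal normal abelian subgroup, which is self-centralizing. -/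
theorem exists_self_centralizing_normal {S : Type*} [Group S] [Finite S] [Group.IsNilpotent S] :
    ∃ N : Subgroup S, N.Normal ∧ IsMulCommutative N ∧ Subgroup.centralizer (N : Set S) = N := by
  let T : Set (Subgroup S) := {M | M.Normal ∧ IsMulCommutative M}
  have hne : T.Nonempty := ⟨⊥, inferInstance, inferInstance⟩
  obtain ⟨N, hNS, hmin⟩ := (wellFounded_gt (α := Subgroup S)).has_min T hne
  obtain ⟨hNn, hNc⟩ := hNS
  refine ⟨N, hNn, hNc, ?_⟩
  have := hNn
  have := hNc
  apply Cfsg.Agent.S0015.result N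
  intro M hMn hMc hNM
  by_contra hne'
  exact hmin M ⟨hMn, hMc⟩ (lt_of_le_of_ne hNM (Ne.symm hne'))

theorem dStar_le_of_self_centralizing {S : Type*} [Group S] [Group.IsNilpotent S]
    (B : Subgroup S) [B.Normal] (hBc : ∀ a ∈ B, ∀ b ∈ B, a * b = b * a)
    (hCB : Subgroup.centralizer (B : Set S) ≤ B) : Cfsg.dStar S ≤ B := by
  unfold Cfsg.dStar
  apply sSup_le
  intro A hA
  exact le_of_mem_dStarFamily B hBc hCB hA

end Cfsg.Agent.Lib.Helper23
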