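import Mathlib

/-!
# Linear-algebra core for Frobenius actions (helper23)

`fix ρ B`: fixed points of a subgroup under a representation; invariant submodules, subrepresentations;
`indep_sum_zero`; `FreeDim`: if the translates `ρ e T` (e ∈ E) are independent then their sum `W` has
`finrank W = |E| * finrank T` and `finrank (W ⊓ fix E) = finrank T`.
-/

set_option autoImplicit false
set_option linter.style.haveILetI false

namespace Cfsg.Agent.Lib.Helper23.FrobA

open Module Submodule

variable {K : Type*} [Field K] {A : Type*} [Group A] {V : Type*} [AddCommGroup V] [Module K V]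

/-- fixed points of `B` -/
def fix (ρ : A →* (V →ₗ[K] V)) (B : Subgroup A) : Submodule K V where
  carrier := {v | ∀ b ∈ B, ρ b v = v}
  add_mem' := by
    intro x y hx hy b hb
    rw [map_add, hx b hb, hy b hb]
  zero_mem' := by
    intro b _
    exact map_zero _
  smul_mem' := by
    intro c x hx b hb
    rw [map_smul, hx b hb]

theorem mem_fix {ρ : A →* (V →ₗ[K] V)} {B : Subgroup A} {v : V} :
    v ∈ fix ρ B ↔ ∀ b ∈ B, ρ b v = v := Iff.rfl

theorem rho_inv_apply (ρ : A →* (V →ₗ[K] V)) (g : A) (v : V) : ρ g⁻¹ (ρ g v) = v := by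
  have : (ρ g⁻¹ * ρ g) v = v := by
    rw [← map_mul, inv_mul_cancel, map_one]; rfl
  exact this

theorem rho_apply_inv (ρ : A →* (V →ₗ[K] V)) (g : A) (v : V) : ρ g (ρ g⁻¹ v) = v := by
  have := rho_inv_apply ρ g⁻¹ v
  rwa [inv_inv] at this

theorem rho_mul_apply (ρ : A →* (V →ₗ[K] V)) (g h : A) (v : V) : ρ (g * h) v = ρ g (ρ h v) := by
  rw [map_mul]; rfl

theorem rho_injective (ρ : A →* (V →ₗ[K] V)) (g : A) : Function.Injective (ρ g) := by
  intro x y h
  have := congrArg (ρ g⁻¹) h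
  rwa [rho_inv_apply, rho_inv_apply] at this

/-- invariant submodule -/
def Inv (ρ : A →* (V →ₗ[K] V)) (M : Submodule K V) : Prop := ∀ g : A, ∀ v ∈ M, ρ g v ∈ M

/-- the subrepresentation on an invariant submodule -/
def subRep (ρ : A →* (V →ₗ[K] V)) (M : Submodule K V) (hM : Inv ρ M) : A →* (M →ₗ[K] M) where
  toFun g := (ρ g).restrict (hM g)
  map_one' := by
    ext v
    simp
  map_mul' := by
    intro g h
    ext v
    simp [rho_mul_apply]

@[simp] theorem subRep_apply (ρ : A →* (V →ₗ[K] V)) (M : Submodule K V) (hM : Inv ρ M) (g : A)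
    (v : M) : ((subRep ρ M hM g v : M) : V) = ρ g v := rfl

theorem fix_subRep (ρ : A →* (V →ₗ[K] V)) (M : Submodule K V) (hM : Inv ρ M) (B : Subgroup A) :
    (fix (subRep ρ M hM) B).map M.subtype = M ⊓ fix ρ B := by
  ext v
  constructor
  · rintro ⟨w, hw, rfl⟩
    refine ⟨w.2, ?_⟩
    intro b hb
    have := hw b hb
    exact congrArg Subtype.val this
  · rintro ⟨hvM, hv⟩
    refine ⟨⟨v, hvM⟩, ?_, rfl⟩
    intro b hb
    apply Subtype.ext
    exact hv b hb

theorem finrank_fix_subRep (ρ : A →* (V →ₗ[K] V)) (M : Submodule K V) (hM : Inv ρ M)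
    (B : Subgroup A) :
    finrank K (fix (subRep ρ M hM) B) = finrank K ↥(M ⊓ fix ρ B) := by
  rw [← fix_subRep ρ M hM B]
  exact (LinearEquiv.finrank_eq (Submodule.equivMapOfInjective M.subtype
    M.injective_subtype _))

/-- in an independent family, a vanishing sum of members has vanishing terms -/
theorem indep_sum_zero {ι : Type*} [Fintype ι] [DecidableEq ι] (f : ι → Submodule K V)
    (hf : iSupIndep f) (x : ι → V) (hx : ∀ i, x i ∈ f i) (hsum : ∑ i, x i = 0) (i : ι) :
    x i = 0 := by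
  have h1 : x i = - ∑ j ∈ Finset.univ.erase i, x j := by
    rw [eq_neg_iff_add_eq_zero, Finset.add_sum_erase _ _ (Finset.mem_univ i)]
    exact hsum
  have h2 : ∑ j ∈ Finset.univ.erase i, x j ∈ ⨆ (j) (_ : j ≠ i), f j := by
    apply Submodule.sum_mem
    intro j hj
    have hji : j ≠ i := Finset.ne_of_mem_erase hj
    exact Submodule.mem_iSup_of_mem j (Submodule.mem_iSup_of_mem hji (hx j))
  have h3 : x i ∈ f i ⊓ ⨆ (j) (_ : j ≠ i), f j :=
    ⟨hx i, h1 ▸ Submodule.neg_mem _ h2⟩
  rw [(hf i).eq_bot] at h3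
  exact (Submodule.mem_bot K).1 h3

section FreeDim

variable (ρ : A →* (V →ₗ[K] V)) (E : Subgroup A) [Finite E] (T : Submodule K V)

/-- the "induction" map `(E → T) → V` -/
noncomputable def Phi : (E → T) →ₗ[K] V :=
  letI := Fintype.ofFinite E
  ∑ e : E, (ρ (e : A)).comp (T.subtype.comp (LinearMap.proj e))

theorem Phi_apply [Fintype E] (t : E → T) :
    Phi ρ E T t = ∑ e : E, ρ (e : A) (t e : V) := by
  unfold Phi
  rw [LinearMap.sum_apply]
  have : (Fintype.ofFinite E) = ‹Fintype E› := Subsingleton.elim _ _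
  subst this
  rfl

theorem Phi_injective (h : iSupIndep (fun e : E => T.map (ρ (e : A)))) :
    Function.Injective (Phi ρ E T) := by
  classical
  haveI := Fintype.ofFinite E
  rw [← LinearMap.ker_eq_bot, LinearMap.ker_eq_bot']
  intro t ht
  rw [Phi_apply] at ht
  funext e
  have h1 := indep_sum_zero (fun e : E => T.map (ρ (e : A))) h
    (fun e => ρ (e : A) (t e : V)) (fun e => Submodule.mem_map_of_mem (t e).2) ht e
  have h2 : ((t e : T) : V) = 0 := rho_injective ρ e (by rw [h1, map_zero])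
  exact Subtype.ext h2

theorem range_Phi : LinearMap.range (Phi ρ E T) = ⨆ e : E, T.map (ρ (e : A)) := by
  classical
  haveI := Fintype.ofFinite E
  apply le_antisymm
  · rintro _ ⟨t, rfl⟩
    rw [Phi_apply]
    apply Submodule.sum_mem
    intro e _
    exact Submodule.mem_iSup_of_mem e (Submodule.mem_map_of_mem (t e).2)
  · apply iSup_le
    rintro e _ ⟨t, ht, rfl⟩
    refine ⟨Pi.single e ⟨t, ht⟩, ?_⟩
    rw [Phi_apply]
    rw [Finset.sum_eq_single e]
    · simp
    · intro b _ hb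
      simp [Pi.single_eq_of_ne hb]
    · intro h; exact absurd (Finset.mem_univ e) h

theorem finrank_iSup_translates [FiniteDimensional K V]
    (h : iSupIndep (fun e : E => T.map (ρ (e : A)))) :
    finrank K ↥(⨆ e : E, T.map (ρ (e : A))) = Nat.card E * finrank K T := by
  classical
  haveI := Fintype.ofFinite E
  rw [← range_Phi]
  rw [LinearMap.finrank_range_of_inj (Phi_injective ρ E T h)]
  rw [Module.finrank_pi_fintype]
  simp [Nat.card_eq_fintype_card]

/-- fixed points of `E` inside the sum of independent translates -/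
theorem fix_inf_iSup_translates (h : iSupIndep (fun e : E => T.map (ρ (e : A)))) :
    (⨆ e : E, T.map (ρ (e : A))) ⊓ fix ρ E =
      (LinearMap.range ((Phi ρ E T).comp (LinearMap.pi (fun _ : E => LinearMap.id)))) := by
  classical
  haveI := Fintype.ofFinite E
  apply le_antisymm
  · rintro w ⟨hwW, hwfix⟩
    rw [← range_Phi] at hwW
    obtain ⟨t, rfl⟩ := hwW
    -- all components equal
    have hall : ∀ g e : E, t (g⁻¹ * e) = t e := by
      intro g e
      have hg := hwfix g g.2
      rw [Phi_apply, map_sum] at hg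
      -- reindex
      have h1 : ∑ e : E, ρ (g : A) (ρ (e : A) (t e : V)) = ∑ e : E, ρ (e : A) (t (g⁻¹ * e) : V) := by
        rw [← Equiv.sum_comp (Equiv.mulLeft g) (fun e : E => ρ (e : A) (t (g⁻¹ * e) : V))]
        apply Finset.sum_congr rfl
        intro e _
        simp only [Equiv.coe_mulLeft, inv_mul_cancel_left]
        rw [Subgroup.coe_mul, rho_mul_apply]
      rw [h1] at hg
      have h2 : ∑ e : E, ρ (e : A) (((t (g⁻¹ * e) : T) : V) - ((t e : T) : V)) = 0 := by
        simp only [map_sub, Finset.sum_sub_distrib]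
        rw [hg, sub_self]
      have h3 := indep_sum_zero (fun e : E => T.map (ρ (e : A))) h
        (fun e => ρ (e : A) (((t (g⁻¹ * e) : T) : V) - ((t e : T) : V)))
        (fun e => Submodule.mem_map_of_mem (T.sub_mem (t _).2 (t e).2)) h2 e
      have h4 : ((t (g⁻¹ * e) : T) : V) - ((t e : T) : V) = 0 :=
        rho_injective ρ e (by rw [h3, map_zero])
      exact Subtype.ext (sub_eq_zero.1 h4)
    refine ⟨t 1, ?_⟩
    rw [LinearMap.comp_apply]
    congr 1
    funext e
    have := hall e e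
    rw [inv_mul_cancel] at this
    simp only [LinearMap.pi_apply, LinearMap.id_apply]
    exact this
  · rintro _ ⟨t, rfl⟩
    rw [LinearMap.comp_apply]
    refine ⟨?_, ?_⟩
    · rw [← range_Phi]; exact ⟨_, rfl⟩
    · intro g hg
      rw [Phi_apply, map_sum]
      simp only [LinearMap.pi_apply, LinearMap.id_apply]
      rw [← Equiv.sum_comp (Equiv.mulLeft (⟨g, hg⟩ : E))
        (fun e : E => ρ (e : A) (t : V))]
      apply Finset.sum_congr rfl
      intro e _
      simp only [Equiv.coe_mulLeft]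
      rw [Subgroup.coe_mul, rho_mul_apply]

theorem finrank_fix_inf_iSup_translates [FiniteDimensional K V]
    (h : iSupIndep (fun e : E => T.map (ρ (e : A)))) :
    finrank K ↥((⨆ e : E, T.map (ρ (e : A))) ⊓ fix ρ E) = finrank K T := by
  classical
  rw [fix_inf_iSup_translates ρ E T h]
  apply LinearMap.finrank_range_of_inj
  intro x y hxy
  rw [LinearMap.comp_apply, LinearMap.comp_apply] at hxy
  have := Phi_injective ρ E T h hxy
  have h1 := congrFun this 1
  simpa using h1

end FreeDim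

/-- fixed points split along a direct sum of invariant submodules -/
theorem fix_split (ρ : A →* (V →ₗ[K] V)) (E : Subgroup A) (W₁ W₂ : Submodule K V)
    (h₁ : ∀ e ∈ E, ∀ v ∈ W₁, ρ e v ∈ W₁) (h₂ : ∀ e ∈ E, ∀ v ∈ W₂, ρ e v ∈ W₂)
    (hd : Disjoint W₁ W₂) :
    (W₁ ⊔ W₂) ⊓ fix ρ E = (W₁ ⊓ fix ρ E) ⊔ (W₂ ⊓ fix ρ E) := by
  apply le_antisymm
  · rintro v ⟨hv, hvfix⟩
    obtain ⟨w₁, hw₁, w₂, hw₂, rfl⟩ := Submodule.mem_sup.1 hv
    have key : ∀ e ∈ E, ρ e w₁ = w₁ ∧ ρ e w₂ = w₂ := by
      intro e he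
      have h3 := hvfix e he
      rw [map_add] at h3
      have h4 : ρ e w₁ - w₁ = w₂ - ρ e w₂ := by
        rw [sub_eq_sub_iff_add_eq_add]
        rw [h3, add_comm]
      have h5 : ρ e w₁ - w₁ ∈ W₁ ⊓ W₂ :=
        ⟨W₁.sub_mem (h₁ e he _ hw₁) hw₁, h4 ▸ W₂.sub_mem hw₂ (h₂ e he _ hw₂)⟩
      rw [hd.eq_bot] at h5
      have h6 := (Submodule.mem_bot K).1 h5
      refine ⟨sub_eq_zero.1 h6, ?_⟩
      rw [h6] at h4
      exact (sub_eq_zero.1 h4.symm).symm
    exact Submodule.add_mem_sup ⟨hw₁, fun e he => (key e he).1⟩ ⟨hw₂, fun e he => (key e he).2⟩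
  · apply sup_le
    · exact inf_le_inf_right _ le_sup_left
    · exact inf_le_inf_right _ le_sup_right

theorem finrank_sup_of_disjoint [FiniteDimensional K V] (W₁ W₂ : Submodule K V)
    (hd : Disjoint W₁ W₂) :
    finrank K ↥(W₁ ⊔ W₂) = finrank K W₁ + finrank K W₂ := by
  have := Submodule.finrank_sup_add_finrank_inf_eq W₁ W₂
  rw [hd.eq_bot, finrank_bot, add_zero] at this
  exact this

theorem finrank_fix_split [FiniteDimensional K V] (ρ : A →* (V →ₗ[K] V)) (E : Subgroup A)
    (W₁ W₂ : Submodule K V)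
    (h₁ : ∀ e ∈ E, ∀ v ∈ W₁, ρ e v ∈ W₁) (h₂ : ∀ e ∈ E, ∀ v ∈ W₂, ρ e v ∈ W₂)
    (hd : Disjoint W₁ W₂) :
    finrank K ↥((W₁ ⊔ W₂) ⊓ fix ρ E) =
      finrank K ↥(W₁ ⊓ fix ρ E) + finrank K ↥(W₂ ⊓ fix ρ E) := by
  rw [fix_split ρ E W₁ W₂ h₁ h₂ hd]
  apply finrank_sup_of_disjoint
  exact hd.mono inf_le_left inf_le_left

end Cfsg.Agent.Lib.Helper23.FrobA
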