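import Mathlib
import Cfsg.Agent.Lib.Helper23.FrobA

/-!
# Frobenius actions over an algebraically closed field (helper23)

`FrobData A U E`: `A = U ⋊ E`-like data (E normalizes U, acts fixed-point-freely, `U ⊔ E = ⊤`,
`U` has an `E`-invariant central series).  Main results (K algebraically closed, `|U|` invertible):
* `count`: if `C_V(U) = 0` then `dim V = |E| * dim C_V(E)`.
* `fine`: if moreover `dim C_V(E) ≤ 1` then the operators of `U` commute.
-/

set_option autoImplicit false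
set_option linter.style.haveILetI false

namespace Cfsg.Agent.Lib.Helper23.FrobB

open Module Submodule Polynomial Cfsg.Agent.Lib.Helper23.FrobA

universe u

structure FrobData (A : Type*) [Group A] (U E : Subgroup A) : Prop where
  finU : Finite U
  finE : Finite E
  norm : E ≤ Subgroup.normalizer (U : Set A)
  fpf : ∀ e ∈ E, e ≠ 1 → ∀ u ∈ U, e * u = u * e → u = 1
  gen : U ⊔ E = ⊤
  series : ∃ (c : ℕ) (Y : ℕ → Subgroup A), Y 0 = ⊥ ∧ Y c = U ∧ (∀ i, Y i ≤ Y (i + 1)) ∧
    (∀ i, Y i ≤ U) ∧ (∀ i, E ≤ Subgroup.normalizer (Y i : Set A)) ∧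
    (∀ i, ∀ y ∈ Y (i + 1), ∀ u ∈ U, y⁻¹ * u⁻¹ * y * u ∈ Y i)

section Weights

variable {K : Type*} [Field K] {A : Type*} [Group A] {V : Type*} [AddCommGroup V] [Module K V]

/-- simultaneous eigenspace of the operators of `Y` for the weight `χ` -/
def wt (ρ : A →* (V →ₗ[K] V)) (Y : Subgroup A) (χ : Y → K) : Submodule K V :=
  ⨅ y : Y, Module.End.eigenspace (ρ (y : A)) (χ y)

theorem mem_wt {ρ : A →* (V →ₗ[K] V)} {Y : Subgroup A} {χ : Y → K} {v : V} :
    v ∈ wt ρ Y χ ↔ ∀ y : Y, ρ (y : A) v = χ y • v := by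
  simp [wt, Module.End.mem_eigenspace_iff]

theorem semisimple_of_pow [FiniteDimensional K V] (f : Module.End K V) (n : ℕ) (hn : (n : K) ≠ 0)
    (hf : f ^ n = 1) : f.IsSemisimple := by
  apply Module.End.isSemisimple_of_squarefree_aeval_eq_zero (p := X ^ n - C (1 : K))
  · exact (Polynomial.separable_X_pow_sub_C (1 : K) hn one_ne_zero).squarefree
  · simp [hf]

theorem wt_indep_top [IsAlgClosed K] [FiniteDimensional K V] (ρ : A →* (V →ₗ[K] V))
    (Y : Subgroup A)
    (hcomm : ∀ y y' : Y, Commute (ρ (y : A)) (ρ (y' : A))) (n : ℕ) (hn : (n : K) ≠ 0)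
    (hYn : ∀ y : Y, (y : A) ^ n = 1) :
    iSupIndep (wt ρ Y) ∧ ⨆ χ, wt ρ Y χ = ⊤ := by
  have hss : ∀ y : Y, Module.End.IsSemisimple (ρ (y : A)) := by
    intro y
    apply semisimple_of_pow _ n hn
    rw [← map_pow, hYn y, map_one]
  have heq : ∀ (y : Y) (μ : K), Module.End.maxGenEigenspace (ρ (y : A)) μ =
      Module.End.eigenspace (ρ (y : A)) μ :=
    fun y μ => (hss y).isFinitelySemisimple.maxGenEigenspace_eq_eigenspace μ
  have hwt : wt ρ Y = fun χ : Y → K => ⨅ y : Y, Module.End.maxGenEigenspace (ρ (y : A)) (χ y) := by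
    funext χ
    unfold wt
    simp only [heq]
  rw [hwt]
  constructor
  · apply Module.End.independent_iInf_maxGenEigenspace_of_forall_mapsTo (fun y : Y => ρ (y : A))
    intro i j φ
    exact Module.End.mapsTo_maxGenEigenspace_of_comm (hcomm j i) φ
  · apply Module.End.iSup_iInf_maxGenEigenspace_eq_top_of_iSup_maxGenEigenspace_eq_top_of_commute
      (fun y : Y => ρ (y : A))
    · intro i j _
      exact hcomm i j
    · intro i
      exact Module.End.iSup_maxGenEigenspace_eq_top _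

/-- conjugation by `e⁻¹` on `Y`, for `e` normalizing `Y` -/
def conjY (Y : Subgroup A) (e : A) (he : e ∈ Subgroup.normalizer (Y : Set A)) (y : Y) : Y :=
  ⟨e⁻¹ * y * e, by
    have h1 := (Subgroup.mem_normalizer_iff.1 (Subgroup.inv_mem _ he) (y : A)).1 y.2
    simpa using h1⟩

/-- the action of a normalizing element on weights -/
def act (Y : Subgroup A) (e : A) (he : e ∈ Subgroup.normalizer (Y : Set A)) (χ : Y → K) : Y → K :=
  fun y => χ (conjY Y e he y)

theorem map_wt (ρ : A →* (V →ₗ[K] V)) (Y : Subgroup A) (e : A)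
    (he : e ∈ Subgroup.normalizer (Y : Set A)) (χ : Y → K) :
    (wt ρ Y χ).map (ρ e) = wt ρ Y (act Y e he χ) := by
  ext v
  constructor
  · rintro ⟨w, hw, rfl⟩
    rw [mem_wt]
    intro y
    have h1 := (mem_wt.1 hw) (conjY Y e he y)
    have h2 : (y : A) * e = e * ((conjY Y e he y : Y) : A) := by
      change (y : A) * e = e * (e⁻¹ * y * e)
      group
    rw [← rho_mul_apply, h2, rho_mul_apply, h1, map_smul]
    rfl
  · intro hv
    refine ⟨ρ e⁻¹ v, mem_wt.2 ?_, rho_apply_inv ρ e v⟩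
    intro y
    have hy' : e * (y : A) * e⁻¹ ∈ Y := (Subgroup.mem_normalizer_iff.1 he (y : A)).1 y.2
    have h1 := (mem_wt.1 hv) ⟨e * (y : A) * e⁻¹, hy'⟩
    have h2 : (y : A) * e⁻¹ = e⁻¹ * (e * (y : A) * e⁻¹) := by group
    rw [← rho_mul_apply, h2, rho_mul_apply, h1, map_smul]
    have h3 : conjY Y e he ⟨e * (y : A) * e⁻¹, hy'⟩ = y := by
      apply Subtype.ext
      change e⁻¹ * (e * (y : A) * e⁻¹) * e = y
      group
    change χ (conjY Y e he ⟨e * (y : A) * e⁻¹, hy'⟩) • _ = _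
    rw [h3]

theorem act_mul (Y : Subgroup A) (e e' : A) (he : e ∈ Subgroup.normalizer (Y : Set A))
    (he' : e' ∈ Subgroup.normalizer (Y : Set A)) (χ : Y → K) :
    act Y (e * e') (Subgroup.mul_mem _ he he') χ = act Y e he (act Y e' he' χ) := by
  funext y
  unfold act
  congr 1
  apply Subtype.ext
  change (e * e')⁻¹ * (y : A) * (e * e') = e'⁻¹ * (e⁻¹ * (y : A) * e) * e'
  group

theorem act_one (Y : Subgroup A) (χ : Y → K) :
    act Y 1 (Subgroup.one_mem _) χ = χ := by
  funext y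
  unfold act
  congr 1
  apply Subtype.ext
  change (1 : A)⁻¹ * (y : A) * 1 = y
  group

theorem act_proof_irrel (Y : Subgroup A) (e e' : A) (h : e = e')
    (he : e ∈ Subgroup.normalizer (Y : Set A)) (he' : e' ∈ Subgroup.normalizer (Y : Set A))
    (χ : Y → K) : act Y e he χ = act Y e' he' χ := by
  subst h
  rfl

end Weights

section Main

variable {K : Type*} [Field K] [IsAlgClosed K] {A : Type*} [Group A] {U E : Subgroup A}

/-- The decomposition step. -/
theorem step (D : FrobData A U E) (hchar : (Nat.card U : K) ≠ 0)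
    {V : Type u} [AddCommGroup V] [Module K V] [FiniteDimensional K V] [Nontrivial V]
    (ρ : A →* (V →ₗ[K] V)) (hU : fix ρ U = ⊥) :
    ∃ T V' : Submodule K V, T ≠ ⊥ ∧ (∀ u ∈ U, ∀ v ∈ T, ρ u v ∈ T) ∧
      iSupIndep (fun e : E => T.map (ρ (e : A))) ∧
      Disjoint (⨆ e : E, T.map (ρ (e : A))) V' ∧
      (⨆ e : E, T.map (ρ (e : A))) ⊔ V' = ⊤ ∧ Inv ρ V' := by
  classical
  haveI := D.finU
  haveI := D.finE
  obtain ⟨c, Y, hY0, hYc, hYmono, hYU, hYE, hYcomm⟩ := D.series
  -- trivial action predicate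
  have hex : ∃ i, ¬ ∀ y ∈ Y i, ∀ v : V, ρ y v = v := by
    refine ⟨c, ?_⟩
    intro h
    obtain ⟨v, hv⟩ := exists_ne (0 : V)
    have : v ∈ fix ρ U := by
      intro b hb
      exact h b (hYc ▸ hb) v
    rw [hU] at this
    exact hv ((Submodule.mem_bot K).1 this)
  have hj0 : Nat.find hex ≠ 0 := by
    intro h0
    have := Nat.find_spec hex
    rw [h0, hY0] at this
    apply this
    intro y hy v
    rw [Subgroup.mem_bot.1 hy, map_one]
    rfl
  obtain ⟨i, hi⟩ := Nat.exists_eq_succ_of_ne_zero hj0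
  have htriv : ∀ y ∈ Y i, ∀ v : V, ρ y v = v := by
    have := Nat.find_min hex (m := i) (by omega)
    push Not at this
    exact this
  have hnontriv : ¬ ∀ y ∈ Y (i + 1), ∀ v : V, ρ y v = v := by
    have := Nat.find_spec hex
    rwa [hi] at this
  -- commuting operators
  have hcomm : ∀ y y' : Y (i + 1), Commute (ρ (y : A)) (ρ (y' : A)) := by
    intro y y'
    have hc := hYcomm i y y.2 y' (hYU _ y'.2)
    have h1 : (y : A) * y' = y' * y * ((y : A)⁻¹ * (y' : A)⁻¹ * y * y') := by group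
    change ρ (y : A) * ρ (y' : A) = ρ (y' : A) * ρ (y : A)
    rw [← map_mul, ← map_mul, h1, map_mul]
    have h2 : ρ ((y : A)⁻¹ * (y' : A)⁻¹ * y * y') = 1 := by
      ext v
      exact htriv _ hc v
    rw [h2, mul_one]
  have hYn : ∀ y : Y (i + 1), (y : A) ^ Nat.card U = 1 := by
    intro y
    have := pow_card_eq_one' (G := U) (x := ⟨y, hYU _ y.2⟩)
    exact congrArg Subtype.val this
  obtain ⟨hind, htop⟩ := wt_indep_top ρ (Y (i + 1)) hcomm (Nat.card U) hchar hYn
  -- a nontrivial weight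
  have hχ : ∃ χ₀ : Y (i + 1) → K, wt ρ (Y (i + 1)) χ₀ ≠ ⊥ ∧ χ₀ ≠ fun _ => 1 := by
    by_contra hcon
    push Not at hcon
    apply hnontriv
    have h1 : (⨆ χ, wt ρ (Y (i + 1)) χ) ≤ wt ρ (Y (i + 1)) (fun _ => 1) := by
      apply iSup_le
      intro χ
      by_cases hχ : wt ρ (Y (i + 1)) χ = ⊥
      · rw [hχ]; exact bot_le
      · rw [hcon χ hχ]
    rw [htop] at h1
    intro y hy v
    have := (mem_wt.1 (h1 (Submodule.mem_top (x := v)))) ⟨y, hy⟩
    simpa using this
  obtain ⟨χ₀, hχ₀, hχ₀1⟩ := hχ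
  -- U preserves weight spaces
  have hUwt : ∀ χ : Y (i + 1) → K, ∀ u ∈ U, ∀ v ∈ wt ρ (Y (i + 1)) χ, ρ u v ∈ wt ρ (Y (i + 1)) χ := by
    intro χ u hu v hv
    rw [mem_wt]
    intro y
    have hc := hYcomm i y y.2 u hu
    have h1 : (y : A) * u = u * y * ((y : A)⁻¹ * u⁻¹ * y * u) := by group
    rw [← rho_mul_apply, h1, rho_mul_apply, htriv _ hc, rho_mul_apply, (mem_wt.1 hv) y, map_smul]
  -- normalizer facts
  have hEN : ∀ e : E, (e : A) ∈ Subgroup.normalizer (Y (i + 1) : Set A) := fun e => hYE _ e.2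
  -- freeness
  have hfree : ∀ e : E, act (Y (i + 1)) (e : A) (hEN e) χ₀ = χ₀ → e = 1 := by
    intro e he
    by_contra hne
    apply hχ₀1
    obtain ⟨v, hvT, hv0⟩ := Submodule.exists_mem_ne_zero_of_ne_bot hχ₀
    have hmulχ : ∀ y y' : Y (i + 1), χ₀ (y * y') = χ₀ y * χ₀ y' := by
      intro y y'
      have h1 := (mem_wt.1 hvT) (y * y')
      rw [Subgroup.coe_mul, rho_mul_apply, (mem_wt.1 hvT) y', map_smul, (mem_wt.1 hvT) y,
        smul_smul] at h1
      have h2 : (χ₀ y' * χ₀ y - χ₀ (y * y')) • v = 0 := by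
        rw [sub_smul, h1, sub_self]
      rcases smul_eq_zero.1 h2 with h3 | h3
      · rw [mul_comm]; exact (sub_eq_zero.1 h3).symm
      · exact absurd h3 hv0
    have hχ1 : χ₀ 1 = 1 := by
      have h1 := (mem_wt.1 hvT) 1
      rw [Subgroup.coe_one, map_one] at h1
      have h2 : (1 - χ₀ 1) • v = 0 := by
        rw [sub_smul, one_smul, ← h1]
        simp
      rcases smul_eq_zero.1 h2 with h3 | h3
      · exact (sub_eq_zero.1 h3).symm
      · exact absurd h3 hv0
    -- the map w ↦ w⁻¹ * conj w is injective hence surjective on Y (i+1)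
    haveI : Finite (Y (i + 1)) := Finite.of_injective
      (fun y : Y (i + 1) => (⟨y, hYU _ y.2⟩ : U)) (by
        intro a b hab
        apply Subtype.ext
        exact congrArg (fun z : U => (z : A)) hab)
    let φ : Y (i + 1) → Y (i + 1) := fun w => w⁻¹ * conjY (Y (i + 1)) (e : A) (hEN e) w
    have hφinj : Function.Injective φ := by
      intro w w' hww
      have h1 : ((w : A))⁻¹ * ((e : A)⁻¹ * w * e) = ((w' : A))⁻¹ * ((e : A)⁻¹ * w' * e) :=
        congrArg Subtype.val hww
      have h2 : (e : A) * ((w' : A) * (w : A)⁻¹) = ((w' : A) * (w : A)⁻¹) * e := by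
        have h3 : (e : A)⁻¹ * ((w : A) * (w' : A)⁻¹)⁻¹ * e = ((w : A) * (w' : A)⁻¹)⁻¹ := by
          have : (e : A)⁻¹ * (w : A) * e = (w : A) * (w' : A)⁻¹ * ((e : A)⁻¹ * w' * e) := by
            rw [mul_assoc (w : A), ← h1]; group
          have h4 : (e : A)⁻¹ * ((w : A) * (w' : A)⁻¹) * e = (w : A) * (w' : A)⁻¹ := by
            calc (e : A)⁻¹ * ((w : A) * (w' : A)⁻¹) * e
                = ((e : A)⁻¹ * w * e) * ((e : A)⁻¹ * w' * e)⁻¹ := by group
              _ = (w : A) * (w' : A)⁻¹ := by rw [this]; group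
          calc (e : A)⁻¹ * ((w : A) * (w' : A)⁻¹)⁻¹ * e
              = ((e : A)⁻¹ * ((w : A) * (w' : A)⁻¹) * e)⁻¹ := by group
            _ = ((w : A) * (w' : A)⁻¹)⁻¹ := by rw [h4]
        have h5 : ((w : A) * (w' : A)⁻¹)⁻¹ = (w' : A) * (w : A)⁻¹ := by group
        rw [h5] at h3
        calc (e : A) * ((w' : A) * (w : A)⁻¹) = e * ((e : A)⁻¹ * ((w' : A) * (w : A)⁻¹) * e) := by
              rw [h3]
          _ = ((w' : A) * (w : A)⁻¹) * e := by group
      have h6 := D.fpf e e.2 (by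
        intro h; apply hne; exact Subtype.ext h) _ (U.mul_mem (hYU _ w'.2) (U.inv_mem (hYU _ w.2))) h2
      apply Subtype.ext
      have : (w' : A) = w := by
        have := mul_inv_eq_one.1 h6
        exact this
      exact this.symm
    have hφsurj : Function.Surjective φ := Finite.surjective_of_injective hφinj
    funext y
    obtain ⟨w, rfl⟩ := hφsurj y
    have h7 : χ₀ (conjY (Y (i + 1)) (e : A) (hEN e) w) = χ₀ w := congrFun he w
    change χ₀ (w⁻¹ * conjY (Y (i + 1)) (e : A) (hEN e) w) = 1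
    rw [hmulχ, h7, ← hmulχ, inv_mul_cancel, hχ1]
  -- the orbit map is injective
  let g : E → (Y (i + 1) → K) := fun e => act (Y (i + 1)) (e : A) (hEN e) χ₀
  have hginj : Function.Injective g := by
    intro e e' hee
    have h1 : act (Y (i + 1)) ((e'⁻¹ * e : E) : A) (hEN _) χ₀ = χ₀ := by
      have h2 := act_mul (K := K) (Y (i + 1)) ((e'⁻¹ : E) : A) (e : A) (hEN _) (hEN _) χ₀
      have h3 : act (Y (i + 1)) ((e'⁻¹ * e : E) : A) (hEN _) χ₀ =
          act (Y (i + 1)) (((e'⁻¹ : E) : A) * (e : A)) (Subgroup.mul_mem _ (hEN _) (hEN _)) χ₀ :=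
        act_proof_irrel _ _ _ (by simp) _ _ _
      rw [h3, h2]
      change act (Y (i + 1)) ((e'⁻¹ : E) : A) (hEN _) (g e) = χ₀
      rw [hee]
      change act (Y (i + 1)) ((e'⁻¹ : E) : A) (hEN _) (act (Y (i + 1)) (e' : A) (hEN _) χ₀) = χ₀
      rw [← act_mul]
      have h4 : act (Y (i + 1)) (((e'⁻¹ : E) : A) * (e' : A))
          (Subgroup.mul_mem _ (hEN _) (hEN _)) χ₀ = act (Y (i + 1)) 1 (Subgroup.one_mem _) χ₀ :=
        act_proof_irrel _ _ _ (by simp) _ _ _
      rw [h4, act_one]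
    have := hfree _ h1
    have h5 : e'⁻¹ * e = 1 := this
    exact (inv_mul_eq_one.1 h5).symm
  have hTmap : ∀ e : E, (wt ρ (Y (i + 1)) χ₀).map (ρ (e : A)) = wt ρ (Y (i + 1)) (g e) :=
    fun e => map_wt ρ _ _ (hEN e) χ₀
  refine ⟨wt ρ (Y (i + 1)) χ₀, ⨆ χ ∈ (Set.range g)ᶜ, wt ρ (Y (i + 1)) χ, hχ₀, hUwt χ₀, ?_, ?_, ?_, ?_⟩
  · have : (fun e : E => (wt ρ (Y (i + 1)) χ₀).map (ρ (e : A))) = (wt ρ (Y (i + 1))) ∘ g := by
      funext e
      exact hTmap e
    rw [this]
    exact hind.comp hginj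
  · have h1 : (⨆ e : E, (wt ρ (Y (i + 1)) χ₀).map (ρ (e : A))) =
        ⨆ χ ∈ Set.range g, wt ρ (Y (i + 1)) χ := by
      rw [iSup_range]
      exact iSup_congr hTmap
    rw [h1]
    exact hind.disjoint_biSup_biSup' disjoint_compl_right (Set.finite_range g)
  · have h1 : (⨆ e : E, (wt ρ (Y (i + 1)) χ₀).map (ρ (e : A))) =
        ⨆ χ ∈ Set.range g, wt ρ (Y (i + 1)) χ := by
      rw [iSup_range]
      exact iSup_congr hTmap
    rw [h1, ← iSup_union, Set.union_compl_self]
    simpa using htop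
  · -- invariance of V'
    have hUinv : ∀ u ∈ U, ∀ v ∈ (⨆ χ ∈ (Set.range g)ᶜ, wt ρ (Y (i + 1)) χ),
        ρ u v ∈ (⨆ χ ∈ (Set.range g)ᶜ, wt ρ (Y (i + 1)) χ) := by
      intro u hu v hv
      have : (⨆ χ ∈ (Set.range g)ᶜ, wt ρ (Y (i + 1)) χ) ≤
          (⨆ χ ∈ (Set.range g)ᶜ, wt ρ (Y (i + 1)) χ).comap (ρ u) := by
        apply iSup₂_le
        intro χ hχ v hv
        exact Submodule.mem_iSup_of_mem χ (Submodule.mem_iSup_of_mem hχ (hUwt χ u hu v hv))
      exact this hv
    have hEinv : ∀ e ∈ E, ∀ v ∈ (⨆ χ ∈ (Set.range g)ᶜ, wt ρ (Y (i + 1)) χ),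
        ρ e v ∈ (⨆ χ ∈ (Set.range g)ᶜ, wt ρ (Y (i + 1)) χ) := by
      intro e he v hv
      have : (⨆ χ ∈ (Set.range g)ᶜ, wt ρ (Y (i + 1)) χ) ≤
          (⨆ χ ∈ (Set.range g)ᶜ, wt ρ (Y (i + 1)) χ).comap (ρ e) := by
        apply iSup₂_le
        intro χ hχ v hv
        have h1 : ρ e v ∈ wt ρ (Y (i + 1)) (act (Y (i + 1)) e (hYE _ he) χ) := by
          rw [← map_wt]
          exact Submodule.mem_map_of_mem hv
        refine Submodule.mem_iSup_of_mem _ (Submodule.mem_iSup_of_mem ?_ h1)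
        rintro ⟨e', he'⟩
        apply hχ
        refine ⟨(⟨e, he⟩ : E)⁻¹ * e', ?_⟩
        change act (Y (i + 1)) (((⟨e, he⟩ : E)⁻¹ * e' : E) : A) (hEN _) χ₀ = χ
        have h3 : act (Y (i + 1)) (((⟨e, he⟩ : E)⁻¹ * e' : E) : A) (hEN _) χ₀ =
            act (Y (i + 1)) (e⁻¹ * (e' : A)) (Subgroup.mul_mem _
              (Subgroup.inv_mem _ (hYE _ he)) (hEN _)) χ₀ :=
          act_proof_irrel _ _ _ (by simp) _ _ _
        rw [h3, act_mul (K := K) (Y (i + 1)) e⁻¹ (e' : A) (Subgroup.inv_mem _ (hYE _ he)) (hEN _)]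
        change act (Y (i + 1)) e⁻¹ _ (g e') = χ
        rw [he', ← act_mul]
        have h4 : act (Y (i + 1)) (e⁻¹ * e) (Subgroup.mul_mem _
            (Subgroup.inv_mem _ (hYE _ he)) (hYE _ he)) χ = act (Y (i + 1)) 1 (Subgroup.one_mem _) χ :=
          act_proof_irrel _ _ _ (by simp) _ _ _
        rw [h4, act_one]
      exact this hv
    -- the stabilizer subgroup
    let S : Subgroup A :=
      { carrier := {a | ∀ v, (v ∈ (⨆ χ ∈ (Set.range g)ᶜ, wt ρ (Y (i + 1)) χ) ↔
          ρ a v ∈ (⨆ χ ∈ (Set.range g)ᶜ, wt ρ (Y (i + 1)) χ))}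
        mul_mem' := by
          intro a b ha hb v
          rw [rho_mul_apply]
          exact (hb v).trans (ha _)
        one_mem' := by
          intro v
          rw [map_one]; rfl
        inv_mem' := by
          intro a ha v
          have := ha (ρ a⁻¹ v)
          rw [rho_apply_inv] at this
          exact this.symm }
    have hUS : U ≤ S := by
      intro u hu v
      constructor
      · exact hUinv u hu v
      · intro h
        have := hUinv u⁻¹ (U.inv_mem hu) _ h
        rwa [rho_inv_apply] at this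
    have hES : E ≤ S := by
      intro e he v
      constructor
      · exact hEinv e he v
      · intro h
        have := hEinv e⁻¹ (E.inv_mem he) _ h
        rwa [rho_inv_apply] at this
    have hS : S = ⊤ := by
      apply top_le_iff.1
      rw [← D.gen]
      exact sup_le hUS hES
    intro a v hv
    have ha : a ∈ S := hS ▸ Subgroup.mem_top a
    exact (ha v).1 hv

/-- **Counting theorem.** -/
theorem count (D : FrobData A U E) (hchar : (Nat.card U : K) ≠ 0) :
    ∀ (n : ℕ) (V : Type u) [AddCommGroup V] [Module K V] [FiniteDimensional K V]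
      (ρ : A →* (V →ₗ[K] V)), finrank K V = n → fix ρ U = ⊥ →
      finrank K V = Nat.card E * finrank K (fix ρ E) := by
  haveI := D.finE
  intro n
  induction n using Nat.strong_induction_on with
  | _ n ih =>
    intro V _ _ _ ρ hn hU
    by_cases hV : Nontrivial V
    · obtain ⟨T, V', hT, -, hind, hdisj, htop, hinv⟩ := step D hchar ρ hU
      have hlt : finrank K V' < n := by
        have h1 := finrank_sup_of_disjoint _ _ hdisj
        rw [htop, finrank_top, hn] at h1
        have h2 : 0 < finrank K ↥(⨆ e : E, T.map (ρ (e : A))) := by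
          rw [finrank_pos_iff_exists_ne_zero]
          obtain ⟨v, hvT, hv0⟩ := Submodule.exists_mem_ne_zero_of_ne_bot hT
          refine ⟨⟨v, ?_⟩, ?_⟩
          · apply Submodule.mem_iSup_of_mem (1 : E)
            refine ⟨v, hvT, ?_⟩
            rw [Subgroup.coe_one, map_one]; rfl
          · intro h
            exact hv0 (congrArg Subtype.val h)
        omega
      have hU' : fix (subRep ρ V' hinv) U = ⊥ := by
        have h1 := fix_subRep ρ V' hinv U
        rw [hU, inf_bot_eq] at h1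
        rw [eq_bot_iff]
        intro v hv
        have : (v : V) ∈ (fix (subRep ρ V' hinv) U).map V'.subtype := ⟨v, hv, rfl⟩
        rw [h1] at this
        exact (Submodule.mem_bot K).2 (Subtype.ext ((Submodule.mem_bot K).1 this))
      have hIH := ih _ hlt ↥V' (subRep ρ V' hinv) rfl hU'
      rw [finrank_fix_subRep] at hIH
      have h1 := finrank_sup_of_disjoint _ _ hdisj
      rw [htop, finrank_top] at h1
      have h2 := finrank_fix_split ρ E _ _ (by
        intro e he v hv
        have : (⨆ e : E, T.map (ρ (e : A))) ≤ (⨆ e : E, T.map (ρ (e : A))).comap (ρ e) := by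
          apply iSup_le
          rintro e' _ ⟨t, ht, rfl⟩
          refine Submodule.mem_iSup_of_mem (⟨e, he⟩ * e') ⟨t, ht, ?_⟩
          rw [Subgroup.coe_mul, rho_mul_apply]
        exact this hv) (fun e _ v hv => hinv e v hv) hdisj
      rw [htop, top_inf_eq, finrank_fix_inf_iSup_translates ρ E T hind] at h2
      rw [h1, finrank_iSup_translates ρ E T hind, hIH, h2, mul_add]
    · rw [not_nontrivial_iff_subsingleton] at hV
      haveI := hV
      rw [finrank_zero_of_subsingleton, finrank_zero_of_subsingleton, mul_zero]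

/-- **Fine structure.** If moreover `dim C_V(E) ≤ 1`, the operators of `U` commute. -/
theorem fine (D : FrobData A U E) (hchar : (Nat.card U : K) ≠ 0)
    {V : Type u} [AddCommGroup V] [Module K V] [FiniteDimensional K V]
    (ρ : A →* (V →ₗ[K] V)) (hU : fix ρ U = ⊥) (hE : finrank K (fix ρ E) ≤ 1) :
    ∀ u ∈ U, ∀ u' ∈ U, ∀ v : V, ρ u (ρ u' v) = ρ u' (ρ u v) := by
  haveI := D.finE
  by_cases hV : Nontrivial V
  · obtain ⟨T, V', hT, hUT, hind, hdisj, htop, hinv⟩ := step D hchar ρ hU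
    have hU' : fix (subRep ρ V' hinv) U = ⊥ := by
      have h1 := fix_subRep ρ V' hinv U
      rw [hU, inf_bot_eq] at h1
      rw [eq_bot_iff]
      intro v hv
      have : (v : V) ∈ (fix (subRep ρ V' hinv) U).map V'.subtype := ⟨v, hv, rfl⟩
      rw [h1] at this
      exact (Submodule.mem_bot K).2 (Subtype.ext ((Submodule.mem_bot K).1 this))
    have hcnt := count D hchar _ ↥V' (subRep ρ V' hinv) rfl hU'
    rw [finrank_fix_subRep] at hcnt
    have h2 := finrank_fix_split ρ E _ _ (by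
      intro e he v hv
      have : (⨆ e : E, T.map (ρ (e : A))) ≤ (⨆ e : E, T.map (ρ (e : A))).comap (ρ e) := by
        apply iSup_le
        rintro e' _ ⟨t, ht, rfl⟩
        refine Submodule.mem_iSup_of_mem (⟨e, he⟩ * e') ⟨t, ht, ?_⟩
        rw [Subgroup.coe_mul, rho_mul_apply]
      exact this hv) (fun e _ v hv => hinv e v hv) hdisj
    rw [htop, top_inf_eq, finrank_fix_inf_iSup_translates ρ E T hind] at h2
    have hTpos : 0 < finrank K T := by
      rw [finrank_pos_iff_exists_ne_zero]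
      obtain ⟨v, hvT, hv0⟩ := Submodule.exists_mem_ne_zero_of_ne_bot hT
      exact ⟨⟨v, hvT⟩, fun h => hv0 (congrArg Subtype.val h)⟩
    have hT1 : finrank K T = 1 := by omega
    have hV'0 : finrank K V' = 0 := by
      have : finrank K ↥(V' ⊓ fix ρ E) = 0 := by omega
      rw [hcnt, this, mul_zero]
    have hV'bot : V' = ⊥ := Submodule.finrank_eq_zero.1 hV'0
    rw [hV'bot, sup_bot_eq] at htop
    -- each translate is 1-dimensional and U-invariant
    intro u hu u' hu' v
    have hle : (⨆ e : E, T.map (ρ (e : A))) ≤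
        LinearMap.eqLocus ((ρ u).comp (ρ u')) ((ρ u').comp (ρ u)) := by
      apply iSup_le
      intro e
      -- U preserves the translate
      have hinvT : ∀ x ∈ U, ∀ w ∈ T.map (ρ (e : A)), ρ x w ∈ T.map (ρ (e : A)) := by
        rintro x hx _ ⟨t, ht, rfl⟩
        have hx' : (e : A)⁻¹ * x * e ∈ U := by
          have := (Subgroup.mem_normalizer_iff.1 (Subgroup.inv_mem _ (D.norm e.2)) x).1 hx
          simpa using this
        refine ⟨ρ ((e : A)⁻¹ * x * e) t, hUT _ hx' t ht, ?_⟩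
        rw [← rho_mul_apply, ← rho_mul_apply]
        congr 2
        group
      have hdim : finrank K ↥(T.map (ρ (e : A))) = 1 := by
        rw [← hT1]
        exact (LinearEquiv.finrank_eq (Submodule.equivMapOfInjective _ (rho_injective ρ e) T)).symm
      obtain ⟨⟨w₀, hw₀⟩, hw₀ne, hspan⟩ := finrank_eq_one_iff'.1 hdim
      have hscalar : ∀ x ∈ U, ∃ c : K, ∀ w ∈ T.map (ρ (e : A)), ρ x w = c • w := by
        intro x hx
        obtain ⟨c, hc⟩ := hspan ⟨ρ x w₀, hinvT x hx w₀ hw₀⟩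
        have hc' : c • w₀ = ρ x w₀ := congrArg Subtype.val hc
        refine ⟨c, ?_⟩
        intro w hw
        obtain ⟨d, hd⟩ := hspan ⟨w, hw⟩
        have hd' : d • w₀ = w := congrArg Subtype.val hd
        rw [← hd', map_smul, ← hc', smul_comm]
      obtain ⟨c, hc⟩ := hscalar u hu
      obtain ⟨c', hc'⟩ := hscalar u' hu'
      intro w hw
      rw [LinearMap.mem_eqLocus, LinearMap.comp_apply, LinearMap.comp_apply]
      rw [hc' w hw, map_smul, hc w hw, map_smul, hc' w hw, smul_comm]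
    rw [htop] at hle
    have := hle (Submodule.mem_top (x := v))
    rw [LinearMap.mem_eqLocus, LinearMap.comp_apply, LinearMap.comp_apply] at this
    exact this
  · rw [not_nontrivial_iff_subsingleton] at hV
    intro u _ u' _ v
    exact Subsingleton.elim _ _

end Main

end Cfsg.Agent.Lib.Helper23.FrobB
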