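import Mathlib
import Cfsg.Agent.Lib.Helper23.FrobB

/-!
# Frobenius actions over an arbitrary field, by base change (helper23)
-/

set_option autoImplicit false
set_option linter.style.haveILetI false

namespace Cfsg.Agent.Lib.Helper23.FrobC

open Module Submodule TensorProduct Cfsg.Agent.Lib.Helper23.FrobA Cfsg.Agent.Lib.Helper23.FrobB

universe u

section BaseChange

variable {k : Type*} [Field k] (K : Type*) [Field K] [Algebra k K] {A : Type*} [Group A]
  {V : Type*} [AddCommGroup V] [Module k V]

/-- base change of a representation -/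
noncomputable def bc (ρ : A →* (V →ₗ[k] V)) : A →* ((K ⊗[k] V) →ₗ[K] (K ⊗[k] V)) where
  toFun a := (ρ a).baseChange K
  map_one' := by
    rw [map_one]
    exact LinearMap.baseChange_one k V
  map_mul' := by
    intro a b
    rw [map_mul]
    exact LinearMap.baseChange_mul _ _

theorem bc_tmul (ρ : A →* (V →ₗ[k] V)) (a : A) (c : K) (v : V) :
    bc K ρ a (c ⊗ₜ[k] v) = c ⊗ₜ[k] (ρ a v) := rfl

/-- the difference map whose kernel is the fixed space -/
noncomputable def dmap (ρ : A →* (V →ₗ[k] V)) (B : Subgroup A) : V →ₗ[k] (B → V) :=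
  LinearMap.pi (fun b : B => ρ (b : A) - LinearMap.id)

theorem ker_dmap (ρ : A →* (V →ₗ[k] V)) (B : Subgroup A) :
    LinearMap.ker (dmap ρ B) = fix ρ B := by
  ext v
  rw [LinearMap.mem_ker, mem_fix]
  constructor
  · intro h b hb
    have := congrFun h ⟨b, hb⟩
    simp only [dmap, LinearMap.pi_apply, LinearMap.sub_apply, LinearMap.id_apply,
      Pi.zero_apply] at this
    exact sub_eq_zero.1 this
  · intro h
    funext b
    simp only [dmap, LinearMap.pi_apply, LinearMap.sub_apply, LinearMap.id_apply,
      Pi.zero_apply]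
    exact sub_eq_zero.2 (h b b.2)

theorem ker_dmap_bc (ρ : A →* (V →ₗ[k] V)) (B : Subgroup A) [Finite B] :
    LinearMap.ker (dmap (bc K ρ) B) = LinearMap.ker ((dmap ρ B).baseChange K) := by
  classical
  haveI : Fintype B := Fintype.ofFinite B
  have h : dmap (bc K ρ) B =
      ((TensorProduct.piRight k K K (fun _ : B => V)).toLinearMap).comp
        ((dmap ρ B).baseChange K) := by
    apply TensorProduct.AlgebraTensorModule.ext
    intro c v
    funext b
    simp only [dmap, LinearMap.pi_apply, LinearMap.sub_apply, LinearMap.id_apply,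
      LinearMap.comp_apply, LinearEquiv.coe_coe, LinearMap.baseChange_tmul,
      TensorProduct.piRight_apply, TensorProduct.piRightHom_tmul, bc_tmul, tmul_sub]
  rw [h, LinearEquiv.ker_comp]

theorem finrank_fix_bc [FiniteDimensional k V] (ρ : A →* (V →ₗ[k] V)) (B : Subgroup A) [Finite B] :
    finrank K (fix (bc K ρ) B) = finrank k (fix ρ B) := by
  rw [← ker_dmap, ← ker_dmap, ker_dmap_bc]
  have e := LinearMap.tensorKerEquiv K K (dmap ρ B)
  have h1 : finrank K (LinearMap.ker ((dmap ρ B).baseChange K)) =
      finrank K (K ⊗[k] LinearMap.ker (dmap ρ B)) := (LinearEquiv.finrank_eq e).symm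
  rw [h1, Module.finrank_baseChange]

theorem fix_bc_eq_bot [FiniteDimensional k V] (ρ : A →* (V →ₗ[k] V)) (B : Subgroup A) [Finite B]
    (h : fix ρ B = ⊥) : fix (bc K ρ) B = ⊥ := by
  have h1 := finrank_fix_bc K ρ B
  rw [h, finrank_bot] at h1
  exact Submodule.finrank_eq_zero.1 h1

theorem one_tmul_injective : Function.Injective (fun v : V => (1 : K) ⊗ₜ[k] v) := by
  have := Module.FaithfullyFlat.tensorProduct_mk_injective (A := k) (B := K) V
  exact this

end BaseChange

section Main

variable {k : Type*} [Field k] {A : Type*} [Group A] {U E : Subgroup A}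
  {V : Type*} [AddCommGroup V] [Module k V] [FiniteDimensional k V]

/-- **Counting theorem over an arbitrary field.** -/
theorem count (D : FrobData A U E) (hchar : (Nat.card U : k) ≠ 0) (ρ : A →* (V →ₗ[k] V))
    (hU : fix ρ U = ⊥) : finrank k V = Nat.card E * finrank k (fix ρ E) := by
  haveI := D.finU
  haveI := D.finE
  let K := AlgebraicClosure k
  have hchar' : (Nat.card U : K) ≠ 0 := by
    intro h
    apply hchar
    have : algebraMap k K (Nat.card U : k) = 0 := by rw [map_natCast]; exact h
    exact (map_eq_zero (algebraMap k K)).1 this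
  have h1 := FrobB.count (K := K) D hchar' _ (K ⊗[k] V) (bc K ρ) rfl (fix_bc_eq_bot K ρ U hU)
  rw [finrank_fix_bc, Module.finrank_baseChange] at h1
  exact h1

/-- **Fine structure over an arbitrary field.** -/
theorem fine (D : FrobData A U E) (hchar : (Nat.card U : k) ≠ 0) (ρ : A →* (V →ₗ[k] V))
    (hU : fix ρ U = ⊥) (hE : finrank k (fix ρ E) ≤ 1) :
    ∀ u ∈ U, ∀ u' ∈ U, ∀ v : V, ρ u (ρ u' v) = ρ u' (ρ u v) := by
  haveI := D.finU
  haveI := D.finE
  let K := AlgebraicClosure k
  have hchar' : (Nat.card U : K) ≠ 0 := by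
    intro h
    apply hchar
    have : algebraMap k K (Nat.card U : k) = 0 := by rw [map_natCast]; exact h
    exact (map_eq_zero (algebraMap k K)).1 this
  have h1 := FrobB.fine (K := K) D hchar' (bc K ρ) (fix_bc_eq_bot K ρ U hU)
    (by rw [finrank_fix_bc]; exact hE)
  intro u hu u' hu' v
  have h2 := h1 u hu u' hu' ((1 : K) ⊗ₜ[k] v)
  rw [bc_tmul, bc_tmul, bc_tmul, bc_tmul] at h2
  exact one_tmul_injective K h2

end Main

end Cfsg.Agent.Lib.Helper23.FrobC
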