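import Mathlib
import Cfsg.Agent.Lib.Helper23.FrobC
import Cfsg.Agent.Lib.Helper11.ElemAbGL
import Cfsg.Agent.Lib.Helper6.FrobTools

/-!
# Frobenius actions on elementary abelian groups (helper23)
-/

set_option autoImplicit false
set_option linter.style.haveILetI false

namespace Cfsg.Agent.Lib.Helper23.FrobD

open Module Cfsg.Agent.Lib.Helper23.FrobA Cfsg.Agent.Lib.Helper23.FrobB Cfsg.Agent.Lib.Helper11

universe u

section FixG

variable {A : Type*} [Group A] {H : Type*} [Group H]

/-- fixed points of `B` under an action on a group -/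
def fixG (θ : A →* MulAut H) (B : Subgroup A) : Subgroup H where
  carrier := {h | ∀ b ∈ B, θ b h = h}
  mul_mem' := by
    intro x y hx hy b hb
    rw [map_mul, hx b hb, hy b hb]
  one_mem' := by
    intro b _
    exact map_one _
  inv_mem' := by
    intro x hx b hb
    rw [map_inv, hx b hb]

theorem mem_fixG {θ : A →* MulAut H} {B : Subgroup A} {h : H} :
    h ∈ fixG θ B ↔ ∀ b ∈ B, θ b h = h := Iff.rfl

theorem theta_inv_apply (θ : A →* MulAut H) (a : A) (h : H) : θ a⁻¹ (θ a h) = h := by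
  rw [map_inv]
  exact (θ a).symm_apply_apply h

theorem theta_apply_inv (θ : A →* MulAut H) (a : A) (h : H) : θ a (θ a⁻¹ h) = h := by
  have := theta_inv_apply θ a⁻¹ h
  rwa [inv_inv] at this

theorem theta_mul_apply (θ : A →* MulAut H) (a b : A) (h : H) : θ (a * b) h = θ a (θ b h) := by
  rw [map_mul]; rfl

theorem fixG_sup (θ : A →* MulAut H) (B C : Subgroup A) :
    fixG θ (B ⊔ C) = fixG θ B ⊓ fixG θ C := by
  ext h
  rw [Subgroup.mem_inf]
  constructor
  · intro hh
    exact ⟨fun b hb => hh b (Subgroup.mem_sup_left hb), fun c hc => hh c (Subgroup.mem_sup_right hc)⟩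
  · rintro ⟨h1, h2⟩
    let S : Subgroup A :=
      { carrier := {a | θ a h = h}
        mul_mem' := by
          intro a b ha hb
          change θ (a * b) h = h
          rw [theta_mul_apply, hb, ha]
        one_mem' := by
          change θ 1 h = h
          rw [map_one]; rfl
        inv_mem' := by
          intro a ha
          change θ a⁻¹ h = h
          have := theta_inv_apply θ a h
          rw [ha] at this
          exact this }
    have hS : B ⊔ C ≤ S := sup_le (fun b hb => h1 b hb) (fun c hc => h2 c hc)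
    intro a ha
    exact hS ha

theorem fixG_anti (θ : A →* MulAut H) {B C : Subgroup A} (h : B ≤ C) : fixG θ C ≤ fixG θ B :=
  fun _ hx b hb => hx b (h hb)

/-- the fixed points of a normal subgroup are invariant -/
theorem fixG_normal_inv (θ : A →* MulAut H) (B : Subgroup A) [hB : B.Normal] (a : A) (h : H)
    (hh : h ∈ fixG θ B) : θ a h ∈ fixG θ B := by
  intro b hb
  have h1 : a⁻¹ * b * a ∈ B := by
    have := hB.conj_mem b hb a⁻¹
    simpa using this
  have h2 : b * a = a * (a⁻¹ * b * a) := by group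
  rw [← theta_mul_apply, h2, theta_mul_apply, hh _ h1]

end FixG

section Linear

variable {A : Type*} [Group A] {W : Type*} [CommGroup W]

/-- the linear representation attached to an action on an elementary abelian group -/
noncomputable def lrep (ℓ : ℕ) [Module (ZMod ℓ) (Additive W)] (θ : A →* MulAut W) :
    A →* (Additive W →ₗ[ZMod ℓ] Additive W) where
  toFun a := ((mulAutToLinearEquiv W ℓ (θ a)) : Additive W →ₗ[ZMod ℓ] Additive W)
  map_one' := by
    ext v
    simp
  map_mul' := by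
    intro a b
    ext v
    simp

theorem lrep_apply (ℓ : ℕ) [Module (ZMod ℓ) (Additive W)] (θ : A →* MulAut W) (a : A)
    (v : Additive W) : lrep ℓ θ a v = Additive.ofMul (θ a v.toMul) := rfl

theorem card_fix_lrep (ℓ : ℕ) [Fact ℓ.Prime] [Module (ZMod ℓ) (Additive W)] (θ : A →* MulAut W)
    (B : Subgroup A) : Nat.card (fix (lrep ℓ θ) B) = Nat.card (fixG θ B) := by
  apply Nat.card_congr
  refine Equiv.subtypeEquiv Additive.toMul ?_
  intro v
  change (∀ b ∈ B, lrep ℓ θ b v = v) ↔ (∀ b ∈ B, θ b v.toMul = v.toMul)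
  constructor
  · intro h b hb
    have := h b hb
    rw [lrep_apply] at this
    exact congrArg Additive.toMul this
  · intro h b hb
    rw [lrep_apply, h b hb]
    rfl

theorem fix_lrep_eq_bot (ℓ : ℕ) [Fact ℓ.Prime] [Module (ZMod ℓ) (Additive W)] (θ : A →* MulAut W)
    (B : Subgroup A) (h : fixG θ B = ⊥) : fix (lrep ℓ θ) B = ⊥ := by
  have h1 := card_fix_lrep ℓ θ B
  rw [h, Subgroup.card_bot] at h1
  rw [eq_bot_iff]
  intro v hv
  haveI : Subsingleton (fix (lrep ℓ θ) B) := (Nat.card_eq_one_iff_unique.1 h1).1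
  have : (⟨v, hv⟩ : fix (lrep ℓ θ) B) = 0 := Subsingleton.elim _ _
  exact (Submodule.mem_bot _).2 (congrArg Subtype.val this)

variable [Finite W] {U E : Subgroup A}

theorem count_elem_aux (D : FrobData A U E) (ℓ : ℕ) [hℓ : Fact ℓ.Prime]
    [Module (ZMod ℓ) (Additive W)]
    (hℓU : ¬ ℓ ∣ Nat.card U) (θ : A →* MulAut W) (hU : fixG θ U = ⊥) :
    Nat.card W = Nat.card (fixG θ E) ^ Nat.card E := by
  haveI hfin : Finite (Additive W) := inferInstanceAs (Finite W)
  haveI hfd : FiniteDimensional (ZMod ℓ) (Additive W) := Module.Finite.of_finite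
  have hchar : (Nat.card U : ZMod ℓ) ≠ 0 := by
    rw [Ne, ZMod.natCast_eq_zero_iff]
    exact hℓU
  have hU' := fix_lrep_eq_bot ℓ θ U hU
  have h1 := FrobC.count D hchar (lrep ℓ θ) hU'
  have h2 := Module.natCard_eq_pow_finrank (K := ZMod ℓ) (V := Additive W)
  have h3 := Module.natCard_eq_pow_finrank (K := ZMod ℓ) (V := fix (lrep ℓ θ) E)
  rw [card_fix_lrep] at h3
  have h4 : Nat.card (Additive W) = Nat.card W := rfl
  rw [← h4, h2, h3, h1, ← pow_mul, mul_comm]

theorem fine_elem_aux (D : FrobData A U E) (ℓ : ℕ) [hℓ : Fact ℓ.Prime]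
    [Module (ZMod ℓ) (Additive W)]
    (hℓU : ¬ ℓ ∣ Nat.card U) (θ : A →* MulAut W) (hU : fixG θ U = ⊥)
    (hE : Nat.card (fixG θ E) ≤ ℓ) :
    ∀ u ∈ U, ∀ u' ∈ U, ∀ w : W, θ u (θ u' w) = θ u' (θ u w) := by
  haveI hfin : Finite (Additive W) := inferInstanceAs (Finite W)
  haveI hfd : FiniteDimensional (ZMod ℓ) (Additive W) := Module.Finite.of_finite
  have hchar : (Nat.card U : ZMod ℓ) ≠ 0 := by
    rw [Ne, ZMod.natCast_eq_zero_iff]
    exact hℓU
  have hU' := fix_lrep_eq_bot ℓ θ U hU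
  have h3 := Module.natCard_eq_pow_finrank (K := ZMod ℓ) (V := fix (lrep ℓ θ) E)
  rw [card_fix_lrep, Nat.card_zmod] at h3
  have hE' : finrank (ZMod ℓ) (fix (lrep ℓ θ) E) ≤ 1 := by
    rw [h3] at hE
    have h5 : ℓ ^ finrank (ZMod ℓ) (fix (lrep ℓ θ) E) ≤ ℓ ^ 1 := by simpa using hE
    exact (Nat.pow_le_pow_iff_right hℓ.out.one_lt).1 h5
  have h1 := FrobC.fine D hchar (lrep ℓ θ) hU' hE'
  intro u hu u' hu' w
  have := h1 u hu u' hu' (Additive.ofMul w)
  rw [lrep_apply, lrep_apply, lrep_apply, lrep_apply] at this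
  exact congrArg Additive.toMul this

/-- **Counting theorem for elementary abelian groups.** -/
theorem count_elem (D : FrobData A U E) (ℓ : ℕ) [hℓ : Fact ℓ.Prime] (hexp : ∀ w : W, w ^ ℓ = 1)
    (hℓU : ¬ ℓ ∣ Nat.card U) (θ : A →* MulAut W) (hU : fixG θ U = ⊥) :
    Nat.card W = Nat.card (fixG θ E) ^ Nat.card E := by
  letI : Module (ZMod ℓ) (Additive W) := AddCommGroup.zmodModule (by
    intro x
    exact congrArg Additive.ofMul (hexp x.toMul))
  exact count_elem_aux D ℓ hℓU θ hU

/-- **Fine structure for elementary abelian groups.** -/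
theorem fine_elem (D : FrobData A U E) (ℓ : ℕ) [hℓ : Fact ℓ.Prime] (hexp : ∀ w : W, w ^ ℓ = 1)
    (hℓU : ¬ ℓ ∣ Nat.card U) (θ : A →* MulAut W) (hU : fixG θ U = ⊥)
    (hE : Nat.card (fixG θ E) ≤ ℓ) :
    ∀ u ∈ U, ∀ u' ∈ U, ∀ w : W, θ u (θ u' w) = θ u' (θ u w) := by
  letI : Module (ZMod ℓ) (Additive W) := AddCommGroup.zmodModule (by
    intro x
    exact congrArg Additive.ofMul (hexp x.toMul))
  exact fine_elem_aux D ℓ hℓU θ hU hE

end Linear

section Data

variable {A : Type u} [Group A] [Finite A]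

theorem frobData_of_nilpotent (U E : Subgroup A) [hUn : U.Normal]
    (hfpf : ∀ e ∈ E, e ≠ 1 → ∀ u ∈ U, e * u = u * e → u = 1) (hgen : U ⊔ E = ⊤)
    (hnil : Group.IsNilpotent U) : FrobData A U E := by
  refine ⟨inferInstance, inferInstance, ?_, hfpf, hgen, ?_⟩
  · rw [Subgroup.normalizer_eq_top]
    exact le_top
  · refine ⟨Group.nilpotencyClass U, fun i => (Subgroup.upperCentralSeries U i).map U.subtype,
      ?_, ?_, ?_, ?_, ?_, ?_⟩
    · dsimp only
      rw [Subgroup.upperCentralSeries_zero, Subgroup.map_bot]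
    · dsimp only
      rw [Subgroup.upperCentralSeries_nilpotencyClass, ← MonoidHom.range_eq_map, Subgroup.range_subtype]
    · intro i
      exact Subgroup.map_mono (Subgroup.upperCentralSeries_mono U (Nat.le_succ i))
    · intro i
      exact Subgroup.map_subtype_le _
    · intro i
      haveI : ((Subgroup.upperCentralSeries U i).map U.subtype).Normal :=
        ConjAct.normal_of_characteristic_of_normal
      rw [Subgroup.normalizer_eq_top]
      exact le_top
    · rintro i _ ⟨y, hy, rfl⟩ u hu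
      have h1 := (Subgroup.mem_upperCentralSeries_succ_iff.1 (Subgroup.inv_mem _ hy))
        (⟨u, hu⟩ : U)⁻¹
      refine ⟨_, h1, ?_⟩
      simp [commutatorElement_def]

theorem nilpotent_of_fpf (U E : Subgroup A) [hUn : U.Normal] (hE : E ≠ ⊥)
    (hfpf : ∀ e ∈ E, e ≠ 1 → ∀ u ∈ U, e * u = u * e → u = 1) : Group.IsNilpotent U := by
  have hE' : Nontrivial E := (Subgroup.nontrivial_iff_ne_bot E).2 hE
  have hcard : 1 < Nat.card E := Finite.one_lt_card
  obtain ⟨p, hp, hpd⟩ := Nat.exists_prime_and_dvd (Nat.ne_of_gt hcard)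
  haveI : Fact p.Prime := ⟨hp⟩
  obtain ⟨b, hb⟩ := exists_prime_orderOf_dvd_card' (G := E) p hpd
  have hb1 : (b : A) ≠ 1 := by
    intro h
    have : b = 1 := Subtype.ext h
    rw [this, orderOf_one] at hb
    exact hp.one_lt.ne hb
  exact Cfsg.Agent.Lib.Helper6.FrobTools.fk_nilpotent U (b : A) p hp
    (by rw [Subgroup.orderOf_coe]; exact hb) (fun x hx hc => hfpf b b.2 hb1 x hx hc)

theorem frobData_of_fpf (U E : Subgroup A) [hUn : U.Normal] (hE : E ≠ ⊥)
    (hfpf : ∀ e ∈ E, e ≠ 1 → ∀ u ∈ U, e * u = u * e → u = 1) (hgen : U ⊔ E = ⊤) :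
    FrobData A U E :=
  frobData_of_nilpotent U E hfpf hgen (nilpotent_of_fpf U E hE hfpf)

end Data

end Cfsg.Agent.Lib.Helper23.FrobD
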