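import Mathlib
import Cfsg.Agent.Lib.Helper23.FrobD
import Cfsg.Agent.S0022

/-!
# Frobenius groups acting coprimely on solvable groups: abstract actions (helper23)
-/

set_option autoImplicit false
set_option linter.style.haveILetI false

namespace Cfsg.Agent.Lib.Helper23.FrobE

open Cfsg.Agent.Lib.Helper23.FrobB Cfsg.Agent.Lib.Helper23.FrobD
open scoped commutatorElement

universe u

theorem le_normalizer_of_conj_mem {G : Type*} [Group G] (S N : Subgroup G)
    (h : ∀ s ∈ S, ∀ n ∈ N, s * n * s⁻¹ ∈ N) : S ≤ Subgroup.normalizer (N : Set G) := by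
  intro s hs
  rw [Subgroup.mem_normalizer_iff]
  intro n
  constructor
  · exact h s hs n
  · intro hn
    have := h s⁻¹ (S.inv_mem hs) _ hn
    simpa [mul_assoc] using this

section Actions

variable {A : Type*} [Group A] {H : Type*} [Group H]

/-- invariant subgroup -/
def InvG (θ : A →* MulAut H) (N : Subgroup H) : Prop := ∀ a : A, ∀ n ∈ N, θ a n ∈ N

/-- the restricted action -/
def rAct (θ : A →* MulAut H) (N : Subgroup H) (hN : InvG θ N) : A →* MulAut N where
  toFun a :=
    { toFun := fun n => ⟨θ a n, hN a n n.2⟩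
      invFun := fun n => ⟨θ a⁻¹ n, hN a⁻¹ n n.2⟩
      left_inv := fun n => Subtype.ext (theta_inv_apply θ a n)
      right_inv := fun n => Subtype.ext (theta_apply_inv θ a n)
      map_mul' := fun x y => Subtype.ext (map_mul (θ a) (x : H) (y : H)) }
  map_one' := by
    ext n
    change θ 1 (n : H) = n
    rw [map_one]; rfl
  map_mul' := by
    intro a b
    ext n
    change θ (a * b) (n : H) = θ a (θ b n)
    exact theta_mul_apply θ a b n

theorem rAct_apply (θ : A →* MulAut H) (N : Subgroup H) (hN : InvG θ N) (a : A) (n : N) :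
    ((rAct θ N hN a n : N) : H) = θ a n := rfl

theorem map_eq_of_inv (θ : A →* MulAut H) (N : Subgroup H) (hN : InvG θ N) (a : A) :
    N.map ((θ a : MulAut H) : H →* H) = N := by
  ext x
  constructor
  · rintro ⟨n, hn, rfl⟩
    exact hN a n hn
  · intro hx
    exact ⟨θ a⁻¹ x, hN a⁻¹ x hx, theta_apply_inv θ a x⟩

/-- the action on the quotient -/
noncomputable def qAct (θ : A →* MulAut H) (N : Subgroup H) [N.Normal] (hN : InvG θ N) :
    A →* MulAut (H ⧸ N) where
  toFun a := QuotientGroup.congr N N (θ a) (map_eq_of_inv θ N hN a)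
  map_one' := by
    ext q
    induction q using QuotientGroup.induction_on with
    | H x =>
      change QuotientGroup.mk (θ 1 x) = QuotientGroup.mk x
      rw [map_one]; rfl
  map_mul' := by
    intro a b
    ext q
    induction q using QuotientGroup.induction_on with
    | H x =>
      change QuotientGroup.mk (θ (a * b) x) = QuotientGroup.mk (θ a (θ b x))
      rw [theta_mul_apply]

theorem qAct_mk (θ : A →* MulAut H) (N : Subgroup H) [N.Normal] (hN : InvG θ N) (a : A) (x : H) :
    qAct θ N hN a (QuotientGroup.mk x) = QuotientGroup.mk (θ a x) := rfl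

theorem fixG_rAct (θ : A →* MulAut H) (N : Subgroup H) (hN : InvG θ N) (B : Subgroup A) :
    fixG (rAct θ N hN) B = (fixG θ B).subgroupOf N := by
  ext n
  rw [mem_fixG, Subgroup.mem_subgroupOf, mem_fixG]
  constructor
  · intro h b hb
    exact congrArg Subtype.val (h b hb)
  · intro h b hb
    exact Subtype.ext (h b hb)

/-- lifting fixed points through a quotient, coprime action -/
theorem lift_fixed [Finite A] [Finite H] (θ : A →* MulAut H) (N : Subgroup H) [hNn : N.Normal]
    (hN : InvG θ N) (B : Subgroup A) (hcop : (Nat.card B).Coprime (Nat.card H))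
    (hsolv : Group.IsSolvable H) (h : H) (hh : ∀ b ∈ B, θ b h * h⁻¹ ∈ N) :
    ∃ c ∈ fixG θ B, h⁻¹ * c ∈ N := by
  let G := H ⋊[θ] A
  haveI : Finite G := Finite.of_equiv _ SemidirectProduct.equivProd.symm
  let il : H →* G := SemidirectProduct.inl
  let ir : A →* G := SemidirectProduct.inr
  have hil : Function.Injective il := SemidirectProduct.inl_injective
  have hir : Function.Injective ir := SemidirectProduct.inr_injective
  have hconj : ∀ (a : A) (x : H), ir a * il x * (ir a)⁻¹ = il (θ a x) := by
    intro a x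
    rw [← map_inv]
    exact (SemidirectProduct.inl_aut a x).symm
  haveI hK : (il.range).Normal := by
    have : il.range = (SemidirectProduct.rightHom : G →* A).ker :=
      SemidirectProduct.range_inl_eq_ker_rightHom
    rw [this]
    infer_instance
  have hsolvK : Group.IsSolvable il.range :=
    Group.isSolvable_of_surjective (f := il.rangeRestrict) il.rangeRestrict_surjective
  have hcard1 : Nat.card (B.map ir) = Nat.card B := Subgroup.card_map_of_injective hir
  have hcard2 : Nat.card il.range = Nat.card H :=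
    (Nat.card_congr (MonoidHom.ofInjective hil).toEquiv).symm
  obtain ⟨c, hc, hcN⟩ := Cfsg.Agent.S0022.result (B.map ir) il.range
    (by rw [Subgroup.normalizer_eq_top]; exact le_top)
    (by rw [hcard1, hcard2]; exact hcop) (Or.inr hsolvK) (N.map il)
    (by rintro _ ⟨n, -, rfl⟩; exact ⟨n, rfl⟩)
    (by
      apply le_normalizer_of_conj_mem
      rintro _ ⟨x, rfl⟩ _ ⟨n, hn, rfl⟩
      refine ⟨x * n * x⁻¹, hNn.conj_mem n hn x, ?_⟩
      simp)
    (by
      apply le_normalizer_of_conj_mem
      rintro _ ⟨b, -, rfl⟩ _ ⟨n, hn, rfl⟩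
      exact ⟨θ b n, hN b n hn, (hconj b n).symm⟩)
    (il h) ⟨h, rfl⟩
    (by
      rintro _ ⟨b, hb, rfl⟩
      refine ⟨θ b h * h⁻¹, hh b hb, ?_⟩
      rw [map_mul, map_inv, ← hconj])
  obtain ⟨⟨c₀, rfl⟩, hcc⟩ := Subgroup.mem_inf.1 hc
  refine ⟨c₀, ?_, ?_⟩
  · intro b hb
    have h1 := Subgroup.mem_centralizer_iff.1 hcc (ir b) ⟨b, hb, rfl⟩
    apply hil
    rw [← hconj, h1, mul_inv_cancel_right]
  · obtain ⟨n, hn, hn'⟩ := hcN
    have : il n = il (h⁻¹ * c₀) := by rw [hn', map_mul, map_inv]
    rw [← hil this]
    exact hn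

theorem fixG_qAct [Finite A] [Finite H] (θ : A →* MulAut H) (N : Subgroup H) [hNn : N.Normal]
    (hN : InvG θ N) (B : Subgroup A) (hcop : (Nat.card B).Coprime (Nat.card H))
    (hsolv : Group.IsSolvable H) :
    fixG (qAct θ N hN) B = (fixG θ B).map (QuotientGroup.mk' N) := by
  ext q
  constructor
  · intro hq
    induction q using QuotientGroup.induction_on with
    | H x =>
      have hh : ∀ b ∈ B, θ b x * x⁻¹ ∈ N := by
        intro b hb
        have h1 := hq b hb
        rw [qAct_mk] at h1
        have h2 : ((θ b x * x⁻¹ : H) : H ⧸ N) = 1 := by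
          rw [QuotientGroup.mk_mul, QuotientGroup.mk_inv, h1, mul_inv_cancel]
        exact (QuotientGroup.eq_one_iff _).1 h2
      obtain ⟨c, hc, hcN⟩ := lift_fixed θ N hN B hcop hsolv x hh
      refine ⟨c, hc, ?_⟩
      exact (QuotientGroup.eq.2 hcN).symm
  · rintro ⟨x, hx, rfl⟩
    intro b hb
    change qAct θ N hN b (QuotientGroup.mk x) = QuotientGroup.mk x
    rw [qAct_mk, hx b hb]

/-- the cardinality of the fixed points is multiplicative along an invariant normal subgroup -/
theorem card_fixG_mul [Finite A] [Finite H] (θ : A →* MulAut H) (N : Subgroup H) [hNn : N.Normal]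
    (hN : InvG θ N) (B : Subgroup A) (hcop : (Nat.card B).Coprime (Nat.card H))
    (hsolv : Group.IsSolvable H) :
    Nat.card (fixG θ B) = Nat.card (fixG (rAct θ N hN) B) * Nat.card (fixG (qAct θ N hN) B) := by
  rw [fixG_qAct θ N hN B hcop hsolv]
  let g : fixG θ B →* (H ⧸ N) := (QuotientGroup.mk' N).comp (fixG θ B).subtype
  have hrange : g.range = (fixG θ B).map (QuotientGroup.mk' N) := by
    ext q
    constructor
    · rintro ⟨x, rfl⟩
      exact ⟨x, x.2, rfl⟩
    · rintro ⟨x, hx, rfl⟩
      exact ⟨⟨x, hx⟩, rfl⟩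
  have hker : Nat.card g.ker = Nat.card (fixG (rAct θ N hN) B) := by
    apply Nat.card_congr
    refine
      { toFun := fun x => ⟨⟨(x : fixG θ B), ?_⟩, ?_⟩
        invFun := fun y => ⟨⟨(y : N), ?_⟩, ?_⟩
        left_inv := fun x => rfl
        right_inv := fun y => rfl }
    · have := x.2
      rw [MonoidHom.mem_ker] at this
      exact (QuotientGroup.eq_one_iff _).1 this
    · rw [fixG_rAct, Subgroup.mem_subgroupOf]
      exact (x : fixG θ B).2
    · have h1 : (y : N) ∈ (fixG θ B).subgroupOf N := (fixG_rAct θ N hN B) ▸ y.2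
      exact Subgroup.mem_subgroupOf.1 h1
    · rw [MonoidHom.mem_ker]
      exact (QuotientGroup.eq_one_iff _).2 (y : N).2
  rw [← hrange, ← hker, ← Subgroup.index_ker, Subgroup.card_mul_index]

end Actions

section Main

variable {A : Type*} [Group A] [Finite A] {U E : Subgroup A}

/-- **Main theorem (abstract form).** -/
theorem main [hUn : U.Normal] (D : FrobData A U E) :
    ∀ (n : ℕ) (H : Type u) [Group H] [Finite H] (θ : A →* MulAut H), Nat.card H = n →
      (Nat.card H).Coprime (Nat.card A) → Group.IsSolvable H →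
      Nat.card (fixG θ ⊤) ^ Nat.card E * Nat.card H =
        Nat.card (fixG θ E) ^ Nat.card E * Nat.card (fixG θ U) := by
  intro n
  induction n using Nat.strong_induction_on with
  | _ n ih =>
  intro H _ _ θ hn hcop hsolv
  have hcopB : ∀ B : Subgroup A, (Nat.card B).Coprime (Nat.card H) := fun B =>
    (Nat.Coprime.coprime_dvd_right (Subgroup.card_subgroup_dvd_card B) hcop).symm
  by_cases hex : ∃ N : Subgroup H, N.Normal ∧ InvG θ N ∧ N ≠ ⊥ ∧ N ≠ ⊤
  · obtain ⟨N, hNn, hNinv, hNbot, hNtop⟩ := hex
    haveI := hNn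
    have hH : Nat.card H = Nat.card N * Nat.card (H ⧸ N) := by
      rw [mul_comm]
      exact Subgroup.card_eq_card_quotient_mul_card_subgroup N
    have hN1 : 1 < Nat.card N := by
      haveI : Nontrivial N := (Subgroup.nontrivial_iff_ne_bot N).2 hNbot
      exact Finite.one_lt_card
    have hQ1 : 1 < Nat.card (H ⧸ N) := by
      by_contra hcon
      have hpos : 0 < Nat.card (H ⧸ N) := Nat.card_pos
      have h1 : Nat.card (H ⧸ N) = 1 := by omega
      have h2 : N.index = 1 := h1
      exact hNtop (Subgroup.index_eq_one.1 h2)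
    have hNpos : 0 < Nat.card N := Nat.card_pos
    have hQpos : 0 < Nat.card (H ⧸ N) := Nat.card_pos
    have hcN : Nat.card N < n := by
      rw [← hn, hH]
      nlinarith
    have hcQ : Nat.card (H ⧸ N) < n := by
      rw [← hn, hH]
      nlinarith
    have hcopN : (Nat.card N).Coprime (Nat.card A) :=
      Nat.Coprime.coprime_dvd_left (Dvd.intro _ hH.symm) hcop
    have hcopQ : (Nat.card (H ⧸ N)).Coprime (Nat.card A) :=
      Nat.Coprime.coprime_dvd_left (Dvd.intro_left _ hH.symm) hcop
    have h1 := ih _ hcN N (rAct θ N hNinv) rfl hcopN inferInstance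
    have h2 := ih _ hcQ (H ⧸ N) (qAct θ N hNinv) rfl hcopQ inferInstance
    have key : ∀ B : Subgroup A, Nat.card (fixG θ B) =
        Nat.card (fixG (rAct θ N hNinv) B) * Nat.card (fixG (qAct θ N hNinv) B) :=
      fun B => card_fixG_mul θ N hNinv B (hcopB B) hsolv
    rw [key ⊤, key E, key U, hH, mul_pow, mul_pow]
    calc Nat.card (fixG (rAct θ N hNinv) ⊤) ^ Nat.card E *
          Nat.card (fixG (qAct θ N hNinv) ⊤) ^ Nat.card E * (Nat.card N * Nat.card (H ⧸ N))
        = (Nat.card (fixG (rAct θ N hNinv) ⊤) ^ Nat.card E * Nat.card N) *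
          (Nat.card (fixG (qAct θ N hNinv) ⊤) ^ Nat.card E * Nat.card (H ⧸ N)) := by ring
      _ = (Nat.card (fixG (rAct θ N hNinv) E) ^ Nat.card E * Nat.card (fixG (rAct θ N hNinv) U)) *
          (Nat.card (fixG (qAct θ N hNinv) E) ^ Nat.card E *
            Nat.card (fixG (qAct θ N hNinv) U)) := by rw [h1, h2]
      _ = _ := by ring
  · push Not at hex
    by_cases hH1 : Subsingleton H
    · have hc : ∀ S : Subgroup H, Nat.card S = 1 := by
        intro S
        haveI : Subsingleton S := inferInstance
        exact Nat.card_unique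
      have hcH : Nat.card H = 1 := Nat.card_unique
      rw [hc, hc, hc, hcH]
    · rw [not_subsingleton_iff_nontrivial] at hH1
      -- `H` is abelian
      have hcomm : ∀ x y : H, x * y = y * x := by
        have h1 : commutator H ≠ ⊤ := (Group.IsSolvable.commutator_lt_top_of_nontrivial H).ne
        have h2 : InvG θ (commutator H) := by
          intro a x hx
          have := (Subgroup.characteristic_iff_map_eq.1
            (inferInstance : (commutator H).Characteristic)) (θ a)
          rw [← this]
          exact Subgroup.mem_map_of_mem _ hx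
        have h3 : commutator H = ⊥ := by
          by_contra h
          exact h1 (hex _ inferInstance h2 h)
        intro x y
        have h4 : ⁅x, y⁆ ∈ commutator H :=
          Subgroup.commutator_mem_commutator (Subgroup.mem_top x) (Subgroup.mem_top y)
        rw [h3, Subgroup.mem_bot, commutatorElement_eq_one_iff_mul_comm] at h4
        exact h4
      have hnormal : ∀ S : Subgroup H, S.Normal := by
        intro S
        constructor
        intro n hn g
        rw [hcomm g n, mul_inv_cancel_right]
        exact hn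
      -- prime
      have hcard1 : Nat.card H ≠ 1 := by
        have : 1 < Nat.card H := Finite.one_lt_card
        omega
      obtain ⟨ℓ, hℓ, hℓd⟩ := Nat.exists_prime_and_dvd hcard1
      haveI : Fact ℓ.Prime := ⟨hℓ⟩
      let Ω : Subgroup H :=
        { carrier := {h | h ^ ℓ = 1}
          mul_mem' := by
            intro a b ha hb
            change (a * b) ^ ℓ = 1
            rw [(show Commute a b from hcomm a b).mul_pow, show a ^ ℓ = 1 from ha,
              show b ^ ℓ = 1 from hb, one_mul]
          one_mem' := one_pow ℓ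
          inv_mem' := by
            intro a ha
            change a⁻¹ ^ ℓ = 1
            rw [inv_pow, show a ^ ℓ = 1 from ha, inv_one] }
      have hΩinv : InvG θ Ω := by
        intro a x hx
        change (θ a x) ^ ℓ = 1
        rw [← map_pow, show x ^ ℓ = 1 from hx, map_one]
      have hΩbot : Ω ≠ ⊥ := by
        obtain ⟨x, hx⟩ := exists_prime_orderOf_dvd_card' (G := H) ℓ hℓd
        intro h
        have hxΩ : x ∈ Ω := by
          change x ^ ℓ = 1
          rw [← hx, pow_orderOf_eq_one]
        rw [h, Subgroup.mem_bot] at hxΩ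
        rw [hxΩ, orderOf_one] at hx
        exact hℓ.one_lt.ne hx
      have hΩtop : Ω = ⊤ := hex Ω (hnormal Ω) hΩinv hΩbot
      have hexp : ∀ w : H, w ^ ℓ = 1 := by
        intro w
        have : w ∈ Ω := hΩtop ▸ Subgroup.mem_top w
        exact this
      have hℓU : ¬ ℓ ∣ Nat.card U := by
        intro h
        have h1 : ℓ ∣ Nat.card A := h.trans (Subgroup.card_subgroup_dvd_card U)
        have := Nat.eq_one_of_dvd_coprimes hcop hℓd h1
        exact hℓ.one_lt.ne' this
      have hUinv : InvG θ (fixG θ U) := fun a h hh => fixG_normal_inv θ U a h hh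
      by_cases hUbot : fixG θ U = ⊥
      · have htop : fixG θ ⊤ = ⊥ := by
          rw [eq_bot_iff, ← hUbot]
          exact fixG_anti θ le_top
        letI : CommGroup H := { (inferInstance : Group H) with mul_comm := hcomm }
        have hcount := count_elem D ℓ hexp hℓU θ hUbot
        rw [htop, hUbot, Subgroup.card_bot, one_pow, one_mul, mul_one]
        exact hcount
      · have hUtop : fixG θ U = ⊤ := hex _ (hnormal _) hUinv hUbot
        have htop : fixG θ ⊤ = fixG θ E := by
          rw [← D.gen, fixG_sup, hUtop, top_inf_eq]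
        rw [htop, hUtop, Subgroup.card_top]

end Main

end Cfsg.Agent.Lib.Helper23.FrobE
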