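import Mathlib
import Cfsg.Agent.Lib.Helper23.FrobE

/-!
# Frobenius groups acting coprimely on solvable groups: ambient form (helper23)
-/

set_option autoImplicit false
set_option linter.style.haveILetI false

namespace Cfsg.Agent.Lib.Helper23.FrobF

open Cfsg.Agent.Lib.Helper23.FrobB Cfsg.Agent.Lib.Helper23.FrobD Cfsg.Agent.Lib.Helper23.FrobE

universe u

section Ambient

variable {X : Type u} [Group X]

/-- the conjugation action of `L ≤ N(H)` on `H` -/
noncomputable def theta (L H : Subgroup X) (hLH : L ≤ Subgroup.normalizer (H : Set X)) :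
    L →* MulAut H :=
  H.normalizerMonoidHom.comp (Subgroup.inclusion hLH)

theorem theta_apply (L H : Subgroup X) (hLH : L ≤ Subgroup.normalizer (H : Set X)) (a : L) (h : H) :
    ((theta L H hLH a h : H) : X) = (a : X) * h * (a : X)⁻¹ := rfl

theorem card_fixG_theta (L H : Subgroup X) (hLH : L ≤ Subgroup.normalizer (H : Set X))
    (B : Subgroup X) (hBL : B ≤ L) :
    Nat.card (fixG (theta L H hLH) (B.subgroupOf L)) =
      Nat.card ↥(H ⊓ Subgroup.centralizer (B : Set X)) := by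
  apply Nat.card_congr
  refine
    { toFun := fun x => ⟨((x : H) : X), Subgroup.mem_inf.2 ⟨(x : H).2, ?_⟩⟩
      invFun := fun y => ⟨⟨(y : X), (Subgroup.mem_inf.1 y.2).1⟩, ?_⟩
      left_inv := fun x => rfl
      right_inv := fun y => rfl }
  · rw [Subgroup.mem_centralizer_iff]
    intro b hb
    have h1 := x.2 ⟨b, hBL hb⟩ (Subgroup.mem_subgroupOf.2 hb)
    have h2 : b * ((x : H) : X) * b⁻¹ = ((x : H) : X) := by
      have := congrArg Subtype.val h1
      rwa [theta_apply] at this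
    calc b * ((x : H) : X) = b * ((x : H) : X) * b⁻¹ * b := by group
      _ = ((x : H) : X) * b := by rw [h2]
  · intro b hb
    apply Subtype.ext
    rw [theta_apply]
    have h1 := Subgroup.mem_centralizer_iff.1 (Subgroup.mem_inf.1 y.2).2 (b : X)
      (Subgroup.mem_subgroupOf.1 hb)
    change (b : X) * (y : X) * (b : X)⁻¹ = (y : X)
    rw [h1, mul_inv_cancel_right]

variable [Finite X]

theorem normal_subgroupOf_sup (U E : Subgroup X) (hUn : ∀ e ∈ E, ∀ u ∈ U, e * u * e⁻¹ ∈ U) :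
    (U.subgroupOf (U ⊔ E)).Normal := by
  have h1 : U ⊔ E ≤ Subgroup.normalizer (U : Set X) :=
    sup_le Subgroup.le_normalizer (le_normalizer_of_conj_mem E U hUn)
  constructor
  intro n hn g
  rw [Subgroup.mem_subgroupOf] at hn ⊢
  have := (Subgroup.mem_normalizer_iff.1 (h1 g.2) (n : X)).1 hn
  simpa using this

theorem frobData_ambient (U E : Subgroup X) (hE1 : E ≠ ⊥)
    (hUn : ∀ e ∈ E, ∀ u ∈ U, e * u * e⁻¹ ∈ U)
    (hfpf : ∀ e ∈ E, e ≠ 1 → ∀ u ∈ U, e * u = u * e → u = 1) :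
    FrobData ↥(U ⊔ E) (U.subgroupOf (U ⊔ E)) (E.subgroupOf (U ⊔ E)) := by
  haveI := normal_subgroupOf_sup U E hUn
  apply frobData_of_fpf
  · intro h
    apply hE1
    rw [eq_bot_iff]
    intro e he
    have : (⟨e, (le_sup_right : E ≤ U ⊔ E) he⟩ : ↥(U ⊔ E)) ∈ E.subgroupOf (U ⊔ E) :=
      Subgroup.mem_subgroupOf.2 he
    rw [h, Subgroup.mem_bot] at this
    exact Subgroup.mem_bot.2 (congrArg Subtype.val this)
  · intro e he he1 u hu hc
    have := hfpf e (Subgroup.mem_subgroupOf.1 he) (fun h => he1 (Subtype.ext h)) u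
      (Subgroup.mem_subgroupOf.1 hu) (congrArg Subtype.val hc)
    exact Subtype.ext this
  · rw [← Subgroup.subgroupOf_sup le_sup_left le_sup_right, Subgroup.subgroupOf_self]

/-- **The formula** (S1545 in a slightly more general form). -/
theorem formula (U E H : Subgroup X) (hE1 : E ≠ ⊥)
    (hUn : ∀ e ∈ E, ∀ u ∈ U, e * u * e⁻¹ ∈ U)
    (hfpf : ∀ e ∈ E, e ≠ 1 → ∀ u ∈ U, e * u = u * e → u = 1)
    (hHn : U ⊔ E ≤ Subgroup.normalizer (H : Set X))
    (hsolv : Group.IsSolvable H) (hcop : Nat.Coprime (Nat.card H) (Nat.card ↥(U ⊔ E))) :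
    Nat.card ↥(H ⊓ Subgroup.centralizer ((U ⊔ E : Subgroup X) : Set X)) ^ Nat.card E * Nat.card H =
      Nat.card ↥(H ⊓ Subgroup.centralizer (E : Set X)) ^ Nat.card E *
        Nat.card ↥(H ⊓ Subgroup.centralizer (U : Set X)) := by
  haveI := normal_subgroupOf_sup U E hUn
  have D := frobData_ambient U E hE1 hUn hfpf
  have h1 := main D _ H (theta (U ⊔ E) H hHn) rfl hcop hsolv
  have h2 : (⊤ : Subgroup ↥(U ⊔ E)) = (U ⊔ E).subgroupOf (U ⊔ E) := (Subgroup.subgroupOf_self (U ⊔ E)).symm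
  rw [h2, card_fixG_theta _ _ _ _ le_rfl, card_fixG_theta _ _ _ _ le_sup_right,
    card_fixG_theta _ _ _ _ le_sup_left,
    Nat.card_congr (Subgroup.subgroupOfEquivOfLe (le_sup_right : E ≤ U ⊔ E)).toEquiv] at h1
  exact h1

end Ambient

end Cfsg.Agent.Lib.Helper23.FrobF
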