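import Mathlib
import Cfsg.Agent.Lib.Helper23.FrobF
import Cfsg.Agent.Lib.Helper14.FrattiniQuot
import Cfsg.Agent.Lib.Helper3.BurnsideFrattini

/-!
# Frobenius groups acting on `p`-groups and nilpotent groups: commutativity of the kernel action
(helper23)
-/

set_option autoImplicit false
set_option linter.style.haveILetI false

namespace Cfsg.Agent.Lib.Helper23.FrobG

open Cfsg.Agent.Lib.Helper23.FrobB Cfsg.Agent.Lib.Helper23.FrobD Cfsg.Agent.Lib.Helper23.FrobE
  Cfsg.Agent.Lib.Helper23.FrobF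
open scoped commutatorElement

universe u

section Abstract

variable {A : Type*} [Group A] [Finite A] {U E : Subgroup A}

theorem card_le_of_cyclic_exp {C : Type*} [Group C] [Finite C] [hC : IsCyclic C] (q : ℕ)
    (hq : 0 < q) (hexp : ∀ x : C, x ^ q = 1) : Nat.card C ≤ q := by
  obtain ⟨g, hg⟩ := hC
  rw [← orderOf_eq_card_of_forall_mem_zpowers hg]
  exact Nat.le_of_dvd hq (orderOf_dvd_of_pow_eq_one (hexp g))

/-- **Fine structure for `q`-groups.** -/
theorem fine_pgroup [hUn : U.Normal] (D : FrobData A U E) (q : ℕ) [hq : Fact q.Prime]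
    {P : Type*} [Group P] [Finite P] (hP : IsPGroup q P) (θ : A →* MulAut P)
    (hcop : (Nat.card P).Coprime (Nat.card A)) (hU : fixG θ U = ⊥) (hE : IsCyclic (fixG θ E)) :
    ∀ u ∈ U, ∀ u' ∈ U, ∀ x : P, θ u (θ u' x) = θ u' (θ u x) := by
  by_cases htriv : Subsingleton P
  · intro u _ u' _ x
    exact Subsingleton.elim _ _
  rw [not_subsingleton_iff_nontrivial] at htriv
  have hqP : q ∣ Nat.card P := by
    obtain ⟨n, hn⟩ := IsPGroup.iff_card.1 hP
    have h1 : 1 < Nat.card P := Finite.one_lt_card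
    have hn0 : n ≠ 0 := by
      rintro rfl
      rw [pow_zero] at hn
      omega
    rw [hn]
    exact dvd_pow_self q hn0
  have hqA : ¬ q ∣ Nat.card A := by
    intro h
    have := Nat.eq_one_of_dvd_coprimes hcop hqP h
    exact hq.out.one_lt.ne' this
  have hqU : ¬ q ∣ Nat.card U := fun h => hqA (h.trans (Subgroup.card_subgroup_dvd_card U))
  have hcopB : ∀ B : Subgroup A, (Nat.card B).Coprime (Nat.card P) := fun B =>
    (Nat.Coprime.coprime_dvd_right (Subgroup.card_subgroup_dvd_card B) hcop).symm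
  haveI hnil : Group.IsNilpotent P := hP.isNilpotent
  have hsolv : Group.IsSolvable P := inferInstance
  have hΦinv : InvG θ (frattini P) := by
    intro a x hx
    have := (Subgroup.characteristic_iff_map_eq.1
      (inferInstance : (frattini P).Characteristic)) (θ a)
    rw [← this]
    exact Subgroup.mem_map_of_mem _ hx
  have hcomm : ∀ x y : P ⧸ frattini P, x * y = y * x := by
    intro x y
    induction x using QuotientGroup.induction_on with
    | H a =>
    induction y using QuotientGroup.induction_on with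
    | H b =>
    rw [← QuotientGroup.mk_mul, ← QuotientGroup.mk_mul, QuotientGroup.eq]
    apply Cfsg.Agent.Lib.Helper14.commutator_le_frattini_of_isPGroup' hP
    have h1 : (a * b)⁻¹ * (b * a) = ⁅b⁻¹, a⁻¹⁆ := by
      rw [commutatorElement_def]
      group
    rw [h1]
    exact Subgroup.commutator_mem_commutator (Subgroup.mem_top _) (Subgroup.mem_top _)
  have hexp : ∀ w : P ⧸ frattini P, w ^ q = 1 := by
    intro w
    induction w using QuotientGroup.induction_on with
    | H x =>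
    rw [← QuotientGroup.mk_pow, QuotientGroup.eq_one_iff]
    exact Cfsg.Agent.Lib.Helper14.pow_mem_frattini_of_isPGroup' hP x
  letI : CommGroup (P ⧸ frattini P) :=
    { (inferInstance : Group (P ⧸ frattini P)) with mul_comm := hcomm }
  have hU' : fixG (qAct θ (frattini P) hΦinv) U = ⊥ := by
    rw [fixG_qAct θ (frattini P) hΦinv U (hcopB U) hsolv, hU, Subgroup.map_bot]
  have hE' : Nat.card (fixG (qAct θ (frattini P) hΦinv) E) ≤ q := by
    rw [fixG_qAct θ (frattini P) hΦinv E (hcopB E) hsolv]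
    haveI := hE
    haveI : IsCyclic ((fixG θ E).map (QuotientGroup.mk' (frattini P))) :=
      isCyclic_of_surjective ((QuotientGroup.mk' (frattini P)).subgroupMap (fixG θ E))
        (MonoidHom.subgroupMap_surjective _ _)
    apply card_le_of_cyclic_exp q hq.out.pos
    intro x
    apply Subtype.ext
    rw [Subgroup.coe_pow, Subgroup.coe_one]
    exact hexp _
  have hfine := fine_elem D q hexp hqU (qAct θ (frattini P) hΦinv) hU' hE'
  intro u hu u' hu' x
  -- the element `c`
  have hc : θ ((u' * u)⁻¹ * (u * u')) ∈ Cfsg.Agent.Lib.Helper3.trivOnFrattiniQuot P := by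
    rw [Cfsg.Agent.Lib.Helper3.mem_trivOnFrattiniQuot]
    intro y
    have h1 : qAct θ (frattini P) hΦinv ((u' * u)⁻¹ * (u * u')) (QuotientGroup.mk y) =
        QuotientGroup.mk y := by
      rw [theta_mul_apply, theta_mul_apply, hfine u hu u' hu', ← theta_mul_apply _ u' u,
        theta_inv_apply]
    rw [qAct_mk] at h1
    have h2 : ((θ ((u' * u)⁻¹ * (u * u')) y * y⁻¹ : P) : P ⧸ frattini P) = 1 := by
      rw [QuotientGroup.mk_mul, QuotientGroup.mk_inv, h1, mul_inv_cancel]
    exact (QuotientGroup.eq_one_iff _).1 h2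
  obtain ⟨a, ha⟩ := Cfsg.Agent.Lib.Helper3.exists_pow_eq_one_of_trivOnFrattiniQuot hP _ hc
  have h3 : θ ((u' * u)⁻¹ * (u * u')) ^ Nat.card A = 1 := by
    rw [← map_pow, pow_card_eq_one', map_one]
  have h4 : orderOf (θ ((u' * u)⁻¹ * (u * u'))) = 1 := by
    have d1 := orderOf_dvd_of_pow_eq_one ha
    have d2 := orderOf_dvd_of_pow_eq_one h3
    have hcop' : (q ^ a).Coprime (Nat.card A) :=
      Nat.Coprime.pow_left _ ((Nat.Prime.coprime_iff_not_dvd hq.out).2 hqA)
    exact Nat.eq_one_of_dvd_coprimes hcop' d1 d2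
  have h5 : θ ((u' * u)⁻¹ * (u * u')) = 1 := orderOf_eq_one_iff.1 h4
  have h6 : θ (u * u') = θ (u' * u) := by
    rw [map_mul, map_inv] at h5
    exact (inv_mul_eq_one.1 h5).symm
  rw [← theta_mul_apply, ← theta_mul_apply, h6]

end Abstract

section Ambient

variable {X : Type u} [Group X]

/-- the equivalence behind `card_fixG_theta` -/
noncomputable def fixGEquiv (L H : Subgroup X) (hLH : L ≤ Subgroup.normalizer (H : Set X))
    (B : Subgroup X) (hBL : B ≤ L) :
    fixG (theta L H hLH) (B.subgroupOf L) ≃* ↥(H ⊓ Subgroup.centralizer (B : Set X)) where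
  toFun := fun x => ⟨((x : H) : X), Subgroup.mem_inf.2 ⟨(x : H).2, by
    rw [Subgroup.mem_centralizer_iff]
    intro b hb
    have h1 := x.2 ⟨b, hBL hb⟩ (Subgroup.mem_subgroupOf.2 hb)
    have h2 : b * ((x : H) : X) * b⁻¹ = ((x : H) : X) := by
      have := congrArg Subtype.val h1
      rwa [theta_apply] at this
    calc b * ((x : H) : X) = b * ((x : H) : X) * b⁻¹ * b := by group
      _ = ((x : H) : X) * b := by rw [h2]⟩⟩
  invFun := fun y => ⟨⟨(y : X), (Subgroup.mem_inf.1 y.2).1⟩, by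
    intro b hb
    apply Subtype.ext
    rw [theta_apply]
    have h1 := Subgroup.mem_centralizer_iff.1 (Subgroup.mem_inf.1 y.2).2 (b : X)
      (Subgroup.mem_subgroupOf.1 hb)
    change (b : X) * (y : X) * (b : X)⁻¹ = (y : X)
    rw [h1, mul_inv_cancel_right]⟩
  left_inv := fun x => rfl
  right_inv := fun y => rfl
  map_mul' := fun x y => rfl

variable [Finite X]

/-- **Ambient fine structure for a `q`-subgroup.** -/
theorem fine_pgroup_ambient (U E P : Subgroup X) (hE1 : E ≠ ⊥)
    (hUn : ∀ e ∈ E, ∀ u ∈ U, e * u * e⁻¹ ∈ U)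
    (hfpf : ∀ e ∈ E, e ≠ 1 → ∀ u ∈ U, e * u = u * e → u = 1)
    (hPn : U ⊔ E ≤ Subgroup.normalizer (P : Set X))
    (q : ℕ) [hq : Fact q.Prime] (hP : IsPGroup q P)
    (hcop : Nat.Coprime (Nat.card P) (Nat.card ↥(U ⊔ E)))
    (hCU : P ⊓ Subgroup.centralizer (U : Set X) = ⊥)
    (hCE : IsCyclic ↥(P ⊓ Subgroup.centralizer (E : Set X))) :
    ⁅U, U⁆ ≤ Subgroup.centralizer (P : Set X) := by
  haveI := normal_subgroupOf_sup U E hUn
  have D := frobData_ambient U E hE1 hUn hfpf
  have hU' : fixG (theta (U ⊔ E) P hPn) (U.subgroupOf (U ⊔ E)) = ⊥ := by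
    apply Subgroup.eq_bot_of_card_eq
    rw [card_fixG_theta _ _ _ _ le_sup_left, hCU, Subgroup.card_bot]
  have hE' : IsCyclic (fixG (theta (U ⊔ E) P hPn) (E.subgroupOf (U ⊔ E))) :=
    (MulEquiv.isCyclic (fixGEquiv (U ⊔ E) P hPn E le_sup_right)).2 hCE
  have h1 := fine_pgroup D q hP (theta (U ⊔ E) P hPn) hcop hU' hE'
  rw [Subgroup.commutator_le]
  intro u hu u' hu'
  rw [Subgroup.mem_centralizer_iff]
  intro x hx
  have hg : (u' * u)⁻¹ ∈ U ⊔ E :=
    Subgroup.inv_mem _ (Subgroup.mul_mem _ (le_sup_left (b := E) hu') (le_sup_left (b := E) hu))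
  have hx' : (u' * u)⁻¹ * x * (u' * u) ∈ P := by
    have := (Subgroup.mem_normalizer_iff.1 (hPn hg) x).1 hx
    rwa [inv_inv] at this
  have h2 := h1 ⟨u, le_sup_left (b := E) hu⟩ (Subgroup.mem_subgroupOf.2 hu)
    ⟨u', le_sup_left (b := E) hu'⟩ (Subgroup.mem_subgroupOf.2 hu') ⟨_, hx'⟩
  have h3 := congrArg Subtype.val h2
  rw [theta_apply, theta_apply, theta_apply, theta_apply] at h3
  change u * (u' * ((u' * u)⁻¹ * x * (u' * u)) * u'⁻¹) * u⁻¹ =
    u' * (u * ((u' * u)⁻¹ * x * (u' * u)) * u⁻¹) * u'⁻¹ at h3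
  have h4 : u' * (u * ((u' * u)⁻¹ * x * (u' * u)) * u⁻¹) * u'⁻¹ = x := by group
  rw [h4] at h3
  rw [commutatorElement_def]
  symm
  calc u * u' * u⁻¹ * u'⁻¹ * x
      = (u * (u' * ((u' * u)⁻¹ * x * (u' * u)) * u'⁻¹) * u⁻¹) * (u * u' * u⁻¹ * u'⁻¹) := by group
    _ = x * (u * u' * u⁻¹ * u'⁻¹) := by rw [h3]

end Ambient

end Cfsg.Agent.Lib.Helper23.FrobG
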