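import Mathlib
import Cfsg.Agent.Lib.Helper23.FrobG

/-!
# Frobenius groups acting on elementary abelian groups, without the hypothesis `C_V(U) = 1`
(helper23)
-/

set_option autoImplicit false
set_option linter.style.haveILetI false

namespace Cfsg.Agent.Lib.Helper23.FrobH

open Cfsg.Agent.Lib.Helper23.FrobB Cfsg.Agent.Lib.Helper23.FrobD Cfsg.Agent.Lib.Helper23.FrobE
  Cfsg.Agent.Lib.Helper23.FrobF
open scoped commutatorElement

universe u

section Abstract

variable {A : Type*} [Group A] [Finite A] {U E : Subgroup A}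

/-- **Fine structure for elementary abelian groups, general form.** -/
theorem fine_elem' [hUn : U.Normal] (D : FrobData A U E) (ℓ : ℕ) [hℓ : Fact ℓ.Prime]
    {W : Type*} [CommGroup W] [Finite W] (hexp : ∀ w : W, w ^ ℓ = 1)
    (hℓA : ¬ ℓ ∣ Nat.card A) (θ : A →* MulAut W) (hE : Nat.card (fixG θ E) ≤ ℓ) :
    ∀ u ∈ U, ∀ u' ∈ U, ∀ w : W, θ u (θ u' w) = θ u' (θ u w) := by
  have hℓU : ¬ ℓ ∣ Nat.card U := fun h => hℓA (h.trans (Subgroup.card_subgroup_dvd_card U))
  have hPW : IsPGroup ℓ W := fun w => ⟨1, by rw [pow_one]; exact hexp w⟩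
  obtain ⟨n, hn⟩ := IsPGroup.iff_card.1 hPW
  have hcop : (Nat.card W).Coprime (Nat.card A) := by
    rw [hn]
    exact Nat.Coprime.pow_left _ ((Nat.Prime.coprime_iff_not_dvd hℓ.out).2 hℓA)
  have hcopB : ∀ B : Subgroup A, (Nat.card B).Coprime (Nat.card W) := fun B =>
    (Nat.Coprime.coprime_dvd_right (Subgroup.card_subgroup_dvd_card B) hcop).symm
  have hsolv : Group.IsSolvable W := inferInstance
  have hFinv : InvG θ (fixG θ U) := fun a h hh => fixG_normal_inv θ U a h hh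
  have hexp' : ∀ w : W ⧸ fixG θ U, w ^ ℓ = 1 := by
    intro w
    induction w using QuotientGroup.induction_on with
    | H x =>
    rw [← QuotientGroup.mk_pow, hexp, QuotientGroup.mk_one]
  have hU' : fixG (qAct θ (fixG θ U) hFinv) U = ⊥ := by
    rw [fixG_qAct θ (fixG θ U) hFinv U (hcopB U) hsolv, eq_bot_iff]
    rintro _ ⟨x, hx, rfl⟩
    rw [Subgroup.mem_bot]
    exact (QuotientGroup.eq_one_iff _).2 hx
  have hE' : Nat.card (fixG (qAct θ (fixG θ U) hFinv) E) ≤ ℓ := by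
    rw [fixG_qAct θ (fixG θ U) hFinv E (hcopB E) hsolv]
    exact (Nat.le_of_dvd Nat.card_pos (Subgroup.card_map_dvd _ _)).trans hE
  have hfine := fine_elem D ℓ hexp' hℓU (qAct θ (fixG θ U) hFinv) hU' hE'
  intro u hu u' hu' w
  -- the element c
  obtain ⟨c, hc⟩ : ∃ c : A, c = (u' * u)⁻¹ * (u * u') := ⟨_, rfl⟩
  have hcU : c ∈ U := by
    rw [hc]
    exact U.mul_mem (U.inv_mem (U.mul_mem hu' hu)) (U.mul_mem hu hu')
  have h1 : ∀ y : W, (θ c y) * y⁻¹ ∈ fixG θ U := by
    intro y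
    have h1 : qAct θ (fixG θ U) hFinv c (QuotientGroup.mk y) = QuotientGroup.mk y := by
      rw [hc, theta_mul_apply, theta_mul_apply, hfine u hu u' hu', ← theta_mul_apply _ u' u,
        theta_inv_apply]
    rw [qAct_mk] at h1
    have h2 : ((θ c y * y⁻¹ : W) : W ⧸ fixG θ U) = 1 := by
      rw [QuotientGroup.mk_mul, QuotientGroup.mk_inv, h1, mul_inv_cancel]
    exact (QuotientGroup.eq_one_iff _).1 h2
  have h2 : ∀ (k : ℕ) (y : W), θ (c ^ k) y = y * (θ c y * y⁻¹) ^ k := by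
    intro k
    induction k with
    | zero => intro y; simp
    | succ k ih =>
      intro y
      rw [pow_succ, theta_mul_apply]
      have h3 : θ c y = y * (θ c y * y⁻¹) := by
        rw [mul_comm (θ c y), mul_inv_cancel_left]
      have h4 : θ (c ^ k) (θ c y * y⁻¹) = θ c y * y⁻¹ :=
        h1 y _ (U.pow_mem hcU k)
      conv_lhs => rw [h3]
      rw [map_mul, ih, h4, pow_succ, mul_assoc]
  have h5 : ∀ y : W, θ c y = y := by
    intro y
    have h6 := h2 (Nat.card A) y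
    rw [pow_card_eq_one', map_one] at h6
    have h7 : (θ c y * y⁻¹) ^ Nat.card A = 1 := by
      have : y = y * (θ c y * y⁻¹) ^ Nat.card A := h6
      exact (mul_eq_left).1 this.symm
    have h8 : orderOf (θ c y * y⁻¹) = 1 := by
      have d1 := orderOf_dvd_of_pow_eq_one h7
      have d2 := orderOf_dvd_of_pow_eq_one (hexp (θ c y * y⁻¹))
      exact Nat.eq_one_of_dvd_coprimes ((Nat.Prime.coprime_iff_not_dvd hℓ.out).2 hℓA) d2 d1
    have h9 : θ c y * y⁻¹ = 1 := orderOf_eq_one_iff.1 h8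
    exact mul_inv_eq_one.1 h9
  have h6 : θ (u * u') w = θ (u' * u) w := by
    have := h5 w
    rw [hc, theta_mul_apply] at this
    have h7 := congrArg (θ (u' * u)) this
    rw [theta_apply_inv] at h7
    exact h7
  rw [← theta_mul_apply, ← theta_mul_apply, h6]

end Abstract

section Ambient

variable {X : Type u} [Group X]

/-- commuting action of `U` on `P` means `[U, U]` centralizes `P` -/
theorem comm_to_centralizer (L P : Subgroup X) (hLP : L ≤ Subgroup.normalizer (P : Set X))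
    (U : Subgroup X) (hUL : U ≤ L)
    (h1 : ∀ u ∈ U.subgroupOf L, ∀ u' ∈ U.subgroupOf L, ∀ x : P,
      theta L P hLP u (theta L P hLP u' x) = theta L P hLP u' (theta L P hLP u x)) :
    ⁅U, U⁆ ≤ Subgroup.centralizer (P : Set X) := by
  rw [Subgroup.commutator_le]
  intro u hu u' hu'
  rw [Subgroup.mem_centralizer_iff]
  intro x hx
  have hg : (u' * u)⁻¹ ∈ L :=
    Subgroup.inv_mem _ (Subgroup.mul_mem _ (hUL hu') (hUL hu))
  have hx' : (u' * u)⁻¹ * x * (u' * u) ∈ P := by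
    have := (Subgroup.mem_normalizer_iff.1 (hLP hg) x).1 hx
    rwa [inv_inv] at this
  have h2 := h1 ⟨u, hUL hu⟩ (Subgroup.mem_subgroupOf.2 hu)
    ⟨u', hUL hu'⟩ (Subgroup.mem_subgroupOf.2 hu') ⟨_, hx'⟩
  have h3 := congrArg Subtype.val h2
  rw [theta_apply, theta_apply, theta_apply, theta_apply] at h3
  change u * (u' * ((u' * u)⁻¹ * x * (u' * u)) * u'⁻¹) * u⁻¹ =
    u' * (u * ((u' * u)⁻¹ * x * (u' * u)) * u⁻¹) * u'⁻¹ at h3
  have h4 : u' * (u * ((u' * u)⁻¹ * x * (u' * u)) * u⁻¹) * u'⁻¹ = x := by group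
  rw [h4] at h3
  rw [commutatorElement_def]
  symm
  calc u * u' * u⁻¹ * u'⁻¹ * x
      = (u * (u' * ((u' * u)⁻¹ * x * (u' * u)) * u'⁻¹) * u⁻¹) * (u * u' * u⁻¹ * u'⁻¹) := by group
    _ = x * (u * u' * u⁻¹ * u'⁻¹) := by rw [h3]

end Ambient

end Cfsg.Agent.Lib.Helper23.FrobH
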