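import Mathlib

/-!
# Galois descent for semilinear actions (Speiser + normal basis), operator form (helper23)

`descent`: `L` a field with a faithful action of a finite group `G`, `ι : L →+* End_k T`,
`τ : G →* End_k T` with `τ g ∘ ι a = ι (g • a) ∘ τ g`.  Then `T = ⨁_g τ g W` for some `k`-subspace `W`.
-/

set_option autoImplicit false
set_option linter.style.haveILetI false

namespace Cfsg.Agent.Lib.Helper23.FrobI

open Module

section Descent

variable {k : Type*} [Field k] {T : Type*} [AddCommGroup T] [Module k T]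
  {G : Type*} [Group G] [Finite G] {L : Type*} [Field L] [MulSemiringAction G L]
  [FaithfulSMul G L] {L' : Type*} [Field L']

theorem exists_normal_basis :
    ∃ b : L, ∃ B : Basis G (FixedPoints.subfield G L) L, ∀ g, B g = g • b := by
  classical
  cases nonempty_fintype G
  obtain ⟨b, hb⟩ := exists_linearIndependent_algEquiv_apply (FixedPoints.subfield G L) L
  have hb' : LinearIndependent (FixedPoints.subfield G L) (fun g : G => g • b) := by
    have := hb.comp (FixedPoints.toAlgAutMulEquiv G L) (MulEquiv.injective _)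
    exact this
  have hcard : Fintype.card G = finrank (FixedPoints.subfield G L) L :=
    (FixedPoints.finrank_eq_card G L).symm
  refine ⟨b, basisOfLinearIndependentOfCardEqFinrank hb' hcard, ?_⟩
  intro g
  rw [coe_basisOfLinearIndependentOfCardEqFinrank]

theorem matrix_isUnit [Fintype G] [DecidableEq G] (b : L)
    (B : Basis G (FixedPoints.subfield G L) L) (hB : ∀ g, B g = g • b) :
    IsUnit (Matrix.of fun h g : G => (h * g) • b : Matrix G G L) := by
  rw [← Matrix.vecMul_injective_iff_isUnit]
  intro c c' hcc
  have hcc' : Matrix.vecMul c (Matrix.of fun h g : G => (h * g) • b) =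
      Matrix.vecMul c' (Matrix.of fun h g : G => (h * g) • b) := hcc
  have h0 : Matrix.vecMul (c - c') (Matrix.of fun h g : G => (h * g) • b) = 0 := by
    rw [Matrix.sub_vecMul, hcc', sub_self]
  have hli := linearIndependent_toLinearMap (FixedPoints.subfield G L) L L
  have hli' : LinearIndependent L (fun g : G =>
      (MulSemiringAction.toAlgHom (FixedPoints.subfield G L) L g).toLinearMap) :=
    hli.comp _ (MulSemiringAction.toAlgHom_injective (FixedPoints.subfield G L) L)
  have hf : ∑ h : G, (c - c') h •
      (MulSemiringAction.toAlgHom (FixedPoints.subfield G L) L h).toLinearMap = 0 := by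
    apply B.ext
    intro g
    rw [LinearMap.sum_apply, LinearMap.zero_apply, hB]
    have := congrFun h0 g
    simp only [Matrix.vecMul, dotProduct, Matrix.of_apply, Pi.zero_apply] at this
    rw [← this]
    apply Finset.sum_congr rfl
    intro h _
    simp [mul_smul]
  have := Fintype.linearIndependent_iff.1 hli' _ hf
  funext g
  exact sub_eq_zero.1 (this g)

/-- fixed vectors -/
def fixT (τ : G →* Module.End k T) : Submodule k T where
  carrier := {t | ∀ g, τ g t = t}
  add_mem' := by
    intro x y hx hy g
    rw [map_add, hx g, hy g]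
  zero_mem' := by
    intro g
    exact map_zero _
  smul_mem' := by
    intro c x hx g
    rw [map_smul, hx g]

theorem mem_fixT {τ : G →* Module.End k T} {t : T} : t ∈ fixT τ ↔ ∀ g, τ g t = t := Iff.rfl

/-- **Galois descent.** -/
theorem descent (ι : L →+* Module.End k T) (τ : G →* Module.End k T)
    (hτ : ∀ g a, τ g * ι a = ι (g • a) * τ g) :
    ∃ W : Submodule k T, iSupIndep (fun g : G => W.map (τ g)) ∧ ⨆ g, W.map (τ g) = ⊤ := by
  classical
  cases nonempty_fintype G
  obtain ⟨b, B, hB⟩ := exists_normal_basis (G := G) (L := L)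
  obtain ⟨M, hMdef⟩ : ∃ M : Matrix G G L, M = Matrix.of fun h g : G => (h * g) • b := ⟨_, rfl⟩
  have hMapp : ∀ h g, M h g = (h * g) • b := by
    intro h g
    rw [hMdef]
    rfl
  have hMu : IsUnit M := hMdef ▸ matrix_isUnit b B hB
  have hdet : IsUnit M.det := (Matrix.isUnit_iff_isUnit_det M).1 hMu
  have hNM : M⁻¹ * M = 1 := Matrix.nonsing_inv_mul M hdet
  have hMN : M * M⁻¹ = 1 := Matrix.mul_nonsing_inv M hdet
  have hτa : ∀ g a t, τ g (ι a t) = ι (g • a) (τ g t) := by
    intro g a t
    have := congrArg (fun f : Module.End k T => f t) (hτ g a)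
    exact this
  have hτmul : ∀ g h t, τ (g * h) t = τ g (τ h t) := by
    intro g h t
    rw [map_mul]
    rfl
  have hτone : ∀ t, τ 1 t = t := by
    intro t
    rw [map_one]
    rfl
  have hιmul : ∀ a a' t, ι (a * a') t = ι a (ι a' t) := by
    intro a a' t
    rw [map_mul]
    rfl
  have hWg : ∀ g : G, ((fixT τ).map (ι b)).map (τ g) = (fixT τ).map (ι (g • b)) := by
    intro g
    ext x
    constructor
    · rintro ⟨_, ⟨t, ht, rfl⟩, rfl⟩
      exact ⟨t, ht, by rw [hτa, ht g]⟩
    · rintro ⟨t, ht, rfl⟩
      exact ⟨ι b t, ⟨t, ht, rfl⟩, by rw [hτa, ht g]⟩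
  refine ⟨(fixT τ).map (ι b), ?_, ?_⟩
  · rw [iSupIndep_iff_finsetSum_eq_zero_imp_eq_zero]
    intro s v hv hsum i hi
    have hv' : ∀ g : G, ∃ t ∈ fixT τ, (if g ∈ s then v g else 0) = ι (g • b) t := by
      intro g
      by_cases hg : g ∈ s
      · have := hv g hg
        rw [hWg] at this
        obtain ⟨t, ht, hvt⟩ := this
        exact ⟨t, ht, by rw [if_pos hg, hvt]⟩
      · exact ⟨0, (fixT τ).zero_mem, by rw [if_neg hg, map_zero]⟩
    choose t ht hvt using hv'
    have hsum' : ∑ g : G, ι (g • b) (t g) = 0 := by
      rw [← hsum]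
      have : ∑ g : G, (if g ∈ s then v g else 0) = ∑ g ∈ s, v g := by
        rw [Finset.sum_ite_mem, Finset.univ_inter]
      rw [← this]
      exact Finset.sum_congr rfl (fun g _ => (hvt g).symm)
    have hrow : ∀ h : G, ∑ g : G, ι (M h g) (t g) = 0 := by
      intro h
      have := congrArg (τ h) hsum'
      rw [map_sum, map_zero] at this
      rw [← this]
      apply Finset.sum_congr rfl
      intro g _
      rw [hτa, ht g h, hMapp, mul_smul]
    have key : ∀ g' : G, t g' = 0 := by
      intro g'
      have h1 : t g' = ∑ g : G, ι ((M⁻¹ * M) g' g) (t g) := by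
        rw [hNM]
        simp [Matrix.one_apply, apply_ite, ite_apply]
      rw [h1]
      simp only [Matrix.mul_apply, map_sum, LinearMap.sum_apply, hιmul]
      rw [Finset.sum_comm]
      apply Finset.sum_eq_zero
      intro h _
      rw [← map_sum, hrow h, map_zero]
    have := hvt i
    rw [if_pos hi] at this
    rw [this, key i, map_zero]
  · rw [eq_top_iff]
    intro x _
    have hstar : x = ∑ g : G, ι (M⁻¹ g 1) (∑ h : G, τ h (ι (g • b) x)) := by
      have h1 : ∀ g : G, ι (M⁻¹ g 1) (∑ h : G, τ h (ι (g • b) x)) =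
          ∑ h : G, ι (M h g * M⁻¹ g 1) (τ h x) := by
        intro g
        rw [map_sum]
        apply Finset.sum_congr rfl
        intro h _
        rw [hτa, mul_comm, hιmul, hMapp, mul_smul]
      rw [Finset.sum_congr rfl (fun g _ => h1 g), Finset.sum_comm]
      have h2 : ∀ h : G, ∑ g : G, ι (M h g * M⁻¹ g 1) (τ h x) = ι ((M * M⁻¹) h 1) (τ h x) := by
        intro h
        rw [Matrix.mul_apply, map_sum, LinearMap.sum_apply]
      rw [Finset.sum_congr rfl (fun h _ => h2 h), hMN]
      simp [Matrix.one_apply, apply_ite, ite_apply, hτone]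
    rw [hstar]
    apply Submodule.sum_mem
    intro g _
    -- the fixed vector
    have hs : (∑ h : G, τ h (ι (g • b) x)) ∈ fixT τ := by
      intro g'
      rw [map_sum]
      have : ∀ h : G, τ g' (τ h (ι (g • b) x)) = τ (g' * h) (ι (g • b) x) := by
        intro h
        rw [hτmul]
      rw [Finset.sum_congr rfl (fun h _ => this h)]
      exact Fintype.sum_equiv (Equiv.mulLeft g') _ _ (fun h => rfl)
    -- general statement
    have hgen : ∀ (c : L) (s : T), s ∈ fixT τ →
        ι c s ∈ ⨆ g : G, ((fixT τ).map (ι b)).map (τ g) := by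
      intro c s hs
      have hc : c = ∑ g' : G, ((B.repr c g' : FixedPoints.subfield G L) : L) * (g' • b) := by
        conv_lhs => rw [← B.sum_repr c]
        apply Finset.sum_congr rfl
        intro g' _
        rw [hB, Algebra.smul_def]
        rfl
      rw [hc, map_sum, LinearMap.sum_apply]
      apply Submodule.sum_mem
      intro g' _
      apply Submodule.mem_iSup_of_mem g'
      rw [hWg, mul_comm, hιmul]
      refine ⟨_, ?_, rfl⟩
      intro g''
      rw [hτa, hs g'', (B.repr c g').2 g'']
    exact hgen _ _ hs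

/-- **Galois descent**, with the action given by a homomorphism into `RingAut L`. -/
theorem descent' (φ : G →* RingAut L') (hφ : Function.Injective φ)
    (ι : L' →+* Module.End k T) (τ : G →* Module.End k T)
    (hτ : ∀ g a, τ g * ι a = ι (φ g a) * τ g) :
    ∃ W : Submodule k T, iSupIndep (fun g : G => W.map (τ g)) ∧ ⨆ g, W.map (τ g) = ⊤ := by
  letI : MulSemiringAction G L' := MulSemiringAction.compHom L' φ
  haveI : FaithfulSMul G L' := ⟨fun {g₁ g₂} h => hφ (RingEquiv.ext h)⟩
  exact descent ι τ hτ

end Descent

end Cfsg.Agent.Lib.Helper23.FrobI
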