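import Mathlib
import Cfsg.Agent.Lib.Helper23.FrobI
import Cfsg.Agent.Lib.Helper23.FrobA

/-!
# Homogeneous components for a commutative operator algebra normalized by a finite group (helper23)
-/

set_option autoImplicit false
set_option linter.style.haveILetI false

namespace Cfsg.Agent.Lib.Helper23.FrobJ

open Module Cfsg.Agent.Lib.Helper23.FrobA

section Homog

variable {k : Type*} [Field k] {V : Type*} [AddCommGroup V] [Module k V]
  (R : Subalgebra k (Module.End k V))

/-- `R`-invariant subspaces -/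
def RInv (S : Submodule k V) : Prop := ∀ r ∈ R, ∀ s ∈ S, r s ∈ S

/-- the operator `r` kills `S` -/
def Kills (S : Submodule k V) (r : Module.End k V) : Prop := ∀ s ∈ S, r s = 0

/-- the homogeneous component attached to `S` -/
def homog (S : Submodule k V) : Submodule k V where
  carrier := {v | ∀ r ∈ R, Kills S r → r v = 0}
  add_mem' := by
    intro x y hx hy r hr hk
    rw [map_add, hx r hr hk, hy r hr hk, add_zero]
  zero_mem' := by
    intro r _ _
    exact map_zero _
  smul_mem' := by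
    intro c x hx r hr hk
    rw [map_smul, hx r hr hk, smul_zero]

theorem mem_homog {S : Submodule k V} {v : V} :
    v ∈ homog R S ↔ ∀ r ∈ R, Kills S r → r v = 0 := Iff.rfl

theorem le_homog (S : Submodule k V) : S ≤ homog R S := fun s hs r _ hk => hk s hs

variable {R}

theorem homog_inv (hRc : ∀ a ∈ R, ∀ b ∈ R, a * b = b * a) (S : Submodule k V) :
    RInv R (homog R S) := by
  intro x hx v hv r hr hk
  have h1 : r (x v) = x (r v) := by
    have := congrArg (fun f : Module.End k V => f v) (hRc r hr x hx)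
    exact this
  rw [h1, hv r hr hk, map_zero]

variable [FiniteDimensional k V]

theorem exists_minimal (R : Subalgebra k (Module.End k V)) [Nontrivial V] :
    ∃ S : Submodule k V, S ≠ ⊥ ∧ RInv R S ∧
      ∀ S' : Submodule k V, S' ≠ ⊥ → RInv R S' → S' ≤ S → S' = S := by
  classical
  have hex : ∃ n, ∃ S : Submodule k V, S ≠ ⊥ ∧ RInv R S ∧ finrank k S = n :=
    ⟨_, ⊤, top_ne_bot, fun _ _ _ _ => Submodule.mem_top, rfl⟩
  obtain ⟨S, hS0, hSinv, hSn⟩ := Nat.find_spec hex
  refine ⟨S, hS0, hSinv, ?_⟩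
  intro S' hS'0 hS'inv hle
  have hmin := Nat.find_min' hex ⟨S', hS'0, hS'inv, rfl⟩
  exact Submodule.eq_of_le_of_finrank_le hle (by rw [hSn]; exact hmin)

/-- a minimal invariant subspace is cyclic on each nonzero vector -/
theorem cyclic (hRc : ∀ a ∈ R, ∀ b ∈ R, a * b = b * a) (S : Submodule k V) (hSinv : RInv R S)
    (hmin : ∀ S' : Submodule k V, S' ≠ ⊥ → RInv R S' → S' ≤ S → S' = S)
    (s : V) (hs : s ∈ S) (hs0 : s ≠ 0) (s' : V) (hs' : s' ∈ S) : ∃ x ∈ R, x s = s' := by
  let N : Submodule k V :=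
    { carrier := {v | ∃ x ∈ R, x s = v}
      add_mem' := by
        rintro _ _ ⟨x, hx, rfl⟩ ⟨y, hy, rfl⟩
        exact ⟨x + y, R.add_mem hx hy, rfl⟩
      zero_mem' := ⟨0, R.zero_mem, rfl⟩
      smul_mem' := by
        rintro c _ ⟨x, hx, rfl⟩
        exact ⟨c • x, R.smul_mem hx c, rfl⟩ }
  have hN0 : N ≠ ⊥ := by
    intro h
    have : s ∈ N := ⟨1, R.one_mem, rfl⟩
    rw [h] at this
    exact hs0 ((Submodule.mem_bot k).1 this)
  have hNinv : RInv R N := by
    rintro r hr _ ⟨x, hx, rfl⟩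
    exact ⟨r * x, R.mul_mem hr hx, rfl⟩
  have hNS : N ≤ S := by
    rintro _ ⟨x, hx, rfl⟩
    exact hSinv x hx s hs
  have := hmin N hN0 hNinv hNS
  have h2 : s' ∈ N := this ▸ hs'
  exact h2

/-- inverses modulo the annihilator -/
theorem exists_inv (hRc : ∀ a ∈ R, ∀ b ∈ R, a * b = b * a) (S : Submodule k V)
    (hSinv : RInv R S)
    (hmin : ∀ S' : Submodule k V, S' ≠ ⊥ → RInv R S' → S' ≤ S → S' = S)
    (r : Module.End k V) (hr : r ∈ R) (hk : ¬ Kills S r) :
    ∃ r' ∈ R, ∀ s ∈ S, r' (r s) = s := by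
  unfold Kills at hk
  push Not at hk
  obtain ⟨s₁, hs₁, hrs₁⟩ := hk
  have hs₁0 : s₁ ≠ 0 := by
    rintro rfl
    exact hrs₁ (map_zero _)
  obtain ⟨x, hx, hx1⟩ := cyclic hRc S hSinv hmin (r s₁) (hSinv r hr s₁ hs₁) hrs₁ s₁ hs₁
  refine ⟨x, hx, ?_⟩
  intro s hs
  obtain ⟨y, hy, rfl⟩ := cyclic hRc S hSinv hmin s₁ hs₁ hs₁0 s hs
  have h1 : x (r (y s₁)) = y (x (r s₁)) := by
    have e1 : r (y s₁) = y (r s₁) :=
      congrArg (fun f : Module.End k V => f s₁) (hRc r hr y hy)
    have e2 : x (y (r s₁)) = y (x (r s₁)) :=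
      congrArg (fun f : Module.End k V => f (r s₁)) (hRc x hx y hy)
    rw [e1, e2]
  rw [h1, hx1]

/-- elements not in the annihilator act injectively on the homogeneous component -/
theorem inj_on_homog (hRc : ∀ a ∈ R, ∀ b ∈ R, a * b = b * a) (S : Submodule k V)
    (hSinv : RInv R S)
    (hmin : ∀ S' : Submodule k V, S' ≠ ⊥ → RInv R S' → S' ≤ S → S' = S)
    (r : Module.End k V) (hr : r ∈ R) (hk : ¬ Kills S r) (t : V) (ht : t ∈ homog R S)
    (hrt : r t = 0) : t = 0 := by
  obtain ⟨r', hr', hinv⟩ := exists_inv hRc S hSinv hmin r hr hk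
  have h1 : Kills S (r' * r - 1) := by
    intro s hs
    change r' (r s) - s = 0
    rw [hinv s hs, sub_self]
  have h2 := ht (r' * r - 1) (R.sub_mem (R.mul_mem hr' hr) R.one_mem) h1
  change r' (r t) - t = 0 at h2
  rw [hrt, map_zero, zero_sub, neg_eq_zero] at h2
  exact h2

end Homog

section IndepSep

variable {k : Type*} [Field k] {V : Type*} [AddCommGroup V] [Module k V]

/-- independence from separating operators -/
theorem indep_of_sep {ι : Type*} (Ts : ι → Submodule k V)
    (hsep : ∀ i j, i ≠ j → ∃ r : Module.End k V, (∀ v ∈ Ts i, r v = 0) ∧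
      (∀ v ∈ Ts j, r v = 0 → v = 0) ∧ ∀ l, ∀ v ∈ Ts l, r v ∈ Ts l) :
    iSupIndep Ts := by
  classical
  rw [iSupIndep_iff_finsetSum_eq_zero_imp_eq_zero]
  intro s
  induction s using Finset.induction_on with
  | empty =>
    intro v _ _ i hi
    exact absurd hi (Finset.notMem_empty i)
  | insert a s' ha ih =>
    intro v hv hsum
    have hs' : ∀ j ∈ s', v j = 0 := by
      intro j hj
      have haj : a ≠ j := fun h => ha (h ▸ hj)
      obtain ⟨r, hr1, hr2, hr3⟩ := hsep a j haj
      have h1 := congrArg r hsum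
      rw [Finset.sum_insert ha, map_add, map_zero, hr1 _ (hv a (Finset.mem_insert_self a s')),
        zero_add, map_sum] at h1
      have h2 := ih (fun l => r (v l))
        (fun l hl => hr3 l _ (hv l (Finset.mem_insert_of_mem hl))) h1 j hj
      exact hr2 _ (hv j (Finset.mem_insert_of_mem hj)) h2
    intro i hi
    rcases Finset.mem_insert.1 hi with rfl | hi'
    · rw [Finset.sum_insert ha, Finset.sum_eq_zero hs', add_zero] at hsum
      exact hsum
    · exact hs' i hi'

end IndepSep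

section Group

variable {k : Type*} [Field k] {V : Type*} [AddCommGroup V] [Module k V] [FiniteDimensional k V]
  {R : Subalgebra k (Module.End k V)} {E : Type*} [Group E] (σ : E →* (V →ₗ[k] V))

theorem conj_conj (e : E) (r : Module.End k V) :
    σ e⁻¹ * (σ e * r * σ e⁻¹) * σ e = r := by
  have h1 : σ e⁻¹ * σ e = 1 := by rw [← map_mul, inv_mul_cancel, map_one]
  calc σ e⁻¹ * (σ e * r * σ e⁻¹) * σ e = (σ e⁻¹ * σ e) * r * (σ e⁻¹ * σ e) := by
        simp only [mul_assoc]
    _ = r := by rw [h1, one_mul, mul_one]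

theorem mem_map_homog (hnorm : ∀ e : E, ∀ r ∈ R, σ e * r * σ e⁻¹ ∈ R) (S : Submodule k V)
    (e : E) (v : V) :
    v ∈ (homog R S).map (σ e) ↔ ∀ r ∈ R, Kills S (σ e⁻¹ * r * σ e) → r v = 0 := by
  constructor
  · rintro ⟨t, ht, rfl⟩ r hr hk
    have h1 : σ e⁻¹ * r * σ e ∈ R := by
      have := hnorm e⁻¹ r hr
      rwa [inv_inv] at this
    have h2 := ht _ h1 hk
    change σ e⁻¹ (r (σ e t)) = 0 at h2
    have h3 := congrArg (σ e) h2
    rw [rho_apply_inv, map_zero] at h3
    exact h3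
  · intro h
    refine ⟨σ e⁻¹ v, ?_, rho_apply_inv σ e v⟩
    intro r₀ hr₀ hk₀
    have h1 := h (σ e * r₀ * σ e⁻¹) (hnorm e r₀ hr₀) (by rw [conj_conj]; exact hk₀)
    change σ e (r₀ (σ e⁻¹ v)) = 0 at h1
    exact rho_injective σ e (by rw [h1, map_zero])

theorem map_homog_inv (hRc : ∀ a ∈ R, ∀ b ∈ R, a * b = b * a)
    (hnorm : ∀ e : E, ∀ r ∈ R, σ e * r * σ e⁻¹ ∈ R) (S : Submodule k V) (e : E) :
    RInv R ((homog R S).map (σ e)) := by
  intro x hx v hv
  rw [mem_map_homog σ hnorm] at hv ⊢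
  intro r hr hk
  have h1 : r (x v) = x (r v) :=
    congrArg (fun f : Module.End k V => f v) (hRc r hr x hx)
  rw [h1, hv r hr hk, map_zero]

theorem finrank_map_homog (S : Submodule k V) (e : E) :
    finrank k ((homog R S).map (σ e)) = finrank k (homog R S) :=
  (LinearEquiv.finrank_eq (Submodule.equivMapOfInjective _ (rho_injective σ e) _)).symm

theorem exists_sep (hRc : ∀ a ∈ R, ∀ b ∈ R, a * b = b * a)
    (hnorm : ∀ e : E, ∀ r ∈ R, σ e * r * σ e⁻¹ ∈ R) (S : Submodule k V) (hSinv : RInv R S)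
    (hmin : ∀ S' : Submodule k V, S' ≠ ⊥ → RInv R S' → S' ≤ S → S' = S) (a j : E)
    (hne : (homog R S).map (σ a) ≠ (homog R S).map (σ j)) :
    ∃ r ∈ R, (∀ v ∈ (homog R S).map (σ a), r v = 0) ∧
      (∀ v ∈ (homog R S).map (σ j), r v = 0 → v = 0) := by
  by_contra hcon
  push Not at hcon
  apply hne
  symm
  apply Submodule.eq_of_le_of_finrank_le
  · intro v hv
    rw [mem_map_homog σ hnorm]
    intro r hr hk
    have hra : ∀ w ∈ (homog R S).map (σ a), r w = 0 := by
      intro w hw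
      exact (mem_map_homog σ hnorm S a w).1 hw r hr hk
    obtain ⟨w, hw, hrw, hw0⟩ := hcon r hr hra
    have hkj : Kills S (σ j⁻¹ * r * σ j) := by
      by_contra hnk
      obtain ⟨t, ht, rfl⟩ := hw
      have h1 : σ j⁻¹ * r * σ j ∈ R := by
        have := hnorm j⁻¹ r hr
        rwa [inv_inv] at this
      have h2 : (σ j⁻¹ * r * σ j) t = 0 := by
        change σ j⁻¹ (r (σ j t)) = 0
        rw [hrw, map_zero]
      have := inj_on_homog hRc S hSinv hmin _ h1 hnk t ht h2
      apply hw0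
      rw [this, map_zero]
    exact (mem_map_homog σ hnorm S j v).1 hv r hr hkj
  · rw [finrank_map_homog, finrank_map_homog]

/-- the stabilizer of a subspace -/
def stab (T : Submodule k V) : Subgroup E where
  carrier := {e | T.map (σ e) = T}
  mul_mem' := by
    intro a b ha hb
    change T.map (σ (a * b)) = T
    rw [map_mul, Module.End.mul_eq_comp, Submodule.map_comp, show T.map (σ b) = T from hb]
    exact ha
  one_mem' := by
    change T.map (σ 1) = T
    rw [map_one]
    exact Submodule.map_id T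
  inv_mem' := by
    intro a ha
    change T.map (σ a⁻¹) = T
    have h1 : T.map (σ a) = T := ha
    conv_lhs => rw [← h1]
    rw [← Submodule.map_comp, ← Module.End.mul_eq_comp, ← map_mul, inv_mul_cancel, map_one]
    exact Submodule.map_id T

theorem mem_stab {T : Submodule k V} {e : E} : e ∈ stab σ T ↔ T.map (σ e) = T := Iff.rfl

theorem map_map_inv (T : Submodule k V) (b : E) : (T.map (σ b⁻¹)).map (σ b) = T := by
  ext v
  constructor
  · rintro ⟨_, ⟨t, ht, rfl⟩, rfl⟩
    rw [rho_apply_inv]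
    exact ht
  · intro hv
    exact ⟨σ b⁻¹ v, ⟨v, hv, rfl⟩, rho_apply_inv σ b v⟩

theorem map_inv_map (T : Submodule k V) (b : E) : (T.map (σ b)).map (σ b⁻¹) = T := by
  have := map_map_inv σ T b⁻¹
  rwa [inv_inv] at this

theorem map_mul_eq (T : Submodule k V) (a b : E) : T.map (σ (a * b)) = (T.map (σ b)).map (σ a) := by
  rw [map_mul, Module.End.mul_eq_comp, Submodule.map_comp]

theorem map_eq_map_iff (T : Submodule k V) (a b : E) :
    T.map (σ a) = T.map (σ b) ↔ b⁻¹ * a ∈ stab σ T := by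
  rw [mem_stab, map_mul_eq]
  constructor
  · intro h
    rw [h, map_inv_map]
  · intro h
    have h1 := congrArg (Submodule.map (σ b)) h
    rw [map_map_inv] at h1
    exact h1

theorem indep_cosets (hRc : ∀ a ∈ R, ∀ b ∈ R, a * b = b * a)
    (hnorm : ∀ e : E, ∀ r ∈ R, σ e * r * σ e⁻¹ ∈ R) (S : Submodule k V) (hSinv : RInv R S)
    (hmin : ∀ S' : Submodule k V, S' ≠ ⊥ → RInv R S' → S' ≤ S → S' = S) :
    iSupIndep (fun c : E ⧸ stab σ (homog R S) => (homog R S).map (σ c.out)) := by
  apply indep_of_sep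
  intro c c' hcc
  have hne : (homog R S).map (σ c.out) ≠ (homog R S).map (σ c'.out) := by
    intro h
    rw [map_eq_map_iff] at h
    apply hcc
    have := QuotientGroup.eq.2 h
    rw [QuotientGroup.out_eq', QuotientGroup.out_eq'] at this
    exact this.symm
  obtain ⟨r, hr, h1, h2⟩ := exists_sep σ hRc hnorm S hSinv hmin _ _ hne
  exact ⟨r, h1, h2, fun l v hv => map_homog_inv σ hRc hnorm S _ r hr v hv⟩

end Group

section Assemble

variable {k : Type*} [Field k] {V : Type*} [AddCommGroup V] [Module k V] [FiniteDimensional k V]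
  {E : Type*} [Group E] [Finite E] (σ : E →* (V →ₗ[k] V))

/-- `E ≃ (E ⧸ E₀) × E₀` through coset representatives -/
noncomputable def cosetEquiv (E₀ : Subgroup E) : (E ⧸ E₀) × E₀ ≃ E where
  toFun p := p.1.out * p.2
  invFun e := (QuotientGroup.mk e, ⟨(QuotientGroup.mk e : E ⧸ E₀).out⁻¹ * e, by
    rw [← QuotientGroup.eq, QuotientGroup.out_eq']⟩)
  left_inv := by
    rintro ⟨c, g⟩
    have h1 : (QuotientGroup.mk (c.out * (g : E)) : E ⧸ E₀) = c := by
      rw [QuotientGroup.mk_mul_of_mem _ g.2, QuotientGroup.out_eq']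
    apply Prod.ext
    · exact h1
    · apply Subtype.ext
      change (QuotientGroup.mk (c.out * (g : E)) : E ⧸ E₀).out⁻¹ * (c.out * (g : E)) = g
      rw [h1, inv_mul_cancel_left]
  right_inv := by
    intro e
    change (QuotientGroup.mk e : E ⧸ E₀).out * ((QuotientGroup.mk e : E ⧸ E₀).out⁻¹ * e) = e
    rw [mul_inv_cancel_left]

theorem assemble (T W : Submodule k V) (E₀ : Subgroup E)
    (hcos : iSupIndep (fun c : E ⧸ E₀ => T.map (σ c.out)))
    (hW : iSupIndep (fun g : E₀ => W.map (σ (g : E)))) (hWT : ⨆ g : E₀, W.map (σ (g : E)) = T) :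
    iSupIndep (fun e : E => W.map (σ e)) ∧ ⨆ e : E, W.map (σ e) = ⨆ e : E, T.map (σ e) := by
  classical
  cases nonempty_fintype E
  have hWgT : ∀ g : E₀, W.map (σ (g : E)) ≤ T := fun g => hWT ▸ le_iSup (fun g : E₀ => W.map (σ (g : E))) g
  have hWleT : W ≤ T := by
    have := hWgT 1
    rw [Subgroup.coe_one, map_one] at this
    intro w hw
    exact this ⟨w, hw, rfl⟩
  constructor
  · -- univ version
    have huniv : ∀ x : E → V, (∀ e, x e ∈ W.map (σ e)) → ∑ e, x e = 0 → ∀ e, x e = 0 := by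
      intro x hx hsum
      have hsum' : ∑ c : E ⧸ E₀, ∑ g : E₀, x (c.out * (g : E)) = 0 := by
        rw [← hsum, ← Fintype.sum_prod_type']
        exact Fintype.sum_equiv (cosetEquiv E₀) _ _ (fun p => rfl)
      have hy : ∀ c : E ⧸ E₀, ∑ g : E₀, x (c.out * (g : E)) ∈ T.map (σ c.out) := by
        intro c
        apply Submodule.sum_mem
        intro g _
        have := hx (c.out * (g : E))
        rw [map_mul_eq] at this
        exact Submodule.map_mono (hWgT g) this
      have hy0 := indep_sum_zero _ hcos _ hy hsum'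
      have hz : ∀ (c : E ⧸ E₀) (g : E₀), x (c.out * (g : E)) = 0 := by
        intro c
        have hx' : ∀ g : E₀, ∃ z ∈ W.map (σ (g : E)), σ c.out z = x (c.out * (g : E)) := by
          intro g
          have := hx (c.out * (g : E))
          rw [map_mul_eq] at this
          obtain ⟨z, hz, hzx⟩ := this
          exact ⟨z, hz, hzx⟩
        choose z hz hzx using hx'
        have h1 : σ c.out (∑ g : E₀, z g) = 0 := by
          rw [map_sum, ← hy0 c]
          exact Finset.sum_congr rfl (fun g _ => hzx g)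
        have h2 : ∑ g : E₀, z g = 0 := rho_injective σ c.out (by rw [h1, map_zero])
        intro g
        rw [← hzx g, indep_sum_zero _ hW z hz h2 g, map_zero]
      intro e
      have := hz ((cosetEquiv E₀).symm e).1 ((cosetEquiv E₀).symm e).2
      have h3 : ((cosetEquiv E₀).symm e).1.out * (((cosetEquiv E₀).symm e).2 : E) = e :=
        (cosetEquiv E₀).apply_symm_apply e
      rwa [h3] at this
    rw [iSupIndep_iff_finsetSum_eq_zero_imp_eq_zero]
    intro s v hv hsum i hi
    have h1 := huniv (fun e => if e ∈ s then v e else 0)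
      (fun e => by
        by_cases he : e ∈ s
        · simp only [if_pos he]
          exact hv e he
        · simp only [if_neg he]
          exact Submodule.zero_mem _)
      (by rw [Finset.sum_ite_mem, Finset.univ_inter]; exact hsum) i
    simpa [if_pos hi] using h1
  · apply le_antisymm
    · exact iSup_mono (fun e => Submodule.map_mono hWleT)
    · apply iSup_le
      intro e
      rw [← hWT, Submodule.map_iSup]
      apply iSup_le
      intro g
      rw [← map_mul_eq]
      exact le_iSup (fun e : E => W.map (σ e)) (e * (g : E))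

end Assemble

section Main

variable {k : Type*} [Field k] {V : Type*} [AddCommGroup V] [Module k V] [FiniteDimensional k V]
  {R : Subalgebra k (Module.End k V)} {E : Type*} [Group E] [Finite E] (σ : E →* (V →ₗ[k] V))

/-- restriction of `R` to an invariant subspace -/
def resHom (T : Submodule k V) (hT : RInv R T) : R →ₐ[k] Module.End k T where
  toFun r := (r : Module.End k V).restrict (fun v hv => hT r r.2 v hv)
  map_one' := by ext; rfl
  map_mul' := by intros; ext; rfl
  map_zero' := by ext; rfl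
  map_add' := by intros; ext; rfl
  commutes' := by intro c; ext; rfl

theorem resHom_apply (T : Submodule k V) (hT : RInv R T) (r : R) (t : T) :
    ((resHom T hT r t : T) : V) = (r : Module.End k V) t := rfl

theorem free_on_homog (hRc : ∀ a ∈ R, ∀ b ∈ R, a * b = b * a)
    (hnorm : ∀ e : E, ∀ r ∈ R, σ e * r * σ e⁻¹ ∈ R) (S : Submodule k V) (hS0 : S ≠ ⊥)
    (hSinv : RInv R S)
    (hmin : ∀ S' : Submodule k V, S' ≠ ⊥ → RInv R S' → S' ≤ S → S' = S)
    (hfaith : ∀ e : E, e ≠ 1 → ∀ t : V, (∀ r ∈ R, σ e (r (σ e⁻¹ t)) = r t) → t = 0) :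
    ∃ W : Submodule k V, iSupIndep (fun g : stab σ (homog R S) => W.map (σ (g : E))) ∧
      ⨆ g : stab σ (homog R S), W.map (σ (g : E)) = homog R S := by
  classical
  obtain ⟨T, hTdef⟩ : ∃ T : Submodule k V, T = homog R S := ⟨_, rfl⟩
  rw [← hTdef]
  have hT : RInv R T := hTdef ▸ homog_inv hRc S
  have hST : S ≤ T := hTdef ▸ le_homog R S
  have hTkill : ∀ t ∈ T, ∀ r ∈ R, Kills S r → r t = 0 := by
    intro t ht r hr hk
    rw [hTdef] at ht
    exact ht r hr hk
  obtain ⟨s₀, hs₀S, hs₀⟩ := Submodule.exists_mem_ne_zero_of_ne_bot hS0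
  have hTinv : Inv (σ.comp (stab σ T).subtype) T := by
    intro g v hv
    have h1 : T.map (σ (g : E)) = T := g.2
    exact (le_of_eq h1) ⟨v, hv, rfl⟩
  obtain ⟨τ, hτdef⟩ : ∃ τ : stab σ T →* (T →ₗ[k] T), τ = subRep (σ.comp (stab σ T).subtype) T hTinv :=
    ⟨_, rfl⟩
  have hτapp : ∀ (g : stab σ T) (t : T), ((τ g t : T) : V) = σ (g : E) t := by
    intro g t
    rw [hτdef]
    rfl
  -- the field
  let 𝓛 : Subalgebra k (Module.End k T) := (resHom T hT).range
  have hLc : ∀ a b : 𝓛, a * b = b * a := by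
    rintro ⟨_, ⟨r, rfl⟩⟩ ⟨_, ⟨r', rfl⟩⟩
    apply Subtype.ext
    change resHom T hT r * resHom T hT r' = resHom T hT r' * resHom T hT r
    rw [← map_mul, ← map_mul]
    congr 1
    exact Subtype.ext (hRc r r.2 r' r'.2)
  have hL01 : (0 : 𝓛) ≠ 1 := by
    intro h
    have h1 : (0 : Module.End k T) = 1 := congrArg Subtype.val h
    have h2 := congrArg (fun f : Module.End k T => ((f ⟨s₀, hST hs₀S⟩ : T) : V)) h1
    exact hs₀ h2.symm
  have hLinv : ∀ a : 𝓛, a ≠ 0 → ∃ b : 𝓛, a * b = 1 := by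
    rintro ⟨_, ⟨r, rfl⟩⟩ ha
    have hk : ¬ Kills S (r : Module.End k V) := by
      intro hk
      apply ha
      apply Subtype.ext
      ext t
      exact hTkill t t.2 r r.2 hk
    obtain ⟨r', hr', hinv⟩ := exists_inv hRc S hSinv hmin r r.2 hk
    refine ⟨⟨resHom T hT ⟨r', hr'⟩, ⟨_, rfl⟩⟩, ?_⟩
    apply Subtype.ext
    change resHom T hT r * resHom T hT ⟨r', hr'⟩ = 1
    ext t
    have h1 : Kills S ((r : Module.End k V) * r' - 1) := by
      intro s hs
      change (r : Module.End k V) (r' s) - s = 0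
      have e1 : (r : Module.End k V) (r' s) = r' ((r : Module.End k V) s) :=
        congrArg (fun f : Module.End k V => f s) (hRc r r.2 r' hr')
      rw [e1, hinv s hs, sub_self]
    have h2 := hTkill t t.2 _ (R.sub_mem (R.mul_mem r.2 hr') R.one_mem) h1
    change (r : Module.End k V) (r' (t : V)) - t = 0 at h2
    exact sub_eq_zero.1 h2
  have hfield : IsField 𝓛 :=
    { exists_pair_ne := ⟨0, 1, hL01⟩
      mul_comm := hLc
      mul_inv_cancel := fun {a} ha => hLinv a ha }
  letI : Field 𝓛 := hfield.toField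
  -- conjugation
  have hτ1 : ∀ g : stab σ T, τ g⁻¹ * τ g = 1 := by
    intro g
    rw [← map_mul, inv_mul_cancel, map_one]
  have hτ2 : ∀ g : stab σ T, τ g * τ g⁻¹ = 1 := by
    intro g
    rw [← map_mul, mul_inv_cancel, map_one]
  have hconj_mem : ∀ (g : stab σ T) (a : 𝓛), τ g * (a : Module.End k T) * τ g⁻¹ ∈ 𝓛 := by
    rintro g ⟨_, ⟨r, rfl⟩⟩
    refine ⟨⟨σ (g : E) * r * σ (g : E)⁻¹, hnorm g r r.2⟩, ?_⟩
    ext t
    change σ (g : E) ((r : Module.End k V) (σ (g : E)⁻¹ t)) =
      ((τ g (resHom T hT r (τ g⁻¹ t)) : T) : V)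
    rw [hτapp, resHom_apply, hτapp]
    rfl
  let φfun : stab σ T → RingAut 𝓛 := fun g =>
    { toFun := fun a => ⟨τ g * (a : Module.End k T) * τ g⁻¹, hconj_mem g a⟩
      invFun := fun a => ⟨τ g⁻¹ * (a : Module.End k T) * τ g, by
        have := hconj_mem g⁻¹ a
        rwa [inv_inv] at this⟩
      left_inv := fun a => Subtype.ext (conj_conj τ g a)
      right_inv := fun a => Subtype.ext (by
        have := conj_conj τ g⁻¹ (a : Module.End k T)
        rwa [inv_inv] at this)
      map_mul' := fun a b => Subtype.ext (by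
        change τ g * ((a : Module.End k T) * b) * τ g⁻¹ =
          (τ g * (a : Module.End k T) * τ g⁻¹) * (τ g * (b : Module.End k T) * τ g⁻¹)
        calc τ g * ((a : Module.End k T) * b) * τ g⁻¹
            = τ g * (a : Module.End k T) * 1 * (b * τ g⁻¹) := by simp only [mul_assoc, one_mul]
          _ = τ g * (a : Module.End k T) * (τ g⁻¹ * τ g) * (b * τ g⁻¹) := by rw [hτ1]
          _ = _ := by simp only [mul_assoc])
      map_add' := fun a b => Subtype.ext (by
        change τ g * ((a : Module.End k T) + b) * τ g⁻¹ =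
          (τ g * (a : Module.End k T) * τ g⁻¹) + (τ g * (b : Module.End k T) * τ g⁻¹)
        rw [mul_add, add_mul]) }
  have hφapp : ∀ (g : stab σ T) (a : 𝓛), ((φfun g a : 𝓛) : Module.End k T) = τ g * a * τ g⁻¹ :=
    fun g a => rfl
  let φ : stab σ T →* RingAut 𝓛 :=
    { toFun := φfun
      map_one' := by
        apply RingEquiv.ext
        intro a
        apply Subtype.ext
        rw [hφapp, map_one, inv_one, map_one, one_mul, mul_one]
        rfl
      map_mul' := by
        intro g h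
        apply RingEquiv.ext
        intro a
        apply Subtype.ext
        change ((φfun (g * h) a : 𝓛) : Module.End k T) = ((φfun g (φfun h a) : 𝓛) : Module.End k T)
        rw [hφapp, hφapp, hφapp, map_mul, mul_inv_rev, map_mul]
        simp only [mul_assoc] }
  have hφinj : Function.Injective φ := by
    rw [injective_iff_map_eq_one]
    intro g hg
    by_contra hg1
    have hgE : (g : E) ≠ 1 := fun h => hg1 (Subtype.ext h)
    have h1 : ∀ t ∈ T, t = 0 := by
      intro t ht
      apply hfaith (g : E) hgE t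
      intro r hr
      have h2 : φfun g ⟨resHom T hT ⟨r, hr⟩, ⟨_, rfl⟩⟩ = ⟨resHom T hT ⟨r, hr⟩, ⟨_, rfl⟩⟩ := by
        have : φ g = 1 := hg
        change φ g ⟨resHom T hT ⟨r, hr⟩, ⟨_, rfl⟩⟩ = _
        rw [this]
        rfl
      have h3 := congrArg (fun a : 𝓛 => (((a : Module.End k T) ⟨t, ht⟩ : T) : V)) h2
      simp only [hφapp] at h3
      change ((τ g (resHom T hT ⟨r, hr⟩ (τ g⁻¹ ⟨t, ht⟩)) : T) : V) = r t at h3
      rw [hτapp, resHom_apply, hτapp] at h3
      exact h3
    exact hs₀ (h1 s₀ (hST hs₀S))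
  have hτφ : ∀ (g : stab σ T) (a : 𝓛),
      τ g * (𝓛.val : 𝓛 →+* Module.End k T) a = (𝓛.val : 𝓛 →+* Module.End k T) (φ g a) * τ g := by
    intro g a
    change τ g * (a : Module.End k T) = (τ g * (a : Module.End k T) * τ g⁻¹) * τ g
    rw [mul_assoc, hτ1, mul_one]
  obtain ⟨W₀, hW₀i, hW₀t⟩ := Cfsg.Agent.Lib.Helper23.FrobI.descent' φ hφinj
    (𝓛.val : 𝓛 →+* Module.End k T) τ hτφ
  -- transfer to `V`
  have hmap : ∀ g : stab σ T, (W₀.map (τ g)).map T.subtype = (W₀.map T.subtype).map (σ (g : E)) := by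
    intro g
    ext v
    constructor
    · rintro ⟨_, ⟨w, hw, rfl⟩, rfl⟩
      exact ⟨w, ⟨w, hw, rfl⟩, (hτapp g w).symm⟩
    · rintro ⟨_, ⟨w, hw, rfl⟩, rfl⟩
      exact ⟨τ g w, ⟨w, hw, rfl⟩, hτapp g w⟩
  refine ⟨W₀.map T.subtype, ?_, ?_⟩
  · rw [iSupIndep_iff_finsetSum_eq_zero_imp_eq_zero] at hW₀i ⊢
    intro s v hv hsum i hi
    have hv' : ∀ g : stab σ T, ∃ y : T, (g ∈ s → y ∈ W₀.map (τ g)) ∧
        (g ∈ s → (y : V) = v g) := by
      intro g
      by_cases hg : g ∈ s
      · have := hv g hg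
        rw [← hmap] at this
        obtain ⟨y, hy, hyv⟩ := this
        exact ⟨y, fun _ => hy, fun _ => hyv⟩
      · exact ⟨0, fun h => absurd h hg, fun h => absurd h hg⟩
    choose y hy hyv using hv'
    have hsum' : ∑ g ∈ s, y g = 0 := by
      apply Subtype.ext
      rw [Submodule.coe_sum, Submodule.coe_zero, ← hsum]
      exact Finset.sum_congr rfl (fun g hg => hyv g hg)
    have := hW₀i s y (fun g hg => hy g hg) hsum' i hi
    rw [← hyv i hi, this, Submodule.coe_zero]
  · have h1 : ⨆ g : stab σ T, (W₀.map T.subtype).map (σ (g : E)) =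
        (⨆ g : stab σ T, W₀.map (τ g)).map T.subtype := by
      rw [Submodule.map_iSup]
      exact iSup_congr (fun g => (hmap g).symm)
    rw [h1, hW₀t, Submodule.map_subtype_top]

/-- **Main theorem on homogeneous components.** -/
theorem main [Nontrivial V] (hRc : ∀ a ∈ R, ∀ b ∈ R, a * b = b * a)
    (hnorm : ∀ e : E, ∀ r ∈ R, σ e * r * σ e⁻¹ ∈ R)
    (hfaith : ∀ e : E, e ≠ 1 → ∀ t : V, (∀ r ∈ R, σ e (r (σ e⁻¹ t)) = r t) → t = 0)
    (𝒰 : Set (Module.End k V)) (hUc : ∀ u ∈ 𝒰, ∀ r ∈ R, u * r = r * u)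
    (hUn : ∀ e : E, ∀ u ∈ 𝒰, σ e⁻¹ * u * σ e ∈ 𝒰) :
    ∃ V₁ W : Submodule k V, V₁ ≠ ⊥ ∧ (∀ e : E, ∀ v ∈ V₁, σ e v ∈ V₁) ∧
      (∀ u ∈ 𝒰, ∀ v ∈ V₁, u v ∈ V₁) ∧
      iSupIndep (fun e : E => W.map (σ e)) ∧ ⨆ e : E, W.map (σ e) = V₁ := by
  obtain ⟨S, hS0, hSinv, hmin⟩ := exists_minimal R
  obtain ⟨W, hWi, hWT⟩ := free_on_homog σ hRc hnorm S hS0 hSinv hmin hfaith
  have hcos := indep_cosets σ hRc hnorm S hSinv hmin
  obtain ⟨h1, h2⟩ := assemble σ (homog R S) W (stab σ (homog R S)) hcos hWi hWT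
  refine ⟨⨆ e : E, (homog R S).map (σ e), W, ?_, ?_, ?_, h1, h2⟩
  · intro h
    apply hS0
    rw [eq_bot_iff]
    intro s hs
    have h3 : s ∈ ⨆ e : E, (homog R S).map (σ e) := by
      apply Submodule.mem_iSup_of_mem 1
      rw [map_one]
      exact ⟨s, le_homog R S hs, rfl⟩
    rw [h] at h3
    exact h3
  · intro e v hv
    have h3 : (⨆ e' : E, (homog R S).map (σ e')) ≤ (⨆ e' : E, (homog R S).map (σ e')).comap (σ e) := by
      apply iSup_le
      intro e' w hw
      rw [Submodule.mem_comap]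
      apply Submodule.mem_iSup_of_mem (e * e')
      rw [map_mul_eq]
      exact ⟨w, hw, rfl⟩
    exact h3 hv
  · intro u hu v hv
    have h3 : (⨆ e' : E, (homog R S).map (σ e')) ≤ (⨆ e' : E, (homog R S).map (σ e')).comap u := by
      apply iSup_le
      rintro e' _ ⟨t, ht, rfl⟩
      rw [Submodule.mem_comap]
      apply Submodule.mem_iSup_of_mem e'
      refine ⟨(σ e'⁻¹ * u * σ e') t, ?_, ?_⟩
      · intro r hr hk
        have hc := hUc _ (hUn e' u hu) r hr
        have e1 : r ((σ e'⁻¹ * u * σ e') t) = (σ e'⁻¹ * u * σ e') (r t) :=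
          (congrArg (fun f : Module.End k V => f t) hc).symm
        rw [e1, ht r hr hk, map_zero]
      · change σ e' (σ e'⁻¹ (u (σ e' t))) = u (σ e' t)
        rw [rho_apply_inv]
    exact h3 hv

end Main

end Cfsg.Agent.Lib.Helper23.FrobJ
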