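import Mathlib
import Cfsg.Agent.Lib.Helper23.FrobJ
import Cfsg.Agent.Lib.Helper23.FrobB

/-!
# Freeness of modules for Frobenius groups with nilpotent kernel, any characteristic (helper23)

* `nilp_split`: vanishing of `H¹` for a nilpotent group acting without fixed points.
* `quotRep`, `fix_quotRep`: the quotient representation has no `U`-fixed points either.
* `indep_of_span`, `glue`, `free_main`: if `C_V(U) = 0` then `V` is a free `k[E]`-module, in the form
  `V = ⨁ e, ρ e W`.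
-/

set_option autoImplicit false
set_option linter.style.haveILetI false

namespace Cfsg.Agent.Lib.Helper23.FrobK

open Module Cfsg.Agent.Lib.Helper23.FrobA Cfsg.Agent.Lib.Helper23.FrobB

universe u

section Split

variable {k : Type*} [Field k] {A : Type*} [Group A] {V : Type*} [AddCommGroup V] [Module k V]
  [FiniteDimensional k V]

theorem nilp_split (ρ : A →* (V →ₗ[k] V)) (U : Subgroup A) (Y : ℕ → Subgroup A) (c : ℕ)
    (hY0 : Y 0 = ⊥) (hYc : Y c = U) (hYmono : ∀ i, Y i ≤ Y (i + 1)) (hYU : ∀ i, Y i ≤ U)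
    (hYcomm : ∀ i, ∀ y ∈ Y (i + 1), ∀ u ∈ U, y⁻¹ * u⁻¹ * y * u ∈ Y i) :
    ∀ (n : ℕ) (M X : Submodule k V), finrank k M = n → M ≤ X →
      (∀ u ∈ U, ∀ x ∈ X, ρ u x - x ∈ M) → (∀ u ∈ U, ∀ m ∈ M, ρ u m ∈ M) →
      (∀ m ∈ M, (∀ u ∈ U, ρ u m = m) → m = 0) →
      ∀ x ∈ X, ∃ m ∈ M, ∀ u ∈ U, ρ u (x - m) = x - m := by
  classical
  intro n
  induction n using Nat.strong_induction_on with
  | _ n ih =>
  intro M X hn hMX hXM hMinv hMfix x hx
  by_cases hM0 : M = ⊥
  · refine ⟨0, M.zero_mem, ?_⟩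
    intro u hu
    have := hXM u hu x hx
    rw [hM0, Submodule.mem_bot, sub_eq_zero] at this
    rw [sub_zero, this]
  have hmono : ∀ a b, a ≤ b → Y a ≤ Y b := by
    intro a b hab
    induction hab with
    | refl => exact le_rfl
    | step _ ih' => exact ih'.trans (hYmono _)
  have hex : ∃ j, ¬ ∀ y ∈ Y j, ∀ m ∈ M, ρ y m = m := by
    refine ⟨c, ?_⟩
    intro h
    apply hM0
    rw [eq_bot_iff]
    intro m hm
    rw [Submodule.mem_bot]
    exact hMfix m hm (fun u hu => h u (hYc ▸ hu) m hm)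
  have hj0 : Nat.find hex ≠ 0 := by
    intro h0
    have := Nat.find_spec hex
    rw [h0, hY0] at this
    apply this
    intro y hy m _
    rw [Subgroup.mem_bot.1 hy, map_one]
    rfl
  obtain ⟨i, hi⟩ := Nat.exists_eq_succ_of_ne_zero hj0
  have htriv : ∀ y ∈ Y i, ∀ m ∈ M, ρ y m = m := by
    have := Nat.find_min hex (m := i) (by omega)
    push Not at this
    exact this
  have hnontriv : ¬ ∀ y ∈ Y (i + 1), ∀ m ∈ M, ρ y m = m := by
    have := Nat.find_spec hex
    rwa [hi] at this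
  -- commutator in the other order
  have hcomm' : ∀ l, ∀ z ∈ Y (l + 1), ∀ u ∈ U, u⁻¹ * z⁻¹ * u * z ∈ Y l := by
    intro l z hz u hu
    have := (Y l).inv_mem (hYcomm l z hz u hu)
    have e : (z⁻¹ * u⁻¹ * z * u)⁻¹ = u⁻¹ * z⁻¹ * u * z := by group
    rwa [e] at this
  -- Step A
  have hA : ∀ l, l ≤ i → ∀ y ∈ Y l, ∀ x ∈ X, ρ y x = x := by
    intro l
    induction l with
    | zero =>
      intro _ y hy x _
      rw [hY0] at hy
      rw [Subgroup.mem_bot.1 hy, map_one]; rfl
    | succ l ihl =>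
      intro hl z hz x hx
      have ihl' := ihl (by omega)
      have hzU : z ∈ U := hYU _ hz
      have hzi : z ∈ Y i := hmono _ _ hl hz
      have hd : ρ z x - x ∈ M := hXM z hzU x hx
      have h0 : ρ z x - x = 0 := by
        apply hMfix _ hd
        intro u hu
        have hc := hcomm' l z hz u hu
        have h1 : u * z = z * u * (u⁻¹ * z⁻¹ * u * z) := by group
        have h2 : ρ u (ρ z x) = ρ z (ρ u x) := by
          rw [← rho_mul_apply, h1, rho_mul_apply, rho_mul_apply, ihl' _ hc x hx]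
        have hm' : ρ u x - x ∈ M := hXM u hu x hx
        have h3 : ρ z (ρ u x - x) = ρ u x - x := htriv z hzi _ hm'
        rw [map_sub, h2]
        rw [map_sub] at h3
        calc ρ z (ρ u x) - ρ u x = (ρ z (ρ u x) - ρ z x) - (ρ u x - x) + (ρ z x - x) := by abel
          _ = ρ z x - x := by rw [h3, sub_self, zero_add]
      exact sub_eq_zero.1 h0
  have hAi := hA i le_rfl
  obtain ⟨z, hz, hzM⟩ : ∃ z ∈ Y (i + 1), ¬ ∀ m ∈ M, ρ z m = m := by
    by_contra hcon
    push Not at hcon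
    exact hnontriv hcon
  have hzU : z ∈ U := hYU _ hz
  have hcommX : ∀ u ∈ U, ∀ x ∈ X, ρ u (ρ z x) = ρ z (ρ u x) := by
    intro u hu x hx
    have hc := hcomm' i z hz u hu
    have h1 : u * z = z * u * (u⁻¹ * z⁻¹ * u * z) := by group
    rw [← rho_mul_apply, h1, rho_mul_apply, rho_mul_apply, hAi _ hc x hx]
  obtain ⟨D, hDapp⟩ : ∃ D : V →ₗ[k] V, ∀ v, D v = ρ z v - v := ⟨ρ z - 1, fun v => rfl⟩
  have hDcomm : ∀ u ∈ U, ∀ x ∈ X, D (ρ u x) = ρ u (D x) := by
    intro u hu x hx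
    rw [hDapp, hDapp, map_sub, hcommX u hu x hx]
  have hDX : ∀ x ∈ X, D x ∈ M := fun x hx => by rw [hDapp]; exact hXM z hzU x hx
  have hDM : ∀ m ∈ M, D m ∈ M := fun m hm => hDX m (hMX hm)
  have hM₀lt : finrank k ↥(M ⊓ LinearMap.ker D) < n := by
    rw [← hn]
    apply Submodule.finrank_lt_finrank_of_lt
    refine lt_of_le_of_ne inf_le_left ?_
    intro heq
    apply hzM
    intro m hm
    have h1 : m ∈ M ⊓ LinearMap.ker D := by rw [heq]; exact hm
    have h2 := (Submodule.mem_inf.1 h1).2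
    rw [LinearMap.mem_ker, hDapp, sub_eq_zero] at h2
    exact h2
  have hB : ∀ x ∈ X ⊓ LinearMap.ker D, ∃ m ∈ M ⊓ LinearMap.ker D,
      ∀ u ∈ U, ρ u (x - m) = x - m := by
    apply ih _ hM₀lt (M ⊓ LinearMap.ker D) (X ⊓ LinearMap.ker D) rfl
    · exact inf_le_inf_right _ hMX
    · intro u hu x hx
      rw [Submodule.mem_inf] at hx
      refine Submodule.mem_inf.2 ⟨hXM u hu x hx.1, ?_⟩
      rw [LinearMap.mem_ker, map_sub, hDcomm u hu x hx.1, LinearMap.mem_ker.1 hx.2, map_zero,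
        sub_zero]
    · intro u hu m hm
      rw [Submodule.mem_inf] at hm
      refine Submodule.mem_inf.2 ⟨hMinv u hu m hm.1, ?_⟩
      rw [LinearMap.mem_ker, hDcomm u hu m (hMX hm.1), LinearMap.mem_ker.1 hm.2, map_zero]
    · intro m hm hfix
      exact hMfix m (Submodule.mem_inf.1 hm).1 hfix
  have hN : ∀ x ∈ X, ∃ m ∈ M, D m = D x := by
    by_cases hinj : Function.Injective (D.restrict hDM)
    · have hsurj : Function.Surjective (D.restrict hDM) := LinearMap.injective_iff_surjective.1 hinj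
      intro x hx
      obtain ⟨m, hm⟩ := hsurj ⟨D x, hDX x hx⟩
      refine ⟨m, m.2, ?_⟩
      exact congrArg Subtype.val hm
    · have hM'le : M.map D ≤ M := by
        rintro _ ⟨m, hm, rfl⟩
        exact hDM m hm
      have hM'ne : M.map D ≠ M := by
        intro heq
        apply hinj
        apply LinearMap.injective_iff_surjective.2
        intro y
        have h1 : (y : V) ∈ M.map D := by rw [heq]; exact y.2
        obtain ⟨m, hm, hmy⟩ := h1
        exact ⟨⟨m, hm⟩, Subtype.ext hmy⟩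
      have hM'lt : finrank k ↥(M.map D) < n := by
        rw [← hn]
        exact Submodule.finrank_lt_finrank_of_lt (lt_of_le_of_ne hM'le hM'ne)
      have hIH := ih _ hM'lt (M.map D) (X.map D) rfl (Submodule.map_mono hMX)
        (by
          rintro u hu _ ⟨x, hx, rfl⟩
          refine ⟨ρ u x - x, hXM u hu x hx, ?_⟩
          rw [map_sub, hDcomm u hu x hx])
        (by
          rintro u hu _ ⟨m, hm, rfl⟩
          exact ⟨ρ u m, hMinv u hu m hm, hDcomm u hu m (hMX hm)⟩)
        (by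
          intro m hm hfix
          exact hMfix m (hM'le hm) hfix)
      intro x hx
      obtain ⟨m', hm', hfix⟩ := hIH (D x) ⟨x, hx, rfl⟩
      have h0 : D x - m' = 0 := hMfix _ (M.sub_mem (hDX x hx) (hM'le hm')) hfix
      obtain ⟨m, hm, rfl⟩ := hm'
      exact ⟨m, hm, (sub_eq_zero.1 h0).symm⟩
  obtain ⟨m₁, hm₁, hDm₁⟩ := hN x hx
  have hx₁ : x - m₁ ∈ X ⊓ LinearMap.ker D := by
    refine Submodule.mem_inf.2 ⟨X.sub_mem hx (hMX hm₁), ?_⟩
    rw [LinearMap.mem_ker, map_sub, hDm₁, sub_self]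
  obtain ⟨m₂, hm₂, hfix⟩ := hB _ hx₁
  refine ⟨m₁ + m₂, M.add_mem hm₁ (Submodule.mem_inf.1 hm₂).1, ?_⟩
  intro u hu
  have := hfix u hu
  rwa [sub_sub] at this

end Split

section Quot

variable {k : Type*} [Field k] {A : Type*} [Group A] {V : Type*} [AddCommGroup V] [Module k V]

/-- the representation on the quotient by an invariant subspace -/
def quotRep (ρ : A →* (V →ₗ[k] V)) (V₁ : Submodule k V) (hinv : Inv ρ V₁) :
    A →* ((V ⧸ V₁) →ₗ[k] (V ⧸ V₁)) where
  toFun g := V₁.mapQ V₁ (ρ g) (fun v hv => hinv g v hv)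
  map_one' := by
    apply Submodule.linearMap_qext
    ext v
    simp
  map_mul' := by
    intro g h
    apply Submodule.linearMap_qext
    ext v
    simp [rho_mul_apply]

theorem quotRep_mk (ρ : A →* (V →ₗ[k] V)) (V₁ : Submodule k V) (hinv : Inv ρ V₁) (g : A) (v : V) :
    quotRep ρ V₁ hinv g (V₁.mkQ v) = V₁.mkQ (ρ g v) := rfl

/-- invariance under generators -/
theorem inv_of_gen (ρ : A →* (V →ₗ[k] V)) (M : Submodule k V) (U E : Subgroup A)
    (hU : ∀ u ∈ U, ∀ v ∈ M, ρ u v ∈ M) (hE : ∀ e ∈ E, ∀ v ∈ M, ρ e v ∈ M) (hgen : U ⊔ E = ⊤) :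
    Inv ρ M := by
  let S : Subgroup A :=
    { carrier := {a | ∀ v, (v ∈ M ↔ ρ a v ∈ M)}
      mul_mem' := by
        intro a b ha hb v
        rw [rho_mul_apply]
        exact (hb v).trans (ha _)
      one_mem' := by
        intro v
        rw [map_one]; rfl
      inv_mem' := by
        intro a ha v
        have := ha (ρ a⁻¹ v)
        rw [rho_apply_inv] at this
        exact this.symm }
  have hUS : U ≤ S := by
    intro u hu v
    constructor
    · exact hU u hu v
    · intro h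
      have := hU u⁻¹ (U.inv_mem hu) _ h
      rwa [rho_inv_apply] at this
  have hES : E ≤ S := by
    intro e he v
    constructor
    · exact hE e he v
    · intro h
      have := hE e⁻¹ (E.inv_mem he) _ h
      rwa [rho_inv_apply] at this
  have hS : S = ⊤ := by
    apply top_le_iff.1
    rw [← hgen]
    exact sup_le hUS hES
  intro a v hv
  have ha : a ∈ S := hS ▸ Subgroup.mem_top a
  exact (ha v).1 hv

variable [FiniteDimensional k V]

theorem fix_quotRep (ρ : A →* (V →ₗ[k] V)) (V₁ : Submodule k V) (hinv : Inv ρ V₁)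
    (U : Subgroup A) (Y : ℕ → Subgroup A) (c : ℕ)
    (hY0 : Y 0 = ⊥) (hYc : Y c = U) (hYmono : ∀ i, Y i ≤ Y (i + 1)) (hYU : ∀ i, Y i ≤ U)
    (hYcomm : ∀ i, ∀ y ∈ Y (i + 1), ∀ u ∈ U, y⁻¹ * u⁻¹ * y * u ∈ Y i)
    (hfix : fix ρ U = ⊥) : fix (quotRep ρ V₁ hinv) U = ⊥ := by
  rw [eq_bot_iff]
  intro q hq
  obtain ⟨x, rfl⟩ := V₁.mkQ_surjective q
  rw [Submodule.mem_bot]
  let X : Submodule k V :=
    { carrier := {x | ∀ u ∈ U, ρ u x - x ∈ V₁}
      add_mem' := by
        intro a b ha hb u hu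
        have := V₁.add_mem (ha u hu) (hb u hu)
        rw [map_add]
        have e : ρ u a + ρ u b - (a + b) = (ρ u a - a) + (ρ u b - b) := by abel
        rw [e]
        exact this
      zero_mem' := by
        intro u _
        rw [map_zero, sub_zero]
        exact V₁.zero_mem
      smul_mem' := by
        intro r a ha u hu
        have := V₁.smul_mem r (ha u hu)
        rw [map_smul, ← smul_sub]
        exact this }
  have hxX : x ∈ X := by
    intro u hu
    have h1 := hq u hu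
    rw [quotRep_mk] at h1
    have h2 : V₁.mkQ (ρ u x - x) = 0 := by
      rw [map_sub, h1, sub_self]
    rw [Submodule.mkQ_apply, Submodule.Quotient.mk_eq_zero] at h2
    exact h2
  have hV₁X : V₁ ≤ X := by
    intro v hv u hu
    exact V₁.sub_mem (hinv u v hv) hv
  obtain ⟨m, hm, hfixm⟩ := nilp_split ρ U Y c hY0 hYc hYmono hYU hYcomm _ V₁ X rfl hV₁X
    (fun u hu x hx => hx u hu) (fun u _ m hm => hinv u m hm)
    (fun m _ hmf => by
      have : m ∈ fix ρ U := hmf
      rw [hfix] at this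
      exact (Submodule.mem_bot k).1 this) x hxX
  have h3 : x - m ∈ fix ρ U := hfixm
  rw [hfix, Submodule.mem_bot, sub_eq_zero] at h3
  rw [h3, Submodule.mkQ_apply, Submodule.Quotient.mk_eq_zero]
  exact hm

end Quot

section Glue

variable {k : Type*} [Field k] {A : Type*} [Group A] {V : Type*} [AddCommGroup V] [Module k V]
  [FiniteDimensional k V] (ρ : A →* (V →ₗ[k] V)) (E : Subgroup A) [Finite E]

theorem indep_of_Phi_injective (W : Submodule k V) (h : Function.Injective (Phi ρ E W)) :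
    iSupIndep (fun e : E => W.map (ρ (e : A))) := by
  classical
  haveI := Fintype.ofFinite E
  have huniv : ∀ x : E → V, (∀ e : E, x e ∈ W.map (ρ (e : A))) → ∑ e, x e = 0 → ∀ e, x e = 0 := by
    intro x hx hsum
    choose w hw hwx using hx
    have h1 : Phi ρ E W (fun e : E => ⟨w e, hw e⟩) = 0 := by
      rw [Phi_apply, ← hsum]
      exact Finset.sum_congr rfl (fun e _ => hwx e)
    have h2 : (fun e : E => (⟨w e, hw e⟩ : W)) = 0 := h (by rw [h1, map_zero])
    intro e
    have h3 := congrFun h2 e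
    have h4 : w e = 0 := congrArg Subtype.val h3
    rw [← hwx e, h4, map_zero]
  rw [iSupIndep_iff_finsetSum_eq_zero_imp_eq_zero]
  intro s v hv hsum i hi
  have h1 := huniv (fun e : E => if e ∈ s then v e else 0)
    (fun e : E => by
      by_cases he : e ∈ s
      · simp only [if_pos he]
        exact hv e he
      · simp only [if_neg he]
        exact Submodule.zero_mem _)
    (by rw [Finset.sum_ite_mem, Finset.univ_inter]; exact hsum) i
  simpa [if_pos hi] using h1

theorem indep_of_span (W : Submodule k V) (hspan : ⨆ e : E, W.map (ρ (e : A)) = ⊤)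
    (hdim : Nat.card E * finrank k W ≤ finrank k V) :
    iSupIndep (fun e : E => W.map (ρ (e : A))) := by
  classical
  haveI := Fintype.ofFinite E
  apply indep_of_Phi_injective
  have hsurj : Function.Surjective (Phi ρ E W) := by
    rw [← LinearMap.range_eq_top, range_Phi, hspan]
  have hfr : finrank k (E → W) = Nat.card E * finrank k W := by
    rw [Module.finrank_pi_fintype]
    simp [Nat.card_eq_fintype_card]
  have h1 : finrank k V ≤ finrank k (E → W) := LinearMap.finrank_le_finrank_of_surjective hsurj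
  have h2 : finrank k (E → W) = finrank k V := le_antisymm (hfr ▸ hdim) h1
  exact (LinearMap.injective_iff_surjective_of_finrank_eq_finrank h2).2 hsurj

theorem glue (V₁ : Submodule k V) (hinv : Inv ρ V₁) (W₁ : Submodule k V)
    (hW₁i : iSupIndep (fun e : E => W₁.map (ρ (e : A))))
    (hW₁s : ⨆ e : E, W₁.map (ρ (e : A)) = V₁)
    (W₂ : Submodule k (V ⧸ V₁))
    (hW₂i : iSupIndep (fun e : E => W₂.map (quotRep ρ V₁ hinv (e : A))))
    (hW₂s : ⨆ e : E, W₂.map (quotRep ρ V₁ hinv (e : A)) = ⊤) :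
    ∃ W : Submodule k V, iSupIndep (fun e : E => W.map (ρ (e : A))) ∧
      ⨆ e : E, W.map (ρ (e : A)) = ⊤ := by
  classical
  obtain ⟨s, hs⟩ := LinearMap.exists_rightInverse_of_surjective V₁.mkQ
    (LinearMap.range_eq_top.2 V₁.mkQ_surjective)
  have hs' : ∀ q, V₁.mkQ (s q) = q := fun q => by
    have := congrArg (fun f : (V ⧸ V₁) →ₗ[k] (V ⧸ V₁) => f q) hs
    exact this
  let W : Submodule k V := W₁ ⊔ W₂.map s
  have hspan : ⨆ e : E, W.map (ρ (e : A)) = ⊤ := by
    have hV₁le : V₁ ≤ ⨆ e : E, W.map (ρ (e : A)) := by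
      rw [← hW₁s]
      exact iSup_mono (fun e => Submodule.map_mono le_sup_left)
    rw [eq_top_iff]
    intro v _
    have hq : V₁.mkQ v ∈ ⨆ e : E, W₂.map (quotRep ρ V₁ hinv (e : A)) := by
      rw [hW₂s]; exact Submodule.mem_top
    have hle : (⨆ e : E, W₂.map (quotRep ρ V₁ hinv (e : A))) ≤
        (⨆ e : E, W.map (ρ (e : A))).map V₁.mkQ := by
      apply iSup_le
      rintro e _ ⟨w, hw, rfl⟩
      refine ⟨ρ (e : A) (s w), ?_, ?_⟩
      · apply Submodule.mem_iSup_of_mem e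
        exact Submodule.mem_map_of_mem (Submodule.mem_sup_right (Submodule.mem_map_of_mem hw))
      · rw [← quotRep_mk ρ V₁ hinv, hs']
    obtain ⟨t, ht, htv⟩ := hle hq
    have h1 : v - t ∈ V₁ := by
      have : V₁.mkQ (v - t) = 0 := by rw [map_sub, htv, sub_self]
      rwa [Submodule.mkQ_apply, Submodule.Quotient.mk_eq_zero] at this
    have := Submodule.add_mem _ (hV₁le h1) ht
    rwa [sub_add_cancel] at this
  refine ⟨W, ?_, hspan⟩
  apply indep_of_span ρ E W hspan
  have h1 : finrank k ↥(⨆ e : E, W₁.map (ρ (e : A))) = Nat.card E * finrank k W₁ :=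
    finrank_iSup_translates ρ E W₁ hW₁i
  rw [hW₁s] at h1
  have h2 : finrank k ↥(⨆ e : E, W₂.map (quotRep ρ V₁ hinv (e : A))) = Nat.card E * finrank k W₂ :=
    finrank_iSup_translates (quotRep ρ V₁ hinv) E W₂ hW₂i
  rw [hW₂s, finrank_top] at h2
  have h3 : finrank k (V ⧸ V₁) + finrank k V₁ = finrank k V := Submodule.finrank_quotient_add_finrank V₁
  have h4 : finrank k W ≤ finrank k W₁ + finrank k ↥(W₂.map s) :=
    Submodule.finrank_add_le_finrank_add_finrank W₁ (W₂.map s)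
  have h5 : finrank k ↥(W₂.map s) ≤ finrank k W₂ := Submodule.finrank_map_le s W₂
  calc Nat.card E * finrank k W ≤ Nat.card E * (finrank k W₁ + finrank k W₂) :=
        Nat.mul_le_mul_left _ (h4.trans (Nat.add_le_add_left h5 _))
    _ = finrank k V := by rw [mul_add, ← h1, ← h2, ← h3]; ring

end Glue

section Main

variable {k : Type*} [Field k] {A : Type*} [Group A] {U E : Subgroup A}

/-- the core step: a nonzero invariant free piece -/
theorem step_free (D : FrobData A U E) {V : Type*} [AddCommGroup V] [Module k V]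
    [FiniteDimensional k V] [Nontrivial V]
    (ρ : A →* (V →ₗ[k] V)) (Yi Yj : Subgroup A) (hYjU : Yj ≤ U)
    (hEYj : ∀ e ∈ E, ∀ y ∈ Yj, e * y * e⁻¹ ∈ Yj)
    (hcomm : ∀ y ∈ Yj, ∀ u ∈ U, y⁻¹ * u⁻¹ * y * u ∈ Yi)
    (htriv : ∀ y ∈ Yi, ∀ v : V, ρ y v = v) (hfix : fix ρ Yj = ⊥) :
    ∃ V₁ W : Submodule k V, V₁ ≠ ⊥ ∧ Inv ρ V₁ ∧ iSupIndep (fun e : E => W.map (ρ (e : A))) ∧
      ⨆ e : E, W.map (ρ (e : A)) = V₁ := by
  classical
  haveI := D.finU
  haveI := D.finE
  have hyu : ∀ y ∈ Yj, ∀ u ∈ U, ρ y * ρ u = ρ u * ρ y := by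
    intro y hy u hu
    have hc := hcomm y hy u hu
    have h1 : y * u = u * y * (y⁻¹ * u⁻¹ * y * u) := by group
    have h2 : ρ (y⁻¹ * u⁻¹ * y * u) = 1 := by
      ext v
      exact htriv _ hc v
    rw [← map_mul, h1, map_mul, h2, mul_one, map_mul]
  let gen : Set (Module.End k V) := Set.range (fun y : Yj => ρ (y : A))
  let R : Subalgebra k (Module.End k V) := Algebra.adjoin k gen
  let σ : E →* (V →ₗ[k] V) := ρ.comp E.subtype
  let 𝒰 : Set (Module.End k V) := Set.range (fun u : U => ρ (u : A))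
  have hgencomm : ∀ a ∈ gen, ∀ b ∈ gen, Commute a b := by
    rintro _ ⟨y, rfl⟩ _ ⟨y', rfl⟩
    exact hyu y y.2 y' (hYjU y'.2)
  have hRc : ∀ a ∈ R, ∀ b ∈ R, a * b = b * a := by
    intro a ha b hb
    have h1 : ∀ g ∈ gen, Commute b g := by
      intro g hg
      exact (Algebra.commute_of_mem_adjoin_of_forall_mem_commute hb
        (fun g' hg' => hgencomm g hg g' hg')).symm
    exact ((Algebra.commute_of_mem_adjoin_of_forall_mem_commute ha h1).symm).eq
  have hnorm : ∀ e : E, ∀ r ∈ R, σ e * r * σ e⁻¹ ∈ R := by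
    intro e r hr
    have hinv1 : σ e⁻¹ * σ e = 1 := by rw [← map_mul, inv_mul_cancel, map_one]
    induction hr using Algebra.adjoin_induction with
    | mem x hx =>
      obtain ⟨y, rfl⟩ := hx
      apply Algebra.subset_adjoin
      refine ⟨⟨(e : A) * y * (e : A)⁻¹, hEYj e e.2 y y.2⟩, ?_⟩
      change ρ ((e : A) * y * (e : A)⁻¹) = ρ (e : A) * ρ (y : A) * ρ ((e⁻¹ : E) : A)
      rw [map_mul, map_mul]; rfl
    | algebraMap c =>
      have : σ e * algebraMap k (Module.End k V) c * σ e⁻¹ = algebraMap k (Module.End k V) c := by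
        rw [← Algebra.commutes c (σ e), mul_assoc, ← map_mul, mul_inv_cancel, map_one, mul_one]
      rw [this]
      exact Subalgebra.algebraMap_mem _ c
    | add x y _ _ hx hy =>
      have : σ e * (x + y) * σ e⁻¹ = σ e * x * σ e⁻¹ + σ e * y * σ e⁻¹ := by
        rw [mul_add, add_mul]
      rw [this]
      exact R.add_mem hx hy
    | mul x y _ _ hx hy =>
      have : σ e * (x * y) * σ e⁻¹ = (σ e * x * σ e⁻¹) * (σ e * y * σ e⁻¹) := by
        calc σ e * (x * y) * σ e⁻¹ = σ e * x * 1 * y * σ e⁻¹ := by simp only [mul_one, mul_assoc]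
          _ = (σ e * x * σ e⁻¹) * (σ e * y * σ e⁻¹) := by rw [← hinv1]; simp only [mul_assoc]
      rw [this]
      exact R.mul_mem hx hy
  have hUc : ∀ u ∈ 𝒰, ∀ r ∈ R, u * r = r * u := by
    rintro _ ⟨u, rfl⟩ r hr
    exact (Algebra.commute_of_mem_adjoin_of_forall_mem_commute hr (by
      rintro _ ⟨y, rfl⟩
      exact (hyu y y.2 u u.2).symm)).eq
  have hUn : ∀ e : E, ∀ u ∈ 𝒰, σ e⁻¹ * u * σ e ∈ 𝒰 := by
    rintro e _ ⟨u, rfl⟩
    have hn := D.norm (E.inv_mem e.2)
    have h1 : (e : A)⁻¹ * u * (e : A) ∈ U := by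
      have := (Subgroup.mem_normalizer_iff.1 hn (u : A)).1 u.2
      simpa using this
    refine ⟨⟨_, h1⟩, ?_⟩
    change ρ ((e : A)⁻¹ * u * (e : A)) = ρ ((e⁻¹ : E) : A) * ρ (u : A) * ρ (e : A)
    rw [map_mul, map_mul]; rfl
  have hfaith : ∀ e : E, e ≠ 1 → ∀ t : V, (∀ r ∈ R, σ e (r (σ e⁻¹ t)) = r t) → t = 0 := by
    intro e hne t ht
    haveI : Finite Yj := Finite.of_injective (fun y : Yj => (⟨y, hYjU y.2⟩ : U)) (by
      intro a b hab
      apply Subtype.ext
      exact congrArg (fun z : U => (z : A)) hab)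
    let φ : Yj → Yj := fun y => ⟨(y : A)⁻¹ * ((e : A) * y * (e : A)⁻¹),
      Yj.mul_mem (Yj.inv_mem y.2) (hEYj e e.2 y y.2)⟩
    have hφinj : Function.Injective φ := by
      intro y y' hyy
      have h1 : (y : A)⁻¹ * ((e : A) * y * (e : A)⁻¹) = (y' : A)⁻¹ * ((e : A) * y' * (e : A)⁻¹) :=
        congrArg Subtype.val hyy
      have h3 : (y : A)⁻¹ * (e : A) * y = (y' : A)⁻¹ * (e : A) * y' := by
        have := congrArg (fun z => z * (e : A)) h1
        simpa [mul_assoc] using this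
      have h2 : (e : A) * ((y : A) * (y' : A)⁻¹) = ((y : A) * (y' : A)⁻¹) * e := by
        calc (e : A) * ((y : A) * (y' : A)⁻¹)
            = y * ((y : A)⁻¹ * (e : A) * y) * (y' : A)⁻¹ := by group
          _ = y * ((y' : A)⁻¹ * (e : A) * y') * (y' : A)⁻¹ := by rw [h3]
          _ = ((y : A) * (y' : A)⁻¹) * e := by group
      have h6 := D.fpf e e.2 (by intro h; apply hne; exact Subtype.ext h) _
        (U.mul_mem (hYjU y.2) (U.inv_mem (hYjU y'.2))) h2
      apply Subtype.ext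
      exact mul_inv_eq_one.1 h6
    have hφsurj : Function.Surjective φ := Finite.surjective_of_injective hφinj
    have htfix : t ∈ fix ρ Yj := by
      intro w hw
      obtain ⟨y, hy⟩ := hφsurj ⟨w, hw⟩
      have hw' : w = (y : A)⁻¹ * ((e : A) * y * (e : A)⁻¹) := (congrArg Subtype.val hy).symm
      have h1 := ht (ρ (y : A)) (Algebra.subset_adjoin ⟨y, rfl⟩)
      have h2 : ρ ((e : A) * y * (e : A)⁻¹) t = ρ (y : A) t := by
        rw [rho_mul_apply, rho_mul_apply]
        exact h1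
      rw [hw', rho_mul_apply, h2, rho_inv_apply]
    rw [hfix] at htfix
    exact (Submodule.mem_bot k).1 htfix
  obtain ⟨V₁, W, hV₁0, hV₁E, hV₁U, hWi, hWs⟩ := FrobJ.main σ hRc hnorm hfaith 𝒰 hUc hUn
  refine ⟨V₁, W, hV₁0, ?_, hWi, hWs⟩
  exact inv_of_gen ρ V₁ U E (fun u hu v hv => hV₁U _ ⟨⟨u, hu⟩, rfl⟩ v hv)
    (fun e he v hv => hV₁E ⟨e, he⟩ v hv) D.gen

/-- **Freeness theorem.** If `C_V(U) = 0` then `V = ⨁_{e ∈ E} ρ(e) W`. -/
theorem free_main (D : FrobData A U E) :
    ∀ (n : ℕ) (V : Type u) [AddCommGroup V] [Module k V] [FiniteDimensional k V]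
      (ρ : A →* (V →ₗ[k] V)), finrank k V = n → fix ρ U = ⊥ →
      ∃ W : Submodule k V, iSupIndep (fun e : E => W.map (ρ (e : A))) ∧
        ⨆ e : E, W.map (ρ (e : A)) = ⊤ := by
  classical
  haveI := D.finU
  haveI := D.finE
  obtain ⟨c, Y, hY0, hYc, hYmono, hYU, hYE, hYcomm⟩ := D.series
  intro n
  induction n using Nat.strong_induction_on with
  | _ n ih =>
  intro V _ _ _ ρ hn hfix
  rcases subsingleton_or_nontrivial V with hsub | hnt
  · refine ⟨⊥, ?_, Subsingleton.elim _ _⟩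
    intro e
    have : (⊥ : Submodule k V).map (ρ (e : A)) = ⊥ := Submodule.map_bot _
    change Disjoint ((⊥ : Submodule k V).map (ρ (e : A))) _
    rw [this]
    exact disjoint_bot_left
  have hex : ∃ j, fix ρ (Y j) = ⊥ := ⟨c, by rw [hYc]; exact hfix⟩
  have hj0 : Nat.find hex ≠ 0 := by
    intro h0
    have := Nat.find_spec hex
    rw [h0, hY0] at this
    obtain ⟨v, hv⟩ := exists_ne (0 : V)
    have hv' : v ∈ fix ρ ⊥ := by
      intro b hb
      rw [Subgroup.mem_bot.1 hb, map_one]; rfl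
    rw [this] at hv'
    exact hv ((Submodule.mem_bot k).1 hv')
  obtain ⟨i, hi⟩ := Nat.exists_eq_succ_of_ne_zero hj0
  have hV0 : fix ρ (Y i) ≠ ⊥ := Nat.find_min hex (m := i) (by omega)
  have hV1 : fix ρ (Y (i + 1)) = ⊥ := by
    have := Nat.find_spec hex
    rwa [hi] at this
  have hUinv : ∀ u ∈ U, ∀ v ∈ fix ρ (Y i), ρ u v ∈ fix ρ (Y i) := by
    intro u hu v hv y hy
    have hc := hYcomm i y (hYmono i hy) u hu
    have h1 : u⁻¹ * y * u ∈ Y i := by
      have := (Y i).mul_mem hy hc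
      have e : y * (y⁻¹ * u⁻¹ * y * u) = u⁻¹ * y * u := by group
      rwa [e] at this
    have h2 : y * u = u * (u⁻¹ * y * u) := by group
    rw [← rho_mul_apply, h2, rho_mul_apply, hv _ h1]
  have hEinv : ∀ e ∈ E, ∀ v ∈ fix ρ (Y i), ρ e v ∈ fix ρ (Y i) := by
    intro e he v hv y hy
    have hn := hYE i (E.inv_mem he)
    have h1 : e⁻¹ * y * e ∈ Y i := by
      have := (Subgroup.mem_normalizer_iff.1 hn y).1 hy
      rwa [inv_inv] at this
    have h2 : y * e = e * (e⁻¹ * y * e) := by group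
    rw [← rho_mul_apply, h2, rho_mul_apply, hv _ h1]
  have hVzinv : Inv ρ (fix ρ (Y i)) := inv_of_gen ρ _ U E hUinv hEinv D.gen
  haveI : Nontrivial ↥(fix ρ (Y i)) := Submodule.nontrivial_iff_ne_bot.2 hV0
  have htrivz : ∀ y ∈ Y i, ∀ v : ↥(fix ρ (Y i)), subRep ρ _ hVzinv y v = v := by
    intro y hy v
    apply Subtype.ext
    rw [subRep_apply]
    exact v.2 y hy
  have hfixz : fix (subRep ρ _ hVzinv) (Y (i + 1)) = ⊥ := by
    rw [eq_bot_iff]
    intro v hv
    rw [Submodule.mem_bot]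
    apply Subtype.ext
    have h1 : (v : V) ∈ fix ρ (Y (i + 1)) := by
      intro y hy
      have := hv y hy
      exact congrArg Subtype.val this
    rw [hV1] at h1
    exact (Submodule.mem_bot k).1 h1
  obtain ⟨V₁z, Wz, hV₁z0, hV₁zinv, hWzi, hWzs⟩ :=
    step_free D (subRep ρ _ hVzinv) (Y i) (Y (i + 1)) (hYU _)
      (fun e he y hy => (Subgroup.mem_normalizer_iff.1 (hYE _ he) y).1 hy) (hYcomm i) htrivz hfixz
  have hι : ∀ (a : A) (S : Submodule k ↥(fix ρ (Y i))),
      (S.map (subRep ρ _ hVzinv a)).map (fix ρ (Y i)).subtype =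
        (S.map (fix ρ (Y i)).subtype).map (ρ a) := by
    intro a S
    rw [← Submodule.map_comp, ← Submodule.map_comp]
    rfl
  have hV₁inv : Inv ρ (V₁z.map (fix ρ (Y i)).subtype) := by
    rintro a _ ⟨v, hv, rfl⟩
    exact ⟨subRep ρ _ hVzinv a v, hV₁zinv a v hv, rfl⟩
  have hV₁0 : V₁z.map (fix ρ (Y i)).subtype ≠ ⊥ := by
    intro h
    apply hV₁z0
    rw [eq_bot_iff]
    intro v hv
    have h1 : (fix ρ (Y i)).subtype v ∈ V₁z.map (fix ρ (Y i)).subtype :=
      Submodule.mem_map_of_mem hv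
    rw [h] at h1
    rw [Submodule.mem_bot]
    exact Subtype.ext ((Submodule.mem_bot k).1 h1)
  have hW₁i : iSupIndep (fun e : E => (Wz.map (fix ρ (Y i)).subtype).map (ρ (e : A))) := by
    have h1 := LinearMap.iSupIndep_map (fix ρ (Y i)).subtype (fix ρ (Y i)).injective_subtype hWzi
    have h2 : (fun e : E => (Wz.map (fix ρ (Y i)).subtype).map (ρ (e : A))) =
        fun e : E => (Wz.map (subRep ρ _ hVzinv (e : A))).map (fix ρ (Y i)).subtype := by
      funext e
      exact (hι e Wz).symm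
    rw [h2]
    exact h1
  have hW₁s : ⨆ e : E, (Wz.map (fix ρ (Y i)).subtype).map (ρ (e : A)) =
      V₁z.map (fix ρ (Y i)).subtype := by
    rw [← hWzs, Submodule.map_iSup]
    exact iSup_congr (fun e => (hι e Wz).symm)
  have hlt : finrank k (V ⧸ V₁z.map (fix ρ (Y i)).subtype) < n := by
    have h1 := Submodule.finrank_quotient_add_finrank (V₁z.map (fix ρ (Y i)).subtype)
    haveI : Nontrivial ↥(V₁z.map (fix ρ (Y i)).subtype) := Submodule.nontrivial_iff_ne_bot.2 hV₁0
    have h2 : 0 < finrank k ↥(V₁z.map (fix ρ (Y i)).subtype) := Module.finrank_pos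
    omega
  obtain ⟨W₂, hW₂i, hW₂s⟩ := ih _ hlt (V ⧸ V₁z.map (fix ρ (Y i)).subtype) (quotRep ρ _ hV₁inv) rfl
    (fix_quotRep ρ _ hV₁inv U Y c hY0 hYc hYmono hYU hYcomm hfix)
  exact glue ρ E _ hV₁inv _ hW₁i hW₁s W₂ hW₂i hW₂s

end Main

end Cfsg.Agent.Lib.Helper23.FrobK
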