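import Mathlib
import Cfsg.Agent.Lib.Helper2.SylowCount
import Cfsg.Agent.Lib.Helper16.SylowNormal

/-!
M. Hall's theorem on the number of Sylow subgroups (helper23).
-/

set_option autoImplicit false

namespace Cfsg.Agent.Lib.Helper23.HallSylow

universe u

open Cfsg.Agent.Lib.Helper2

/-- An admissible factor. -/
def HallNum (p m : ℕ) : Prop :=
  (IsPrimePow m ∧ m % p = 1) ∨
    ∃ (S : Type u) (_ : Group S) (_ : Finite S), IsSimpleGroup S ∧ m = Nat.card (Sylow p S)

/-- A product of admissible factors. -/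
def HallProp (p n : ℕ) : Prop :=
  ∃ l : List ℕ, l.prod = n ∧ ∀ m ∈ l, HallNum.{u} p m

theorem hallProp_one (p : ℕ) : HallProp.{u} p 1 := ⟨[], rfl, by simp⟩

theorem hallProp_mul {p a b : ℕ} (ha : HallProp.{u} p a) (hb : HallProp.{u} p b) :
    HallProp.{u} p (a * b) := by
  obtain ⟨l, hl, hl'⟩ := ha
  obtain ⟨m, hm, hm'⟩ := hb
  refine ⟨l ++ m, by rw [List.prod_append, hl, hm], ?_⟩
  intro x hx
  rcases List.mem_append.mp hx with h | h
  · exact hl' x h
  · exact hm' x h

theorem hallProp_single {p a : ℕ} (ha : HallNum.{u} p a) : HallProp.{u} p a :=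
  ⟨[a], by simp, by simpa using ha⟩

/-- If every prime-power part of `n` is `1` modulo `p`, then `n` is admissible. -/
theorem hallProp_of_primePow {p n : ℕ} (hn : n ≠ 0)
    (h : ∀ q : ℕ, q.Prime → q ∣ n → q ^ n.factorization q % p = 1) : HallProp.{u} p n := by
  classical
  refine ⟨n.primeFactors.toList.map (fun q => q ^ n.factorization q), ?_, ?_⟩
  · rw [Finset.prod_map_toList]
    exact Nat.prod_factorization_pow_eq_self hn
  · intro m hm
    rw [List.mem_map] at hm
    obtain ⟨q, hq, rfl⟩ := hm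
    rw [Finset.mem_toList, Nat.mem_primeFactors] at hq
    obtain ⟨hqp, hqn, -⟩ := hq
    refine Or.inl ⟨?_, h q hqp hqn⟩
    refine ⟨q, n.factorization q, hqp.prime, ?_, rfl⟩
    exact Nat.pos_of_ne_zero (fun h0 => by
      have := (Nat.factorization_eq_zero_iff n q).mp h0
      rcases this with h1 | h1 | h1
      · exact h1 hqp
      · exact h1 hqn
      · exact hn h1)

section
variable {G : Type u} [Group G]

theorem card_inf_mul_relIndex [Finite G] (D N : Subgroup G) :
    Nat.card (D ⊓ N : Subgroup G) * D.relIndex N = Nat.card N := by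
  have := Subgroup.relIndex_mul_relIndex ⊥ (D ⊓ N) N bot_le inf_le_right
  rwa [Subgroup.relIndex_bot_left, Subgroup.relIndex_bot_left, Subgroup.inf_relIndex_right] at this

theorem relIndex_inf_of_le [Finite G] (T H Q : Subgroup G) (hQH : Q ≤ H) :
    (T ⊓ H).relIndex Q = T.relIndex Q := by
  have : (T ⊓ H).subgroupOf Q = T.subgroupOf Q := by
    ext x
    simp only [Subgroup.mem_subgroupOf, Subgroup.mem_inf]
    exact ⟨fun h => h.1, fun h => ⟨h, hQH x.2⟩⟩
  unfold Subgroup.relIndex
  rw [this]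

/-- The number of Sylow `p`-subgroups of `P Q` for a `P`-invariant subgroup `Q`. -/
theorem relIndex_normalizer_modEq_one [Finite G] {p : ℕ} [Fact p.Prime] (P : Sylow p G)
    (Q : Subgroup G) (hPQ : (P : Subgroup G) ≤ Subgroup.normalizer (Q : Set G)) :
    (Subgroup.normalizer ((P : Subgroup G) : Set G)).relIndex Q ≡ 1 [MOD p] := by
  obtain ⟨T, hT⟩ : ∃ T, T = Subgroup.normalizer ((P : Subgroup G) : Set G) := ⟨_, rfl⟩
  obtain ⟨H, hH⟩ : ∃ H, H = (P : Subgroup G) ⊔ Q := ⟨_, rfl⟩
  have hPH : (P : Subgroup G) ≤ H := by rw [hH]; exact le_sup_left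
  have hQH : Q ≤ H := by rw [hH]; exact le_sup_right
  have hPT : (P : Subgroup G) ≤ T := hT ▸ Subgroup.le_normalizer
  have h1 : Nat.card (Sylow p H) = T.relIndex H := by
    rw [hT]
    exact card_sylow_subgroup H P hPH (P.subtype hPH) (Sylow.coe_subtype P hPH)
  have h2 := card_sylow_modEq_one p H
  rw [h1] at h2
  have hD : T ⊓ H ⊔ Q = H := by
    apply le_antisymm (sup_le inf_le_right hQH)
    have : (P : Subgroup G) ⊔ Q ≤ T ⊓ H ⊔ Q :=
      sup_le (le_sup_of_le_left (le_inf hPT hPH)) le_sup_right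
    rwa [← hH] at this
  have hDn : T ⊓ H ≤ Subgroup.normalizer (Q : Set G) := by
    refine le_trans inf_le_right ?_
    rw [hH]
    exact sup_le hPQ Subgroup.le_normalizer
  have h3 := relIndex_sup_of_le_normalizer (T ⊓ H) Q hDn
  rw [hD, Subgroup.inf_relIndex_right, relIndex_inf_of_le T H Q hQH] at h3
  rw [← hT, ← h3]
  exact h2

/-- The coprime case: `N` a normal `p'`-subgroup; each prime power part of `|N : C_N(P)|` is
`1` modulo `p`. -/
theorem coprime_case [Finite G] {p : ℕ} [Fact p.Prime] (P : Sylow p G) (N : Subgroup G)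
    [N.Normal] (hPN : (P : Subgroup G) ⊓ N = ⊥) (q : ℕ) (hq : q.Prime) :
    q ^ ((Subgroup.normalizer ((P : Subgroup G) : Set G)).relIndex N).factorization q % p = 1 := by
  have : Fact q.Prime := ⟨hq⟩
  have hp : p.Prime := Fact.out
  obtain ⟨T, hT⟩ : ∃ T, T = Subgroup.normalizer ((P : Subgroup G) : Set G) := ⟨_, rfl⟩
  rw [← hT]
  have hPT : (P : Subgroup G) ≤ T := hT ▸ Subgroup.le_normalizer
  -- `N` is a `p'`-group
  have hpN : ¬ p ∣ Nat.card N := by
    obtain ⟨Q, hQ⟩ := Cfsg.Agent.Lib.Helper16.exists_sylow_subgroupOf_normal P N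
    have h1 : (P : Subgroup G).subgroupOf N = ⊥ := by
      rw [← Subgroup.inf_subgroupOf_right, hPN, Subgroup.bot_subgroupOf]
    have h2 := Q.card_eq_multiplicity
    rw [hQ, h1, Subgroup.card_bot] at h2
    intro hd
    have h3 : 0 < (Nat.card N).factorization p :=
      hp.factorization_pos_of_dvd Nat.card_pos.ne' hd
    have h4 : 1 < p ^ (Nat.card N).factorization p := Nat.one_lt_pow h3.ne' hp.one_lt
    omega
  have hcop : (Nat.card (P : Subgroup G)).Coprime (Nat.card N) := by
    obtain ⟨k, hk⟩ := IsPGroup.iff_card.mp P.isPGroup'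
    rw [hk]
    exact Nat.Coprime.pow_left k ((Nat.Prime.coprime_iff_not_dvd hp).mpr hpN)
  have hAK : (P : Subgroup G) ≤ Subgroup.normalizer (N : Set G) := by
    intro x _
    rw [Subgroup.mem_normalizer_iff]
    intro h
    exact ⟨fun hh => Subgroup.Normal.conj_mem inferInstance h hh x, fun hh => by
      have := Subgroup.Normal.conj_mem (inferInstance : N.Normal) _ hh x⁻¹
      simpa [mul_assoc] using this⟩
  have hsolv : Group.IsSolvable (P : Subgroup G) ∨ Group.IsSolvable N := by
    left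
    have : Group.IsNilpotent (P : Subgroup G) := P.isPGroup'.isNilpotent
    infer_instance
  -- `C = T ⊓ N` centralizes `P`
  have hcent : ∀ c ∈ T ⊓ N, ∀ x ∈ (P : Subgroup G), c * x = x * c := by
    intro c hc x hx
    have hcT : c ∈ Subgroup.normalizer ((P : Subgroup G) : Set G) := hT ▸ hc.1
    have h1 : c * x * c⁻¹ * x⁻¹ ∈ (P : Subgroup G) ⊓ N := by
      refine ⟨?_, ?_⟩
      · exact Subgroup.mul_mem _ ((Subgroup.mem_normalizer_iff.mp hcT x).mp hx)
          (Subgroup.inv_mem _ hx)
      · have h2 : x * c⁻¹ * x⁻¹ ∈ N :=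
          Subgroup.Normal.conj_mem inferInstance _ (Subgroup.inv_mem _ hc.2) x
        have h3 := Subgroup.mul_mem _ hc.2 h2
        have e : c * (x * c⁻¹ * x⁻¹) = c * x * c⁻¹ * x⁻¹ := by group
        rwa [e] at h3
    rw [hPN, Subgroup.mem_bot] at h1
    have : c * x = (c * x * c⁻¹ * x⁻¹) * (x * c) := by group
    rw [this, h1, one_mul]
  -- an invariant Sylow `q`-subgroup of `N`
  obtain ⟨Q, hQ⟩ := exists_invariant_sylow (P : Subgroup G) N hAK hcop hsolv q
  obtain ⟨Q', hQ'⟩ : ∃ Q', Q' = (Q : Subgroup N).map N.subtype := ⟨_, rfl⟩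
  rw [← hQ'] at hQ
  have hQ'N : Q' ≤ N := hQ' ▸ Subgroup.map_subtype_le _
  -- a Sylow `q`-subgroup of `C`
  obtain ⟨C, hC⟩ : ∃ C, C = T ⊓ N := ⟨_, rfl⟩
  have hCN : C ≤ N := hC ▸ inf_le_right
  obtain ⟨R⟩ : Nonempty (Sylow q C) := inferInstance
  obtain ⟨R', hR'⟩ : ∃ R', R' = (R : Subgroup C).map C.subtype := ⟨_, rfl⟩
  have hR'C : R' ≤ C := hR' ▸ Subgroup.map_subtype_le _
  have hR'q : IsPGroup q R' := hR' ▸ R.isPGroup'.map _
  have hR'card : Nat.card R' = q ^ (Nat.card C).factorization q := by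
    rw [hR', Subgroup.card_map_of_injective C.subtype_injective]
    exact R.card_eq_multiplicity
  have hPR' : (P : Subgroup G) ≤ Subgroup.normalizer (R' : Set G) := by
    intro x hx
    rw [Subgroup.mem_normalizer_iff]
    intro r
    constructor
    · intro hr
      have := hcent r (hC ▸ hR'C hr) x hx
      have e : x * r * x⁻¹ = r := by rw [← this]; group
      rwa [e]
    · intro hr
      have hr' : x⁻¹ * (x * r * x⁻¹) * x ∈ C := by
        have h1 := hcent _ (hC ▸ hR'C hr) x hx
        have e : x⁻¹ * (x * r * x⁻¹) * x = x * r * x⁻¹ := by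
          rw [mul_assoc, h1]; group
        rw [e]; exact hR'C hr
      have e2 : x⁻¹ * (x * r * x⁻¹) * x = r := by group
      rw [e2] at hr'
      have := hcent r (hC ▸ hr') x hx
      have e : x * r * x⁻¹ = r := by rw [← this]; group
      rwa [e] at hr
  obtain ⟨Q₂, hRQ₂, hQ₂⟩ := exists_invariant_sylow_ge (P : Subgroup G) N hAK hcop hsolv q R'
    (le_trans hR'C hCN) hR'q hPR'
  obtain ⟨c, hcP, hcQ⟩ := invariant_sylow_conj (P : Subgroup G) N hAK hcop hsolv q Q₂ Q hQ₂
    (hQ' ▸ hQ)
  -- the conjugate of `R'` by `c` lies in `Q' ⊓ C`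
  have hcC : (c : G) ∈ C := by
    rw [hC, hT]
    refine Subgroup.mem_inf.mpr ⟨?_, c.2⟩
    rw [Subgroup.mem_normalizer_iff]
    intro x
    have hcx : ∀ y ∈ (P : Subgroup G), (c : G) * y * (c : G)⁻¹ = y := by
      intro y hy
      have := Subgroup.mem_centralizer_iff.mp hcP y hy
      rw [← this]; group
    constructor
    · intro hx; rw [hcx x hx]; exact hx
    · intro hx
      have h1 := Subgroup.mem_centralizer_iff.mp hcP _ hx
      have e : (c : G) * x * (c : G)⁻¹ * (c : G) = (c : G) * x := by group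
      rw [e] at h1
      have : x = (c : G) * x * (c : G)⁻¹ := by
        have := mul_left_cancel h1
        exact this
      rw [this]; exact hx
  have hQeq : Q' = ((Q₂ : Subgroup N).map N.subtype).map (MulAut.conj (c : G)).toMonoidHom := by
    rw [hQ', ← hcQ, Sylow.pointwise_smul_def, map_subtype_conj_smul]
  have hle : R'.map (MulAut.conj (c : G)).toMonoidHom ≤ Q' ⊓ C := by
    refine le_inf ?_ ?_
    · rw [hQeq]
      exact Subgroup.map_mono hRQ₂
    · rintro _ ⟨r, hr, rfl⟩
      change (c : G) * r * (c : G)⁻¹ ∈ C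
      exact Subgroup.mul_mem _ (Subgroup.mul_mem _ hcC (hR'C hr)) (Subgroup.inv_mem _ hcC)
  -- cardinalities
  have hCpos : Nat.card C ≠ 0 := Nat.card_pos.ne'
  have hcard1 : Nat.card (Q' ⊓ C : Subgroup G) = q ^ (Nat.card C).factorization q := by
    apply Nat.dvd_antisymm
    · have hqg : IsPGroup q (Q' ⊓ C : Subgroup G) := by
        have : IsPGroup q Q' := hQ' ▸ Q.isPGroup'.map _
        exact this.to_le inf_le_left
      obtain ⟨j, hj⟩ := IsPGroup.iff_card.mp hqg
      rw [hj]
      apply pow_dvd_pow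
      have hdvd : q ^ j ∣ Nat.card C := by
        rw [← hj]
        exact Subgroup.card_dvd_of_le inf_le_right
      exact (hq.pow_dvd_iff_le_factorization hCpos).mp hdvd
    · rw [← hR'card, ← Subgroup.card_map_of_injective (f := (MulAut.conj (c : G)).toMonoidHom)
        (MulAut.conj (c : G)).injective]
      exact Subgroup.card_dvd_of_le hle
  have hcard2 : Nat.card Q' = q ^ (Nat.card N).factorization q := by
    rw [hQ', Subgroup.card_map_of_injective N.subtype_injective]
    exact Q.card_eq_multiplicity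
  have hTQ : T ⊓ Q' = Q' ⊓ C := by
    rw [hC]
    apply le_antisymm
    · exact le_inf inf_le_right (le_inf inf_le_left (le_trans inf_le_right hQ'N))
    · exact le_inf (le_trans inf_le_right inf_le_left) inf_le_left
  have e1 := card_inf_mul_relIndex T Q'
  have e2 := card_inf_mul_relIndex T N
  rw [hTQ, hcard1, hcard2] at e1
  rw [← hC] at e2
  have hn0 : T.relIndex N ≠ 0 := by
    intro h0
    rw [h0, mul_zero] at e2
    exact Nat.card_pos.ne' e2.symm
  have e3 : (Nat.card N).factorization q =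
      (Nat.card C).factorization q + (T.relIndex N).factorization q := by
    rw [← e2, Nat.factorization_mul hCpos hn0]
    rfl
  rw [e3, pow_add] at e1
  have e4 : T.relIndex Q' = q ^ (T.relIndex N).factorization q :=
    Nat.eq_of_mul_eq_mul_left (pow_pos hq.pos _) e1
  have e5 := relIndex_normalizer_modEq_one P Q' hQ
  rw [← hT, e4] at e5
  have := e5
  unfold Nat.ModEq at this
  rw [this]
  exact Nat.one_mod_eq_one.mpr hp.one_lt.ne'

end

/-- M. Hall's theorem, by induction on the order. -/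
theorem hall_main (p : ℕ) [Fact p.Prime] : ∀ k : ℕ, ∀ (G : Type u) [Group G] [Finite G],
    Nat.card G = k → HallProp.{u} p (Nat.card (Sylow p G)) := by
  intro k
  induction k using Nat.strong_induction_on with
  | _ k ih =>
  intro G _ _ hk
  by_cases hsub : Subsingleton G
  · have h1 : Nat.card (Sylow p G) = 1 := by
      obtain ⟨P⟩ : Nonempty (Sylow p G) := inferInstance
      have h2 : Nat.card (Sylow p G) ∣ (P : Subgroup G).index := Sylow.card_dvd_index P
      have h3 : (P : Subgroup G).index ∣ Nat.card G := Subgroup.index_dvd_card _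
      have h4 : Nat.card G = 1 := Nat.card_of_subsingleton (1 : G)
      rw [h4] at h3
      exact Nat.dvd_one.mp (dvd_trans h2 h3)
    rw [h1]; exact hallProp_one p
  by_cases hsimple : IsSimpleGroup G
  · exact hallProp_single (Or.inr ⟨G, inferInstance, inferInstance, hsimple, rfl⟩)
  have hnt : Nontrivial G := not_subsingleton_iff_nontrivial.mp hsub
  obtain ⟨N, hNn, hNbot, hNtop⟩ : ∃ N : Subgroup G, N.Normal ∧ N ≠ ⊥ ∧ N ≠ ⊤ := by
    by_contra hcon
    push Not at hcon
    apply hsimple
    refine { toNontrivial := hnt, eq_bot_or_eq_top_of_normal := ?_ }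
    intro N hN
    by_contra h
    push Not at h
    exact h.2 (hcon N hN h.1)
  obtain ⟨P⟩ : Nonempty (Sylow p G) := inferInstance
  have hquot : ∀ K : Subgroup G, K ≠ ⊥ → Nat.card (G ⧸ K) < k := by
    intro K hK
    have h1 : 1 < Nat.card K := (Subgroup.one_lt_card_iff_ne_bot K).mpr hK
    have h2 := Subgroup.card_eq_card_quotient_mul_card_subgroup K
    rw [hk] at h2
    have h3 : 0 < Nat.card (G ⧸ K) := Nat.card_pos
    rw [h2]
    nlinarith
  have hsubgrp : ∀ H : Subgroup G, H ≠ ⊤ → Nat.card H < k := by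
    intro H hH
    rw [← hk]
    exact lt_of_le_of_ne (Subgroup.card_le_card_group H)
      (fun h => hH (Subgroup.eq_top_of_card_eq H h))
  have hnormN : ∀ g : G, g ∈ Subgroup.normalizer (N : Set G) := by
    intro g
    rw [Subgroup.normalizer_eq_top_iff.mpr hNn]
    exact Subgroup.mem_top g
  by_cases hPNtop : (P : Subgroup G) ⊔ N ≠ ⊤
  · have h1 := card_sylow_eq_mul N P
    have hle : (P : Subgroup G) ≤ (P : Subgroup G) ⊔ N := le_sup_left
    have h2 := card_sylow_subgroup ((P : Subgroup G) ⊔ N) P hle (P.subtype hle)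
      (Sylow.coe_subtype P hle)
    rw [h1, ← h2]
    exact hallProp_mul (ih _ (hquot N hNbot) (G ⧸ N) rfl) (ih _ (hsubgrp _ hPNtop) _ rfl)
  push Not at hPNtop
  obtain ⟨P₀, hP₀⟩ : ∃ P₀, P₀ = (P : Subgroup G) ⊓ N := ⟨_, rfl⟩
  obtain ⟨Q, hQ⟩ := Cfsg.Agent.Lib.Helper16.exists_sylow_subgroupOf_normal P N
  have hQmap : (Q : Subgroup N).map N.subtype = P₀ := by
    rw [hQ, Subgroup.subgroupOf_map_subtype, hP₀]
  have hP₀N : P₀ ≤ N := by rw [hP₀]; exact inf_le_right
  by_cases hM : Subgroup.normalizer (P₀ : Set G) ≠ ⊤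
  · obtain ⟨M, hMdef⟩ : ∃ M, M = Subgroup.normalizer (P₀ : Set G) := ⟨_, rfl⟩
    have hTM : Subgroup.normalizer ((P : Subgroup G) : Set G) ≤ M := by
      intro g hg
      rw [hMdef, hP₀]
      exact mem_normalizer_inf hg (hnormN g)
    have hPM : (P : Subgroup G) ≤ M := le_trans Subgroup.le_normalizer hTM
    have h1 : Nat.card (Sylow p G) = (Subgroup.normalizer ((P : Subgroup G) : Set G)).index :=
      Sylow.card_eq_index_normalizer P
    have h2 := Subgroup.relIndex_mul_index hTM
    have h3 : Nat.card (Sylow p M) =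
        (Subgroup.normalizer ((P : Subgroup G) : Set G)).relIndex M :=
      card_sylow_subgroup M P hPM (P.subtype hPM) (Sylow.coe_subtype P hPM)
    have hfr : M ⊔ N = ⊤ := by
      have := Sylow.normalizer_sup_eq_top Q
      rw [hQmap] at this
      rw [hMdef]; exact this
    have h4 : M.index = M.relIndex N := by
      rw [← relIndex_sup_of_normal M N, hfr, Subgroup.relIndex_top_right]
    have h5 : Nat.card (Sylow p N) = M.relIndex N := by
      rw [hMdef]
      exact card_sylow_subgroup N P₀ hP₀N Q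
        (by rw [hQ, hP₀, Subgroup.inf_subgroupOf_right])
    rw [h1, ← h2, ← h3, h4, ← h5]
    exact hallProp_mul (ih _ (hsubgrp M (hMdef ▸ hM)) _ rfl) (ih _ (hsubgrp N hNtop) _ rfl)
  push Not at hM
  by_cases hP₀bot : P₀ ≠ ⊥
  · have hP₀n : P₀.Normal := Subgroup.normalizer_eq_top_iff.mp hM
    have hP₀p : IsPGroup p P₀ := by
      rw [hP₀]; exact P.isPGroup'.to_le inf_le_left
    have h1 := card_sylow_quotient_pgroup P₀ hP₀p
    rw [← h1]
    exact ih _ (hquot P₀ hP₀bot) _ rfl
  push Not at hP₀bot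
  have hPN : (P : Subgroup G) ⊓ N = ⊥ := by rw [← hP₀]; exact hP₀bot
  have h1 : Nat.card (Sylow p G) = (Subgroup.normalizer ((P : Subgroup G) : Set G)).index :=
    Sylow.card_eq_index_normalizer P
  have h2 : (Subgroup.normalizer ((P : Subgroup G) : Set G)).index =
      (Subgroup.normalizer ((P : Subgroup G) : Set G)).relIndex N := by
    rw [← relIndex_sup_of_normal (Subgroup.normalizer ((P : Subgroup G) : Set G)) N]
    have : Subgroup.normalizer ((P : Subgroup G) : Set G) ⊔ N = ⊤ := by
      apply top_le_iff.mp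
      rw [← hPNtop]
      exact sup_le_sup_right Subgroup.le_normalizer N
    rw [this, Subgroup.relIndex_top_right]
  rw [h1, h2]
  apply hallProp_of_primePow
  · unfold Subgroup.relIndex
    exact Subgroup.index_ne_zero_of_finite
  · intro q hq _
    exact coprime_case P N hPN q hq

end Cfsg.Agent.Lib.Helper23.HallSylow
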