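import Mathlib

set_option autoImplicit false
set_option linter.style.haveILetI false
open Finset

namespace Cfsg.Agent.Lib.Helper23.KulA

variable {G : Type*} [Group G] [Finite G] {p : ℕ} [hp : Fact p.Prime]

instance homFinite : Finite (G →* Multiplicative (ZMod p)) :=
  Finite.of_injective (fun f => (f : G → Multiplicative (ZMod p))) DFunLike.coe_injective

theorem card_Cp : Nat.card (Multiplicative (ZMod p)) = p := by
  simp [Nat.card_eq_fintype_card]

theorem pow_p_Cp (a : Multiplicative (ZMod p)) : a ^ p = 1 := by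
  have h := pow_card_eq_one' (G := Multiplicative (ZMod p)) (x := a)
  rwa [card_Cp] at h

/-- characters trivial on `H` -/
def perp (p : ℕ) (H : Subgroup G) : Subgroup (G →* Multiplicative (ZMod p)) where
  carrier := {χ | ∀ h ∈ H, χ h = 1}
  one_mem' := by intro h _; rfl
  mul_mem' := by
    intro a b ha hb h hh
    simp only [Set.mem_setOf_eq] at ha hb
    rw [MonoidHom.mul_apply, ha h hh, hb h hh, one_mul]
  inv_mem' := by
    intro a ha h hh
    simp only [Set.mem_setOf_eq] at ha
    rw [MonoidHom.inv_apply, ha h hh, inv_one]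

theorem mem_perp {H : Subgroup G} {χ : G →* Multiplicative (ZMod p)} :
    χ ∈ perp p H ↔ ∀ h ∈ H, χ h = 1 := Iff.rfl

theorem mem_perp_iff_le_ker {H : Subgroup G} {χ : G →* Multiplicative (ZMod p)} :
    χ ∈ perp p H ↔ H ≤ χ.ker := by
  constructor
  · intro h x hx
    exact MonoidHom.mem_ker.2 (h x hx)
  · intro h x hx
    exact MonoidHom.mem_ker.1 (h hx)

theorem hom_pow_p (χ : G →* Multiplicative (ZMod p)) : χ ^ p = 1 := by
  ext g
  rw [MonoidHom.pow_apply, pow_p_Cp]
  rfl

theorem perp_card_pow (H : Subgroup G) : ∃ c : ℕ, Nat.card (perp p H) = p ^ c := by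
  have hP : IsPGroup p (perp p H) := by
    intro χ
    refine ⟨1, ?_⟩
    ext g
    simp only [pow_one, Subgroup.coe_pow, Subgroup.coe_one]
    rw [hom_pow_p]
  exact IsPGroup.iff_card.1 hP

theorem index_ker_of_ne_one {χ : G →* Multiplicative (ZMod p)} (hχ : χ ≠ 1) :
    χ.ker.index = p := by
  rw [Subgroup.index_ker]
  have hne : χ.range ≠ ⊥ := by
    intro h
    apply hχ
    ext g
    have : χ g ∈ χ.range := ⟨g, rfl⟩
    rw [h, Subgroup.mem_bot] at this
    rw [this]; rfl
  have hd : Nat.card χ.range ∣ p := by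
    have := Subgroup.card_subgroup_dvd_card χ.range
    rwa [card_Cp] at this
  rcases (Nat.dvd_prime hp.out).1 hd with h | h
  · exact absurd (Subgroup.card_eq_one.1 h) hne
  · exact h

theorem eq_of_le_of_index_eq {M K : Subgroup G} (h : M ≤ K) (hi : M.index = K.index)
    (h0 : M.index ≠ 0) : M = K := by
  have h1 := Subgroup.relIndex_mul_index h
  rw [hi] at h1
  have hK0 : K.index ≠ 0 := by rwa [← hi]
  have h2 : M.relIndex K = 1 := by
    have : M.relIndex K * K.index = 1 * K.index := by rw [h1, one_mul]
    exact Nat.eq_of_mul_eq_mul_right (Nat.pos_of_ne_zero hK0) this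
  exact le_antisymm h (Subgroup.relIndex_eq_one.1 h2)

/-- for a normal subgroup `M` of index `p`, `perp M` has exactly `p` elements -/
theorem card_perp_of_index (M : Subgroup G) [M.Normal] (hM : M.index = p) :
    Nat.card (perp p M) = p := by
  have hcardQ : Nat.card (G ⧸ M) = p := by rw [← Subgroup.index_eq_card, hM]
  -- a nontrivial character
  let e : (G ⧸ M) ≃* Multiplicative (ZMod p) := mulEquivOfPrimeCardEq hcardQ card_Cp
  let χ₀ : G →* Multiplicative (ZMod p) := e.toMonoidHom.comp (QuotientGroup.mk' M)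
  have hχ₀ : χ₀ ∈ perp p M := by
    intro h hh
    show e (QuotientGroup.mk' M h) = 1
    have h0 : (QuotientGroup.mk' M) h = 1 := (QuotientGroup.eq_one_iff h).2 hh
    rw [h0, map_one]
  have hMtop : M ≠ ⊤ := by
    intro h
    rw [h, Subgroup.index_top] at hM
    exact hp.out.one_lt.ne hM
  obtain ⟨g, hg⟩ : ∃ g : G, g ∉ M := by
    by_contra h
    push Not at h
    exact hMtop ((Subgroup.eq_top_iff' M).2 h)
  have hχ₀g : χ₀ g ≠ 1 := by
    intro h
    have h1 : e (QuotientGroup.mk' M g) = 1 := h
    have h2 : QuotientGroup.mk' M g = 1 := by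
      have := e.injective (h1.trans (map_one e).symm)
      exact this
    exact hg ((QuotientGroup.eq_one_iff g).1 h2)
  obtain ⟨c, hc⟩ := perp_card_pow (p := p) M
  have hc1 : c ≠ 0 := by
    rintro rfl
    rw [pow_zero] at hc
    have hbot : perp p M = ⊥ := Subgroup.card_eq_one.1 hc
    have : χ₀ ∈ (⊥ : Subgroup (G →* Multiplicative (ZMod p))) := hbot ▸ hχ₀
    rw [Subgroup.mem_bot] at this
    apply hχ₀g
    rw [this]; rfl
  have hge : p ≤ Nat.card (perp p M) := by
    rw [hc]
    calc p = p ^ 1 := (pow_one p).symm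
      _ ≤ p ^ c := Nat.pow_le_pow_right hp.out.pos (Nat.one_le_iff_ne_zero.2 hc1)
  -- upper bound via evaluation at g
  have hgen : ∀ x : G, ∃ i : ℤ, x * (g ^ i)⁻¹ ∈ M := by
    intro x
    have hg1 : (QuotientGroup.mk' M g) ≠ 1 := fun h => hg ((QuotientGroup.eq_one_iff g).1 h)
    have htop := zpowers_eq_top_of_prime_card hcardQ hg1
    have hx : QuotientGroup.mk' M x ∈ Subgroup.zpowers (QuotientGroup.mk' M g) := by
      rw [htop]; exact Subgroup.mem_top _
    obtain ⟨i, hi⟩ := Subgroup.mem_zpowers_iff.1 hx
    refine ⟨i, ?_⟩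
    rw [← QuotientGroup.eq_one_iff, ← QuotientGroup.mk'_apply, map_mul, map_inv, map_zpow, hi,
      mul_inv_cancel]
  have hinj : Function.Injective (fun χ : perp p M => (χ : G →* Multiplicative (ZMod p)) g) := by
    intro χ χ' h
    simp only at h
    apply Subtype.ext
    apply MonoidHom.ext
    intro x
    obtain ⟨i, hi⟩ := hgen x
    have e1 : (χ : G →* Multiplicative (ZMod p)) x =
        (χ : G →* Multiplicative (ZMod p)) (x * (g ^ i)⁻¹) *
          (χ : G →* Multiplicative (ZMod p)) (g ^ i) := by
      rw [← map_mul]; congr 1; group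
    have e2 : (χ' : G →* Multiplicative (ZMod p)) x =
        (χ' : G →* Multiplicative (ZMod p)) (x * (g ^ i)⁻¹) *
          (χ' : G →* Multiplicative (ZMod p)) (g ^ i) := by
      rw [← map_mul]; congr 1; group
    rw [e1, e2, χ.2 _ hi, χ'.2 _ hi, map_zpow, map_zpow, h]
  have hle : Nat.card (perp p M) ≤ p := by
    have := Nat.card_le_card_of_injective _ hinj
    rwa [card_Cp] at this
  exact le_antisymm hle hge

open Classical in
/-- `(p - 1) * #{M : index p, normal, H ≤ M} + 1 = |perp H|`, assuming index-`p` subgroups are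
normal. -/
theorem card_perp_eq (hnorm : ∀ M : Subgroup G, M.index = p → M.Normal) (H : Subgroup G) :
    (p - 1) * Nat.card {M : Subgroup G // M.index = p ∧ H ≤ M} + 1 = Nat.card (perp p H) := by
  letI : Fintype (Subgroup G) := Fintype.ofFinite _
  letI : Fintype (G →* Multiplicative (ZMod p)) := Fintype.ofFinite _
  have hc1 : Nat.card {M : Subgroup G // M.index = p ∧ H ≤ M} =
      ((univ : Finset (Subgroup G)).filter (fun M => M.index = p ∧ H ≤ M)).card := by
    rw [Nat.card_eq_fintype_card]
    exact Fintype.card_of_subtype _ (fun M => by simp)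
  have hc2 : Nat.card (perp p H) =
      ((univ : Finset (G →* Multiplicative (ZMod p))).filter (fun χ => χ ∈ perp p H)).card := by
    rw [Nat.card_eq_fintype_card]
    exact Fintype.card_of_subtype _ (fun χ => by simp)
  have hsplit : ((univ : Finset (G →* Multiplicative (ZMod p))).filter (fun χ => χ ∈ perp p H)).card =
      ((univ : Finset (G →* Multiplicative (ZMod p))).filter
        (fun χ => χ ∈ perp p H ∧ χ ≠ 1)).card + 1 := by
    have h1 : (univ : Finset (G →* Multiplicative (ZMod p))).filter (fun χ => χ ∈ perp p H) =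
        insert 1 ((univ : Finset (G →* Multiplicative (ZMod p))).filter
          (fun χ => χ ∈ perp p H ∧ χ ≠ 1)) := by
      ext χ
      simp only [mem_filter, mem_univ, true_and, mem_insert]
      constructor
      · intro h
        by_cases h1 : χ = 1
        · exact Or.inl h1
        · exact Or.inr ⟨h, h1⟩
      · rintro (h | h)
        · rw [h]; exact Subgroup.one_mem _
        · exact h.1
    rw [h1, card_insert_of_notMem]
    simp
  have hfib : ((univ : Finset (G →* Multiplicative (ZMod p))).filter
        (fun χ => χ ∈ perp p H ∧ χ ≠ 1)).card =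
      (p - 1) * ((univ : Finset (Subgroup G)).filter (fun M => M.index = p ∧ H ≤ M)).card := by
    rw [Finset.card_eq_sum_card_fiberwise (f := fun χ : G →* Multiplicative (ZMod p) => χ.ker)
      (t := (univ : Finset (Subgroup G)).filter (fun M => M.index = p ∧ H ≤ M))]
    · rw [mul_comm]
      apply Finset.sum_const_nat
      intro M hM
      obtain ⟨hMi, hHM⟩ := (mem_filter.1 hM).2
      haveI := hnorm M hMi
      have hcard := card_perp_of_index M hMi
      have hc3 : Nat.card (perp p M) =
          ((univ : Finset (G →* Multiplicative (ZMod p))).filter (fun χ => χ ∈ perp p M)).card := by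
        rw [Nat.card_eq_fintype_card]
        exact Fintype.card_of_subtype _ (fun χ => by simp)
      have hset : ((univ : Finset (G →* Multiplicative (ZMod p))).filter
          (fun χ => χ ∈ perp p H ∧ χ ≠ 1)).filter (fun χ => χ.ker = M) =
          ((univ : Finset (G →* Multiplicative (ZMod p))).filter (fun χ => χ ∈ perp p M)).erase 1 := by
        ext χ
        simp only [mem_filter, mem_univ, true_and, mem_erase]
        constructor
        · rintro ⟨⟨_, h1⟩, h2⟩
          exact ⟨h1, mem_perp_iff_le_ker.2 (le_of_eq h2.symm)⟩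
        · rintro ⟨h1, h2⟩
          have hle : M ≤ χ.ker := mem_perp_iff_le_ker.1 h2
          have hidx := index_ker_of_ne_one h1
          have heq : M = χ.ker := eq_of_le_of_index_eq hle (by rw [hMi, hidx])
            (by rw [hMi]; exact hp.out.ne_zero)
          exact ⟨⟨mem_perp_iff_le_ker.2 (heq ▸ hHM), h1⟩, heq.symm⟩
      rw [hset, card_erase_of_mem, ← hc3, hcard]
      simp
    · intro χ hχ
      rw [mem_coe, mem_filter] at hχ ⊢
      refine ⟨mem_univ _, index_ker_of_ne_one hχ.2.2, mem_perp_iff_le_ker.1 hχ.2.1⟩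
  rw [hc1, hc2, hsplit, hfib]

end Cfsg.Agent.Lib.Helper23.KulA
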