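import Mathlib
import Cfsg.Agent.Lib.Helper23.KulA

set_option autoImplicit false
set_option linter.style.haveILetI false
open Finset

namespace Cfsg.Agent.Lib.Helper23.KulB
open Cfsg.Agent.Lib.Helper23.KulA

variable {G : Type*} [Group G] [Finite G] {p : ℕ} [hp : Fact p.Prime]

open Classical in
/-- the subgroups of index `p` -/
noncomputable def Mx (G : Type*) [Group G] [Finite G] (p : ℕ) : Finset (Subgroup G) :=
  letI : Fintype (Subgroup G) := Fintype.ofFinite _
  univ.filter (fun M => M.index = p)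

theorem mem_Mx {M : Subgroup G} : M ∈ Mx G p ↔ M.index = p := by
  unfold Mx
  simp only [mem_filter, mem_univ, true_and]

open Classical in
/-- number of index-`p` subgroups above `H` -/
noncomputable def aCnt (p : ℕ) (H : Subgroup G) : ℕ := ((Mx G p).filter (fun M => H ≤ M)).card

open Classical in
/-- intersections of two distinct index-`p` subgroups -/
noncomputable def Gm (G : Type*) [Group G] [Finite G] (p : ℕ) : Finset (Subgroup G) :=
  (((Mx G p) ×ˢ (Mx G p)).filter (fun q => q.1 ≠ q.2)).image (fun q => q.1 ⊓ q.2)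

theorem mem_Gm {N : Subgroup G} :
    N ∈ Gm G p ↔ ∃ M ∈ Mx G p, ∃ M' ∈ Mx G p, M ≠ M' ∧ M ⊓ M' = N := by
  classical
  unfold Gm
  simp only [mem_image, mem_filter, mem_product, Prod.exists]
  constructor
  · rintro ⟨M, M', ⟨⟨h1, h2⟩, h3⟩, h4⟩
    exact ⟨M, h1, M', h2, h3, h4⟩
  · rintro ⟨M, h1, M', h2, h3, h4⟩
    exact ⟨M, M', ⟨⟨h1, h2⟩, h3⟩, h4⟩

open Classical in
noncomputable def bCnt (p : ℕ) (H : Subgroup G) : ℕ := ((Gm G p).filter (fun N => H ≤ N)).card

theorem normal_of_index (hG : IsPGroup p G) {M : Subgroup G} (hM : M.index = p) : M.Normal := by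
  obtain ⟨m, hm⟩ := IsPGroup.iff_card.1 hG
  have hm0 : m ≠ 0 := by
    rintro rfl
    have h1 : M.index ∣ Nat.card G := Subgroup.index_dvd_card M
    rw [hm, pow_zero, hM] at h1
    exact hp.out.one_lt.ne' (Nat.dvd_one.1 h1)
  apply Subgroup.normal_of_index_eq_minFac_card
  rw [hM, hm, hp.out.pow_minFac hm0]

open Classical in
theorem card_subtype_eq_aCnt (H : Subgroup G) :
    Nat.card {M : Subgroup G // M.index = p ∧ H ≤ M} = aCnt p H := by
  letI : Fintype (Subgroup G) := Fintype.ofFinite _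
  rw [Nat.card_eq_fintype_card]
  unfold aCnt
  exact Fintype.card_of_subtype _ (fun M => by simp [mem_Mx])

theorem aCnt_formula (hG : IsPGroup p G) (H : Subgroup G) :
    ∃ c : ℕ, (p - 1) * aCnt p H + 1 = p ^ c := by
  obtain ⟨c, hc⟩ := perp_card_pow (p := p) H
  refine ⟨c, ?_⟩
  rw [← hc, ← card_perp_eq (fun M hM => normal_of_index hG hM) H, card_subtype_eq_aCnt]

theorem modEq_one_of_formula {a c : ℕ} (h : (p - 1) * a + 1 = p ^ c) (ha : 1 ≤ a) :
    a ≡ 1 [MOD p] := by
  have hp2 : 2 ≤ p := hp.out.two_le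
  have hc : c ≠ 0 := by
    rintro rfl
    rw [pow_zero] at h
    have : (p - 1) * a = 0 := by omega
    rcases Nat.mul_eq_zero.1 this with h1 | h1 <;> omega
  obtain ⟨c', rfl⟩ := Nat.exists_eq_succ_of_ne_zero hc
  rw [Nat.ModEq.comm, Nat.modEq_iff_dvd' ha]
  have h2 : p * a + 1 = p * p ^ c' + a := by
    have : p * a = (p - 1) * a + a := by
      have : p = (p - 1) + 1 := by omega
      nth_rewrite 1 [this]; ring
    rw [this, pow_succ] at *
    linarith
  have hle : p ^ c' ≤ a := by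
    by_contra hlt
    push Not at hlt
    have : p * a + 1 ≤ p * p ^ c' := by
      have : a + 1 ≤ p ^ c' := hlt
      calc p * a + 1 ≤ p * a + p := by omega
        _ = p * (a + 1) := by ring
        _ ≤ p * p ^ c' := Nat.mul_le_mul_left _ this
    omega
  refine ⟨a - p ^ c', ?_⟩
  rw [Nat.mul_sub]
  omega

theorem modEq_sq_of_formula {a c : ℕ} (h : (p - 1) * a + 1 = p ^ c) (ha : 2 ≤ a) :
    a ≡ 1 + p [MOD p ^ 2] := by
  have hp2 : 2 ≤ p := hp.out.two_le
  have hc : 2 ≤ c := by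
    by_contra hlt
    push Not at hlt
    have hc1 : p ^ c ≤ p := by
      calc p ^ c ≤ p ^ 1 := Nat.pow_le_pow_right hp.out.pos (by omega)
        _ = p := pow_one p
    have : (p - 1) * 2 ≤ (p - 1) * a := Nat.mul_le_mul_left _ ha
    omega
  obtain ⟨c', rfl⟩ : ∃ c', c = 2 + c' := ⟨c - 2, by omega⟩
  have hz : ((p : ℤ) - 1) * (a : ℤ) + 1 = (p : ℤ) ^ 2 * (p : ℤ) ^ c' := by
    have h' : (((p - 1) * a + 1 : ℕ) : ℤ) = ((p ^ (2 + c') : ℕ) : ℤ) := by rw [h]
    push_cast [Nat.cast_sub (by omega : 1 ≤ p)] at h'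
    rw [h', pow_add]
  have hdvd : ((p : ℤ) ^ 2) ∣ ((p : ℤ) - 1) * ((a : ℤ) - (1 + p)) := by
    refine ⟨(p : ℤ) ^ c' - 1, ?_⟩
    have : ((p : ℤ) - 1) * ((a : ℤ) - (1 + p)) = (((p : ℤ) - 1) * (a : ℤ) + 1) - (p : ℤ) ^ 2 := by
      ring
    rw [this, hz]; ring
  have hcop : IsCoprime ((p : ℤ) ^ 2) ((p : ℤ) - 1) := ⟨1, -((p : ℤ) + 1), by ring⟩
  have hdvd2 : ((p : ℤ) ^ 2) ∣ ((a : ℤ) - (1 + p)) := hcop.dvd_of_dvd_mul_left hdvd
  have : ((1 + p : ℕ) : ℤ) ≡ (a : ℤ) [ZMOD ((p ^ 2 : ℕ) : ℤ)] := by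
    rw [Int.modEq_iff_dvd]
    push_cast
    exact hdvd2
  exact ((Int.natCast_modEq_iff).1 this).symm

theorem aCnt_modEq_one (hG : IsPGroup p G) {H : Subgroup G} (h1 : 1 ≤ aCnt p H) :
    aCnt p H ≡ 1 [MOD p] := by
  obtain ⟨c, hc⟩ := aCnt_formula hG H
  exact modEq_one_of_formula hc h1

theorem aCnt_modEq_sq (hG : IsPGroup p G) {H : Subgroup G} (h2 : 2 ≤ aCnt p H) :
    aCnt p H ≡ 1 + p [MOD p ^ 2] := by
  obtain ⟨c, hc⟩ := aCnt_formula hG H
  exact modEq_sq_of_formula hc h2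

theorem index_inf (hG : IsPGroup p G) {M M' : Subgroup G} (hM : M ∈ Mx G p) (hM' : M' ∈ Mx G p)
    (hne : M ≠ M') : (M ⊓ M').index = p * p := by
  rw [mem_Mx] at hM hM'
  haveI := normal_of_index hG hM'
  have h1 : (M ⊓ M').relIndex M * M.index = (M ⊓ M').index :=
    Subgroup.relIndex_mul_index inf_le_left
  rw [Subgroup.inf_relIndex_left] at h1
  have h2 : M'.relIndex M ∣ p := hM' ▸ Subgroup.relIndex_dvd_index_of_normal M' M
  rcases (Nat.dvd_prime hp.out).1 h2 with h | h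
  · exfalso
    have hle : M ≤ M' := Subgroup.relIndex_eq_one.1 h
    exact hne (eq_of_le_of_index_eq hle (hM.trans hM'.symm) (by rw [hM]; exact hp.out.ne_zero))
  · rw [← h1, h, hM]

theorem index_of_mem_Gm (hG : IsPGroup p G) {N : Subgroup G} (hN : N ∈ Gm G p) :
    N.index = p * p := by
  obtain ⟨M, hM, M', hM', hne, rfl⟩ := mem_Gm.1 hN
  exact index_inf hG hM hM' hne

theorem inf_eq_of_le (hG : IsPGroup p G) {N M₁ M₂ : Subgroup G} (hN : N.index = p * p)
    (h1 : M₁ ∈ Mx G p) (h2 : M₂ ∈ Mx G p) (hne : M₁ ≠ M₂) (hN1 : N ≤ M₁) (hN2 : N ≤ M₂) :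
    M₁ ⊓ M₂ = N := by
  refine (eq_of_le_of_index_eq (le_inf hN1 hN2) (hN.trans (index_inf hG h1 h2 hne).symm) ?_).symm
  rw [hN]
  exact Nat.mul_ne_zero hp.out.ne_zero hp.out.ne_zero

omit [Finite G] in
open Classical in
theorem card_filter_mem [Fintype G] (N : Subgroup G) :
    ((univ : Finset G).filter (fun g => g ∈ N)).card = Nat.card ↥N := by
  rw [Nat.card_eq_fintype_card]
  exact (Fintype.card_of_subtype _ (fun g => by simp)).symm

open Classical in
theorem aCnt_le (hG : IsPGroup p G) {N : Subgroup G} (hN : N.index = p * p) :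
    aCnt p N ≤ p + 1 := by
  letI : Fintype G := Fintype.ofFinite G
  have hp2 : 2 ≤ p := hp.out.two_le
  obtain ⟨n, hn⟩ : ∃ n, n = Nat.card ↥N := ⟨_, rfl⟩
  have hn0 : 0 < n := by rw [hn]; exact Nat.card_pos
  have hGn : Nat.card G = n * (p * p) := by
    rw [← hN, hn]; exact (Subgroup.card_mul_index N).symm
  have hMcard : ∀ M ∈ (Mx G p).filter (fun M => N ≤ M), Nat.card ↥M = n * p := by
    intro M hM
    have hMi : M.index = p := mem_Mx.1 (mem_filter.1 hM).1
    have h1 := Subgroup.card_mul_index M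
    rw [hMi, hGn] at h1
    have : Nat.card ↥M * p = (n * p) * p := by rw [h1]; ring
    exact Nat.eq_of_mul_eq_mul_right hp.out.pos this
  have hdisj : ((↑((Mx G p).filter (fun M => N ≤ M)) : Set (Subgroup G))).PairwiseDisjoint
      (fun M => ((univ : Finset G).filter (fun g => g ∈ M)) \
        ((univ : Finset G).filter (fun g => g ∈ N))) := by
    intro M₁ h1 M₂ h2 hne
    rw [mem_coe, mem_filter] at h1 h2
    rw [Function.onFun, Finset.disjoint_left]
    intro x hx1 hx2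
    rw [mem_sdiff, mem_filter, mem_filter] at hx1 hx2
    have hinf := inf_eq_of_le hG hN h1.1 h2.1 hne h1.2 h2.2
    apply hx1.2
    refine ⟨mem_univ _, ?_⟩
    rw [← hinf]
    exact ⟨hx1.1.2, hx2.1.2⟩
  have hcard := Finset.card_biUnion hdisj
  have hsub : ((Mx G p).filter (fun M => N ≤ M)).biUnion
      (fun M => ((univ : Finset G).filter (fun g => g ∈ M)) \
        ((univ : Finset G).filter (fun g => g ∈ N))) ⊆
      (univ : Finset G) \ ((univ : Finset G).filter (fun g => g ∈ N)) := by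
    intro x hx
    rw [mem_biUnion] at hx
    obtain ⟨M, _, hxM⟩ := hx
    rw [mem_sdiff] at hxM ⊢
    exact ⟨mem_univ _, hxM.2⟩
  have hle := Finset.card_le_card hsub
  rw [hcard, Finset.card_sdiff_of_subset (filter_subset _ _), card_filter_mem, card_univ,
    ← Nat.card_eq_fintype_card, hGn, ← hn] at hle
  have hsum : ∑ M ∈ (Mx G p).filter (fun M => N ≤ M),
      (((univ : Finset G).filter (fun g => g ∈ M)) \
        ((univ : Finset G).filter (fun g => g ∈ N))).card =
      aCnt p N * (n * p - n) := by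
    unfold aCnt
    apply Finset.sum_const_nat
    intro M hM
    have hNM : N ≤ M := (mem_filter.1 hM).2
    rw [Finset.card_sdiff_of_subset, card_filter_mem, card_filter_mem, hMcard M hM, ← hn]
    intro x hx
    rw [mem_filter] at hx ⊢
    exact ⟨mem_univ _, hNM hx.2⟩
  rw [hsum] at hle
  -- a * (n p - n) ≤ n p p - n
  have h3 : n * p - n = n * (p - 1) := by rw [Nat.mul_sub, mul_one]
  have h4 : n * (p * p) - n = n * (p - 1) * (p + 1) := by
    have : p * p - 1 = (p - 1) * (p + 1) := by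
      obtain ⟨q, rfl⟩ : ∃ q, p = q + 1 := ⟨p - 1, by omega⟩
      simp only [Nat.add_sub_cancel]
      ring_nf
      omega
    rw [mul_assoc, ← this, Nat.mul_sub, mul_one]
  rw [h3, h4, mul_comm (aCnt p N)] at hle
  exact Nat.le_of_mul_le_mul_left hle (Nat.mul_pos hn0 (by omega))

open Classical in
theorem aCnt_of_mem_Gm (hG : IsPGroup p G) {N : Subgroup G} (hN : N ∈ Gm G p) :
    aCnt p N = p + 1 := by
  have hidx := index_of_mem_Gm hG hN
  obtain ⟨M, hM, M', hM', hne, rfl⟩ := mem_Gm.1 hN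
  have h2 : 2 ≤ aCnt p (M ⊓ M') := by
    unfold aCnt
    have : 1 < ((Mx G p).filter (fun K => M ⊓ M' ≤ K)).card := by
      rw [Finset.one_lt_card]
      exact ⟨M, mem_filter.2 ⟨hM, inf_le_left⟩, M', mem_filter.2 ⟨hM', inf_le_right⟩, hne⟩
    omega
  have hle := aCnt_le hG hidx
  have hmod := aCnt_modEq_one hG (by omega : 1 ≤ aCnt p (M ⊓ M'))
  rw [Nat.ModEq.comm, Nat.modEq_iff_dvd' (by omega)] at hmod
  obtain ⟨k, hk⟩ := hmod
  have hk1 : k = 1 := by
    have hp2 : 2 ≤ p := hp.out.two_le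
    rcases Nat.lt_or_ge k 1 with h | h
    · have : k = 0 := by omega
      rw [this, mul_zero] at hk; omega
    · rcases Nat.lt_or_ge 1 k with h' | h'
      · have : p * 2 ≤ p * k := Nat.mul_le_mul_left _ h'
        omega
      · omega
  rw [hk1, mul_one] at hk
  omega

open Classical in
/-- (A): for `M₀` of index `p` above `H`, the other index-`p` subgroups above `H` are partitioned
into classes of size `p`. -/
theorem aCnt_eq_one_add (hG : IsPGroup p G) {H M₀ : Subgroup G} (hM₀ : M₀ ∈ Mx G p)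
    (hHM₀ : H ≤ M₀) :
    aCnt p H = 1 + p * ((Gm G p).filter (fun N => H ≤ N ∧ N ≤ M₀)).card := by
  have hmem : M₀ ∈ (Mx G p).filter (fun M => H ≤ M) := mem_filter.2 ⟨hM₀, hHM₀⟩
  have h1 : aCnt p H = (((Mx G p).filter (fun M => H ≤ M)).erase M₀).card + 1 := by
    unfold aCnt
    rw [card_erase_of_mem hmem]
    have : 0 < ((Mx G p).filter (fun M => H ≤ M)).card := card_pos.2 ⟨M₀, hmem⟩
    omega
  have h2 : (((Mx G p).filter (fun M => H ≤ M)).erase M₀).card =
      p * ((Gm G p).filter (fun N => H ≤ N ∧ N ≤ M₀)).card := by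
    rw [Finset.card_eq_sum_card_fiberwise (f := fun M : Subgroup G => M ⊓ M₀)
      (t := (Gm G p).filter (fun N => H ≤ N ∧ N ≤ M₀))]
    · rw [mul_comm]
      apply Finset.sum_const_nat
      intro N hN
      obtain ⟨hNG, hHN, hNM₀⟩ := mem_filter.1 hN
      have hidx := index_of_mem_Gm hG hNG
      have hset : (((Mx G p).filter (fun M => H ≤ M)).erase M₀).filter (fun M => M ⊓ M₀ = N) =
          ((Mx G p).filter (fun M => N ≤ M)).erase M₀ := by
        ext M
        simp only [mem_filter, mem_erase]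
        constructor
        · rintro ⟨⟨hne, hM, _⟩, hinf⟩
          exact ⟨hne, hM, hinf ▸ inf_le_left⟩
        · rintro ⟨hne, hM, hNM⟩
          exact ⟨⟨hne, hM, hHN.trans hNM⟩, inf_eq_of_le hG hidx hM hM₀ hne hNM hNM₀⟩
      rw [hset, card_erase_of_mem (mem_filter.2 ⟨hM₀, hNM₀⟩)]
      have := aCnt_of_mem_Gm hG hNG
      unfold aCnt at this
      rw [this]
      simp
    · intro M hM
      rw [mem_coe, mem_erase, mem_filter] at hM
      rw [mem_coe, mem_filter]
      exact ⟨mem_Gm.2 ⟨M, hM.2.1, M₀, hM₀, hM.1, rfl⟩, le_inf hM.2.2 hHM₀, inf_le_right⟩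
  rw [h1, h2, add_comm]

open Classical in
/-- (B) -/
theorem sum_t_eq (hG : IsPGroup p G) (H : Subgroup G) :
    ∑ M₀ ∈ (Mx G p).filter (fun M => H ≤ M),
      ((Gm G p).filter (fun N => H ≤ N ∧ N ≤ M₀)).card = (p + 1) * bCnt p H := by
  have h := Finset.sum_card_bipartiteAbove_eq_sum_card_bipartiteBelow
    (r := fun (M₀ : Subgroup G) (N : Subgroup G) => N ≤ M₀)
    (s := (Mx G p).filter (fun M => H ≤ M)) (t := (Gm G p).filter (fun N => H ≤ N))
  have hL : ∀ M₀ ∈ (Mx G p).filter (fun M => H ≤ M),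
      (Finset.bipartiteAbove (fun (M₀ : Subgroup G) (N : Subgroup G) => N ≤ M₀)
        ((Gm G p).filter (fun N => H ≤ N)) M₀).card =
      ((Gm G p).filter (fun N => H ≤ N ∧ N ≤ M₀)).card := by
    intro M₀ _
    unfold Finset.bipartiteAbove
    rw [Finset.filter_filter]
  have hR : ∀ N ∈ (Gm G p).filter (fun N => H ≤ N),
      (Finset.bipartiteBelow (fun (M₀ : Subgroup G) (N : Subgroup G) => N ≤ M₀)
        ((Mx G p).filter (fun M => H ≤ M)) N).card = p + 1 := by
    intro N hN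
    obtain ⟨hNG, hHN⟩ := mem_filter.1 hN
    unfold Finset.bipartiteBelow
    rw [Finset.filter_filter]
    have hset : (Mx G p).filter (fun M => H ≤ M ∧ N ≤ M) = (Mx G p).filter (fun M => N ≤ M) := by
      ext M
      simp only [mem_filter]
      constructor
      · rintro ⟨h1, _, h3⟩; exact ⟨h1, h3⟩
      · rintro ⟨h1, h3⟩; exact ⟨h1, hHN.trans h3, h3⟩
    rw [hset]
    exact aCnt_of_mem_Gm hG hNG
  rw [Finset.sum_congr rfl hL, Finset.sum_congr rfl hR] at h
  rw [h, Finset.sum_const, smul_eq_mul, mul_comm]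
  rfl

open Classical in
/-- L1: `a(H) ≡ 1 + p b(H) mod p²` whenever `H` lies in some index-`p` subgroup -/
theorem aCnt_modEq (hG : IsPGroup p G) {H : Subgroup G} (h1 : 1 ≤ aCnt p H) :
    aCnt p H ≡ 1 + p * bCnt p H [MOD p ^ 2] := by
  have hne : ((Mx G p).filter (fun M => H ≤ M)).Nonempty := by
    rw [← card_pos]; unfold aCnt at h1; omega
  obtain ⟨M₁, hM₁⟩ := hne
  obtain ⟨hM₁x, hHM₁⟩ := mem_filter.1 hM₁
  set t := ((Gm G p).filter (fun N => H ≤ N ∧ N ≤ M₁)).card with ht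
  have ha : aCnt p H = 1 + p * t := aCnt_eq_one_add hG hM₁x hHM₁
  have hall : ∀ M₀ ∈ (Mx G p).filter (fun M => H ≤ M),
      ((Gm G p).filter (fun N => H ≤ N ∧ N ≤ M₀)).card = t := by
    intro M₀ hM₀
    obtain ⟨h1', h2'⟩ := mem_filter.1 hM₀
    have := aCnt_eq_one_add hG h1' h2'
    rw [ha] at this
    have h3 : p * t = p * ((Gm G p).filter (fun N => H ≤ N ∧ N ≤ M₀)).card := by omega
    exact (Nat.eq_of_mul_eq_mul_left hp.out.pos h3).symm
  have hsum := sum_t_eq hG H
  rw [Finset.sum_congr rfl hall, Finset.sum_const, smul_eq_mul] at hsum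
  have hsum' : (1 + p * t) * t = (p + 1) * bCnt p H := by
    rw [← ha]; exact hsum
  have hmod : t ≡ bCnt p H [MOD p] := by
    have e1 : t + p * (t * t) = bCnt p H + p * bCnt p H := by
      have : (1 + p * t) * t = t + p * (t * t) := by ring
      rw [this] at hsum'
      rw [hsum']; ring
    have h5 : (t + p * (t * t)) % p = (bCnt p H + p * bCnt p H) % p := by rw [e1]
    rw [Nat.add_mul_mod_self_left, Nat.add_mul_mod_self_left] at h5
    exact h5
  rw [ha, sq]
  exact Nat.ModEq.add_left 1 (Nat.ModEq.mul_left' p hmod)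

end Cfsg.Agent.Lib.Helper23.KulB
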