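import Mathlib
import Cfsg.Agent.Lib.Helper23.KulB

set_option autoImplicit false
set_option linter.style.haveILetI false
open Finset

namespace Cfsg.Agent.Lib.Helper23.KulC
open Cfsg.Agent.Lib.Helper23.KulA Cfsg.Agent.Lib.Helper23.KulB

variable {G : Type*} [Group G] {p : ℕ} [hp : Fact p.Prime]

/-- number theory: `p` odd, `p ^ n ∣ u ^ p - 1` implies `p ^ (n - 1) ∣ u - 1`. -/
theorem nt_lemma (hodd : p ≠ 2) {n u : ℕ} (hu : 1 ≤ u) (h : p ^ n ∣ u ^ p - 1) :
    p ^ (n - 1) ∣ u - 1 := by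
  rcases Nat.eq_or_lt_of_le hu with h1 | h1
  · rw [← h1]; simp
  rcases Nat.eq_zero_or_pos n with hn | hn
  · subst hn; simp
  have hpow1 : 1 ≤ u ^ p := Nat.one_le_pow _ _ (by omega)
  have hpd : p ∣ u ^ p - 1 := dvd_trans (dvd_pow_self p (by omega)) h
  have hz : ((u ^ p - 1 : ℕ) : ZMod p) = 0 := (ZMod.natCast_eq_zero_iff _ _).2 hpd
  rw [Nat.cast_sub hpow1, Nat.cast_pow, ZMod.pow_card, Nat.cast_one, sub_eq_zero] at hz
  have hpu1 : p ∣ u - 1 := by
    rw [← ZMod.natCast_eq_zero_iff, Nat.cast_sub hu, hz, Nat.cast_one, sub_self]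
  have hpu : ¬ p ∣ u := by
    intro hd
    have h2 : p ∣ u ^ p := dvd_trans hd (dvd_pow_self u hp.out.ne_zero)
    have h3 : p ∣ 1 := by
      have : u ^ p = (u ^ p - 1) + 1 := by omega
      rw [this] at h2
      exact (Nat.dvd_add_right hpd).1 h2
    exact hp.out.one_lt.ne' (Nat.dvd_one.1 h3)
  have hlte := padicValNat.pow_sub_pow (p := p) (hp.out.odd_of_ne_two hodd) h1 hpu1 hpu
    (n := p) hp.out.ne_zero
  rw [one_pow, padicValNat_self] at hlte
  have hne : u ^ p - 1 ≠ 0 := by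
    have : 1 < u ^ p := Nat.one_lt_pow hp.out.ne_zero h1
    omega
  have h4 := (padicValNat_dvd_iff_le hne).1 h
  rw [hlte] at h4
  exact (padicValNat_dvd_iff_le (by omega)).2 (by omega)

theorem pow_mul_comm_central {x y w : G} (h : y * x = x * y * w) (hwy : Commute w y) (k : ℕ) :
    y ^ k * x = x * y ^ k * w ^ k := by
  induction k with
  | zero => simp
  | succ k ih =>
    calc y ^ (k + 1) * x = y * (y ^ k * x) := by rw [pow_succ']; group
      _ = y * (x * y ^ k * w ^ k) := by rw [ih]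
      _ = (y * x) * y ^ k * w ^ k := by group
      _ = (x * y * w) * y ^ k * w ^ k := by rw [h]
      _ = x * y * (w * y ^ k) * w ^ k := by group
      _ = x * y * (y ^ k * w) * w ^ k := by rw [(hwy.pow_right k).eq]
      _ = x * (y * y ^ k) * (w * w ^ k) := by group
      _ = x * y ^ (k + 1) * w ^ (k + 1) := by rw [← pow_succ', ← pow_succ']

theorem mul_pow_of_comm_central {x y w : G} (h : y * x = x * y * w) (hwx : Commute w x)
    (hwy : Commute w y) (n : ℕ) :
    (x * y) ^ n = x ^ n * y ^ n * w ^ (∑ i ∈ range n, i) := by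
  induction n with
  | zero => simp
  | succ n ih =>
    have h1 := pow_mul_comm_central h hwy n
    have hwn : Commute (w ^ (∑ i ∈ range n, i)) x := hwx.pow_left _
    have hwn' : Commute (w ^ (∑ i ∈ range n, i)) y := hwy.pow_left _
    have hwk : Commute (w ^ n) y := hwy.pow_left _
    calc (x * y) ^ (n + 1) = (x * y) ^ n * (x * y) := pow_succ _ _
      _ = x ^ n * y ^ n * w ^ (∑ i ∈ range n, i) * (x * y) := by rw [ih]
      _ = x ^ n * y ^ n * (w ^ (∑ i ∈ range n, i) * x) * y := by group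
      _ = x ^ n * y ^ n * (x * w ^ (∑ i ∈ range n, i)) * y := by rw [hwn.eq]
      _ = x ^ n * (y ^ n * x) * (w ^ (∑ i ∈ range n, i) * y) := by group
      _ = x ^ n * (x * y ^ n * w ^ n) * (y * w ^ (∑ i ∈ range n, i)) := by rw [h1, hwn'.eq]
      _ = x ^ n * x * y ^ n * (w ^ n * y) * w ^ (∑ i ∈ range n, i) := by group
      _ = x ^ n * x * y ^ n * (y * w ^ n) * w ^ (∑ i ∈ range n, i) := by rw [hwk.eq]
      _ = (x ^ n * x) * (y ^ n * y) * (w ^ n * w ^ (∑ i ∈ range n, i)) := by group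
      _ = x ^ (n + 1) * y ^ (n + 1) * w ^ (∑ i ∈ range (n + 1), i) := by
        rw [← pow_succ, ← pow_succ, ← pow_add, Finset.sum_range_succ, add_comm n]
        rw [add_comm n (∑ i ∈ range n, i)]

theorem odd_prime_dvd_sum (hodd : p ≠ 2) : p ∣ ∑ i ∈ range p, i := by
  have h := Finset.sum_range_id_mul_two p
  have h1 : p ∣ (∑ i ∈ range p, i) * 2 := by rw [h]; exact dvd_mul_right _ _
  have hcop : Nat.Coprime p 2 := (Nat.coprime_primes hp.out Nat.prime_two).2 hodd
  exact hcop.dvd_of_dvd_mul_right h1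

theorem eq_top_of_lt_index_prime {C X : Subgroup G} (hC : C.index = p) (hCX : C ≤ X) {x : G}
    (hx : x ∈ X) (hxC : x ∉ C) : X = ⊤ := by
  have h1 := Subgroup.relIndex_mul_index hCX
  rw [hC] at h1
  have h2 : X.index ∣ p := ⟨C.relIndex X, by rw [← h1, mul_comm]⟩
  rcases (Nat.dvd_prime hp.out).1 h2 with h | h
  · exact Subgroup.index_eq_one.1 h
  · exfalso
    rw [h] at h1
    have h3 : C.relIndex X = 1 := by
      have : C.relIndex X * p = 1 * p := by rw [h1, one_mul]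
      exact Nat.eq_of_mul_eq_mul_right hp.out.pos this
    exact hxC ((Subgroup.relIndex_eq_one.1 h3) hx)

theorem orderOf_of_pow_p [Finite G] (hG : IsPGroup p G) {x : G} {k : ℕ} (hk : 1 ≤ k)
    (h : orderOf (x ^ p) = p ^ k) : orderOf x = p ^ (k + 1) := by
  obtain ⟨j, hj⟩ : ∃ j, orderOf x = p ^ j := by
    obtain ⟨j, hj⟩ := hG x
    exact (Nat.dvd_prime_pow hp.out).1 (orderOf_dvd_of_pow_eq_one hj) |>.imp (fun i hi => hi.2)
  rw [orderOf_pow' x hp.out.ne_zero, hj] at h
  rcases Nat.eq_zero_or_pos j with h0 | h0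
  · subst h0
    simp only [pow_zero, Nat.gcd_one_left, Nat.div_one] at h
    have : 1 < p ^ k := Nat.one_lt_pow (by omega) hp.out.one_lt
    omega
  · obtain ⟨j', rfl⟩ : ∃ j', j = j' + 1 := ⟨j - 1, by omega⟩
    have hg : (p ^ (j' + 1)).gcd p = p := Nat.gcd_eq_right (dvd_pow_self p (by omega))
    rw [hg, pow_succ, Nat.mul_div_cancel _ hp.out.pos] at h
    have : j' = k := Nat.pow_right_injective hp.out.two_le h
    rw [hj, this]

theorem card_of_mem_Mx [Finite G] {M : Subgroup G} {k : ℕ} (hcard : Nat.card G = p ^ (k + 1))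
    (hM : M ∈ Mx G p) : Nat.card ↥M = p ^ k := by
  have h1 := Subgroup.card_mul_index M
  rw [mem_Mx.1 hM, hcard, pow_succ] at h1
  exact Nat.eq_of_mul_eq_mul_right hp.out.pos h1

theorem conj_pow_of_conj {c g : G} {u : ℕ} (h : g * c * g⁻¹ = c ^ u) (j : ℕ) :
    g ^ j * c * (g ^ j)⁻¹ = c ^ (u ^ j) := by
  induction j with
  | zero => simp
  | succ j ih =>
    calc g ^ (j + 1) * c * (g ^ (j + 1))⁻¹ = g * (g ^ j * c * (g ^ j)⁻¹) * g⁻¹ := by
          rw [pow_succ']; group
      _ = g * c ^ (u ^ j) * g⁻¹ := by rw [ih]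
      _ = (g * c * g⁻¹) ^ (u ^ j) := by rw [conj_pow]
      _ = c ^ (u ^ (j + 1)) := by rw [h, ← pow_mul, pow_succ']

theorem commute_of_closure_eq_top {Q : Type*} [Group Q] {S : Set Q}
    (hS : Subgroup.closure S = ⊤) (h : ∀ a ∈ S, ∀ b ∈ S, Commute a b) (a b : Q) :
    Commute a b := by
  have h1 : ∀ a ∈ S, ∀ b : Q, Commute a b := by
    intro a ha b
    have hb : b ∈ Subgroup.closure S := hS ▸ Subgroup.mem_top b
    induction hb using Subgroup.closure_induction with
    | mem x hx => exact h a ha x hx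
    | one => exact Commute.one_right a
    | mul x y _ _ hx hy => exact hx.mul_right hy
    | inv x _ hx => exact hx.inv_right
  have ha : a ∈ Subgroup.closure S := hS ▸ Subgroup.mem_top a
  induction ha using Subgroup.closure_induction with
  | mem x hx => exact h1 x hx b
  | one => exact Commute.one_left b
  | mul x y _ _ hx hy => exact hx.mul_left hy
  | inv x _ hx => exact hx.inv_left

theorem mul_pow_p_of_central (hodd : p ≠ 2) {Z : Subgroup G}
    (hZc : ∀ z ∈ Z, ∀ x : G, Commute z x) (hZp : ∀ z ∈ Z, z ^ p = 1)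
    (hcomm : ∀ x y : G, (x * y)⁻¹ * (y * x) ∈ Z) (x y : G) :
    (x * y) ^ p = x ^ p * y ^ p := by
  have hw := hcomm x y
  obtain ⟨w, hwdef⟩ : ∃ w : G, w = (x * y)⁻¹ * (y * x) := ⟨_, rfl⟩
  rw [← hwdef] at hw
  have h : y * x = x * y * w := by rw [hwdef]; group
  rw [mul_pow_of_comm_central h (hZc w hw x) (hZc w hw y) p]
  obtain ⟨m, hm⟩ := odd_prime_dvd_sum (p := p) hodd
  rw [hm, pow_mul, hZp w hw, one_pow, mul_one]

theorem orderOf_pow_pow {x : G} {a b : ℕ} (h : orderOf x = p ^ (a + b)) :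
    orderOf (x ^ (p ^ b)) = p ^ a := by
  rw [orderOf_pow' x (pow_ne_zero _ hp.out.ne_zero), h,
    Nat.gcd_eq_right (pow_dvd_pow p (Nat.le_add_left b a)), pow_add,
    Nat.mul_div_cancel _ (pow_pos hp.out.pos b)]

theorem comm_struct [Finite G] (hodd : p ≠ 2) {k : ℕ} (hcard : Nat.card G = p ^ (k + 3))
    {C : Subgroup G} (hC : C ∈ Mx G p) (hCc : IsCyclic ↥C) :
    ∃ (c g : G) (Z : Subgroup G), C = Subgroup.zpowers c ∧ orderOf c = p ^ (k + 2) ∧ g ∉ C ∧
      (∀ z ∈ Z, ∀ x : G, Commute z x) ∧ (∀ z ∈ Z, z ^ p = 1) ∧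
      (∀ x y : G, (x * y)⁻¹ * (y * x) ∈ Z) ∧ Subgroup.closure ({c, g} : Set G) = ⊤ := by
  have hG : IsPGroup p G := IsPGroup.of_card hcard
  have hCi : C.index = p := mem_Mx.1 hC
  haveI hCn : C.Normal := normal_of_index hG hCi
  have hCcard : Nat.card ↥C = p ^ (k + 2) := card_of_mem_Mx hcard hC
  obtain ⟨c', hc'⟩ := hCc.exists_generator
  obtain ⟨c, hcdef⟩ : ∃ c : G, c = (c' : G) := ⟨_, rfl⟩
  have hCz : C = Subgroup.zpowers c := by
    ext x; constructor
    · intro hx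
      obtain ⟨i, hi⟩ := Subgroup.mem_zpowers_iff.1 (hc' ⟨x, hx⟩)
      refine Subgroup.mem_zpowers_iff.2 ⟨i, ?_⟩
      rw [hcdef]
      have := congrArg Subtype.val hi
      simpa using this
    · intro hx
      obtain ⟨i, hi⟩ := Subgroup.mem_zpowers_iff.1 hx
      rw [← hi, hcdef]
      exact C.zpow_mem c'.2 i
  have hoc : orderOf c = p ^ (k + 2) := by
    rw [hcdef, Subgroup.orderOf_coe, orderOf_eq_card_of_forall_mem_zpowers hc', hCcard]
  have hcC : c ∈ C := by rw [hCz]; exact Subgroup.mem_zpowers c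
  obtain ⟨g, hgC⟩ : ∃ g : G, g ∉ C := by
    by_contra hcon
    push Not at hcon
    have : C = ⊤ := eq_top_iff.2 (fun x _ => hcon x)
    rw [this, Subgroup.index_top] at hCi
    exact hp.out.one_lt.ne hCi
  have hconj : g * c * g⁻¹ ∈ C := hCn.conj_mem c hcC g
  rw [hCz] at hconj
  obtain ⟨u, hu⟩ := (Submonoid.mem_powers_iff _ _).1
    (mem_powers_iff_mem_zpowers.2 hconj)
  have hgpC : g ^ p ∈ C := by
    have := Subgroup.pow_index_mem C g
    rwa [hCi] at this
  have hgpc : Commute (g ^ p) c := by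
    rw [hCz] at hgpC
    obtain ⟨i, hi⟩ := Subgroup.mem_zpowers_iff.1 hgpC
    rw [← hi]
    exact (Commute.refl c).zpow_left i
  have hcup : c ^ (u ^ p) = c ^ 1 := by
    rw [← conj_pow_of_conj hu.symm p, pow_one, mul_inv_eq_iff_eq_mul]
    exact hgpc.eq
  have hmod : u ^ p ≡ 1 [MOD p ^ (k + 2)] := by
    rw [← hoc]
    exact pow_eq_pow_iff_modEq.1 hcup
  have hpk1 : 1 < p ^ (k + 2) := Nat.one_lt_pow (by omega) hp.out.one_lt
  have hu1 : 1 ≤ u := by
    by_contra hcon
    have hu0 : u = 0 := by omega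
    rw [hu0, zero_pow hp.out.ne_zero] at hmod
    have := (Nat.modEq_iff_dvd' (Nat.zero_le 1)).1 hmod
    have := Nat.le_of_dvd (by omega) this
    omega
  have hdiv : p ^ (k + 2) ∣ u ^ p - 1 :=
    (Nat.modEq_iff_dvd' (Nat.one_le_pow _ _ hu1)).1 hmod.symm
  obtain ⟨t, ht⟩ := nt_lemma hodd hu1 hdiv
  have hu_eq : u = 1 + p ^ (k + 1) * t := by
    have : k + 2 - 1 = k + 1 := by omega
    rw [this] at ht
    omega
  obtain ⟨c₀, hc₀⟩ : ∃ c₀ : G, c₀ = c ^ (p ^ (k + 1)) := ⟨_, rfl⟩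
  have hcpk : c ^ (p ^ (k + 2)) = 1 := by rw [← hoc]; exact pow_orderOf_eq_one c
  have hc₀p : c₀ ^ p = 1 := by
    rw [hc₀, ← pow_mul, ← pow_succ]
    exact hcpk
  have hgc₀ : g * c₀ * g⁻¹ = c₀ := by
    have hu' : u * p ^ (k + 1) = p ^ (k + 1) + p ^ (k + 2) * (p ^ k * t) := by
      rw [hu_eq]; ring
    rw [hc₀, ← conj_pow, ← hu, ← pow_mul, hu', pow_add, pow_mul c (p ^ (k + 2)), hcpk, one_pow,
      mul_one]
  have hcent : Subgroup.centralizer ({c₀} : Set G) = ⊤ := by
    refine eq_top_of_lt_index_prime hCi ?_ (x := g) ?_ hgC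
    · intro x hx
      rw [hCz] at hx
      obtain ⟨i, hi⟩ := Subgroup.mem_zpowers_iff.1 hx
      rw [Subgroup.mem_centralizer_iff]
      intro h hh
      rw [Set.mem_singleton_iff] at hh
      rw [hh, hc₀, ← hi]
      exact (((Commute.refl c).pow_left _).zpow_right i).eq
    · rw [Subgroup.mem_centralizer_iff]
      intro h hh
      rw [Set.mem_singleton_iff] at hh
      rw [hh]
      have : g * c₀ = c₀ * g := by rw [← mul_inv_eq_iff_eq_mul]; exact hgc₀
      exact this.symm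
  have hc₀comm : ∀ x : G, Commute c₀ x := by
    intro x
    have hx : x ∈ Subgroup.centralizer ({c₀} : Set G) := by rw [hcent]; exact Subgroup.mem_top x
    rw [Subgroup.mem_centralizer_iff] at hx
    exact hx c₀ rfl
  obtain ⟨Z, hZ⟩ : ∃ Z : Subgroup G, Z = Subgroup.zpowers c₀ := ⟨_, rfl⟩
  have hZc : ∀ z ∈ Z, ∀ x : G, Commute z x := by
    intro z hz x
    rw [hZ] at hz
    obtain ⟨i, hi⟩ := Subgroup.mem_zpowers_iff.1 hz
    rw [← hi]
    exact (hc₀comm x).zpow_left i
  have hZp : ∀ z ∈ Z, z ^ p = 1 := by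
    intro z hz
    rw [hZ] at hz
    obtain ⟨i, hi⟩ := Subgroup.mem_zpowers_iff.1 hz
    rw [← hi, ← zpow_natCast, ← zpow_mul, mul_comm, zpow_mul, zpow_natCast, hc₀p, one_zpow]
  haveI hZn : Z.Normal := by
    refine ⟨fun z hz x => ?_⟩
    have : x * z * x⁻¹ = z := by
      rw [mul_inv_eq_iff_eq_mul]
      exact ((hZc z hz x).eq).symm
    rw [this]; exact hz
  obtain ⟨w, hw⟩ : ∃ w : G, w = c ^ (u - 1) := ⟨_, rfl⟩
  have hwZ : w ∈ Z := by
    have : u - 1 = p ^ (k + 1) * t := by omega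
    rw [hw, this, pow_mul, ← hc₀, hZ]
    exact Subgroup.pow_mem _ (Subgroup.mem_zpowers _) _
  have hgcw : g * c = c * g * w := by
    have h1 : g * c * g⁻¹ = c * w := by
      rw [← hu, hw, ← pow_succ']
      congr 1
      omega
    have h2 : g * c = c * w * g := by rw [← h1]; group
    rw [h2, mul_assoc, (hZc w hwZ g).eq, mul_assoc]
  have hcl : Subgroup.closure ({c, g} : Set G) = ⊤ := by
    refine eq_top_of_lt_index_prime hCi ?_ (x := g) (Subgroup.subset_closure (by simp)) hgC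
    rw [hCz, Subgroup.zpowers_le]
    exact Subgroup.subset_closure (by simp)
  refine ⟨c, g, Z, hCz, hoc, hgC, hZc, hZp, ?_, hcl⟩
  -- the quotient is commutative
  have hπ1 : ∀ z ∈ Z, (QuotientGroup.mk' Z) z = 1 := fun z hz =>
    (QuotientGroup.eq_one_iff z).2 hz
  have hcomm_gc : Commute ((QuotientGroup.mk' Z) g) ((QuotientGroup.mk' Z) c) := by
    show (QuotientGroup.mk' Z) g * (QuotientGroup.mk' Z) c
      = (QuotientGroup.mk' Z) c * (QuotientGroup.mk' Z) g
    rw [← map_mul, ← map_mul, hgcw, map_mul, hπ1 w hwZ, mul_one]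
  have hclQ : Subgroup.closure
      ({(QuotientGroup.mk' Z) c, (QuotientGroup.mk' Z) g} : Set (G ⧸ Z)) = ⊤ := by
    have := MonoidHom.map_closure (QuotientGroup.mk' Z) ({c, g} : Set G)
    rw [hcl, Set.image_pair, Subgroup.map_top_of_surjective _ (QuotientGroup.mk'_surjective Z)]
      at this
    exact this.symm
  have hQ := commute_of_closure_eq_top hclQ (by
    intro a ha b hb
    rcases ha with rfl | ha
    · rcases hb with rfl | hb
      · exact Commute.refl _
      · rw [Set.mem_singleton_iff] at hb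
        rw [hb]; exact hcomm_gc.symm
    · rw [Set.mem_singleton_iff] at ha
      rcases hb with rfl | hb
      · rw [ha]; exact hcomm_gc
      · rw [Set.mem_singleton_iff] at hb
        rw [ha, hb])
  intro x y
  have := (hQ ((QuotientGroup.mk' Z) x) ((QuotientGroup.mk' Z) y)).eq
  rw [← map_mul, ← map_mul] at this
  exact QuotientGroup.eq.1 this

/-- K6: a noncyclic `p`-group (`p` odd) of order `≥ p^3` with a cyclic maximal subgroup has exactly
one noncyclic maximal subgroup. -/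
theorem exists_noncyclic_max [Finite G] (hodd : p ≠ 2) {k : ℕ} (hcard : Nat.card G = p ^ (k + 3))
    (hnc : ¬ IsCyclic G) {C : Subgroup G} (hC : C ∈ Mx G p) (hCc : IsCyclic ↥C) :
    ∃ K ∈ Mx G p, ¬ IsCyclic ↥K ∧ ∀ M ∈ Mx G p, M ≠ K → IsCyclic ↥M := by
  obtain ⟨c, g, Z, hCz, hoc, hgC, hZc, hZp, hcomm, hcl⟩ := comm_struct hodd hcard hC hCc
  have hG : IsPGroup p G := IsPGroup.of_card hcard
  have hCi : C.index = p := mem_Mx.1 hC
  haveI hCn : C.Normal := normal_of_index hG hCi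
  obtain ⟨φ, hφ⟩ : ∃ φ : G →* G, ∀ x, φ x = x ^ p :=
    ⟨MonoidHom.mk' (fun x => x ^ p) (fun x y => mul_pow_p_of_central hodd hZc hZp hcomm x y),
      fun x => rfl⟩
  obtain ⟨F, hF⟩ : ∃ F : Subgroup G, F = Subgroup.zpowers (c ^ p) := ⟨_, rfl⟩
  obtain ⟨F2, hF2⟩ : ∃ F2 : Subgroup G, F2 = Subgroup.zpowers (c ^ (p * p)) := ⟨_, rfl⟩
  have hgpC : g ^ p ∈ C := by
    have := Subgroup.pow_index_mem C g
    rwa [hCi] at this
  have hgpF : g ^ p ∈ F := by
    rw [hCz] at hgpC
    obtain ⟨s, hs⟩ := (Submonoid.mem_powers_iff _ _).1 (mem_powers_iff_mem_zpowers.2 hgpC)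
    by_cases hps : p ∣ s
    · obtain ⟨s', rfl⟩ := hps
      rw [hF, ← hs, pow_mul]
      exact Subgroup.pow_mem _ (Subgroup.mem_zpowers _) _
    · exfalso
      have hcop : Nat.Coprime (orderOf c) s := by
        rw [hoc]
        exact Nat.Coprime.pow_left _ ((Nat.Prime.coprime_iff_not_dvd hp.out).2 hps)
      have h1 : orderOf (g ^ p) = p ^ (k + 2) := by rw [← hs, hcop.orderOf_pow, hoc]
      have h2 : orderOf g = p ^ (k + 2 + 1) := orderOf_of_pow_p hG (by omega) h1
      exact hnc (isCyclic_of_orderOf_eq_card g (by rw [h2, hcard]))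
  have hrange : φ.range = F := by
    apply le_antisymm
    · rw [MonoidHom.range_eq_map, ← hcl, MonoidHom.map_closure, Subgroup.closure_le]
      rintro _ ⟨x, hx, rfl⟩
      rcases hx with h | h
      · rw [h, hφ, hF]; exact Subgroup.mem_zpowers _
      · rw [Set.mem_singleton_iff] at h
        rw [h, hφ]; exact hgpF
    · rw [hF, Subgroup.zpowers_le]
      exact ⟨c, hφ c⟩
  have hocp : orderOf (c ^ p) = p ^ (k + 1) := by
    have := orderOf_pow_pow (p := p) (x := c) (a := k + 1) (b := 1) hoc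
    rwa [pow_one] at this
  have hocpp : orderOf (c ^ (p * p)) = p ^ k := by
    have := orderOf_pow_pow (p := p) (x := c) (a := k) (b := 2) hoc
    rwa [sq] at this
  have hFcard : Nat.card ↥F = p ^ (k + 1) := by rw [hF, Nat.card_zpowers, hocp]
  have hF2card : Nat.card ↥F2 = p ^ k := by rw [hF2, Nat.card_zpowers, hocpp]
  have hF2F : F2 ≤ F := by
    rw [hF2, hF, Subgroup.zpowers_le, pow_mul]
    exact Subgroup.pow_mem _ (Subgroup.mem_zpowers _) _
  have hrel : F2.relIndex F = p := by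
    have h1 := Subgroup.relIndex_mul_index hF2F
    have h2 := Subgroup.card_mul_index F
    have h3 := Subgroup.card_mul_index F2
    rw [hFcard, hcard] at h2
    rw [hF2card, hcard] at h3
    have h4 : F.index = p ^ 2 := by
      have : p ^ (k + 1) * F.index = p ^ (k + 1) * p ^ 2 := by rw [h2]; ring
      exact Nat.eq_of_mul_eq_mul_left (pow_pos hp.out.pos _) this
    have h5 : F2.index = p ^ 3 := by
      have : p ^ k * F2.index = p ^ k * p ^ 3 := by rw [h3]; ring
      exact Nat.eq_of_mul_eq_mul_left (pow_pos hp.out.pos _) this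
    rw [h4, h5] at h1
    have : F2.relIndex F * p ^ 2 = p * p ^ 2 := by rw [h1]; ring
    exact Nat.eq_of_mul_eq_mul_right (pow_pos hp.out.pos _) this
  obtain ⟨K, hK⟩ : ∃ K : Subgroup G, K = F2.comap φ := ⟨_, rfl⟩
  have hKmem : ∀ x : G, x ∈ K ↔ x ^ p ∈ F2 := by
    intro x; rw [hK, Subgroup.mem_comap, hφ]
  have hKi : K.index = p := by rw [hK, Subgroup.index_comap, hrange, hrel]
  have hKx : K ∈ Mx G p := mem_Mx.2 hKi
  refine ⟨K, hKx, ?_, ?_⟩
  · intro hKc
    obtain ⟨x, hx⟩ := hKc.exists_generator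
    have hox : orderOf (x : G) = p ^ (k + 1 + 1) := by
      rw [Subgroup.orderOf_coe, orderOf_eq_card_of_forall_mem_zpowers hx, card_of_mem_Mx hcard hKx]
    have h1 : orderOf ((x : G) ^ p) = p ^ (k + 1) := by
      have := orderOf_pow_pow (p := p) (x := (x : G)) (a := k + 1) (b := 1) hox
      rwa [pow_one] at this
    have h2 : (x : G) ^ p ∈ F2 := (hKmem _).1 x.2
    have h3 : orderOf ((x : G) ^ p) ∣ Nat.card ↥F2 := Subgroup.orderOf_dvd_natCard F2 h2
    rw [h1, hF2card] at h3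
    have h4 := Nat.le_of_dvd (pow_pos hp.out.pos _) h3
    have h5 : p ^ k < p ^ (k + 1) := Nat.pow_lt_pow_right hp.out.one_lt (Nat.lt_succ_self k)
    omega
  · intro M hM hMK
    have hMi := mem_Mx.1 hM
    have hnle : ¬ M ≤ K := fun hle =>
      hMK (eq_of_le_of_index_eq hle (hMi.trans hKi.symm) (by rw [hMi]; exact hp.out.ne_zero))
    obtain ⟨x, hxM, hxK⟩ := SetLike.not_le_iff_exists.1 hnle
    have hxF : x ^ p ∈ F := by
      rw [← hrange]; exact ⟨x, hφ x⟩
    rw [hF] at hxF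
    obtain ⟨s, hs⟩ := (Submonoid.mem_powers_iff _ _).1 (mem_powers_iff_mem_zpowers.2 hxF)
    have hps : ¬ p ∣ s := by
      rintro ⟨s', rfl⟩
      apply hxK
      have e : (c ^ p) ^ (p * s') = (c ^ (p * p)) ^ s' := by
        rw [← pow_mul, ← pow_mul, mul_assoc]
      rw [hKmem, hF2, ← hs, e]
      exact Subgroup.pow_mem _ (Subgroup.mem_zpowers _) _
    have hcop : Nat.Coprime (orderOf (c ^ p)) s := by
      rw [hocp]
      exact Nat.Coprime.pow_left _ ((Nat.Prime.coprime_iff_not_dvd hp.out).2 hps)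
    have h1 : orderOf (x ^ p) = p ^ (k + 1) := by rw [← hs, hcop.orderOf_pow, hocp]
    have h2 : orderOf x = p ^ (k + 1 + 1) := orderOf_of_pow_p hG (by omega) h1
    have h3 : orderOf (⟨x, hxM⟩ : ↥M) = Nat.card ↥M := by
      rw [card_of_mem_Mx hcard hM, Subgroup.orderOf_mk, h2]
    exact isCyclic_of_orderOf_eq_card _ h3

end Cfsg.Agent.Lib.Helper23.KulC



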