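import Mathlib
import Cfsg.Agent.S3975
import Cfsg.Agent.Lib.Helper23.KulC

set_option autoImplicit false
set_option linter.style.haveILetI false
open Finset

namespace Cfsg.Agent.Lib.Helper23.KulD
open Cfsg.Agent.Lib.Helper23.KulA Cfsg.Agent.Lib.Helper23.KulB Cfsg.Agent.Lib.Helper23.KulC

universe u

variable {G : Type*} [Group G] [Finite G] {p : ℕ} [hp : Fact p.Prime]

/-- number of subgroups of order `n` -/
noncomputable def sn (G : Type*) [Group G] (n : ℕ) : ℕ :=
  Nat.card {H : Subgroup G // Nat.card H = n}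

open Classical in
/-- the subgroups of order `n` -/
noncomputable def Sk (G : Type*) [Group G] [Finite G] (n : ℕ) : Finset (Subgroup G) :=
  letI : Fintype (Subgroup G) := Fintype.ofFinite _
  univ.filter (fun H => Nat.card H = n)

theorem mem_Sk {n : ℕ} {H : Subgroup G} : H ∈ Sk G n ↔ Nat.card H = n := by
  unfold Sk
  simp only [mem_filter, mem_univ, true_and]

theorem card_Sk (n : ℕ) : (Sk G n).card = sn G n := by
  classical
  letI : Fintype (Subgroup G) := Fintype.ofFinite _
  unfold sn
  rw [Nat.card_eq_fintype_card]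
  exact (Fintype.card_of_subtype _ (fun H => by simp [mem_Sk])).symm

open Classical in
theorem card_filter_le (M : Subgroup G) (n : ℕ) :
    ((Sk G n).filter (fun H => H ≤ M)).card = sn ↥M n := by
  letI : Fintype (Subgroup G) := Fintype.ofFinite _
  unfold sn
  have e : {H' : Subgroup ↥M // Nat.card H' = n} ≃
      {H : Subgroup G // H ∈ (Sk G n).filter (fun H => H ≤ M)} :=
    { toFun := fun H' => ⟨H'.1.map M.subtype, by
        rw [mem_filter, mem_Sk]
        exact ⟨by rw [Subgroup.card_map_of_injective M.subtype_injective]; exact H'.2,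
          Subgroup.map_subtype_le _⟩⟩
      invFun := fun H => ⟨H.1.subgroupOf M, by
        have h := H.2
        rw [mem_filter, mem_Sk] at h
        rw [Nat.card_congr (Subgroup.subgroupOfEquivOfLe h.2).toEquiv]
        exact h.1⟩
      left_inv := fun H' => Subtype.ext
        (Subgroup.comap_map_eq_self_of_injective M.subtype_injective H'.1)
      right_inv := fun H => by
        have h := H.2
        rw [mem_filter] at h
        exact Subtype.ext (Subgroup.map_subgroupOf_eq_of_le h.2) }
  rw [Nat.card_congr e, Nat.card_eq_fintype_card, Fintype.card_coe]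

open Classical in
theorem sum_aCnt (n : ℕ) : ∑ H ∈ Sk G n, aCnt p H = ∑ M ∈ Mx G p, sn ↥M n := by
  have h := Finset.sum_card_bipartiteAbove_eq_sum_card_bipartiteBelow
    (r := fun (H : Subgroup G) (M : Subgroup G) => H ≤ M)
    (s := Sk G n) (t := Mx G p)
  have hL : ∀ H ∈ Sk G n,
      (Finset.bipartiteAbove (fun (H : Subgroup G) (M : Subgroup G) => H ≤ M) (Mx G p) H).card
        = aCnt p H := by
    intro H _
    rfl
  have hR : ∀ M ∈ Mx G p,
      (Finset.bipartiteBelow (fun (H : Subgroup G) (M : Subgroup G) => H ≤ M) (Sk G n) M).card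
        = sn ↥M n := by
    intro M _
    exact card_filter_le M n
  rw [Finset.sum_congr rfl hL, Finset.sum_congr rfl hR] at h
  exact h

open Classical in
theorem sum_bCnt (n : ℕ) : ∑ H ∈ Sk G n, bCnt p H = ∑ N ∈ Gm G p, sn ↥N n := by
  have h := Finset.sum_card_bipartiteAbove_eq_sum_card_bipartiteBelow
    (r := fun (H : Subgroup G) (M : Subgroup G) => H ≤ M)
    (s := Sk G n) (t := Gm G p)
  have hL : ∀ H ∈ Sk G n,
      (Finset.bipartiteAbove (fun (H : Subgroup G) (M : Subgroup G) => H ≤ M) (Gm G p) H).card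
        = bCnt p H := by
    intro H _
    rfl
  have hR : ∀ M ∈ Gm G p,
      (Finset.bipartiteBelow (fun (H : Subgroup G) (M : Subgroup G) => H ≤ M) (Sk G n) M).card
        = sn ↥M n := by
    intro M _
    exact card_filter_le M n
  rw [Finset.sum_congr rfl hL, Finset.sum_congr rfl hR] at h
  exact h

/-- a cyclic `p`-group has exactly one subgroup of each possible order -/
theorem sn_cyclic {C : Type*} [Group C] [Finite C] [IsCyclic C] {k : ℕ}
    (hdvd : p ^ k ∣ Nat.card C) : sn C (p ^ k) = 1 := by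
  classical
  unfold sn
  rw [Nat.card_eq_one_iff_unique]
  constructor
  · letI : Fintype C := Fintype.ofFinite C
    have hle := IsCyclic.card_pow_eq_one_le (α := C) (n := p ^ k) (pow_pos hp.out.pos k)
    have key : ∀ H : Subgroup C, Nat.card H = p ^ k →
        ∀ x : C, x ∈ H ↔ x ∈ (univ.filter (fun a : C => a ^ (p ^ k) = 1)) := by
      intro H hH
      have hsub : (univ.filter (fun a : C => a ∈ H)) ⊆ univ.filter (fun a : C => a ^ (p ^ k) = 1) := by
        intro a ha
        rw [mem_filter] at ha ⊢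
        refine ⟨mem_univ _, ?_⟩
        have := pow_card_eq_one' (G := ↥H) (x := ⟨a, ha.2⟩)
        rw [hH] at this
        have := congrArg Subtype.val this
        simpa using this
      have hcard : (univ.filter (fun a : C => a ∈ H)).card = p ^ k := by
        rw [card_filter_mem, hH]
      have heq := Finset.eq_of_subset_of_card_le hsub (by rw [hcard]; exact hle)
      intro x
      rw [← heq, mem_filter]
      simp
    refine ⟨fun H1 H2 => Subtype.ext ?_⟩
    ext x
    rw [key H1.1 H1.2 x, key H2.1 H2.2 x]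
  · obtain ⟨K, hK⟩ := Sylow.exists_subgroup_card_pow_prime p hdvd
    exact ⟨⟨K, hK⟩⟩

theorem exists_index_p_ge {m n : ℕ} (hcard : Nat.card G = p ^ (m + 1)) {H : Subgroup G}
    (hH : Nat.card H = p ^ n) (hn : n ≤ m) : ∃ M ∈ Mx G p, H ≤ M := by
  obtain ⟨K, hK, hHK⟩ := Sylow.exists_subgroup_card_pow_prime_le p
    (show p ^ m ∣ Nat.card G by rw [hcard]; exact pow_dvd_pow p (Nat.le_succ m)) H hH hn
  refine ⟨K, mem_Mx.2 ?_, hHK⟩
  have h1 := Subgroup.card_mul_index K
  rw [hK, hcard, pow_succ] at h1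
  exact Nat.eq_of_mul_eq_mul_left (pow_pos hp.out.pos m) h1

open Classical in
theorem one_le_aCnt {m n : ℕ} (hcard : Nat.card G = p ^ (m + 1)) {H : Subgroup G}
    (hH : Nat.card H = p ^ n) (hn : n ≤ m) : 1 ≤ aCnt p H := by
  obtain ⟨M, hM, hHM⟩ := exists_index_p_ge hcard hH hn
  unfold aCnt
  exact Finset.card_pos.2 ⟨M, mem_filter.2 ⟨hM, hHM⟩⟩

open Classical in
theorem aCnt_bot : aCnt p (⊥ : Subgroup G) = (Mx G p).card := by
  unfold aCnt
  rw [Finset.filter_true_of_mem (fun M _ => bot_le)]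

open Classical in
theorem bCnt_bot : bCnt p (⊥ : Subgroup G) = (Gm G p).card := by
  unfold bCnt
  rw [Finset.filter_true_of_mem (fun M _ => bot_le)]

open Classical in
theorem two_le_aCnt_bot {m : ℕ} (hcard : Nat.card G = p ^ (m + 1)) (hnc : ¬ IsCyclic G) :
    2 ≤ aCnt p (⊥ : Subgroup G) := by
  by_contra hcon
  have hG : IsPGroup p G := IsPGroup.of_card hcard
  rw [aCnt_bot] at hcon
  have hle : (Mx G p).card ≤ 1 := by omega
  obtain ⟨M₀, hM₀, -⟩ := exists_index_p_ge (p := p) hcard (H := (⊥ : Subgroup G)) (n := 0)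
    (by simp) (Nat.zero_le m)
  have huniq : ∀ M ∈ Mx G p, M = M₀ := fun M hM => Finset.card_le_one.1 hle M hM M₀ hM₀
  obtain ⟨x, hx⟩ : ∃ x : G, x ∉ M₀ := by
    by_contra hcon'
    push Not at hcon'
    have : M₀ = ⊤ := eq_top_iff.2 (fun x _ => hcon' x)
    have hi := mem_Mx.1 hM₀
    rw [this, Subgroup.index_top] at hi
    exact hp.out.one_lt.ne hi
  obtain ⟨j, hj⟩ := IsPGroup.iff_card.1 (hG.to_subgroup (Subgroup.zpowers x))
  by_cases hjm : j ≤ m
  · obtain ⟨M, hM, hxM⟩ := exists_index_p_ge hcard hj hjm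
    rw [huniq M hM] at hxM
    exact hx (hxM (Subgroup.mem_zpowers x))
  · have hdvd := Subgroup.card_subgroup_dvd_card (Subgroup.zpowers x)
    rw [hj, hcard] at hdvd
    have hjle : j ≤ m + 1 := (Nat.pow_dvd_pow_iff_le_right hp.out.one_lt).1 hdvd
    have hjeq : j = m + 1 := by omega
    apply hnc
    apply isCyclic_of_orderOf_eq_card x
    rw [← Nat.card_zpowers, hj, hjeq, hcard]

theorem Sk_eq_Mx {m : ℕ} (hcard : Nat.card G = p ^ (m + 1)) : Sk G (p ^ m) = Mx G p := by
  ext H
  rw [mem_Sk, mem_Mx]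
  have h1 := Subgroup.card_mul_index H
  rw [hcard, pow_succ] at h1
  constructor
  · intro h
    rw [h] at h1
    exact Nat.eq_of_mul_eq_mul_left (pow_pos hp.out.pos m) h1
  · intro h
    rw [h] at h1
    exact Nat.eq_of_mul_eq_mul_right hp.out.pos h1

theorem p_mul_modEq {x y : ℕ} (h : x ≡ y [MOD p]) : p * x ≡ p * y [MOD p ^ 2] := by
  have := Nat.ModEq.mul_left' p h
  rwa [← sq] at this

theorem card_of_mem_Gm {m : ℕ} (hcard : Nat.card G = p ^ (m + 2)) {N : Subgroup G}
    (hN : N ∈ Gm G p) : Nat.card ↥N = p ^ m := by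
  have hG : IsPGroup p G := IsPGroup.of_card hcard
  have h1 := Subgroup.card_mul_index N
  rw [index_of_mem_Gm hG hN, hcard] at h1
  have : Nat.card ↥N * (p * p) = p ^ m * (p * p) := by rw [h1]; ring
  exact Nat.eq_of_mul_eq_mul_right (Nat.mul_pos hp.out.pos hp.out.pos) this

open Classical in
/-- Kulakoff's theorem for `p`-groups, `p` odd -/
theorem kulakoff (hodd : p ≠ 2) : ∀ (m : ℕ) (G : Type u) [Group G] [Finite G],
    Nat.card G = p ^ m → ¬ IsCyclic G → ∀ k, 1 ≤ k → k < m →
    sn G (p ^ k) ≡ 1 + p [MOD p ^ 2] := by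
  intro m
  induction m with
  | zero => intro G _ _ _ _ k _ hk; omega
  | succ m ih =>
    intro G _ _ hcard hnc k hk1 hk2
    have hG : IsPGroup p G := IsPGroup.of_card hcard
    have h2a := two_le_aCnt_bot hcard hnc
    have ha₀ : (Mx G p).card ≡ 1 + p [MOD p ^ 2] := by
      rw [← aCnt_bot]; exact aCnt_modEq_sq hG h2a
    rcases Nat.eq_or_lt_of_le (Nat.lt_succ_iff.1 hk2) with hkm | hkm
    · -- k = m
      rw [hkm, ← card_Sk, Sk_eq_Mx hcard]
      exact ha₀
    · -- k < m
      obtain ⟨m', rfl⟩ : ∃ m', m = m' + 2 := ⟨m - 2, by omega⟩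
      -- E1
      have hE1 : ∑ M ∈ Mx G p, sn ↥M (p ^ k) ≡
          sn G (p ^ k) + p * ∑ N ∈ Gm G p, sn ↥N (p ^ k) [MOD p ^ 2] := by
        rw [← sum_aCnt, ← sum_bCnt, ← card_Sk, Finset.mul_sum, Finset.card_eq_sum_ones,
          ← Finset.sum_add_distrib]
        apply Nat.ModEq.sum
        intro H hH
        exact aCnt_modEq hG (one_le_aCnt hcard (mem_Sk.1 hH) (by omega))
      -- E2
      have hE2 : p * ∑ N ∈ Gm G p, sn ↥N (p ^ k) ≡ p * (Gm G p).card [MOD p ^ 2] := by
        apply p_mul_modEq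
        rw [Finset.card_eq_sum_ones]
        apply Nat.ModEq.sum
        intro N hN
        have hNc : Nat.card ↥N = p ^ (m' + 1) := card_of_mem_Gm hcard hN
        exact Cfsg.Agent.S3975.result p k hp.out (by rw [hNc]; exact pow_dvd_pow p (by omega))
      -- E3
      have hE3 : p * (Gm G p).card ≡ p [MOD p ^ 2] := by
        have h1 : aCnt p (⊥ : Subgroup G) ≡ 1 + p * bCnt p (⊥ : Subgroup G) [MOD p ^ 2] :=
          aCnt_modEq hG (by omega)
        rw [aCnt_bot, bCnt_bot] at h1
        exact Nat.ModEq.add_left_cancel' 1 (h1.symm.trans ha₀)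
      -- E4
      have hE4 : ∑ M ∈ Mx G p, sn ↥M (p ^ k) ≡ 1 + p + p [MOD p ^ 2] := by
        have hMcard : ∀ M ∈ Mx G p, Nat.card ↥M = p ^ (m' + 2) := fun M hM =>
          card_of_mem_Mx hcard hM
        by_cases hall : ∀ M ∈ Mx G p, ¬ IsCyclic ↥M
        · have h1 : ∑ M ∈ Mx G p, sn ↥M (p ^ k) ≡ ∑ _M ∈ Mx G p, (1 + p) [MOD p ^ 2] := by
            apply Nat.ModEq.sum
            intro M hM
            exact ih ↥M (hMcard M hM) (hall M hM) k hk1 hkm
          rw [Finset.sum_const, smul_eq_mul] at h1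
          refine h1.trans ?_
          have h2 : (Mx G p).card * (1 + p) ≡ (1 + p) * (1 + p) [MOD p ^ 2] :=
            Nat.ModEq.mul_right _ ha₀
          refine h2.trans ?_
          have : (1 + p) * (1 + p) = 1 + p + p + p ^ 2 := by ring
          rw [this]
          exact ((Nat.modEq_iff_dvd' (Nat.le_add_right (1 + p + p) (p ^ 2))).2
            (by rw [Nat.add_sub_cancel_left])).symm
        · push Not at hall
          obtain ⟨C, hC, hCc⟩ := hall
          obtain ⟨K, hK, hKnc, hKo⟩ := exists_noncyclic_max hodd hcard hnc hC hCc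
          rw [← Finset.add_sum_erase _ _ hK]
          have h1 : ∑ M ∈ (Mx G p).erase K, sn ↥M (p ^ k) = ∑ _M ∈ (Mx G p).erase K, 1 := by
            apply Finset.sum_congr rfl
            intro M hM
            rw [mem_erase] at hM
            haveI := hKo M hM.2 hM.1
            exact sn_cyclic (by rw [hMcard M hM.2]; exact pow_dvd_pow p (by omega))
          rw [h1, Finset.sum_const, smul_eq_mul, mul_one, Finset.card_erase_of_mem hK]
          have h2 := ih ↥K (hMcard K hK) hKnc k hk1 hkm
          have h3 : (Mx G p).card - 1 ≡ p [MOD p ^ 2] := by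
            have hpos : 1 ≤ (Mx G p).card := Finset.card_pos.2 ⟨K, hK⟩
            have : 1 + ((Mx G p).card - 1) ≡ 1 + p [MOD p ^ 2] := by
              rw [Nat.add_sub_cancel' hpos]; exact ha₀
            exact Nat.ModEq.add_left_cancel' 1 this
          exact Nat.ModEq.add h2 h3
      -- conclusion
      have h5 : sn G (p ^ k) + p ≡ 1 + p + p [MOD p ^ 2] :=
        ((Nat.ModEq.add_left _ (hE2.trans hE3)).symm.trans hE1.symm).trans hE4
      exact Nat.ModEq.add_right_cancel' p h5

end Cfsg.Agent.Lib.Helper23.KulD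

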