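import Mathlib
import Cfsg.Agent.S3975
import Cfsg.Agent.Lib.Helper23.KulD

set_option autoImplicit false
set_option linter.style.haveILetI false
set_option linter.unusedSectionVars false
open Finset

namespace Cfsg.Agent.Lib.Helper23.KulE
open Cfsg.Agent.Lib.Helper23.KulA Cfsg.Agent.Lib.Helper23.KulB Cfsg.Agent.Lib.Helper23.KulC
  Cfsg.Agent.Lib.Helper23.KulD

variable {G : Type*} [Group G]

/-- the conjugate `x H x⁻¹` -/
def cj (x : G) (H : Subgroup G) : Subgroup G := H.map (MulAut.conj x).toMonoidHom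

theorem mem_cj {x y : G} {H : Subgroup G} : y ∈ cj x H ↔ x⁻¹ * y * x ∈ H := by
  unfold cj
  rw [Subgroup.mem_map_equiv, MulAut.conj_symm_apply]

theorem cj_one (H : Subgroup G) : cj 1 H = H := by
  ext y; rw [mem_cj]; simp

theorem cj_mul (x y : G) (H : Subgroup G) : cj (x * y) H = cj x (cj y H) := by
  ext z; rw [mem_cj, mem_cj, mem_cj]
  have : (x * y)⁻¹ * z * (x * y) = y⁻¹ * (x⁻¹ * z * x) * y := by group
  rw [this]

/-- conjugation action on subgroups -/
def conjSubAct : MulAction G (Subgroup G) where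
  smul := cj
  one_smul := cj_one
  mul_smul := cj_mul

attribute [local instance] conjSubAct

theorem smul_eq_cj (x : G) (H : Subgroup G) : x • H = cj x H := rfl

theorem cj_le_cj {x : G} {H K : Subgroup G} (h : H ≤ K) : cj x H ≤ cj x K :=
  Subgroup.map_mono h

theorem cj_inv_cj (x : G) (H : Subgroup G) : cj x⁻¹ (cj x H) = H := by
  rw [← cj_mul, inv_mul_cancel, cj_one]

theorem cj_cj_inv (x : G) (H : Subgroup G) : cj x (cj x⁻¹ H) = H := by
  rw [← cj_mul, mul_inv_cancel, cj_one]

theorem cj_le_cj_iff {x : G} {H K : Subgroup G} : cj x H ≤ cj x K ↔ H ≤ K := by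
  constructor
  · intro h
    have := cj_le_cj (x := x⁻¹) h
    rwa [cj_inv_cj, cj_inv_cj] at this
  · exact cj_le_cj

theorem card_cj (x : G) (H : Subgroup G) : Nat.card ↥(cj x H) = Nat.card ↥H :=
  Subgroup.card_map_of_injective (MulAut.conj x).injective

theorem cj_eq_self_iff {x : G} {H : Subgroup G} : cj x H = H ↔ x ∈ Subgroup.normalizer (H : Set G) := by
  rw [Subgroup.mem_normalizer_iff]
  constructor
  · intro h y
    constructor
    · intro hy
      rw [← h, mem_cj]
      have : x⁻¹ * (x * y * x⁻¹) * x = y := by group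
      rwa [this]
    · intro hy
      rw [← h, mem_cj] at hy
      have : x⁻¹ * (x * y * x⁻¹) * x = y := by group
      rwa [this] at hy
  · intro h
    ext y
    rw [mem_cj, h (x⁻¹ * y * x)]
    have : x * (x⁻¹ * y * x) * x⁻¹ = y := by group
    rw [this]

theorem cj_of_mem {x : G} {H : Subgroup G} (hx : x ∈ H) : cj x H = H :=
  cj_eq_self_iff.2 (Subgroup.le_normalizer hx)

theorem normalizer_cj (x : G) (H : Subgroup G) :
    Subgroup.normalizer ((cj x H : Subgroup G) : Set G) = cj x (Subgroup.normalizer (H : Set G)) := by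
  ext y
  rw [mem_cj, ← cj_eq_self_iff, ← cj_eq_self_iff]
  constructor
  · intro h
    have := congrArg (cj x⁻¹) h
    rw [cj_inv_cj, ← cj_mul, ← cj_mul] at this
    first | exact this | (rw [← mul_assoc] at this; exact this) | (rw [mul_assoc] at this; exact this)
  · intro h
    have := congrArg (cj x) h
    rw [← cj_mul] at this
    have e : x * (x⁻¹ * y * x) = y * x := by group
    rwa [e, cj_mul] at this

/-- stabilizer of a subgroup under the conjugation action of a subgroup `X` -/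
theorem mem_stab_iff (X : Subgroup G) (H : Subgroup G) (x : ↥X) :
    x ∈ MulAction.stabilizer ↥X H ↔ (x : G) ∈ Subgroup.normalizer (H : Set G) := by
  rw [MulAction.mem_stabilizer_iff, Subgroup.smul_def, smul_eq_cj, cj_eq_self_iff]

theorem stab_eq (X : Subgroup G) (H : Subgroup G) :
    MulAction.stabilizer ↥X H = (Subgroup.normalizer (H : Set G)).subgroupOf X := by
  ext x
  rw [mem_stab_iff, Subgroup.mem_subgroupOf]

theorem stab_index (X : Subgroup G) (H : Subgroup G) :
    (MulAction.stabilizer ↥X H).index = (Subgroup.normalizer (H : Set G)).relIndex X := by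
  rw [stab_eq]; rfl

theorem stab_index_eq_one_iff (X : Subgroup G) (H : Subgroup G) :
    (MulAction.stabilizer ↥X H).index = 1 ↔ X ≤ Subgroup.normalizer (H : Set G) := by
  rw [stab_index, Subgroup.relIndex_eq_one]

/-- stabilizer index is constant on orbits -/
theorem stab_index_smul {X Ω : Type*} [Group X] [MulAction X Ω] (x : X) (ω : Ω) :
    (MulAction.stabilizer X (x • ω)).index = (MulAction.stabilizer X ω).index := by
  rw [MulAction.index_stabilizer, MulAction.index_stabilizer, MulAction.orbit_smul]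

/-- Lemma W: weighted orbit sums -/
theorem orbit_sum_dvd {X Ω : Type*} [Group X] [MulAction X Ω] [Fintype Ω] (f : Ω → ℕ)
    (hf : ∀ (x : X) (ω : Ω), f (x • ω) = f ω) (d : ℕ)
    (hd : ∀ ω : Ω, d ∣ (MulAction.stabilizer X ω).index * f ω) : d ∣ ∑ ω, f ω := by
  classical
  obtain ⟨e, he⟩ : ∃ e : (Σ y : Quotient (MulAction.orbitRel X Ω),
      {z : Ω // (Quotient.mk'' z : Quotient (MulAction.orbitRel X Ω)) = y}) ≃ Ω,
      ∀ s, e s = s.2.1 := ⟨Equiv.sigmaFiberEquiv _, fun s => rfl⟩
  rw [← e.sum_comp, Fintype.sum_sigma]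
  apply Finset.dvd_sum
  intro y _
  induction y using Quotient.inductionOn' with
  | h b =>
    have hconst : ∀ z : {z : Ω // (Quotient.mk'' z : Quotient (MulAction.orbitRel X Ω))
        = Quotient.mk'' b}, f (e ⟨Quotient.mk'' b, z⟩) = f b := by
      rintro ⟨z, hz⟩
      have hz' : z ∈ MulAction.orbit X b := Quotient.exact' hz
      obtain ⟨g, rfl⟩ := hz'
      rw [he]
      exact hf g b
    rw [Finset.sum_congr rfl (fun z _ => hconst z), Finset.sum_const, smul_eq_mul, Finset.card_univ]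
    have hcard : Fintype.card {z : Ω // (Quotient.mk'' z : Quotient (MulAction.orbitRel X Ω))
        = Quotient.mk'' b} = (MulAction.stabilizer X b).index := by
      rw [MulAction.index_stabilizer, ← Nat.card_coe_set_eq, ← Nat.card_eq_fintype_card]
      apply Nat.card_congr
      refine Equiv.subtypeEquivRight (fun z => ?_)
      rw [Quotient.eq'']
      rfl
    rw [hcard]
    exact hd b

/-- Lemma W': fixed-point version for `p`-groups -/
theorem orbit_sum_modEq {X Ω : Type*} [Group X] [Finite X] [MulAction X Ω] [Fintype Ω] {p : ℕ}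
    [hp : Fact p.Prime] (hX : IsPGroup p X) (f : Ω → ℕ)
    (hf : ∀ (x : X) (ω : Ω), f (x • ω) = f ω) :
    ∑ ω, f ω ≡ ∑ ω, (if (MulAction.stabilizer X ω).index = 1 then f ω else 0) [MOD p] := by
  classical
  have hsplit : ∑ ω, f ω = ∑ ω, (if (MulAction.stabilizer X ω).index = 1 then f ω else 0)
      + ∑ ω, (if (MulAction.stabilizer X ω).index = 1 then 0 else f ω) := by
    rw [← Finset.sum_add_distrib]
    apply Finset.sum_congr rfl
    intro ω _
    split_ifs <;> simp
  have hdvd : p ∣ ∑ ω, (if (MulAction.stabilizer X ω).index = 1 then 0 else f ω) := by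
    apply orbit_sum_dvd (X := X)
    · intro x ω
      rw [stab_index_smul, hf]
    · intro ω
      by_cases h1 : (MulAction.stabilizer X ω).index = 1
      · rw [if_pos h1, mul_zero]; exact dvd_zero _
      · rw [if_neg h1]
        apply Dvd.dvd.mul_right
        obtain ⟨n, hn⟩ := IsPGroup.iff_card.1 hX
        have hd := Subgroup.index_dvd_card (MulAction.stabilizer X ω)
        rw [hn] at hd
        obtain ⟨j, -, hj⟩ := (Nat.dvd_prime_pow hp.out).1 hd
        rw [hj]
        rcases Nat.eq_zero_or_pos j with h0 | h0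
        · rw [hj, h0, pow_zero] at h1; exact absurd rfl h1
        · exact dvd_pow_self p (by omega)
  rw [hsplit]
  have := Nat.ModEq.add_left (∑ ω, (if (MulAction.stabilizer X ω).index = 1 then f ω else 0))
    ((Nat.modEq_zero_iff_dvd).2 hdvd)
  rwa [add_zero] at this

section sylow
variable {p : ℕ} [hp : Fact p.Prime]

theorem le_sylow_of_le_normalizer (P : Sylow p G) {H : Subgroup G} (hH : IsPGroup p H)
    (hPH : (P : Subgroup G) ≤ Subgroup.normalizer (H : Set G)) : H ≤ P := by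
  have h1 : IsPGroup p ↥((P : Subgroup G) ⊔ H) := IsPGroup.to_sup_of_normal_right' P.2 hH hPH
  have h2 := P.is_maximal' h1 le_sup_left
  exact le_sup_right.trans_eq h2

theorem le_sylow_of_normalizes (Q : Sylow p G) {K : Subgroup G} (hK : IsPGroup p K)
    (hKQ : K ≤ Subgroup.normalizer ((Q : Subgroup G) : Set G)) : K ≤ Q := by
  have h1 : IsPGroup p ↥(K ⊔ (Q : Subgroup G)) := IsPGroup.to_sup_of_normal_right' hK Q.2 hKQ
  have h2 := Q.is_maximal' h1 le_sup_right
  exact le_sup_left.trans_eq h2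

theorem coe_smul_sylow (g : G) (Q : Sylow p G) :
    ((g • Q : Sylow p G) : Subgroup G) = cj g Q := by
  rw [Sylow.coe_subgroup_smul]
  ext y
  rw [mem_cj, Subgroup.mem_pointwise_smul_iff_inv_smul_mem, MulAut.smul_def, ← map_inv,
    MulAut.conj_apply, inv_inv]

theorem sylow_stab_index (P Q : Sylow p G) :
    (MulAction.stabilizer ↥(P : Subgroup G) Q).index = (Q : Subgroup G).relIndex P := by
  have h1 : MulAction.stabilizer ↥(P : Subgroup G) Q
      = (Subgroup.normalizer ((Q : Subgroup G) : Set G)).subgroupOf P := by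
    ext x
    rw [MulAction.mem_stabilizer_iff, Subgroup.smul_def, Sylow.smul_eq_iff_mem_normalizer,
      Subgroup.mem_subgroupOf]
    exact Iff.rfl
  have h2 : Subgroup.normalizer ((Q : Subgroup G) : Set G) ⊓ (P : Subgroup G)
      = (Q : Subgroup G) ⊓ P := by
    apply le_antisymm
    · refine le_inf ?_ inf_le_right
      exact le_sylow_of_normalizes Q (P.2.to_le inf_le_right) inf_le_left
    · exact inf_le_inf_right _ Subgroup.le_normalizer
  rw [h1]
  show (Subgroup.normalizer ((Q : Subgroup G) : Set G)).relIndex P = _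
  rw [← Subgroup.inf_relIndex_right, h2, Subgroup.inf_relIndex_right]

theorem card_mul_relIndex' {D Q : Subgroup G} (h : D ≤ Q) :
    Nat.card ↥D * D.relIndex Q = Nat.card ↥Q := by
  have := Subgroup.relIndex_mul_relIndex ⊥ D Q bot_le h
  rwa [Subgroup.relIndex_bot_left, Subgroup.relIndex_bot_left] at this

theorem relIndex_eq_of_card_eq [Finite G] {D X Y : Subgroup G} (hX : D ≤ X) (hY : D ≤ Y)
    (hc : Nat.card ↥X = Nat.card ↥Y) : D.relIndex X = D.relIndex Y := by
  have h1 := card_mul_relIndex' hX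
  have h2 := card_mul_relIndex' hY
  rw [hc, ← h2] at h1
  exact Nat.eq_of_mul_eq_mul_left Nat.card_pos h1

theorem eq_of_relIndex_prime {D J Q : Subgroup G} (hDJ : D ≤ J) (hJQ : J ≤ Q) (hne : ¬ J ≤ D)
    (hpi : D.relIndex Q = p) : J = Q := by
  have h1 := Subgroup.relIndex_mul_relIndex D J Q hDJ hJQ
  rw [hpi] at h1
  have h2 : D.relIndex J ∣ p := ⟨_, h1.symm⟩
  rcases (Nat.dvd_prime hp.out).1 h2 with h | h
  · exact absurd (Subgroup.relIndex_eq_one.1 h) hne
  · rw [h] at h1
    have h3 : J.relIndex Q = 1 := by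
      have : p * J.relIndex Q = p * 1 := by rw [h1, mul_one]
      exact Nat.eq_of_mul_eq_mul_left hp.out.pos this
    exact le_antisymm hJQ (Subgroup.relIndex_eq_one.1 h3)

theorem sylow_card_eq [Finite G] (P Q : Sylow p G) :
    Nat.card ↥(P : Subgroup G) = Nat.card ↥(Q : Subgroup G) := by
  rw [Sylow.card_eq_multiplicity, Sylow.card_eq_multiplicity]

end sylow

section main
variable [Finite G] {p : ℕ} [hp : Fact p.Prime]

/-- orbit size of `H` under conjugation by `P` -/
noncomputable def idx (P : Sylow p G) (H : Subgroup G) : ℕ :=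
  (MulAction.stabilizer ↥(P : Subgroup G) H).index

theorem sub_smul_eq_cj (X : Subgroup G) (x : ↥X) (H : Subgroup G) : x • H = cj (x : G) H := rfl

theorem idx_smul (P : Sylow p G) (x : ↥(P : Subgroup G)) (H : Subgroup G) :
    idx P (x • H) = idx P H := stab_index_smul x H

theorem smul_le_iff (X : Subgroup G) (x : ↥X) (H : Subgroup G) : x • H ≤ X ↔ H ≤ X := by
  rw [sub_smul_eq_cj]
  have h : cj (x : G) X = X := cj_of_mem x.2
  constructor
  · intro hle
    exact cj_le_cj_iff.1 (hle.trans_eq h.symm)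
  · intro hle
    exact (cj_le_cj hle).trans_eq h

theorem card_smul (X : Subgroup G) (x : ↥X) (H : Subgroup G) :
    Nat.card ↥(x • H) = Nat.card ↥H := by
  rw [sub_smul_eq_cj]; exact card_cj _ _

theorem idx_eq_one_iff (P : Sylow p G) (H : Subgroup G) :
    idx P H = 1 ↔ (P : Subgroup G) ≤ Subgroup.normalizer (H : Set G) :=
  stab_index_eq_one_iff _ _

theorem idx_eq_relIndex (P : Sylow p G) (H : Subgroup G) :
    idx P H = (Subgroup.normalizer (H : Set G)).relIndex P := stab_index _ _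

theorem idx_pow (P : Sylow p G) (H : Subgroup G) : ∃ e : ℕ, idx P H = p ^ e := by
  obtain ⟨n, hn⟩ := IsPGroup.iff_card.1 P.2
  have hd := Subgroup.index_dvd_card (MulAction.stabilizer ↥(P : Subgroup G) H)
  rw [hn] at hd
  obtain ⟨j, -, hj⟩ := (Nat.dvd_prime_pow hp.out).1 hd
  exact ⟨j, hj⟩

theorem idx_ne_one_of_not_le (P : Sylow p G) {H : Subgroup G} (hH : IsPGroup p H)
    (h : ¬ H ≤ P) : idx P H ≠ 1 := fun h1 =>
  h (le_sylow_of_le_normalizer P hH ((idx_eq_one_iff P H).1 h1))

theorem sq_dvd_idx (P : Sylow p G) {H : Subgroup G} (hH : IsPGroup p H)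
    (h : ¬ H ≤ P) (h' : idx P H ≠ p) : p ^ 2 ∣ idx P H := by
  obtain ⟨e, he⟩ := idx_pow P H
  have h1 := idx_ne_one_of_not_le P hH h
  rw [he] at h1 h' ⊢
  have : 2 ≤ e := by
    rcases e with _ | _ | e
    · simp at h1
    · simp at h'
    · omega
  exact pow_dvd_pow p this

open Classical in
theorem sq_dvd_card_B2 (P : Sylow p G) (a : ℕ) :
    p ^ 2 ∣ ((Sk G (p ^ a)).filter (fun H : Subgroup G => ¬ H ≤ (P : Subgroup G) ∧ idx P H ≠ p)).card := by
  letI : Fintype (Subgroup G) := Fintype.ofFinite _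
  obtain ⟨B₂, hB₂⟩ : ∃ B₂ : Finset (Subgroup G),
      B₂ = (Sk G (p ^ a)).filter (fun H : Subgroup G => ¬ H ≤ (P : Subgroup G) ∧ idx P H ≠ p) := ⟨_, rfl⟩
  rw [← hB₂]
  have hmem : ∀ H : Subgroup G, H ∈ B₂ ↔ Nat.card ↥H = p ^ a ∧ ¬ H ≤ (P : Subgroup G) ∧ idx P H ≠ p := by
    intro H; rw [hB₂, mem_filter, mem_Sk]
  have hiff : ∀ (x : ↥(P : Subgroup G)) (H : Subgroup G), x • H ∈ B₂ ↔ H ∈ B₂ := by
    intro x H
    rw [hmem, hmem, card_smul, smul_le_iff, idx_smul]
  have key := orbit_sum_dvd (X := ↥(P : Subgroup G)) (Ω := Subgroup G)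
    (fun H => if H ∈ B₂ then 1 else 0)
    (fun x H => by simp only [hiff]) (p ^ 2) (by
      intro H
      by_cases hH : H ∈ B₂
      · rw [if_pos hH, mul_one]
        obtain ⟨h1, h2, h3⟩ := (hmem H).1 hH
        exact sq_dvd_idx P (IsPGroup.of_card h1) h2 h3
      · rw [if_neg hH, mul_zero]; exact dvd_zero _)
  rw [Finset.sum_ite_mem, Finset.univ_inter, Finset.sum_const, smul_eq_mul, mul_one] at key
  exact key

open Classical in
/-- subgroups of order `p^a` normal in `Q`, not inside `P` -/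
noncomputable def TQ (P : Sylow p G) (a : ℕ) (Q : Sylow p G) : Finset (Subgroup G) :=
  (Sk G (p ^ a)).filter (fun H : Subgroup G => ¬ H ≤ (P : Subgroup G) ∧ H ≤ (Q : Subgroup G) ∧
    (Q : Subgroup G) ≤ Subgroup.normalizer (H : Set G))

open Classical in
theorem mem_TQ {P : Sylow p G} {a : ℕ} {Q : Sylow p G} {H : Subgroup G} :
    H ∈ TQ P a Q ↔ Nat.card ↥H = p ^ a ∧ ¬ H ≤ (P : Subgroup G) ∧ H ≤ (Q : Subgroup G) ∧
      (Q : Subgroup G) ≤ Subgroup.normalizer (H : Set G) := by
  unfold TQ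
  rw [mem_filter, mem_Sk]

theorem coe_sub_smul_sylow (X : Subgroup G) (x : ↥X) (Q : Sylow p G) :
    ((x • Q : Sylow p G) : Subgroup G) = cj (x : G) Q := by
  rw [Subgroup.smul_def, coe_smul_sylow]

theorem smul_mem_TQ {P : Sylow p G} {a : ℕ} {Q : Sylow p G} {H : Subgroup G}
    (x : ↥(P : Subgroup G)) (h : H ∈ TQ P a Q) : x • H ∈ TQ P a (x • Q) := by
  rw [mem_TQ] at h ⊢
  obtain ⟨h1, h2, h3, h4⟩ := h
  refine ⟨by rw [card_smul]; exact h1, by rw [smul_le_iff]; exact h2, ?_, ?_⟩
  · rw [coe_sub_smul_sylow, sub_smul_eq_cj]; exact cj_le_cj h3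
  · rw [coe_sub_smul_sylow, sub_smul_eq_cj, normalizer_cj]; exact cj_le_cj h4

theorem card_TQ_smul (P : Sylow p G) (a : ℕ) (Q : Sylow p G) (x : ↥(P : Subgroup G)) :
    (TQ P a (x • Q)).card = (TQ P a Q).card := by
  symm
  refine Finset.card_bij (fun H _ => x • H) (fun H hH => smul_mem_TQ x hH) ?_ ?_
  · intro H₁ _ H₂ _ h
    have := congrArg (fun K => x⁻¹ • K) h
    simpa using this
  · intro H' hH'
    refine ⟨x⁻¹ • H', ?_, by simp⟩
    have := smul_mem_TQ x⁻¹ hH'
    rwa [inv_smul_smul] at this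

open Classical in
/-- the number of subgroups of order `p^a` inside `W` that are normal in the `p`-group `Y` is
`≡ 1 mod p` -/
theorem card_normal_in_modEq {Y W : Subgroup G} (hY : IsPGroup p Y)
    (hYW : Y ≤ Subgroup.normalizer (W : Set G)) {a : ℕ} (hdvd : p ^ a ∣ Nat.card ↥W) :
    ((Sk G (p ^ a)).filter (fun H : Subgroup G => H ≤ W ∧
      Y ≤ Subgroup.normalizer (H : Set G))).card ≡ 1 [MOD p] := by
  letI : Fintype (Subgroup G) := Fintype.ofFinite _
  obtain ⟨S, hS⟩ : ∃ S : Finset (Subgroup G),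
      S = (Sk G (p ^ a)).filter (fun H : Subgroup G => H ≤ W) := ⟨_, rfl⟩
  have hmem : ∀ H : Subgroup G, H ∈ S ↔ Nat.card ↥H = p ^ a ∧ H ≤ W := by
    intro H; rw [hS, mem_filter, mem_Sk]
  have hiff : ∀ (x : ↥Y) (H : Subgroup G), x • H ∈ S ↔ H ∈ S := by
    intro x H
    rw [hmem, hmem, card_smul]
    have hx : cj (x : G) W = W := cj_eq_self_iff.2 (hYW x.2)
    rw [sub_smul_eq_cj]
    constructor
    · rintro ⟨h1, h2⟩
      exact ⟨h1, cj_le_cj_iff.1 (h2.trans_eq hx.symm)⟩
    · rintro ⟨h1, h2⟩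
      exact ⟨h1, (cj_le_cj h2).trans_eq hx⟩
  have key := orbit_sum_modEq (X := ↥Y) (Ω := Subgroup G) hY
    (fun H => if H ∈ S then 1 else 0) (fun x H => by simp only [hiff])
  rw [Finset.sum_ite_mem, Finset.univ_inter, Finset.sum_const, smul_eq_mul, mul_one] at key
  have hL : S.card ≡ 1 [MOD p] := by
    rw [hS, Cfsg.Agent.Lib.Helper23.KulD.card_filter_le]
    exact Cfsg.Agent.S3975.result p a hp.out hdvd
  have hR : ∑ H : Subgroup G, (if (MulAction.stabilizer ↥Y H).index = 1 then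
      (if H ∈ S then 1 else 0) else 0) = ((Sk G (p ^ a)).filter (fun H : Subgroup G => H ≤ W ∧
      Y ≤ Subgroup.normalizer (H : Set G))).card := by
    rw [Finset.card_filter]
    rw [← Finset.sum_filter_add_sum_filter_not univ (fun H : Subgroup G => H ∈ Sk G (p ^ a))]
    have hz : ∑ H ∈ univ.filter (fun H : Subgroup G => ¬ H ∈ Sk G (p ^ a)),
        (if (MulAction.stabilizer ↥Y H).index = 1 then (if H ∈ S then 1 else 0) else 0) = 0 := by
      apply Finset.sum_eq_zero
      intro H hH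
      rw [mem_filter] at hH
      have : H ∉ S := fun h => hH.2 (mem_Sk.2 ((hmem H).1 h).1)
      rw [if_neg this]; simp
    rw [hz, add_zero]
    have : univ.filter (fun H : Subgroup G => H ∈ Sk G (p ^ a)) = Sk G (p ^ a) := by
      ext H; simp
    rw [this]
    apply Finset.sum_congr rfl
    intro H hH
    have hc := mem_Sk.1 hH
    by_cases h1 : Y ≤ Subgroup.normalizer (H : Set G)
    · have h1' : (MulAction.stabilizer ↥Y H).index = 1 := (stab_index_eq_one_iff _ _).2 h1
      by_cases h2 : H ≤ W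
      · rw [if_pos h1', if_pos ((hmem H).2 ⟨hc, h2⟩), if_pos ⟨h2, h1⟩]
      · rw [if_pos h1', if_neg (fun h => h2 ((hmem H).1 h).2), if_neg (fun h => h2 h.1)]
    · have h1' : ¬ (MulAction.stabilizer ↥Y H).index = 1 :=
        fun h => h1 ((stab_index_eq_one_iff _ _).1 h)
      rw [if_neg h1', if_neg (fun h => h1 h.2)]
  rw [hR] at key
  exact key.symm.trans hL

open Classical in
theorem dvd_card_TQ (P : Sylow p G) {a : ℕ} (hdvd : p ^ (a + 1) ∣ Nat.card G) (Q : Sylow p G)
    (hQ : (Q : Subgroup G).relIndex P = p) : p ∣ (TQ P a Q).card := by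
  obtain ⟨D, hD⟩ : ∃ D : Subgroup G, D = (P : Subgroup G) ⊓ Q := ⟨_, rfl⟩
  have hDP : D ≤ (P : Subgroup G) := hD ▸ inf_le_left
  have hDQ : D ≤ (Q : Subgroup G) := hD ▸ inf_le_right
  have hrelP : D.relIndex P = p := by
    rw [hD, inf_comm, Subgroup.inf_relIndex_right]; exact hQ
  have hrelQ : D.relIndex Q = p := by
    rw [← relIndex_eq_of_card_eq hDP hDQ (sylow_card_eq P Q)]; exact hrelP
  have hDn : (Q : Subgroup G) ≤ Subgroup.normalizer (D : Set G) := by
    rw [← Subgroup.normal_subgroupOf_iff_le_normalizer hDQ]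
    exact normal_of_index (G := ↥(Q : Subgroup G)) Q.2 hrelQ
  have hcardQ : p ^ (a + 1) ∣ Nat.card ↥(Q : Subgroup G) := Q.pow_dvd_card_of_pow_dvd_card hdvd
  have hcardD : p ^ a ∣ Nat.card ↥D := by
    have h1 := card_mul_relIndex' hDQ
    rw [hrelQ] at h1
    rw [← h1, pow_succ] at hcardQ
    exact Nat.dvd_of_mul_dvd_mul_right hp.out.pos hcardQ
  have hνQ := card_normal_in_modEq (Y := (Q : Subgroup G)) (W := (Q : Subgroup G)) Q.2
    Subgroup.le_normalizer (a := a) (dvd_trans (pow_dvd_pow p (Nat.le_succ a)) hcardQ)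
  have hνD := card_normal_in_modEq (Y := (Q : Subgroup G)) (W := D) Q.2 hDn hcardD
  have h1 := Finset.card_filter_add_card_filter_not
    (s := (Sk G (p ^ a)).filter (fun H : Subgroup G => H ≤ (Q : Subgroup G) ∧
      (Q : Subgroup G) ≤ Subgroup.normalizer (H : Set G)))
    (fun H : Subgroup G => H ≤ (P : Subgroup G))
  have e1 : ((Sk G (p ^ a)).filter (fun H : Subgroup G => H ≤ (Q : Subgroup G) ∧
      (Q : Subgroup G) ≤ Subgroup.normalizer (H : Set G))).filter
      (fun H : Subgroup G => H ≤ (P : Subgroup G)) =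
      (Sk G (p ^ a)).filter (fun H : Subgroup G => H ≤ D ∧
      (Q : Subgroup G) ≤ Subgroup.normalizer (H : Set G)) := by
    ext H
    simp only [mem_filter]
    constructor
    · rintro ⟨⟨hS, hHQ, hN⟩, hHP⟩
      exact ⟨hS, hD ▸ le_inf hHP hHQ, hN⟩
    · rintro ⟨hS, hHD, hN⟩
      exact ⟨⟨hS, hHD.trans hDQ, hN⟩, hHD.trans hDP⟩
  have e2 : ((Sk G (p ^ a)).filter (fun H : Subgroup G => H ≤ (Q : Subgroup G) ∧
      (Q : Subgroup G) ≤ Subgroup.normalizer (H : Set G))).filter
      (fun H : Subgroup G => ¬ H ≤ (P : Subgroup G)) = TQ P a Q := by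
    ext H
    rw [mem_TQ]
    simp only [mem_filter, mem_Sk]
    tauto
  rw [e1, e2] at h1
  have h2 : ((Sk G (p ^ a)).filter (fun H : Subgroup G => H ≤ D ∧
      (Q : Subgroup G) ≤ Subgroup.normalizer (H : Set G))).card + (TQ P a Q).card ≡
      ((Sk G (p ^ a)).filter (fun H : Subgroup G => H ≤ D ∧
      (Q : Subgroup G) ≤ Subgroup.normalizer (H : Set G))).card + 0 [MOD p] := by
    rw [h1, add_zero]
    exact hνQ.trans hνD.symm
  exact (Nat.modEq_zero_iff_dvd).1 (Nat.ModEq.add_left_cancel' _ h2)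

theorem inf_relIndex_facts (P Q : Sylow p G) (hQ : (Q : Subgroup G).relIndex P = p) :
    ((P : Subgroup G) ⊓ Q).relIndex P = p ∧ ((P : Subgroup G) ⊓ Q).relIndex Q = p := by
  have h1 : ((P : Subgroup G) ⊓ Q).relIndex P = p := by
    rw [inf_comm, Subgroup.inf_relIndex_right]; exact hQ
  refine ⟨h1, ?_⟩
  rw [← relIndex_eq_of_card_eq inf_le_left inf_le_right (sylow_card_eq P Q)]; exact h1

theorem eq_of_relIndex_eq {R D X : Subgroup G} (hRD : R ≤ D) (hDX : D ≤ X)
    (hR : R.relIndex X = p) (hD : D.relIndex X = p) : R = D := by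
  have h := Subgroup.relIndex_mul_relIndex R D X hRD hDX
  rw [hR, hD] at h
  have h1 : R.relIndex D = 1 := by
    have : R.relIndex D * p = 1 * p := by rw [h, one_mul]
    exact Nat.eq_of_mul_eq_mul_right hp.out.pos this
  exact le_antisymm hRD (Subgroup.relIndex_eq_one.1 h1)

theorem TQ_facts {P : Sylow p G} {a : ℕ} {Q : Sylow p G}
    (hQ : (Q : Subgroup G).relIndex P = p) {H : Subgroup G} (hH : H ∈ TQ P a Q) :
    idx P H = p ∧ (Q : Subgroup G) = H ⊔ (Subgroup.normalizer (H : Set G) ⊓ (P : Subgroup G)) := by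
  obtain ⟨hc, hHP, hHQ, hQN⟩ := mem_TQ.1 hH
  obtain ⟨hrelP, hrelQ⟩ := inf_relIndex_facts P Q hQ
  have hHp : IsPGroup p H := IsPGroup.of_card hc
  have hDR : (P : Subgroup G) ⊓ Q ≤ Subgroup.normalizer (H : Set G) ⊓ (P : Subgroup G) :=
    le_inf (inf_le_right.trans hQN) inf_le_left
  have hidx : idx P H = p := by
    have h1 : idx P H ∣ p := by
      rw [idx_eq_relIndex, ← Subgroup.inf_relIndex_right]
      have := Subgroup.relIndex_dvd_of_le_left (P : Subgroup G) hDR
      rwa [hrelP] at this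
    rcases (Nat.dvd_prime hp.out).1 h1 with h | h
    · exact absurd h (idx_ne_one_of_not_le P hHp hHP)
    · exact h
  refine ⟨hidx, ?_⟩
  have hRrel : (Subgroup.normalizer (H : Set G) ⊓ (P : Subgroup G)).relIndex P = p := by
    rw [Subgroup.inf_relIndex_right, ← idx_eq_relIndex]; exact hidx
  have hRD : (P : Subgroup G) ⊓ Q = Subgroup.normalizer (H : Set G) ⊓ (P : Subgroup G) :=
    eq_of_relIndex_eq hDR inf_le_right hrelP hRrel
  rw [← hRD]
  refine (eq_of_relIndex_prime (D := (P : Subgroup G) ⊓ Q) le_sup_right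
    (sup_le hHQ inf_le_right) ?_ hrelQ).symm
  intro hle
  exact hHP ((le_sup_left.trans hle).trans inf_le_left)

theorem exists_TQ (P : Sylow p G) {a : ℕ} {H : Subgroup G} (hc : Nat.card ↥H = p ^ a)
    (hHP : ¬ H ≤ (P : Subgroup G)) (hidx : idx P H = p) :
    ∃ Q : Sylow p G, (Q : Subgroup G).relIndex P = p ∧ H ∈ TQ P a Q := by
  have hHp : IsPGroup p H := IsPGroup.of_card hc
  obtain ⟨R, hR⟩ : ∃ R : Subgroup G, R = Subgroup.normalizer (H : Set G) ⊓ (P : Subgroup G) :=
    ⟨_, rfl⟩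
  have hRP : R ≤ (P : Subgroup G) := hR ▸ inf_le_right
  have hRN : R ≤ Subgroup.normalizer (H : Set G) := hR ▸ inf_le_left
  have hRrel : R.relIndex P = p := by
    rw [hR, Subgroup.inf_relIndex_right, ← idx_eq_relIndex]; exact hidx
  have hRp : IsPGroup p R := P.2.to_le hRP
  have hsup : IsPGroup p ↥(R ⊔ H) := IsPGroup.to_sup_of_normal_right' hRp hHp hRN
  obtain ⟨Q, hQ⟩ := hsup.exists_le_sylow
  have hRQ : R ≤ (Q : Subgroup G) := le_sup_left.trans hQ
  have hHQ : H ≤ (Q : Subgroup G) := le_sup_right.trans hQ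
  have hRD : R ≤ (P : Subgroup G) ⊓ Q := le_inf hRP hRQ
  have hDrel : ((P : Subgroup G) ⊓ Q).relIndex P = p := by
    have h1 : ((P : Subgroup G) ⊓ Q).relIndex P ∣ p := by
      have := Subgroup.relIndex_dvd_of_le_left (P : Subgroup G) hRD
      rwa [hRrel] at this
    rcases (Nat.dvd_prime hp.out).1 h1 with h | h
    · exfalso
      have hPQ : (P : Subgroup G) ≤ Q := (Subgroup.relIndex_eq_one.1 h).trans inf_le_right
      have := P.is_maximal' Q.2 hPQ
      exact hHP (hHQ.trans_eq this)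
    · exact h
  have hQrel : (Q : Subgroup G).relIndex P = p := by
    rw [← Subgroup.inf_relIndex_right, inf_comm]; exact hDrel
  refine ⟨Q, hQrel, ?_⟩
  obtain ⟨-, hrelQ⟩ := inf_relIndex_facts P Q hQrel
  have hRDeq : R = (P : Subgroup G) ⊓ Q := eq_of_relIndex_eq hRD inf_le_left hRrel hDrel
  have hJ : H ⊔ R = (Q : Subgroup G) := by
    refine eq_of_relIndex_prime (D := (P : Subgroup G) ⊓ Q) (hRDeq ▸ le_sup_right)
      (sup_le hHQ hRQ) ?_ hrelQ
    intro hle
    exact hHP ((le_sup_left.trans hle).trans inf_le_left)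
  rw [mem_TQ]
  refine ⟨hc, hHP, hHQ, ?_⟩
  rw [← hJ]
  exact sup_le Subgroup.le_normalizer hRN

open Classical in
/-- the number of subgroups of order `p^a` of `G` agrees mod `p^2` with that of a Sylow
`p`-subgroup, as soon as `p^(a+1)` divides `|G|`. -/
theorem sylow_reduction (P : Sylow p G) {a : ℕ} (hdvd : p ^ (a + 1) ∣ Nat.card G) :
    sn G (p ^ a) ≡ sn ↥(P : Subgroup G) (p ^ a) [MOD p ^ 2] := by
  letI : Fintype (Sylow p G) := Fintype.ofFinite _
  have h1 := Finset.card_filter_add_card_filter_not (s := Sk G (p ^ a))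
    (fun H : Subgroup G => H ≤ (P : Subgroup G))
  have h2 := Finset.card_filter_add_card_filter_not
    (s := (Sk G (p ^ a)).filter (fun H : Subgroup G => ¬ H ≤ (P : Subgroup G)))
    (fun H : Subgroup G => idx P H = p)
  have hB2 : p ^ 2 ∣ (((Sk G (p ^ a)).filter (fun H : Subgroup G => ¬ H ≤ (P : Subgroup G))).filter
      (fun H : Subgroup G => ¬ idx P H = p)).card := by
    rw [Finset.filter_filter]; exact sq_dvd_card_B2 P a
  have hB1 : ((Sk G (p ^ a)).filter (fun H : Subgroup G => ¬ H ≤ (P : Subgroup G))).filter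
      (fun H : Subgroup G => idx P H = p) =
      (univ.filter (fun Q : Sylow p G => (Q : Subgroup G).relIndex P = p)).biUnion (TQ P a) := by
    ext H
    rw [mem_biUnion]
    simp only [mem_filter, mem_Sk, mem_univ, true_and]
    constructor
    · rintro ⟨⟨hc, hHP⟩, hidx⟩
      obtain ⟨Q, hQ, hH⟩ := exists_TQ P hc hHP hidx
      exact ⟨Q, hQ, hH⟩
    · rintro ⟨Q, hQ, hH⟩
      obtain ⟨hc, hHP, _, _⟩ := mem_TQ.1 hH
      exact ⟨⟨hc, hHP⟩, (TQ_facts hQ hH).1⟩
  have hdisj : ((univ.filter (fun Q : Sylow p G => (Q : Subgroup G).relIndex P = p) :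
      Finset (Sylow p G)) : Set (Sylow p G)).PairwiseDisjoint (TQ P a) := by
    intro Q hQ Q' hQ' hne
    rw [Finset.mem_coe, mem_filter] at hQ hQ'
    rw [Function.onFun, Finset.disjoint_left]
    intro H hH hH'
    apply hne
    apply Sylow.ext
    rw [(TQ_facts hQ.2 hH).2, (TQ_facts hQ'.2 hH').2]
  have hcardB1 := Finset.card_biUnion hdisj
  rw [← hB1, Finset.sum_filter] at hcardB1
  have hsum : p ^ 2 ∣ ∑ Q : Sylow p G,
      (if (Q : Subgroup G).relIndex P = p then (TQ P a Q).card else 0) := by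
    apply orbit_sum_dvd (X := ↥(P : Subgroup G)) (Ω := Sylow p G)
    · intro x Q
      have hrel : ((x • Q : Sylow p G) : Subgroup G).relIndex P = (Q : Subgroup G).relIndex P := by
        rw [← sylow_stab_index, ← sylow_stab_index, stab_index_smul]
      simp only [hrel, card_TQ_smul]
    · intro Q
      rw [sylow_stab_index]
      by_cases h : (Q : Subgroup G).relIndex P = p
      · rw [if_pos h, h, sq]
        exact Nat.mul_dvd_mul_left p (dvd_card_TQ P hdvd Q h)
      · rw [if_neg h, mul_zero]; exact dvd_zero _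
  rw [← hcardB1] at hsum
  have hB : p ^ 2 ∣ ((Sk G (p ^ a)).filter (fun H : Subgroup G => ¬ H ≤ (P : Subgroup G))).card := by
    rw [← h2]; exact dvd_add hsum hB2
  rw [← card_Sk, ← Cfsg.Agent.Lib.Helper23.KulD.card_filter_le (P : Subgroup G) (p ^ a), ← h1]
  have := Nat.ModEq.add_left ((Sk G (p ^ a)).filter (fun H : Subgroup G => H ≤ (P : Subgroup G))).card
    ((Nat.modEq_zero_iff_dvd).2 hB)
  rwa [add_zero] at this

end main

end Cfsg.Agent.Lib.Helper23.KulE


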