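import Mathlib
import Cfsg.Agent.S3975
import Cfsg.Agent.Lib.Helper23.KulE

set_option autoImplicit false
set_option linter.style.haveILetI false
set_option linter.unusedSectionVars false
open Finset

namespace Cfsg.Agent.Lib.Helper23.KulF
open Cfsg.Agent.Lib.Helper23.KulA Cfsg.Agent.Lib.Helper23.KulB Cfsg.Agent.Lib.Helper23.KulC
  Cfsg.Agent.Lib.Helper23.KulD Cfsg.Agent.Lib.Helper23.KulE

universe u

variable {G : Type*} [Group G] [Finite G] {p : ℕ} [hp : Fact p.Prime]

/-- number of cyclic subgroups of order `n` -/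
noncomputable def ce (G : Type*) [Group G] (n : ℕ) : ℕ :=
  Nat.card {H : Subgroup G // Nat.card H = n ∧ IsCyclic H}

open Classical in
/-- the cyclic subgroups of order `n` -/
noncomputable def Cy (G : Type*) [Group G] [Finite G] (n : ℕ) : Finset (Subgroup G) :=
  (Sk G n).filter (fun H => IsCyclic ↥H)

open Classical in
theorem mem_Cy {n : ℕ} {H : Subgroup G} : H ∈ Cy G n ↔ Nat.card H = n ∧ IsCyclic ↥H := by
  unfold Cy
  rw [mem_filter, mem_Sk]

theorem card_Cy (n : ℕ) : (Cy G n).card = ce G n := by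
  classical
  letI : Fintype (Subgroup G) := Fintype.ofFinite _
  unfold ce
  rw [Nat.card_eq_fintype_card]
  exact (Fintype.card_of_subtype _ (fun H => by rw [mem_Cy])).symm

open Classical in
theorem card_Cy_filter_le (M : Subgroup G) (n : ℕ) :
    ((Cy G n).filter (fun H => H ≤ M)).card = ce ↥M n := by
  letI : Fintype (Subgroup G) := Fintype.ofFinite _
  unfold ce
  have e : {H' : Subgroup ↥M // Nat.card H' = n ∧ IsCyclic H'} ≃
      {H : Subgroup G // H ∈ (Cy G n).filter (fun H => H ≤ M)} :=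
    { toFun := fun H' => ⟨H'.1.map M.subtype, by
        rw [mem_filter, mem_Cy]
        refine ⟨⟨by rw [Subgroup.card_map_of_injective M.subtype_injective]; exact H'.2.1, ?_⟩,
          Subgroup.map_subtype_le _⟩
        exact (Subgroup.equivMapOfInjective H'.1 M.subtype M.subtype_injective).isCyclic.1 H'.2.2⟩
      invFun := fun H => ⟨H.1.subgroupOf M, by
        have h := H.2
        rw [mem_filter, mem_Cy] at h
        refine ⟨?_, ?_⟩
        · rw [Nat.card_congr (Subgroup.subgroupOfEquivOfLe h.2).toEquiv]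
          exact h.1.1
        · exact (Subgroup.subgroupOfEquivOfLe h.2).isCyclic.2 h.1.2⟩
      left_inv := fun H' => Subtype.ext
        (Subgroup.comap_map_eq_self_of_injective M.subtype_injective H'.1)
      right_inv := fun H => by
        have h := H.2
        rw [mem_filter] at h
        exact Subtype.ext (Subgroup.map_subgroupOf_eq_of_le h.2) }
  rw [Nat.card_congr e, Nat.card_eq_fintype_card, Fintype.card_coe]

open Classical in
theorem sum_aCnt_Cy (n : ℕ) : ∑ H ∈ Cy G n, aCnt p H = ∑ M ∈ Mx G p, ce ↥M n := by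
  have h := Finset.sum_card_bipartiteAbove_eq_sum_card_bipartiteBelow
    (r := fun (H : Subgroup G) (M : Subgroup G) => H ≤ M)
    (s := Cy G n) (t := Mx G p)
  have hL : ∀ H ∈ Cy G n,
      (Finset.bipartiteAbove (fun (H : Subgroup G) (M : Subgroup G) => H ≤ M) (Mx G p) H).card
        = aCnt p H := by
    intro H _
    rfl
  have hR : ∀ M ∈ Mx G p,
      (Finset.bipartiteBelow (fun (H : Subgroup G) (M : Subgroup G) => H ≤ M) (Cy G n) M).card
        = ce ↥M n := by
    intro M _
    exact card_Cy_filter_le M n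
  rw [Finset.sum_congr rfl hL, Finset.sum_congr rfl hR] at h
  exact h

/-- in a cyclic group all subgroups are cyclic -/
theorem ce_cyclic {C : Type*} [Group C] [Finite C] [IsCyclic C] {k : ℕ}
    (hdvd : p ^ k ∣ Nat.card C) : ce C (p ^ k) = 1 := by
  rw [← sn_cyclic (p := p) hdvd]
  unfold ce sn
  exact Nat.card_congr (Equiv.subtypeEquivRight (fun H => ⟨fun h => h.1, fun h => ⟨h, inferInstance⟩⟩))

theorem ce_eq_zero_of_le {m s : ℕ} (hcard : Nat.card G = p ^ m) (hnc : ¬ IsCyclic G)
    (hs : m ≤ s) : ce G (p ^ s) = 0 := by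
  unfold ce
  rw [Nat.card_eq_zero]
  left
  refine ⟨fun H => ?_⟩
  obtain ⟨H, hH, hHc⟩ := H
  have hdvd := Subgroup.card_subgroup_dvd_card H
  rw [hH, hcard] at hdvd
  have hsm : s ≤ m := (Nat.pow_dvd_pow_iff_le_right hp.out.one_lt).1 hdvd
  have hsm' : s = m := le_antisymm hsm hs
  have htop : H = ⊤ := by
    apply Subgroup.eq_top_of_card_eq
    rw [hH, hcard, hsm']
  subst htop
  exact hnc (Subgroup.topEquiv.isCyclic.1 hHc)

open Classical in
/-- Miller: in a noncyclic `p`-group (`p` odd) the number of cyclic subgroups of order `p^s`,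
`s ≥ 2`, is divisible by `p`. -/
theorem miller (hodd : p ≠ 2) : ∀ (m : ℕ) (G : Type u) [Group G] [Finite G],
    Nat.card G = p ^ m → ¬ IsCyclic G → ∀ s, 2 ≤ s → p ∣ ce G (p ^ s) := by
  intro m
  induction m with
  | zero =>
    intro G _ _ hcard hnc s _
    rw [ce_eq_zero_of_le hcard hnc (Nat.zero_le s)]
    exact dvd_zero _
  | succ m ih =>
    intro G _ _ hcard hnc s hs
    by_cases hsm : m + 1 ≤ s
    · rw [ce_eq_zero_of_le hcard hnc hsm]; exact dvd_zero _
    have hsm' : s ≤ m := by omega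
    have hG : IsPGroup p G := IsPGroup.of_card hcard
    obtain ⟨m', rfl⟩ : ∃ m', m = m' + 2 := ⟨m - 2, by omega⟩
    have hE1 : ce G (p ^ s) ≡ ∑ M ∈ Mx G p, ce ↥M (p ^ s) [MOD p] := by
      rw [← sum_aCnt_Cy, ← card_Cy, Finset.card_eq_sum_ones]
      apply Nat.ModEq.sum
      intro H hH
      exact (aCnt_modEq_one hG (one_le_aCnt hcard (mem_Cy.1 hH).1 hsm')).symm
    have ha₀ : (Mx G p).card ≡ 1 [MOD p] := by
      rw [← aCnt_bot]
      exact aCnt_modEq_one hG (le_trans (by norm_num) (two_le_aCnt_bot hcard hnc))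
    have hMcard : ∀ M ∈ Mx G p, Nat.card ↥M = p ^ (m' + 2) := fun M hM =>
      card_of_mem_Mx hcard hM
    have hE2 : ∑ M ∈ Mx G p, ce ↥M (p ^ s) ≡ 0 [MOD p] := by
      by_cases hall : ∀ M ∈ Mx G p, ¬ IsCyclic ↥M
      · have : ∑ M ∈ Mx G p, ce ↥M (p ^ s) ≡ ∑ _M ∈ Mx G p, 0 [MOD p] := by
          apply Nat.ModEq.sum
          intro M hM
          exact (Nat.modEq_zero_iff_dvd).2 (ih ↥M (hMcard M hM) (hall M hM) s hs)
        rwa [Finset.sum_const_zero] at this
      · push Not at hall
        obtain ⟨C, hC, hCc⟩ := hall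
        obtain ⟨K, hK, hKnc, hKo⟩ := exists_noncyclic_max hodd hcard hnc hC hCc
        rw [← Finset.add_sum_erase _ _ hK]
        have h1 : ∑ M ∈ (Mx G p).erase K, ce ↥M (p ^ s) = ∑ _M ∈ (Mx G p).erase K, 1 := by
          apply Finset.sum_congr rfl
          intro M hM
          rw [mem_erase] at hM
          haveI := hKo M hM.2 hM.1
          exact ce_cyclic (by rw [hMcard M hM.2]; exact pow_dvd_pow p hsm')
        rw [h1, Finset.sum_const, smul_eq_mul, mul_one, Finset.card_erase_of_mem hK]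
        have h2 : p ∣ ce ↥K (p ^ s) := ih ↥K (hMcard K hK) hKnc s hs
        have h3 : p ∣ (Mx G p).card - 1 := by
          have hpos : 1 ≤ (Mx G p).card := Finset.card_pos.2 ⟨K, hK⟩
          exact (Nat.modEq_iff_dvd' hpos).1 ha₀.symm
        exact (Nat.modEq_zero_iff_dvd).2 (dvd_add h2 h3)
    exact (Nat.modEq_zero_iff_dvd).1 (hE1.trans hE2)

open Classical in
/-- the number of elements of order `n` is `φ(n)` times the number of cyclic subgroups of
order `n` -/
theorem card_orderOf_eq (H : Type*) [Group H] [Finite H] (n : ℕ) :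
    Nat.card {x : H // orderOf x = n} = n.totient * ce H n := by
  letI : Fintype H := Fintype.ofFinite H
  rw [← card_Cy]
  have h1 : Nat.card {x : H // orderOf x = n} =
      (univ.filter (fun x : H => orderOf x = n)).card := by
    rw [Nat.card_eq_fintype_card]; exact Fintype.card_of_subtype _ (by simp)
  rw [h1]
  have hmaps : Set.MapsTo (fun x : H => Subgroup.zpowers x)
      ↑(univ.filter (fun x : H => orderOf x = n)) ↑(Cy H n) := by
    intro x hx
    rw [mem_coe, mem_filter] at hx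
    rw [mem_coe, mem_Cy]
    exact ⟨by rw [Nat.card_zpowers, hx.2], inferInstance⟩
  rw [Finset.card_eq_sum_card_fiberwise hmaps]
  have hfib : ∀ K ∈ Cy H n, ((univ.filter (fun x : H => orderOf x = n)).filter
      (fun x => Subgroup.zpowers x = K)).card = n.totient := by
    intro K hK
    obtain ⟨hKc, hKcyc⟩ := mem_Cy.1 hK
    haveI := hKcyc
    have := IsCyclic.card_orderOf_eq_totient (α := ↥K) (d := n)
      (by rw [← Nat.card_eq_fintype_card, hKc])
    rw [← this]
    symm
    apply Finset.card_bij (fun (a : ↥K) _ => (a : H))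
    · intro a ha
      rw [mem_filter] at ha
      rw [mem_filter, mem_filter]
      refine ⟨⟨mem_univ _, by rw [Subgroup.orderOf_coe]; exact ha.2⟩, ?_⟩
      apply Subgroup.eq_of_le_of_card_ge (Subgroup.zpowers_le.2 a.2)
      rw [Nat.card_zpowers, Subgroup.orderOf_coe, ha.2, hKc]
    · intro a _ b _ h; exact Subtype.ext h
    · intro x hx
      rw [mem_filter, mem_filter] at hx
      have hxK : x ∈ K := hx.2 ▸ Subgroup.mem_zpowers x
      exact ⟨⟨x, hxK⟩, by rw [mem_filter]; exact ⟨mem_univ _, by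
        rw [Subgroup.orderOf_mk]; exact hx.1.2⟩, rfl⟩
  rw [Finset.sum_congr rfl hfib, Finset.sum_const, smul_eq_mul, mul_comm]

attribute [local instance] conjSubAct

theorem isCyclic_cj_iff (x : G) (H : Subgroup G) : IsCyclic ↥(cj x H) ↔ IsCyclic ↥H :=
  (Subgroup.equivMapOfInjective H (MulAut.conj x).toMonoidHom (MulAut.conj x).injective).isCyclic.symm

open Classical in
/-- Sylow reduction mod `p` for the number of cyclic subgroups of order `p^s` -/
theorem ce_sylow_modEq (P : Sylow p G) (s : ℕ) :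
    ce G (p ^ s) ≡ ce ↥(P : Subgroup G) (p ^ s) [MOD p] := by
  letI : Fintype (Subgroup G) := Fintype.ofFinite _
  have hiff1 : ∀ (x : ↥(P : Subgroup G)) (H : Subgroup G),
      x • H ∈ Cy G (p ^ s) ↔ H ∈ Cy G (p ^ s) := by
    intro x H
    rw [mem_Cy, mem_Cy, card_smul, sub_smul_eq_cj, isCyclic_cj_iff]
  have hiff2 : ∀ (x : ↥(P : Subgroup G)) (H : Subgroup G),
      x • H ∈ (Cy G (p ^ s)).filter (fun H => H ≤ (P : Subgroup G)) ↔
        H ∈ (Cy G (p ^ s)).filter (fun H => H ≤ (P : Subgroup G)) := by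
    intro x H
    rw [mem_filter, mem_filter, hiff1, smul_le_iff]
  have key1 := orbit_sum_modEq (X := ↥(P : Subgroup G)) (Ω := Subgroup G) P.2
    (fun H => if H ∈ Cy G (p ^ s) then 1 else 0) (fun x H => by simp only [hiff1])
  have key2 := orbit_sum_modEq (X := ↥(P : Subgroup G)) (Ω := Subgroup G) P.2
    (fun H => if H ∈ (Cy G (p ^ s)).filter (fun H => H ≤ (P : Subgroup G)) then 1 else 0)
    (fun x H => by simp only [hiff2])
  rw [Finset.sum_ite_mem, Finset.univ_inter, Finset.sum_const, smul_eq_mul, mul_one] at key1 key2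
  rw [card_Cy] at key1
  rw [card_Cy_filter_le] at key2
  have heq : ∑ H : Subgroup G, (if (MulAction.stabilizer ↥(P : Subgroup G) H).index = 1 then
      (if H ∈ Cy G (p ^ s) then 1 else 0) else 0) =
      ∑ H : Subgroup G, (if (MulAction.stabilizer ↥(P : Subgroup G) H).index = 1 then
      (if H ∈ (Cy G (p ^ s)).filter (fun H => H ≤ (P : Subgroup G)) then 1 else 0) else 0) := by
    apply Finset.sum_congr rfl
    intro H _
    by_cases h1 : (MulAction.stabilizer ↥(P : Subgroup G) H).index = 1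
    · rw [if_pos h1, if_pos h1]
      by_cases h2 : H ∈ Cy G (p ^ s)
      · have hle : H ≤ (P : Subgroup G) :=
          le_sylow_of_le_normalizer P (IsPGroup.of_card (mem_Cy.1 h2).1)
            ((stab_index_eq_one_iff _ _).1 h1)
        rw [if_pos h2, if_pos (mem_filter.2 ⟨h2, hle⟩)]
      · rw [if_neg h2, if_neg (fun h => h2 (mem_filter.1 h).1)]
    · rw [if_neg h1, if_neg h1]
  rw [heq] at key1
  exact key1.trans key2.symm

/-- noncyclic Sylow `p`-subgroup, `p` odd, `s ≥ 2`: the number of cyclic subgroups of order `p^s`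
is divisible by `p` -/
theorem dvd_ce_of_noncyclic_sylow (hodd : p ≠ 2) (P : Sylow p G)
    (hP : ¬ IsCyclic ↥(P : Subgroup G)) {s : ℕ} (hs : 2 ≤ s) : p ∣ ce G (p ^ s) := by
  obtain ⟨n, hn⟩ := IsPGroup.iff_card.1 P.2
  have h1 := miller hodd n ↥(P : Subgroup G) hn hP s hs
  exact (Nat.modEq_zero_iff_dvd).1
    ((ce_sylow_modEq P s).trans ((Nat.modEq_zero_iff_dvd).2 h1))

theorem pow_dvd_card_orderOf_of_noncyclic (hodd : p ≠ 2) (P : Sylow p G)
    (hP : ¬ IsCyclic ↥(P : Subgroup G)) {s : ℕ} (hs : 2 ≤ s) :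
    p ^ s ∣ Nat.card {x : G // orderOf x = p ^ s} := by
  rw [card_orderOf_eq]
  obtain ⟨s', rfl⟩ : ∃ s', s = s' + 1 := ⟨s - 1, by omega⟩
  rw [Nat.totient_prime_pow_succ hp.out, pow_succ, mul_assoc]
  apply Nat.mul_dvd_mul_left
  rw [mul_comm]
  exact Dvd.dvd.mul_right (dvd_ce_of_noncyclic_sylow hodd P hP hs) _

theorem pow_pred_dvd_card_orderOf (s : ℕ) :
    p ^ (s - 1) ∣ Nat.card {x : G // orderOf x = p ^ s} := by
  rw [card_orderOf_eq]
  rcases Nat.eq_zero_or_pos s with h0 | h0
  · subst h0; simp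
  · rw [Nat.totient_prime_pow hp.out h0, mul_assoc]
    exact dvd_mul_right _ _

end Cfsg.Agent.Lib.Helper23.KulF

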