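import Mathlib
import Cfsg.Agent.Lib.Helper23.KulF

set_option autoImplicit false
set_option linter.style.haveILetI false
set_option linter.unusedSectionVars false
open Finset

namespace Cfsg.Agent.Lib.Helper23.KulG
open Cfsg.Agent.Lib.Helper23.KulE Cfsg.Agent.Lib.Helper23.KulF

variable {G : Type*} [Group G] [Finite G]

/-- stabilizer index for the conjugation action on elements -/
theorem stab_conjAct_index (z : G) : (MulAction.stabilizer (ConjAct G) z).index
    = (Subgroup.centralizer ({z} : Set G)).index := by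
  have h1 := Subgroup.card_mul_index (MulAction.stabilizer (ConjAct G) z)
  have h2 := Subgroup.card_mul_index (Subgroup.centralizer ({z} : Set G))
  rw [← Subgroup.nat_card_centralizer_nat_card_stabilizer] at h1
  have : Nat.card (ConjAct G) = Nat.card G := rfl
  rw [this, ← h2] at h1
  exact Nat.eq_of_mul_eq_mul_left Nat.card_pos h1

/-- number of elements of order `a` commuting with `z` -/
noncomputable def E (a : ℕ) (z : G) : ℕ := Nat.card {y : G // Commute y z ∧ orderOf y = a}

theorem E_eq_card_centralizer (a : ℕ) (z : G) :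
    E a z = Nat.card {y : ↥(Subgroup.centralizer ({z} : Set G)) // orderOf y = a} := by
  unfold E
  apply Nat.card_congr
  exact
    { toFun := fun y => ⟨⟨y.1, by
          rw [Subgroup.mem_centralizer_iff]
          intro h hh
          rw [Set.mem_singleton_iff] at hh
          rw [hh]; exact y.2.1.eq.symm⟩, by rw [Subgroup.orderOf_mk]; exact y.2.2⟩
      invFun := fun y => ⟨(y.1 : G), by
          have h := y.1.2
          rw [Subgroup.mem_centralizer_iff] at h
          exact (h z rfl).symm, by rw [Subgroup.orderOf_coe]; exact y.2⟩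
      left_inv := fun y => rfl
      right_inv := fun y => rfl }

theorem E_conj (a : ℕ) (g z : G) : E a (g * z * g⁻¹) = E a z := by
  unfold E
  symm
  apply Nat.card_congr
  refine (MulAut.conj g).toEquiv.subtypeEquiv (fun y => ?_)
  have h1 : (MulAut.conj g).toEquiv y = g * y * g⁻¹ := rfl
  rw [h1]
  have h2 : orderOf (g * y * g⁻¹) = orderOf y := (MulAut.conj g).orderOf_eq y
  rw [h2]
  constructor
  · rintro ⟨hc, ho⟩
    refine ⟨?_, ho⟩
    show g * y * g⁻¹ * (g * z * g⁻¹) = g * z * g⁻¹ * (g * y * g⁻¹)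
    have := hc.eq
    calc g * y * g⁻¹ * (g * z * g⁻¹) = g * (y * z) * g⁻¹ := by group
      _ = g * (z * y) * g⁻¹ := by rw [this]
      _ = g * z * g⁻¹ * (g * y * g⁻¹) := by group
  · rintro ⟨hc, ho⟩
    refine ⟨?_, ho⟩
    have := hc.eq
    show y * z = z * y
    calc y * z = g⁻¹ * (g * y * g⁻¹ * (g * z * g⁻¹)) * g := by group
      _ = g⁻¹ * (g * z * g⁻¹ * (g * y * g⁻¹)) * g := by rw [this]
      _ = z * y := by group

open Classical in
/-- elements of order `a * b` (`a, b` coprime) decompose uniquely as commuting products -/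
theorem card_orderOf_mul [Fintype G] {a b : ℕ} (hab : Nat.Coprime a b) (ha : 0 < a) (hb : 0 < b) :
    Nat.card {x : G // orderOf x = a * b} =
      ∑ z ∈ univ.filter (fun z : G => orderOf z = b), E a z := by
  obtain ⟨e, he0, he1⟩ := Nat.chineseRemainder hab 0 1
  have hae : a ∣ e := (Nat.modEq_zero_iff_dvd).1 he0
  have hX : Nat.card {x : G // orderOf x = a * b} =
      (univ.filter (fun x : G => orderOf x = a * b)).card := by
    rw [Nat.card_eq_fintype_card]; exact Fintype.card_of_subtype _ (by simp)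
  rw [hX]
  -- key facts
  have F1 : ∀ x : G, orderOf x = a * b → (x ^ e) ^ b = 1 := by
    intro x hx
    rw [← pow_mul, ← orderOf_dvd_iff_pow_eq_one, hx]
    exact Nat.mul_dvd_mul_right hae b
  have F2 : ∀ x : G, orderOf x = a * b → (x * (x ^ e)⁻¹) ^ a = 1 := by
    intro x hx
    have hc : Commute x (x ^ e)⁻¹ := ((Commute.refl x).pow_right e).inv_right
    rw [hc.mul_pow, inv_pow, ← pow_mul]
    have : x ^ (e * a) = x ^ a := by
      rw [pow_eq_pow_iff_modEq, hx]
      have := Nat.ModEq.mul_right' a he1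
      rwa [one_mul, mul_comm b a] at this
    rw [this, mul_inv_cancel]
  have F3 : ∀ x : G, Commute (x * (x ^ e)⁻¹) (x ^ e) := by
    intro x
    exact (((Commute.refl x).pow_right e)).mul_left (((Commute.refl (x ^ e))).inv_left)
  have F5 : ∀ y z : G, Commute y z → y ^ a = 1 → orderOf z = b → orderOf (y * z) = a * b →
      orderOf y = a := by
    intro y z hc hy hz hyz
    have hoy : orderOf y ∣ a := orderOf_dvd_of_pow_eq_one hy
    have hcop : Nat.Coprime (orderOf y) (orderOf z) := by
      rw [hz]; exact Nat.Coprime.coprime_dvd_left hoy hab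
    rw [hc.orderOf_mul_eq_mul_orderOf_of_coprime hcop, hz] at hyz
    exact Nat.eq_of_mul_eq_mul_right hb hyz
  have F4 : ∀ x : G, orderOf x = a * b → orderOf (x ^ e) = b := by
    intro x hx
    have hoz : orderOf (x ^ e) ∣ b := orderOf_dvd_of_pow_eq_one (F1 x hx)
    have hoy : orderOf (x * (x ^ e)⁻¹) ∣ a := orderOf_dvd_of_pow_eq_one (F2 x hx)
    have hxyz : x * (x ^ e)⁻¹ * x ^ e = x := by group
    have h1 := (F3 x).orderOf_mul_dvd_lcm
    rw [hxyz, hx] at h1
    have h2 : (orderOf (x * (x ^ e)⁻¹)).lcm (orderOf (x ^ e)) ∣ a * orderOf (x ^ e) :=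
      Nat.lcm_dvd (Dvd.dvd.mul_right hoy _) (dvd_mul_left _ _)
    have h3 : b ∣ orderOf (x ^ e) := Nat.dvd_of_mul_dvd_mul_left ha (h1.trans h2)
    exact Nat.dvd_antisymm hoz h3
  have hmaps : Set.MapsTo (fun x : G => x ^ e)
      ↑(univ.filter (fun x : G => orderOf x = a * b))
      ↑(univ.filter (fun z : G => orderOf z = b)) := by
    intro x hx
    rw [mem_coe, mem_filter] at hx
    rw [mem_coe, mem_filter]
    exact ⟨mem_univ _, F4 x hx.2⟩
  rw [Finset.card_eq_sum_card_fiberwise hmaps]
  apply Finset.sum_congr rfl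
  intro z hz
  rw [mem_filter] at hz
  have hoz := hz.2
  have hE : E a z = (univ.filter (fun y : G => Commute y z ∧ orderOf y = a)).card := by
    unfold E
    rw [Nat.card_eq_fintype_card]; exact Fintype.card_of_subtype _ (by simp)
  rw [hE]
  symm
  apply Finset.card_bij (fun y _ => y * z)
  · intro y hy
    rw [mem_filter] at hy
    obtain ⟨-, hc, hoy⟩ := hy
    rw [mem_filter, mem_filter]
    have hcop : Nat.Coprime (orderOf y) (orderOf z) := by rw [hoy, hoz]; exact hab
    refine ⟨⟨mem_univ _, by rw [hc.orderOf_mul_eq_mul_orderOf_of_coprime hcop, hoy, hoz]⟩, ?_⟩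
    rw [hc.mul_pow]
    have h1 : y ^ e = 1 := by rw [← orderOf_dvd_iff_pow_eq_one, hoy]; exact hae
    have h2 : z ^ e = z := by
      conv_rhs => rw [← pow_one z]
      rw [pow_eq_pow_iff_modEq, hoz]; exact he1
    rw [h1, h2, one_mul]
  · intro y₁ _ y₂ _ h
    exact mul_right_cancel h
  · intro x hx
    rw [mem_filter, mem_filter] at hx
    obtain ⟨⟨-, hox⟩, hxe⟩ := hx
    refine ⟨x * z⁻¹, ?_, by group⟩
    rw [mem_filter]
    have hc : Commute (x * z⁻¹) z := by rw [← hxe]; exact F3 x
    have hya : (x * z⁻¹) ^ a = 1 := by rw [← hxe]; exact F2 x hox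
    have hxz : x * z⁻¹ * z = x := by group
    exact ⟨mem_univ _, hc, F5 _ z hc hya hoz (by rw [hxz]; exact hox)⟩

/-- if `G` has noncyclic Sylow `p`-subgroups and `C ≤ G` has cyclic ones, then `p ∣ |G : C|` -/
theorem dvd_index_of_cyclic_sylow {p : ℕ} [hp : Fact p.Prime] (P : Sylow p G)
    (hP : ¬ IsCyclic ↥(P : Subgroup G)) (C : Subgroup G) (Q : Sylow p ↥C)
    (hQ : IsCyclic ↥(Q : Subgroup ↥C)) : p ∣ C.index := by
  by_contra hnd
  obtain ⟨Q', hQ'⟩ : ∃ Q' : Subgroup G, Q' = (Q : Subgroup ↥C).map C.subtype := ⟨_, rfl⟩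
  have hQ'p : IsPGroup p ↥Q' := hQ' ▸ Q.2.map C.subtype
  have hQ'card : Nat.card ↥Q' = Nat.card ↥(Q : Subgroup ↥C) := by
    rw [hQ', Subgroup.card_map_of_injective C.subtype_injective]
  have hfac : (Nat.card G).factorization p = (Nat.card ↥C).factorization p := by
    have h1 := Subgroup.card_mul_index C
    rw [← h1, Nat.factorization_mul Nat.card_pos.ne' (Subgroup.index_ne_zero_of_finite),
      Finsupp.add_apply, Nat.factorization_eq_zero_of_not_dvd hnd, add_zero]
  obtain ⟨P', hP'⟩ := hQ'p.exists_le_sylow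
  have hcard : Nat.card ↥(P' : Subgroup G) ≤ Nat.card ↥Q' := by
    rw [hQ'card, Sylow.card_eq_multiplicity, Sylow.card_eq_multiplicity, hfac]
  have heq : Q' = (P' : Subgroup G) := Subgroup.eq_of_le_of_card_ge hP' hcard
  obtain ⟨g, hg⟩ := MulAction.exists_smul_eq G P P'
  apply hP
  have e1 : ↥(P : Subgroup G) ≃* ↥((g • P : Sylow p G) : Subgroup G) := Sylow.equivSMul P g
  have e2 : ↥((g • P : Sylow p G) : Subgroup G) ≃* ↥Q' :=
    MulEquiv.subgroupCongr (by rw [hg, heq])
  have e3 : ↥(Q : Subgroup ↥C) ≃* ↥Q' :=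
    (Subgroup.equivMapOfInjective (Q : Subgroup ↥C) C.subtype C.subtype_injective).trans
      (MulEquiv.subgroupCongr hQ'.symm)
  exact ((e1.trans e2).trans e3.symm).isCyclic.2 hQ

open Classical in
/-- noncyclic Sylow `p`-subgroups, `p` odd, `s ≥ 2`, `m` prime to `p`: the number of elements of
order `p^s m` is divisible by `p^s` -/
theorem main {p : ℕ} [hp : Fact p.Prime] (hodd : p ≠ 2) (P : Sylow p G)
    (hP : ¬ IsCyclic ↥(P : Subgroup G)) (s m : ℕ) (hs : 1 < s) (hm : Nat.Coprime p m) :
    p ^ s ∣ Nat.card {g : G // orderOf g = p ^ s * m} := by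
  letI : Fintype G := Fintype.ofFinite G
  have hm0 : 0 < m := by
    rcases Nat.eq_zero_or_pos m with h | h
    · rw [h, Nat.coprime_zero_right] at hm
      exact absurd hm hp.out.one_lt.ne'
    · exact h
  rw [card_orderOf_mul (Nat.Coprime.pow_left s hm) (pow_pos hp.out.pos s) hm0, Finset.sum_filter]
  apply orbit_sum_dvd (X := ConjAct G) (Ω := G)
  · intro g z
    rw [ConjAct.smul_def]
    have h2 : orderOf (ConjAct.ofConjAct g * z * (ConjAct.ofConjAct g)⁻¹) = orderOf z :=
      (MulAut.conj (ConjAct.ofConjAct g)).orderOf_eq z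
    rw [h2, E_conj]
  · intro z
    rw [stab_conjAct_index]
    by_cases hz : orderOf z = m
    · rw [if_pos hz, E_eq_card_centralizer]
      obtain ⟨Q⟩ : Nonempty (Sylow p ↥(Subgroup.centralizer ({z} : Set G))) := inferInstance
      by_cases hQ : IsCyclic ↥(Q : Subgroup ↥(Subgroup.centralizer ({z} : Set G)))
      · have h1 := dvd_index_of_cyclic_sylow P hP _ Q hQ
        have h2 := pow_pred_dvd_card_orderOf (p := p)
          (G := ↥(Subgroup.centralizer ({z} : Set G))) s
        have h3 : p ^ s = p * p ^ (s - 1) := by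
          rw [← pow_succ']; congr 1; omega
        have h4 := Nat.mul_dvd_mul h1 h2
        rwa [← h3] at h4
      · exact Dvd.dvd.mul_left (pow_dvd_card_orderOf_of_noncyclic hodd Q hQ (by omega)) _
    · rw [if_neg hz, mul_zero]; exact dvd_zero _

end Cfsg.Agent.Lib.Helper23.KulG

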