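import Mathlib
import Cfsg.Agent.S4477
import Cfsg.Agent.Lib.Helper23.KulF
import Cfsg.Agent.Lib.Lead.Taussky
import Cfsg.Agent.Lib.Lead.MaxClass

set_option autoImplicit false
set_option linter.style.haveILetI false
set_option linter.unusedSectionVars false
open Finset

namespace Cfsg.Agent.Lib.Helper23.KulH
open Cfsg.Agent.Lib.Helper23.KulA Cfsg.Agent.Lib.Helper23.KulB Cfsg.Agent.Lib.Helper23.KulC
  Cfsg.Agent.Lib.Helper23.KulD Cfsg.Agent.Lib.Helper23.KulF

universe u

open scoped commutatorElement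

variable {G : Type*} [Group G] [Finite G] {p : ℕ} [hp : Fact p.Prime]

open Classical in
/-- number of index-`p` subgroups of a noncyclic `p`-group -/
theorem card_Mx_modEq {m : ℕ} (hcard : Nat.card G = p ^ (m + 1)) (hnc : ¬ IsCyclic G) :
    (Mx G p).card ≡ 1 + p [MOD p ^ 2] := by
  have hG : IsPGroup p G := IsPGroup.of_card hcard
  have h2a := two_le_aCnt_bot hcard hnc
  rw [← aCnt_bot]; exact aCnt_modEq_sq hG h2a

open Classical in
/-- Hall's enumeration principle for subgroups of given order (all primes) -/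
theorem hall_enum {m' : ℕ} (hcard : Nat.card G = p ^ (m' + 2 + 1)) (hnc : ¬ IsCyclic G) {k : ℕ}
    (hkm : k < m' + 2) :
    ∑ M ∈ Mx G p, sn ↥M (p ^ k) ≡ sn G (p ^ k) + p [MOD p ^ 2] := by
  have hG : IsPGroup p G := IsPGroup.of_card hcard
  have ha₀ : (Mx G p).card ≡ 1 + p [MOD p ^ 2] := card_Mx_modEq hcard hnc
  have hE1 : ∑ M ∈ Mx G p, sn ↥M (p ^ k) ≡
      sn G (p ^ k) + p * ∑ N ∈ Gm G p, sn ↥N (p ^ k) [MOD p ^ 2] := by
    rw [← sum_aCnt, ← sum_bCnt, ← card_Sk, Finset.mul_sum, Finset.card_eq_sum_ones,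
      ← Finset.sum_add_distrib]
    apply Nat.ModEq.sum
    intro H hH
    exact aCnt_modEq hG (one_le_aCnt hcard (mem_Sk.1 hH) (by omega))
  have hE2 : p * ∑ N ∈ Gm G p, sn ↥N (p ^ k) ≡ p * (Gm G p).card [MOD p ^ 2] := by
    apply p_mul_modEq
    rw [Finset.card_eq_sum_ones]
    apply Nat.ModEq.sum
    intro N hN
    have hNc : Nat.card ↥N = p ^ (m' + 1) := card_of_mem_Gm hcard hN
    exact Cfsg.Agent.S3975.result p k hp.out (by rw [hNc]; exact pow_dvd_pow p (by omega))
  have hE3 : p * (Gm G p).card ≡ p [MOD p ^ 2] := by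
    have h1 : aCnt p (⊥ : Subgroup G) ≡ 1 + p * bCnt p (⊥ : Subgroup G) [MOD p ^ 2] :=
      aCnt_modEq hG (by
        have := two_le_aCnt_bot hcard hnc
        omega)
    rw [aCnt_bot, bCnt_bot] at h1
    exact Nat.ModEq.add_left_cancel' 1 (h1.symm.trans ha₀)
  exact hE1.trans (Nat.ModEq.add_left _ (hE2.trans hE3))

/-- the number of subgroups of index `p` in a noncyclic `p`-group, as a count of subgroups -/
theorem sn_top {m : ℕ} (hcard : Nat.card G = p ^ (m + 1)) (hnc : ¬ IsCyclic G) :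
    sn G (p ^ m) ≡ 1 + p [MOD p ^ 2] := by
  rw [← card_Sk, Sk_eq_Mx hcard]
  exact card_Mx_modEq hcard hnc

/-- subgroups of order 2 correspond to involutions -/
theorem sn_two_eq (X : Type*) [Group X] [Finite X] :
    sn X 2 = Nat.card {x : X // orderOf x = 2} := by
  haveI : Fact (Nat.Prime 2) := ⟨Nat.prime_two⟩
  rw [card_orderOf_eq X 2, Nat.totient_two, one_mul]
  unfold sn ce
  apply Nat.card_congr
  exact Equiv.subtypeEquivRight (fun H => ⟨fun h => ⟨h, isCyclic_of_prime_card h⟩, fun h => h.1⟩)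

/-- commutators are products of squares -/
theorem comm_le_of_sq {X : Type*} [Group X] (H : Subgroup X) (h : ∀ x : X, x ^ 2 ∈ H) :
    commutator X ≤ H := by
  rw [commutator_eq_closure, Subgroup.closure_le]
  rintro g ⟨x, y, rfl⟩
  have h1 : ⁅x, y⁆ = x ^ 2 * (x⁻¹ * y) ^ 2 * (y⁻¹) ^ 2 := by
    rw [commutatorElement_def, pow_two, pow_two, pow_two]; group
  rw [SetLike.mem_coe, h1]
  exact H.mul_mem (H.mul_mem (h _) (h _)) (h _)

section two
variable {X : Type*} [Group X] [Finite X]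

/-- a generator of a cyclic subgroup -/
theorem exists_zpowers_eq {A : Subgroup X} (hAc : IsCyclic ↥A) :
    ∃ a : X, A = Subgroup.zpowers a := by
  obtain ⟨g, hg⟩ := hAc.exists_generator
  refine ⟨g.1, le_antisymm ?_ ?_⟩
  · intro x hx
    obtain ⟨k, hk⟩ := Subgroup.mem_zpowers_iff.1 (hg ⟨x, hx⟩)
    rw [Subgroup.mem_zpowers_iff]
    exact ⟨k, by have := congrArg Subtype.val hk; simpa using this⟩
  · rw [Subgroup.zpowers_le]; exact g.2

theorem sq_mul_eq (x y : X) : (x * y) ^ 2 = x ^ 2 * ⁅x⁻¹, y⁆ * y ^ 2 := by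
  rw [commutatorElement_def, pow_two, pow_two, pow_two]; group

theorem comm_mem (x y : X) : ⁅x, y⁆ ∈ commutator X := by
  rw [commutator_def]
  exact Subgroup.commutator_mem_commutator (Subgroup.mem_top _) (Subgroup.mem_top _)

/-- a noncyclic `2`-group of order `≥ 8`, not of maximal class, with a cyclic maximal subgroup has
exactly one noncyclic maximal subgroup -/
theorem exists_noncyclic_max_two {μ : ℕ} (hμ : 3 ≤ μ) (hcard : Nat.card X = 2 ^ μ)
    (hnc : ¬ IsCyclic X) (hidx : (commutator X).index ≠ 4) {A : Subgroup X}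
    (hA : A ∈ Mx X 2) (hAc : IsCyclic ↥A) :
    ∃ K ∈ Mx X 2, ¬ IsCyclic ↥K ∧ ∀ M ∈ Mx X 2, M ≠ K → IsCyclic ↥M := by
  haveI : Fact (Nat.Prime 2) := ⟨Nat.prime_two⟩
  have hG : IsPGroup 2 X := IsPGroup.of_card hcard
  obtain ⟨ν, rfl⟩ : ∃ ν, μ = ν + 3 := ⟨μ - 3, by omega⟩
  obtain ⟨a, rfl⟩ := exists_zpowers_eq hAc
  have hAi : (Subgroup.zpowers a).index = 2 := mem_Mx.1 hA
  haveI hAn : (Subgroup.zpowers a).Normal := normal_of_index hG hAi
  have hoa : orderOf a = 2 ^ (ν + 2) := by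
    have h1 := Subgroup.card_mul_index (Subgroup.zpowers a)
    rw [hAi, hcard, Nat.card_zpowers] at h1
    have : (2:ℕ) ^ (ν + 3) = 2 ^ (ν + 2) * 2 := by ring
    omega
  have hoa2 : orderOf (a ^ 2) = 2 ^ (ν + 1) := by
    have := orderOf_pow_pow (p := 2) (x := a) (a := ν + 1) (b := 1) (by rw [hoa])
    simpa using this
  have hoa4 : orderOf (a ^ 4) = 2 ^ ν := by
    have := orderOf_pow_pow (p := 2) (x := a) (a := ν) (b := 2) (by rw [hoa])
    simpa using this
  have hsq : ∀ x : X, ∃ i : ℕ, x ^ 2 = a ^ (2 * i) := by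
    intro x
    have h1 : x ^ 2 ∈ Subgroup.zpowers a := by
      have := Subgroup.pow_index_mem (Subgroup.zpowers a) x
      rwa [hAi] at this
    obtain ⟨j, hj⟩ := (Submonoid.mem_powers_iff _ _).1 (mem_powers_iff_mem_zpowers.2 h1)
    rcases Nat.even_or_odd j with ⟨r, hr⟩ | hodd
    · exact ⟨r, by rw [← hj, hr]; congr 1; ring⟩
    · exfalso
      have hco : (orderOf a).Coprime j := by
        rw [hoa]; exact Nat.Coprime.pow_left _ (Nat.coprime_two_left.2 hodd)
      have h2 : orderOf (x ^ 2) = 2 ^ (ν + 2) := by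
        rw [← hj, hco.orderOf_pow, hoa]
      have h3 := orderOf_of_pow_p (p := 2) hG (x := x) (k := ν + 2) (by omega) h2
      exact hnc (isCyclic_of_orderOf_eq_card x (by rw [h3, hcard]))
  obtain ⟨A2, hA2⟩ : ∃ A2 : Subgroup X, A2 = Subgroup.zpowers (a ^ 2) := ⟨_, rfl⟩
  obtain ⟨A4, hA4⟩ : ∃ A4 : Subgroup X, A4 = Subgroup.zpowers (a ^ 4) := ⟨_, rfl⟩
  have hmemA4 : ∀ l : ℕ, a ^ (4 * l) ∈ A4 := fun l => by
    rw [pow_mul, hA4]; exact Subgroup.pow_mem _ (Subgroup.mem_zpowers _) l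
  have hmemA2 : ∀ l : ℕ, a ^ (2 * l) ∈ A2 := fun l => by
    rw [pow_mul, hA2]; exact Subgroup.pow_mem _ (Subgroup.mem_zpowers _) l
  have hA4exp : ∀ u ∈ A4, ∃ l : ℕ, u = a ^ (4 * l) := by
    intro u hu
    rw [hA4] at hu
    obtain ⟨l, hl⟩ := (Submonoid.mem_powers_iff _ _).1 (mem_powers_iff_mem_zpowers.2 hu)
    exact ⟨l, by rw [← hl, pow_mul]⟩
  have hodd : ∀ i : ℕ, a ^ (2 * i) ∉ A4 → ∃ r, i = 2 * r + 1 := by
    intro i hi
    rcases Nat.even_or_odd i with ⟨r, hr⟩ | ⟨r, hr⟩
    · exfalso; apply hi; rw [hr]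
      have : 2 * (r + r) = 4 * r := by ring
      rw [this]; exact hmemA4 r
    · exact ⟨r, hr⟩
  have hcA2 : commutator X ≤ A2 := comm_le_of_sq A2 (fun x => by
    obtain ⟨i, hi⟩ := hsq x; rw [hi]; exact hmemA2 i)
  have hA2i : A2.index = 4 := by
    rw [hA2]
    have h1 := Subgroup.card_mul_index (Subgroup.zpowers (a ^ 2))
    rw [hcard, Nat.card_zpowers, hoa2] at h1
    have h2 : (2:ℕ) ^ (ν + 3) = 2 ^ (ν + 1) * 4 := by ring
    rw [h2] at h1
    exact Nat.eq_of_mul_eq_mul_left (Nat.pos_of_ne_zero (by positivity)) h1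
  have hcA4 : commutator X ≤ A4 := by
    intro u hu
    have hu2 := hcA2 hu
    rw [hA2] at hu2
    obtain ⟨i, hi⟩ := (Submonoid.mem_powers_iff _ _).1 (mem_powers_iff_mem_zpowers.2 hu2)
    by_contra hnot
    have hu' : u = a ^ (2 * i) := by rw [← hi, pow_mul]
    obtain ⟨r, hr⟩ := hodd i (by rwa [← hu'])
    have hco : (orderOf (a ^ 2)).Coprime i := by
      rw [hoa2, hr]; exact Nat.Coprime.pow_left _ (Nat.coprime_two_left.2 ⟨r, rfl⟩)
    have ho : orderOf u = orderOf (a ^ 2) := by rw [← hi]; exact hco.orderOf_pow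
    have hle : Subgroup.zpowers u ≤ A2 := by
      rw [Subgroup.zpowers_le]; exact hcA2 hu
    have heq : Subgroup.zpowers u = A2 := by
      apply Subgroup.eq_of_le_of_card_ge hle
      rw [hA2, Nat.card_zpowers, Nat.card_zpowers, ho]
    have : A2 ≤ commutator X := by
      rw [← heq, Subgroup.zpowers_le]; exact hu
    exact hidx (by rw [le_antisymm hcA2 this]; exact hA2i)
  obtain ⟨Y, hYmem⟩ : ∃ Y : Subgroup X, ∀ x, x ∈ Y ↔ x ^ 2 ∈ A4 := by
    refine ⟨{ carrier := {x | x ^ 2 ∈ A4}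
              one_mem' := by
                show (1 : X) ^ 2 ∈ A4
                rw [one_pow]; exact A4.one_mem
              mul_mem' := by
                intro x y hx hy
                show (x * y) ^ 2 ∈ A4
                rw [sq_mul_eq]
                exact A4.mul_mem (A4.mul_mem hx (hcA4 (comm_mem _ _))) hy
              inv_mem' := by
                intro x hx
                show (x⁻¹) ^ 2 ∈ A4
                rw [inv_pow]; exact A4.inv_mem hx }, fun x => Iff.rfl⟩
  have haY : a ∉ Y := by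
    rw [hYmem]
    intro h
    obtain ⟨l, hl⟩ := hA4exp _ h
    have h1 := (pow_eq_pow_iff_modEq (x := a)).1 hl
    rw [hoa] at h1
    have hd : 4 ∣ 2 ^ (ν + 2) := ⟨2 ^ ν, by ring⟩
    have h4 : 2 ≡ 4 * l [MOD 4] := h1.of_dvd hd
    unfold Nat.ModEq at h4; omega
  have hprod : ∀ x y, x ∉ Y → y ∉ Y → x * y ∈ Y := by
    intro x y hx hy
    rw [hYmem] at hx hy ⊢
    obtain ⟨i, hi⟩ := hsq x
    obtain ⟨j, hj⟩ := hsq y
    rw [hi] at hx; rw [hj] at hy
    obtain ⟨r, hr⟩ := hodd i hx
    obtain ⟨s, hs⟩ := hodd j hy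
    obtain ⟨l, hl⟩ := hA4exp _ (hcA4 (comm_mem x⁻¹ y))
    rw [sq_mul_eq, hi, hj, hl, ← pow_add, ← pow_add, hr, hs]
    have : 2 * (2 * r + 1) + 4 * l + 2 * (2 * s + 1) = 4 * (r + l + s + 1) := by ring
    rw [this]; exact hmemA4 _
  have hYi : Y.index = 2 := by
    rw [Subgroup.index_eq_two_iff]
    refine ⟨a, fun b => ?_⟩
    by_cases hb : b ∈ Y
    · refine Or.inr ⟨hb, fun hba => haY ?_⟩
      have := Y.mul_mem (Y.inv_mem hb) hba
      rwa [inv_mul_cancel_left] at this
    · exact Or.inl ⟨hprod b a hb haY, hb⟩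
  have hYM : Y ∈ Mx X 2 := mem_Mx.2 hYi
  have hYcard : Nat.card Y = 2 ^ (ν + 2) := card_of_mem_Mx hcard hYM
  refine ⟨Y, hYM, ?_, ?_⟩
  · intro hYc
    obtain ⟨g, hg⟩ := hYc.exists_generator
    have hog : orderOf g = 2 ^ (ν + 2) := by
      rw [orderOf_eq_card_of_forall_mem_zpowers hg, hYcard]
    have hog' : orderOf (g : X) = 2 ^ (ν + 2) := by rw [← hog, Subgroup.orderOf_coe]
    obtain ⟨l, hl⟩ := hA4exp _ ((hYmem g.1).1 g.2)
    have h1 : (g : X) ^ (2 ^ (ν + 1)) = 1 := by
      have h2 : (g : X) ^ (2 ^ (ν + 1)) = ((g : X) ^ 2) ^ (2 ^ ν) := by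
        rw [← pow_mul, pow_succ, mul_comm]
      have h3 : 4 * l * 2 ^ ν = 2 ^ (ν + 2) * l := by ring
      rw [h2, hl, ← pow_mul, h3, pow_mul, ← hoa, pow_orderOf_eq_one, one_pow]
    have hdvd := orderOf_dvd_of_pow_eq_one h1
    rw [hog'] at hdvd
    have := (Nat.pow_dvd_pow_iff_le_right (by norm_num : 1 < 2)).1 hdvd
    omega
  · intro M hM hMY
    have hMi : M.index = 2 := mem_Mx.1 hM
    have hnle : ¬ M ≤ Y := fun hle =>
      hMY (eq_of_le_of_index_eq hle (by rw [hMi, hYi]) (by rw [hMi]; norm_num))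
    obtain ⟨x, hxM, hxY⟩ : ∃ x ∈ M, x ∉ Y := by
      by_contra hcon
      push Not at hcon
      exact hnle (fun x hx => hcon x hx)
    obtain ⟨i, hi⟩ := hsq x
    have hxY' : x ^ 2 ∉ A4 := fun h => hxY ((hYmem x).2 h)
    rw [hi] at hxY'
    obtain ⟨r, hr⟩ := hodd i hxY'
    have hco : (orderOf (a ^ 2)).Coprime i := by
      rw [hoa2, hr]; exact Nat.Coprime.pow_left _ (Nat.coprime_two_left.2 ⟨r, rfl⟩)
    have ho2 : orderOf (x ^ 2) = 2 ^ (ν + 1) := by
      rw [hi, pow_mul, hco.orderOf_pow, hoa2]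
    have hox := orderOf_of_pow_p (p := 2) hG (x := x) (k := ν + 1) (by omega) ho2
    have hMcard : Nat.card M = 2 ^ (ν + 2) := card_of_mem_Mx hcard hM
    exact isCyclic_of_orderOf_eq_card (⟨x, hxM⟩ : M) (by rw [Subgroup.orderOf_mk, hox, hMcard])

end two

section mc

theorem comm_bot_of_comm {Y : Type*} [Group Y] (h : ∀ x y : Y, x * y = y * x) :
    commutator Y = ⊥ := by
  rw [commutator_def, Subgroup.commutator_eq_bot_iff_le_centralizer]
  intro x _
  rw [Subgroup.mem_centralizer_iff]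
  intro y _
  exact h y x

theorem comm_bot_of_cyclic {Y : Type*} [Group Y] (h : IsCyclic Y) : commutator Y = ⊥ := by
  apply comm_bot_of_comm
  intro x y
  letI := h.commGroup
  exact mul_comm x y

/-- the commutator subgroup of a `2`-group of order `≥ 4` has index `≥ 4` -/
theorem index_comm_ne {Y : Type u} [Group Y] [Finite Y] {j : ℕ} (hY : Nat.card Y = 2 ^ (j + 2)) :
    (commutator Y).index ≠ 1 ∧ (commutator Y).index ≠ 2 := by
  haveI : Fact (Nat.Prime 2) := ⟨Nat.prime_two⟩
  have key : (commutator Y).index ≤ 2 → False := by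
    intro hle
    have hpos : 0 < (commutator Y).index := Nat.pos_of_ne_zero Subgroup.index_ne_zero_of_finite
    have hc : Nat.card (Abelianization Y) = (commutator Y).index := by
      rw [Subgroup.index_eq_card]; rfl
    have hcyc : IsCyclic (Abelianization Y) := by
      rcases Nat.lt_or_ge (commutator Y).index 2 with h | h
      · have h1 : Nat.card (Abelianization Y) = 1 := by omega
        haveI : Subsingleton (Abelianization Y) :=
          (Nat.card_eq_one_iff_unique.1 h1).1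
        infer_instance
      · exact isCyclic_of_prime_card (p := 2) (by omega)
    have hcomm := Cfsg.Agent.Lib.Lead.MaxClass.comm_of_cyclic_abelianization (j + 2) Y hY hcyc
    rw [comm_bot_of_comm hcomm, Subgroup.index_bot, hY] at hle
    have h1 : (2:ℕ) ^ (j + 2) = 2 ^ j * 4 := by ring
    have h2 : 0 < 2 ^ j := by positivity
    omega
  exact ⟨fun h => key (by omega), fun h => key (by omega)⟩

open Classical in
/-- structure of the maximal subgroups of a `2`-group of maximal class -/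
theorem mc_structure {X : Type u} [Group X] [Finite X] {ν : ℕ} (hcard : Nat.card X = 2 ^ (ν + 3))
    (hidx : (commutator X).index = 4) :
    (Mx X 2).card = 3 ∧ ∃ A ∈ Mx X 2, IsCyclic ↥A ∧
      ((∀ M ∈ Mx X 2, IsCyclic ↥M) ∨
       (∀ M ∈ Mx X 2, M ≠ A → ¬ IsCyclic ↥M ∧ (commutator ↥M).index = 4)) := by
  haveI : Fact (Nat.Prime 2) := ⟨Nat.prime_two⟩
  have hG : IsPGroup 2 X := IsPGroup.of_card hcard
  have hnc : ¬ IsCyclic X := by
    intro hc
    rw [comm_bot_of_cyclic hc, Subgroup.index_bot, hcard] at hidx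
    have h1 : (2:ℕ) ^ (ν + 3) = 2 ^ ν * 8 := by ring
    have h2 : 0 < 2 ^ ν := by positivity
    omega
  -- all maximal subgroups contain the commutator subgroup
  have hsqM : ∀ M ∈ Mx X 2, ∀ x : X, x ^ 2 ∈ M := by
    intro M hM x
    have hMi := mem_Mx.1 hM
    haveI : M.Normal := normal_of_index hG hMi
    have := Subgroup.pow_index_mem M x
    rwa [hMi] at this
  have hcard3 : (Mx X 2).card = 3 := by
    have h1 : (Mx X 2).card = aCnt 2 (commutator X) := by
      unfold aCnt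
      rw [Finset.filter_true_of_mem (fun M hM => comm_le_of_sq M (hsqM M hM))]
    have h2 : aCnt 2 (commutator X) ≤ 2 + 1 := aCnt_le hG (by rw [hidx])
    have h3 := card_Mx_modEq (p := 2) hcard hnc
    unfold Nat.ModEq at h3
    omega
  refine ⟨hcard3, ?_⟩
  obtain ⟨a, b, hoa, hb, hai, hcases⟩ :=
    Cfsg.Agent.Lib.Lead.Taussky.structure_of_index_four (ν + 3) (by omega) hcard hidx
  rw [show ν + 3 - 1 = ν + 2 from rfl] at hoa
  rw [show ν + 3 - 2 = ν + 1 from rfl] at hcases
  have hAM : Subgroup.zpowers a ∈ Mx X 2 := mem_Mx.2 hai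
  have hapow : a ^ (2 ^ (ν + 2)) = 1 := by rw [← hoa]; exact pow_orderOf_eq_one a
  -- `b` inverts `a ^ 2`
  have hb2 : b * a ^ 2 * b⁻¹ = (a ^ 2)⁻¹ := by
    have h1 : b * a ^ 2 * b⁻¹ = (b * a * b⁻¹) ^ 2 := by
      rw [pow_two, pow_two]; group
    rw [h1]
    rcases hcases with ⟨-, h⟩ | ⟨-, h⟩ | ⟨-, -, h⟩
    · rw [h, inv_pow]
    · rw [h, inv_pow]
    · rw [h, ← pow_mul]
      have hle : 1 ≤ 2 ^ (ν + 1) := Nat.one_le_two_pow
      have h2 : a ^ 2 * a ^ ((2 ^ (ν + 1) - 1) * 2) = 1 := by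
        rw [← pow_add]
        have : 2 + (2 ^ (ν + 1) - 1) * 2 = 2 ^ (ν + 2) := by
          have : (2:ℕ) ^ (ν + 2) = 2 ^ (ν + 1) * 2 := by ring
          omega
        rw [this, hapow]
      exact (inv_eq_of_mul_eq_one_right h2).symm
  have hoa4 : orderOf (a ^ 4) = 2 ^ ν := by
    have := orderOf_pow_pow (p := 2) (x := a) (a := ν) (b := 2) (by rw [hoa])
    simpa using this
  -- analysis of a maximal subgroup different from `⟨a⟩`
  have hkey : ∀ M ∈ Mx X 2, M ≠ Subgroup.zpowers a →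
      (commutator ↥M).index = 4 ∧ ∃ h ∈ M, h ∉ Subgroup.zpowers a ∧
        ∃ c ∈ Subgroup.zpowers a, h = b * c := by
    intro M hM hMA
    have hMi : M.index = 2 := mem_Mx.1 hM
    have hMcard : Nat.card M = 2 ^ (ν + 2) := card_of_mem_Mx hcard hM
    have hnle : ¬ M ≤ Subgroup.zpowers a := fun hle =>
      hMA (eq_of_le_of_index_eq hle (by rw [hMi, hai]) (by rw [hMi]; norm_num))
    obtain ⟨h, hhM, hhA⟩ : ∃ h ∈ M, h ∉ Subgroup.zpowers a := by
      by_contra hcon
      push Not at hcon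
      exact hnle (fun x hx => hcon x hx)
    have hcA : b⁻¹ * h ∈ Subgroup.zpowers a := by
      rw [Subgroup.mul_mem_iff_of_index_two hai, inv_mem_iff]
      exact ⟨fun h' => absurd h' hb, fun h' => absurd h' hhA⟩
    have hh : h = b * (b⁻¹ * h) := by group
    refine ⟨?_, h, hhM, hhA, b⁻¹ * h, hcA, hh⟩
    -- `h` inverts `a ^ 2`
    obtain ⟨k, hk⟩ := Subgroup.mem_zpowers_iff.1 hcA
    have hcomm : Commute (b⁻¹ * h) (a ^ 2) := by
      rw [← hk]
      exact ((Commute.refl a).zpow_left k).pow_right 2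
    have hh2 : h * a ^ 2 * h⁻¹ = (a ^ 2)⁻¹ := by
      have h1 : h * a ^ 2 * h⁻¹ = b * ((b⁻¹ * h) * a ^ 2 * (b⁻¹ * h)⁻¹) * b⁻¹ := by group
      rw [h1, hcomm.eq, mul_inv_cancel_right, hb2]
    have ha2M : a ^ 2 ∈ M := hsqM M hM a
    have hcomm4 : ⁅a ^ 2, h⁆ = a ^ 4 := by
      have h1 : ⁅a ^ 2, h⁆ = a ^ 2 * (h * a ^ 2 * h⁻¹)⁻¹ := by
        rw [commutatorElement_def]; group
      rw [h1, hh2, inv_inv, ← pow_add]
    have hmem : a ^ 4 ∈ (commutator ↥M).map M.subtype := by
      refine ⟨⁅(⟨a ^ 2, ha2M⟩ : M), (⟨h, hhM⟩ : M)⁆, comm_mem _ _, ?_⟩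
      rw [← hcomm4]
      rfl
    have hle4 : Subgroup.zpowers (a ^ 4) ≤ (commutator ↥M).map M.subtype := by
      rw [Subgroup.zpowers_le]; exact hmem
    have hc1 : 2 ^ ν ≤ Nat.card (commutator ↥M) := by
      have := Subgroup.card_le_of_le hle4
      rwa [Nat.card_zpowers, hoa4,
        Subgroup.card_map_of_injective (Subgroup.subtype_injective M)] at this
    have hc2 := Subgroup.card_mul_index (commutator ↥M)
    rw [hMcard] at hc2
    obtain ⟨j, hj1, hj2⟩ := (Nat.dvd_prime_pow Nat.prime_two).1 (Dvd.intro _ hc2)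
    rw [hj2] at hc1 hc2
    have hjν : ν ≤ j := (Nat.pow_le_pow_iff_right (by norm_num)).1 hc1
    obtain ⟨hn1, hn2⟩ := index_comm_ne hMcard
    have hj' : j = ν ∨ j = ν + 1 ∨ j = ν + 2 := by omega
    have hpos : 0 < 2 ^ ν := by positivity
    rcases hj' with h' | h' | h'
    · rw [h'] at hc2
      have h3 : (2:ℕ) ^ (ν + 2) = 2 ^ ν * 4 := by ring
      rw [h3] at hc2
      exact Nat.eq_of_mul_eq_mul_left hpos hc2
    · exfalso; apply hn2
      rw [h'] at hc2
      have h3 : (2:ℕ) ^ (ν + 2) = 2 ^ (ν + 1) * 2 := by ring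
      rw [h3] at hc2
      exact Nat.eq_of_mul_eq_mul_left (show 0 < 2 ^ (ν + 1) by positivity) hc2
    · exfalso; apply hn1
      rw [h'] at hc2
      exact Nat.eq_of_mul_eq_mul_left (show 0 < 2 ^ (ν + 2) by positivity)
        (by rw [hc2, mul_one])
  refine ⟨Subgroup.zpowers a, hAM, inferInstance, ?_⟩
  by_cases hν : ν = 0
  · subst hν
    have hoa' : orderOf a = 4 := by rw [hoa]; norm_num
    rcases hcases with ⟨hbb, hba⟩ | ⟨hbb, hba⟩ | ⟨h4, -, -⟩
    · -- dihedral of order 8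
      right
      intro M hM hMA
      obtain ⟨hi4, -⟩ := hkey M hM hMA
      refine ⟨?_, hi4⟩
      intro hMc
      have hMcard : Nat.card M = 2 ^ (0 + 2) := card_of_mem_Mx hcard hM
      obtain ⟨g, hg⟩ := hMc.exists_generator
      have hog : orderOf (g : X) = 4 := by
        rw [Subgroup.orderOf_coe, orderOf_eq_card_of_forall_mem_zpowers hg, hMcard]; norm_num
      by_cases hgA : (g : X) ∈ Subgroup.zpowers a
      · apply hMA
        apply eq_of_le_of_index_eq _ (by rw [mem_Mx.1 hM, hai]) (by rw [mem_Mx.1 hM]; norm_num)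
        intro x hx
        obtain ⟨k, hk⟩ := Subgroup.mem_zpowers_iff.1 (hg ⟨x, hx⟩)
        have : (g : X) ^ k = x := by
          have := congrArg Subtype.val hk
          simpa using this
        rw [← this]
        exact Subgroup.zpow_mem _ hgA k
      · -- `g = b c` squares to one
        have hcA : b⁻¹ * (g : X) ∈ Subgroup.zpowers a := by
          rw [Subgroup.mul_mem_iff_of_index_two hai, inv_mem_iff]
          exact ⟨fun h' => absurd h' hb, fun h' => absurd h' hgA⟩
        obtain ⟨k, hk⟩ := Subgroup.mem_zpowers_iff.1 hcA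
        have hconj : b * (b⁻¹ * (g : X)) * b⁻¹ = (b⁻¹ * (g : X))⁻¹ := by
          rw [← hk]
          have h1 : b * a ^ k * b⁻¹ = (b * a * b⁻¹) ^ k := by
            have := map_zpow (MulAut.conj b) a k
            simpa [MulAut.conj_apply] using this
          rw [h1, hba, inv_zpow]
        have hsq1 : (g : X) ^ 2 = 1 := by
          have h1 : (g : X) ^ 2 = (b * (b⁻¹ * (g : X)) * b⁻¹) * b ^ 2 * (b⁻¹ * (g : X)) := by
            rw [pow_two, pow_two]; group
          rw [h1, hconj, hbb, mul_one, inv_mul_cancel]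
        have := orderOf_dvd_of_pow_eq_one hsq1
        rw [hog] at this
        omega
    · -- quaternion of order 8
      left
      intro M hM
      by_cases hMA : M = Subgroup.zpowers a
      · rw [hMA]; infer_instance
      · obtain ⟨-, h, hhM, hhA, c, hcA, hh⟩ := hkey M hM hMA
        have hMcard : Nat.card M = 2 ^ (0 + 2) := card_of_mem_Mx hcard hM
        obtain ⟨k, hk⟩ := Subgroup.mem_zpowers_iff.1 hcA
        have hconj : b * c * b⁻¹ = c⁻¹ := by
          rw [← hk]
          have h1 : b * a ^ k * b⁻¹ = (b * a * b⁻¹) ^ k := by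
            have := map_zpow (MulAut.conj b) a k
            simpa [MulAut.conj_apply] using this
          rw [h1, hba, inv_zpow]
        have hcc : Commute c (a ^ 2) := by
          rw [← hk]
          exact ((Commute.refl a).zpow_left k).pow_right 2
        have hsq : h ^ 2 = a ^ 2 := by
          have h1 : h ^ 2 = (b * c * b⁻¹) * b ^ 2 * c := by
            rw [hh, pow_two, pow_two]; group
          have hbb' : b ^ 2 = a ^ 2 := by simpa using hbb
          rw [h1, hconj, hbb', mul_assoc, ← hcc.eq, ← mul_assoc, inv_mul_cancel, one_mul]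
        have ho2 : orderOf (h ^ 2) = 2 ^ 1 := by
          rw [hsq]
          have := orderOf_pow_pow (p := 2) (x := a) (a := 1) (b := 1) (by rw [hoa']; norm_num)
          simpa using this
        have hoh := orderOf_of_pow_p (p := 2) hG (x := h) (k := 1) (le_refl 1) ho2
        exact isCyclic_of_orderOf_eq_card (⟨h, hhM⟩ : M)
          (by rw [Subgroup.orderOf_mk, hoh, hMcard])
    · omega
  · right
    intro M hM hMA
    obtain ⟨hi4, -⟩ := hkey M hM hMA
    refine ⟨?_, hi4⟩
    intro hMc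
    have hMcard : Nat.card M = 2 ^ (ν + 2) := card_of_mem_Mx hcard hM
    rw [comm_bot_of_cyclic hMc, Subgroup.index_bot, hMcard] at hi4
    have h1 : (2:ℕ) ^ (ν + 2) = 2 ^ ν * 4 := by ring
    have h2 : 2 ≤ 2 ^ ν := by
      calc 2 = 2 ^ 1 := by norm_num
        _ ≤ 2 ^ ν := Nat.pow_le_pow_right (by norm_num) (by omega)
    omega

end mc

section main

open Classical in
/-- the counts of subgroups in noncyclic `2`-groups modulo `4` -/
theorem two_main : ∀ (μ : ℕ) (X : Type u) [Group X] [Finite X], Nat.card X = 2 ^ μ →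
    ¬ IsCyclic X → ∀ k, 1 ≤ k → k + 1 < μ →
      ((commutator X).index = 4 → sn X (2 ^ k) ≡ 1 [MOD 4]) ∧
      ((commutator X).index ≠ 4 → sn X (2 ^ k) ≡ 3 [MOD 4]) := by
  haveI : Fact (Nat.Prime 2) := ⟨Nat.prime_two⟩
  intro μ
  induction μ with
  | zero => intro X _ _ _ _ k _ hk; omega
  | succ μ ih =>
    intro X _ _ hcard hnc k hk1 hk2
    obtain ⟨m', rfl⟩ : ∃ m', μ = m' + 2 := ⟨μ - 2, by omega⟩
    have hG : IsPGroup 2 X := IsPGroup.of_card hcard
    have hHE : ∑ M ∈ Mx X 2, sn ↥M (2 ^ k) ≡ sn X (2 ^ k) + 2 [MOD 4] :=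
      hall_enum (p := 2) hcard hnc (k := k) (by omega)
    have hMcard : ∀ M ∈ Mx X 2, Nat.card ↥M = 2 ^ (m' + 2) :=
      fun M hM => card_of_mem_Mx hcard hM
    have hcardMx : (Mx X 2).card ≡ 3 [MOD 4] := card_Mx_modEq (p := 2) hcard hnc
    have hval_cyc : ∀ j, j ≤ m' + 2 → ∀ M ∈ Mx X 2, IsCyclic ↥M → sn ↥M (2 ^ j) = 1 := by
      intro j hj M hM hc
      haveI := hc
      exact sn_cyclic (p := 2) (by rw [hMcard M hM]; exact pow_dvd_pow 2 hj)
    have hval_top : k + 1 = m' + 2 → ∀ M ∈ Mx X 2, ¬ IsCyclic ↥M →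
        sn ↥M (2 ^ k) ≡ 3 [MOD 4] := by
      intro hk M hM hnc'
      have hc : Nat.card ↥M = 2 ^ (k + 1) := by rw [hMcard M hM, hk]
      exact sn_top (p := 2) hc hnc'
    constructor
    · -- maximal class
      intro hidx
      obtain ⟨h3, A, hA, hAc, halt⟩ := mc_structure (ν := m') hcard hidx
      have hcard2 : ((Mx X 2).erase A).card = 2 := by
        rw [Finset.card_erase_of_mem hA, h3]
      have h2 : ∑ M ∈ (Mx X 2).erase A, sn ↥M (2 ^ k) ≡ 2 [MOD 4] := by
        rcases halt with hall | hall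
        · have e : ∑ M ∈ (Mx X 2).erase A, sn ↥M (2 ^ k) = 2 := by
            rw [Finset.sum_eq_card_nsmul (b := 1) (fun M hM =>
              hval_cyc k (by omega) M (mem_erase.1 hM).2 (hall M (mem_erase.1 hM).2)),
              hcard2, smul_eq_mul]
          rw [e]
        · rcases Nat.lt_or_ge (k + 1) (m' + 2) with hlt | hge
          · have e : ∑ M ∈ (Mx X 2).erase A, sn ↥M (2 ^ k) ≡
                ∑ _M ∈ (Mx X 2).erase A, 1 [MOD 4] := by
              apply Nat.ModEq.sum
              intro M hM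
              rw [mem_erase] at hM
              obtain ⟨hn, hi⟩ := hall M hM.2 hM.1
              exact (ih ↥M (hMcard M hM.2) hn k hk1 hlt).1 hi
            rw [Finset.sum_const, hcard2, smul_eq_mul] at e
            exact e
          · have e : ∑ M ∈ (Mx X 2).erase A, sn ↥M (2 ^ k) ≡
                ∑ _M ∈ (Mx X 2).erase A, 3 [MOD 4] := by
              apply Nat.ModEq.sum
              intro M hM
              rw [mem_erase] at hM
              obtain ⟨hn, hi⟩ := hall M hM.2 hM.1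
              exact hval_top (by omega) M hM.2 hn
            rw [Finset.sum_const, hcard2, smul_eq_mul] at e
            exact e.trans (by decide)
      have hsum : ∑ M ∈ Mx X 2, sn ↥M (2 ^ k) ≡ 1 + 2 [MOD 4] := by
        rw [← Finset.add_sum_erase _ _ hA, hval_cyc k (by omega) A hA hAc]
        exact Nat.ModEq.add_left 1 h2
      exact Nat.ModEq.add_right_cancel' 2 (hHE.symm.trans hsum)
    · intro hidx
      rcases Nat.lt_or_ge (k + 1) (m' + 2) with hlt | hge
      · -- compare with `k = 1`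
        have hHE1 : ∑ M ∈ Mx X 2, sn ↥M (2 ^ 1) ≡ sn X (2 ^ 1) + 2 [MOD 4] :=
          hall_enum (p := 2) hcard hnc (k := 1) (by omega)
        have hcmp : ∑ M ∈ Mx X 2, sn ↥M (2 ^ k) ≡ ∑ M ∈ Mx X 2, sn ↥M (2 ^ 1) [MOD 4] := by
          apply Nat.ModEq.sum
          intro M hM
          by_cases hc : IsCyclic ↥M
          · rw [hval_cyc k (by omega) M hM hc, hval_cyc 1 (by omega) M hM hc]
          · have h1 := ih ↥M (hMcard M hM) hc k hk1 hlt
            have h2 := ih ↥M (hMcard M hM) hc 1 (le_refl 1) (by omega)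
            by_cases hi : (commutator ↥M).index = 4
            · exact (h1.1 hi).trans (h2.1 hi).symm
            · exact (h1.2 hi).trans (h2.2 hi).symm
        have h3 : sn X (2 ^ k) + 2 ≡ sn X (2 ^ 1) + 2 [MOD 4] :=
          (hHE.symm.trans hcmp).trans hHE1
        have h4 : sn X (2 ^ k) ≡ sn X (2 ^ 1) [MOD 4] := Nat.ModEq.add_right_cancel' 2 h3
        refine h4.trans ?_
        have hodd : sn X (2 ^ 1) ≡ 1 [MOD 2] :=
          Cfsg.Agent.S3975.result (G := X) 2 1 Nat.prime_two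
            (by rw [hcard]; exact pow_dvd_pow 2 (by omega))
        rw [pow_one, sn_two_eq] at hodd ⊢
        have hne : Nat.card {x : X // orderOf x = 2} % 4 ≠ 1 := by
          intro h
          rcases Cfsg.Agent.S4477.result hG h with h' | h'
          · exact hnc h'
          · exact hidx h'
        unfold Nat.ModEq at hodd ⊢
        omega
      · -- `k + 1 = m' + 2`
        have hk : k + 1 = m' + 2 := by omega
        have hsum : ∑ M ∈ Mx X 2, sn ↥M (2 ^ k) ≡ 1 [MOD 4] := by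
          by_cases hall : ∀ M ∈ Mx X 2, ¬ IsCyclic ↥M
          · have e : ∑ M ∈ Mx X 2, sn ↥M (2 ^ k) ≡ ∑ _M ∈ Mx X 2, 3 [MOD 4] := by
              apply Nat.ModEq.sum
              intro M hM
              exact hval_top hk M hM (hall M hM)
            rw [Finset.sum_const, smul_eq_mul] at e
            unfold Nat.ModEq at hcardMx e ⊢
            omega
          · push Not at hall
            obtain ⟨C, hC, hCc⟩ := hall
            obtain ⟨K, hK, hKnc, hKo⟩ :=
              exists_noncyclic_max_two (μ := m' + 3) (by omega) hcard hnc hidx hC hCc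
            rw [← Finset.add_sum_erase _ _ hK]
            have h1 : ∑ M ∈ (Mx X 2).erase K, sn ↥M (2 ^ k) = ((Mx X 2).card - 1) := by
              rw [Finset.sum_eq_card_nsmul (b := 1) (fun M hM =>
                hval_cyc k (by omega) M (mem_erase.1 hM).2
                  (hKo M (mem_erase.1 hM).2 (mem_erase.1 hM).1)),
                Finset.card_erase_of_mem hK, smul_eq_mul, mul_one]
            rw [h1]
            have h2 := hval_top hk K hK hKnc
            have hpos : 1 ≤ (Mx X 2).card := Finset.card_pos.2 ⟨K, hK⟩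
            unfold Nat.ModEq at hcardMx h2 ⊢
            omega
        have h5 : sn X (2 ^ k) + 2 ≡ 3 + 2 [MOD 4] := hHE.symm.trans (hsum.trans (by decide))
        exact Nat.ModEq.add_right_cancel' 2 h5

/-- **Kulakoff's theorem for `p = 2`**: in a noncyclic `2`-group of order `2 ^ m` which is not of
maximal class the number of subgroups of order `2 ^ k`, `1 ≤ k < m`, is `≡ 3 (mod 4)`. -/
theorem kulakoff_two (m : ℕ) (X : Type u) [Group X] [Finite X] (hcard : Nat.card X = 2 ^ m)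
    (hnc : ¬ IsCyclic X) (hcl : Group.nilpotencyClass X ≠ m - 1) (k : ℕ) (hk1 : 1 ≤ k)
    (hk2 : k < m) : sn X (2 ^ k) ≡ 3 [MOD 4] := by
  haveI : Fact (Nat.Prime 2) := ⟨Nat.prime_two⟩
  obtain ⟨m', rfl⟩ : ∃ m', m = m' + 2 := ⟨m - 2, by omega⟩
  have hidx : (commutator X).index ≠ 4 := by
    intro h
    apply hcl
    rw [(Cfsg.Agent.Lib.Lead.MaxClass.maxClass_iff_index m' X hcard).2 h]
    rfl
  rcases Nat.lt_or_ge (k + 1) (m' + 2) with hlt | hge
  · exact (two_main (m' + 2) X hcard hnc k hk1 hlt).2 hidx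
  · have hk : m' + 2 = k + 1 := by omega
    rw [hk] at hcard
    exact sn_top (p := 2) hcard hnc

end main

end Cfsg.Agent.Lib.Helper23.KulH
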