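import Mathlib
import Cfsg.Prelude.Def_CaseTheorems
import Cfsg.Prelude.Def_OddOrderLocal
import Cfsg.Agent.Lib.Helper17.SecRank2
import Cfsg.Agent.Lib.Helper14.OmegaCount

/-! Sectional rank: sections given by subgroups `K ≤ H`, quotients; metacyclic criteria (helper23). -/

set_option autoImplicit false
set_option maxHeartbeats 400000

namespace Cfsg.Agent.Lib.Helper23.MetaA

universe u

open scoped commutatorElement

/-- an elementary abelian section `H / K` of a group of sectional `p`-rank at most `k` has order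
at most `p ^ k`. -/
theorem section_card_le {G : Type*} [Group G] [Finite G] {p k : ℕ}
    (hr : Cfsg.SectionalPRankLE p k G) (H K : Subgroup G) (hKH : K ≤ H)
    (hn : ∀ h ∈ H, ∀ x ∈ K, h * x * h⁻¹ ∈ K)
    (hpow : ∀ x ∈ H, x ^ p ∈ K) (hcomm : ∀ x ∈ H, ∀ y ∈ H, x * y * x⁻¹ * y⁻¹ ∈ K) :
    Nat.card H ≤ p ^ k * Nat.card K := by
  have hN : (K.subgroupOf H).Normal := by
    refine ⟨fun n hn' g => ?_⟩
    rw [Subgroup.mem_subgroupOf] at hn' ⊢
    have := hn g.1 g.2 n.1 hn'
    simpa using this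
  have h1 := hr H (K.subgroupOf H) (⊤ : Subgroup (↥H ⧸ K.subgroupOf H)) ?_ ?_
  · have h2 : Nat.card (⊤ : Subgroup (↥H ⧸ K.subgroupOf H)) = (K.subgroupOf H).index := by
      rw [Subgroup.card_top, Subgroup.index_eq_card]
    rw [h2] at h1
    have h3 := Subgroup.card_mul_index (K.subgroupOf H)
    have h4 : Nat.card (K.subgroupOf H) = Nat.card K :=
      Nat.card_congr (Subgroup.subgroupOfEquivOfLe hKH).toEquiv
    rw [h4] at h3
    calc Nat.card H = Nat.card K * (K.subgroupOf H).index := h3.symm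
      _ ≤ Nat.card K * p ^ k := Nat.mul_le_mul_left _ h1
      _ = p ^ k * Nat.card K := Nat.mul_comm _ _
  · refine ⟨⟨?_⟩⟩
    rintro ⟨a, -⟩ ⟨b, -⟩
    apply Subtype.ext
    change a * b = b * a
    obtain ⟨x, rfl⟩ := QuotientGroup.mk_surjective a
    obtain ⟨y, rfl⟩ := QuotientGroup.mk_surjective b
    rw [← QuotientGroup.mk_mul, ← QuotientGroup.mk_mul, QuotientGroup.eq, Subgroup.mem_subgroupOf]
    have := hcomm _ (H.inv_mem y.2) _ (H.inv_mem x.2)
    simpa [mul_assoc] using this
  · intro a _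
    obtain ⟨x, rfl⟩ := QuotientGroup.mk_surjective a
    rw [← QuotientGroup.mk_pow, QuotientGroup.eq_one_iff, Subgroup.mem_subgroupOf]
    simpa using hpow x.1 x.2

/-- sectional rank passes to quotients. -/
theorem sectionalPRankLE_quotient {G : Type*} [Group G] {p k : ℕ}
    (hr : Cfsg.SectionalPRankLE p k G) (Z : Subgroup G) [Z.Normal] :
    Cfsg.SectionalPRankLE p k (G ⧸ Z) := by
  intro H N hN
  let f : ↥(H.comap (QuotientGroup.mk' Z)) →* ↥H := (QuotientGroup.mk' Z).subgroupComap H
  have hf : Function.Surjective f :=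
    MonoidHom.subgroupComap_surjective_of_surjective _ _ (QuotientGroup.mk'_surjective Z)
  let φ : ↥(H.comap (QuotientGroup.mk' Z)) →* ↥H ⧸ N := (QuotientGroup.mk' N).comp f
  have hφ : Function.Surjective φ := (QuotientGroup.mk'_surjective N).comp hf
  have h1 := hr (H.comap (QuotientGroup.mk' Z)) φ.ker
  exact Cfsg.Agent.Lib.Helper17.SR2.pRankLE_of_mulEquiv
    (QuotientGroup.quotientKerEquivOfSurjective φ hφ).symm h1

/-- a normal cyclic subgroup with a cyclic supplement makes the group metacyclic. -/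
theorem metacyclic_of_zpowers_sup {G : Type u} [Group G] (g x : G)
    (hN : (Subgroup.zpowers g).Normal) (h : Subgroup.zpowers x ⊔ Subgroup.zpowers g = ⊤) :
    Cfsg.IsMetacyclic G := by
  refine ⟨Subgroup.zpowers g, hN, inferInstance, ?_⟩
  refine ⟨⟨QuotientGroup.mk x, fun q => ?_⟩⟩
  obtain ⟨y, rfl⟩ := QuotientGroup.mk_surjective q
  have hy : y ∈ Subgroup.zpowers x ⊔ Subgroup.zpowers g := by rw [h]; trivial
  have hset := Subgroup.mul_normal (Subgroup.zpowers x) (Subgroup.zpowers g)
  have hy' : y ∈ ((Subgroup.zpowers x ⊔ Subgroup.zpowers g : Subgroup G) : Set G) := hy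
  rw [hset] at hy'
  obtain ⟨u, hu, v, hv, rfl⟩ := Set.mem_mul.mp hy'
  obtain ⟨k, rfl⟩ := Subgroup.mem_zpowers_iff.mp hu
  refine ⟨k, ?_⟩
  change (QuotientGroup.mk x : G ⧸ Subgroup.zpowers g) ^ k = _
  rw [← QuotientGroup.mk_zpow, QuotientGroup.eq]
  have : (x ^ k)⁻¹ * (x ^ k * v) = v := by group
  rw [this]
  exact hv

theorem metacyclic_of_isCyclic {G : Type u} [Group G] (h : IsCyclic G) : Cfsg.IsMetacyclic G := by
  refine ⟨⊥, inferInstance, inferInstance, ?_⟩
  exact isCyclic_of_surjective (QuotientGroup.mk' (⊥ : Subgroup G)) (QuotientGroup.mk'_surjective _)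

/-- the Frattini quotient of a noncyclic `2`-group of sectional rank at most 2 has order 4. -/
theorem index_frattini_eq_four {G : Type*} [Group G] [Finite G] (h2 : IsPGroup 2 G)
    (hr : Cfsg.SectionalPRankLE 2 2 G) (hnc : ¬ IsCyclic G) : (frattini G).index = 2 ^ 2 := by
  have : Fact (Nat.Prime 2) := ⟨Nat.prime_two⟩
  have hdvd := Cfsg.Agent.Lib.Helper14.sq_dvd_index_frattini_of_not_isCyclic h2 hnc
  have hle := section_card_le hr ⊤ (frattini G) le_top
    (fun h _ x hx => (inferInstance : (frattini G).Normal).conj_mem x hx h)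
    (fun x _ => Cfsg.Agent.Lib.Helper14.pow_mem_frattini_of_isPGroup' h2 x)
    (fun x _ y _ => by
      have h1 := Cfsg.Agent.Lib.Helper14.commutator_le_frattini_of_isPGroup' h2
      apply h1
      have : x * y * x⁻¹ * y⁻¹ = ⁅x, y⁆ := (commutatorElement_def x y).symm
      rw [this]
      exact Subgroup.commutator_mem_commutator (Subgroup.mem_top x) (Subgroup.mem_top y))
  rw [Subgroup.card_top] at hle
  have h3 := Subgroup.card_mul_index (frattini G)
  have hpos : 0 < Nat.card (frattini G) := Nat.card_pos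
  have h4 : (frattini G).index ≤ 2 ^ 2 := by
    by_contra hlt
    push Not at hlt
    have : Nat.card (frattini G) * (frattini G).index > Nat.card (frattini G) * 2 ^ 2 :=
      Nat.mul_lt_mul_of_pos_left hlt hpos
    rw [h3] at this
    have h5 : 2 ^ 2 * Nat.card (frattini G) = Nat.card (frattini G) * 2 ^ 2 := Nat.mul_comm _ _
    omega
  have h6 : 0 < (frattini G).index := Nat.pos_of_ne_zero (Subgroup.index_ne_zero_of_finite)
  exact le_antisymm h4 (Nat.le_of_dvd h6 hdvd)

/-- a proper inclusion of subgroups of a finite group at least doubles the order. -/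
theorem two_mul_card_le_of_lt {G : Type*} [Group G] [Finite G] {K H : Subgroup G} (h : K < H) :
    2 * Nat.card K ≤ Nat.card H := by
  obtain ⟨m, hm⟩ := Subgroup.card_dvd_of_le h.le
  have hpos : 0 < Nat.card H := Nat.card_pos
  have hm0 : m ≠ 0 := by rintro rfl; omega
  have hm1 : m ≠ 1 := by
    rintro rfl
    rw [mul_one] at hm
    exact h.ne (Subgroup.eq_of_le_of_card_ge h.le hm.le)
  have : 2 ≤ m := by omega
  calc 2 * Nat.card K ≤ m * Nat.card K := Nat.mul_le_mul_right _ this
    _ = Nat.card H := by rw [hm, Nat.mul_comm]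

end Cfsg.Agent.Lib.Helper23.MetaA
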