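import Mathlib
import Cfsg.Agent.Lib.Helper23.MetaA
import Cfsg.Agent.Lib.Helper16.Frattini2
import Cfsg.Agent.Lib.Helper17.TwoGenSylow
import Cfsg.Agent.Lib.Helper14.FrattiniQuot

/-! 2-groups of sectional rank at most 2 whose derived subgroup has order 2 are metacyclic
(helper23). -/

set_option autoImplicit false
set_option maxHeartbeats 400000

namespace Cfsg.Agent.Lib.Helper23.MetaB

universe u

open scoped commutatorElement
open Subgroup

variable {G : Type u} [Group G]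

/-- class two, with all commutators in the group generated by the central involution `z`. -/
structure C2 (z : G) : Prop where
  sq : z ^ 2 = 1
  ne : z ≠ 1
  central : ∀ g : G, Commute z g
  comm : ∀ x y : G, x * y * x⁻¹ * y⁻¹ ∈ zpowers z

namespace C2

variable {z : G} (h : C2 z)
include h

theorem mem_cases {u : G} (hu : u ∈ zpowers z) : u = 1 ∨ u = z := by
  obtain ⟨k, rfl⟩ := mem_zpowers_iff.mp hu
  have hzz : z * z = 1 := by rw [← pow_two]; exact h.sq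
  rcases Int.even_or_odd' k with ⟨j, rfl | rfl⟩
  · left
    rw [zpow_mul, zpow_two, hzz, one_zpow]
  · right
    rw [zpow_add, zpow_one, zpow_mul, zpow_two, hzz, one_zpow, one_mul]

theorem cen {u : G} (hu : u ∈ zpowers z) (g : G) : Commute u g := by
  obtain ⟨k, rfl⟩ := mem_zpowers_iff.mp hu
  exact (h.central g).zpow_left k

theorem sq_one {u : G} (hu : u ∈ zpowers z) : u ^ 2 = 1 := by
  rcases h.mem_cases hu with rfl | rfl
  · simp
  · exact h.sq

theorem sq_central (x y : G) : Commute (x ^ 2) y := by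
  have hc := h.comm y x
  set c := y * x * y⁻¹ * x⁻¹ with hcdef
  have h1 : y * x * y⁻¹ = c * x := by rw [hcdef]; group
  have h2 : y * x ^ 2 * y⁻¹ = x ^ 2 := by
    rw [← conj_pow, h1, (h.cen hc x).mul_pow, h.sq_one hc, one_mul]
  have h3 : y * x ^ 2 = x ^ 2 * y := by
    calc y * x ^ 2 = y * x ^ 2 * y⁻¹ * y := by group
      _ = x ^ 2 * y := by rw [h2]
  exact h3.symm

theorem mul_sq (x y : G) : ∃ c ∈ zpowers z, (x * y) ^ 2 = c * (x ^ 2 * y ^ 2) := by
  have hc := h.comm y x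
  set c := y * x * y⁻¹ * x⁻¹ with hcdef
  refine ⟨c, hc, ?_⟩
  have h1 : (x * y) ^ 2 = x * c * x * y ^ 2 := by rw [hcdef, pow_two, pow_two]; group
  rw [h1, (h.cen hc x).eq.symm]
  simp only [pow_two, mul_assoc]

theorem pow4 (x y : G) : (x * y) ^ 4 = x ^ 4 * y ^ 4 := by
  obtain ⟨c, hc, hxy⟩ := h.mul_sq x y
  have h4 : ∀ w : G, w ^ 4 = (w ^ 2) ^ 2 := fun w => by rw [← pow_mul]
  rw [h4, hxy, (h.cen hc _).mul_pow, h.sq_one hc, one_mul, (h.sq_central x (y ^ 2)).mul_pow,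
    ← h4, ← h4]

/-- squares times elements of `⟨z⟩`. -/
def T : Subgroup G where
  carrier := {t | ∃ y : G, ∃ u ∈ zpowers z, t = y ^ 2 * u}
  one_mem' := ⟨1, 1, one_mem _, by simp⟩
  mul_mem' := by
    rintro a b ⟨y, u, hu, rfl⟩ ⟨w, v, hv, rfl⟩
    obtain ⟨c, hc, hyw⟩ := h.mul_sq y w
    refine ⟨y * w, c⁻¹ * (u * v), mul_mem (inv_mem hc) (mul_mem hu hv), ?_⟩
    rw [hyw]
    have e1 : y ^ 2 * u * (w ^ 2 * v) = y ^ 2 * w ^ 2 * (u * v) := by
      rw [mul_assoc, ← mul_assoc u, (h.cen hu (w ^ 2)).eq, mul_assoc, ← mul_assoc]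
    rw [e1]
    have e2 : c * (y ^ 2 * w ^ 2) * (c⁻¹ * (u * v)) = y ^ 2 * w ^ 2 * (u * v) := by
      rw [(h.cen hc (y ^ 2 * w ^ 2)).eq]; group
    rw [e2]
  inv_mem' := by
    rintro a ⟨y, u, hu, rfl⟩
    refine ⟨y⁻¹, u⁻¹, inv_mem hu, ?_⟩
    rw [mul_inv_rev, inv_pow, (h.cen (inv_mem hu) _).eq]

/-- fourth powers. -/
def R4 : Subgroup G where
  carrier := {t | ∃ y : G, t = y ^ 4}
  one_mem' := ⟨1, by simp⟩
  mul_mem' := by
    rintro a b ⟨y, rfl⟩ ⟨w, rfl⟩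
    exact ⟨y * w, (h.pow4 y w).symm⟩
  inv_mem' := by
    rintro a ⟨y, rfl⟩
    exact ⟨y⁻¹, by rw [inv_pow]⟩

/-- fourth powers times elements of `⟨z⟩`. -/
def R41 : Subgroup G where
  carrier := {t | ∃ y : G, ∃ u ∈ zpowers z, t = y ^ 4 * u}
  one_mem' := ⟨1, 1, one_mem _, by simp⟩
  mul_mem' := by
    rintro a b ⟨y, u, hu, rfl⟩ ⟨w, v, hv, rfl⟩
    refine ⟨y * w, u * v, mul_mem hu hv, ?_⟩
    rw [h.pow4, mul_assoc, ← mul_assoc u, (h.cen hu (w ^ 4)).eq, mul_assoc, ← mul_assoc]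
  inv_mem' := by
    rintro a ⟨y, u, hu, rfl⟩
    refine ⟨y⁻¹, u⁻¹, inv_mem hu, ?_⟩
    rw [mul_inv_rev, inv_pow, (h.cen (inv_mem hu) _).eq]

theorem mem_R4 {t : G} : t ∈ h.R4 ↔ ∃ y : G, t = y ^ 4 := Iff.rfl

theorem mem_R41 {t : G} : t ∈ h.R41 ↔ ∃ y : G, ∃ u ∈ zpowers z, t = y ^ 4 * u := Iff.rfl

theorem mem_T {t : G} : t ∈ h.T ↔ ∃ y : G, ∃ u ∈ zpowers z, t = y ^ 2 * u := Iff.rfl

theorem pow4_central (y g : G) : Commute (y ^ 4) g := by
  have : y ^ 4 = y ^ 2 * y ^ 2 := by rw [← pow_add]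
  rw [this]
  exact (h.sq_central y g).mul_left (h.sq_central y g)

section finite

variable [Finite G]

theorem frat_form {w : G} (hw : w ∈ frattini G) : ∃ y : G, ∃ u ∈ zpowers z, w = y ^ 2 * u := by
  have : Fact (Nat.Prime 2) := ⟨Nat.prime_two⟩
  have hle := Cfsg.Agent.Lib.Helper16.frattini_le_of_forall (p := 2) h.T
    (fun x y => by
      rw [commutatorElement_def]
      exact ⟨1, _, h.comm x y, by simp⟩)
    (fun x => ⟨x, 1, one_mem _, by simp⟩)
  exact hle hw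

theorem frat_central {w : G} (hw : w ∈ frattini G) (g : G) : Commute w g := by
  obtain ⟨y, u, hu, rfl⟩ := h.frat_form hw
  exact (h.sq_central y g).mul_left (h.cen hu g)

omit h in
theorem sq_mem_frat (h2 : IsPGroup 2 G) (x : G) : x ^ 2 ∈ frattini G := by
  have : Fact (Nat.Prime 2) := ⟨Nat.prime_two⟩
  exact Cfsg.Agent.Lib.Helper14.pow_mem_frattini_of_isPGroup' h2 x

theorem z_eq_comm (hna : ∃ x y : G, x * y ≠ y * x) : ∃ x y : G, x * y * x⁻¹ * y⁻¹ = z := by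
  obtain ⟨x, y, hxy⟩ := hna
  refine ⟨x, y, ?_⟩
  rcases h.mem_cases (h.comm x y) with h1 | h1
  · exfalso
    apply hxy
    calc x * y = x * y * x⁻¹ * y⁻¹ * (y * x) := by group
      _ = y * x := by rw [h1, one_mul]
  · exact h1

theorem zp_le_frat (h2 : IsPGroup 2 G) (hna : ∃ x y : G, x * y ≠ y * x) :
    zpowers z ≤ frattini G := by
  have : Fact (Nat.Prime 2) := ⟨Nat.prime_two⟩
  rw [zpowers_le]
  obtain ⟨x, y, hxy⟩ := h.z_eq_comm hna
  apply Cfsg.Agent.Lib.Helper14.commutator_le_frattini_of_isPGroup' h2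
  rw [← hxy, ← commutatorElement_def]
  exact Subgroup.commutator_mem_commutator (Subgroup.mem_top x) (Subgroup.mem_top y)

theorem not_isCyclic (hna : ∃ x y : G, x * y ≠ y * x) : ¬ IsCyclic G := by
  intro hc
  obtain ⟨g, hg⟩ := hc.exists_generator
  obtain ⟨x, y, hxy⟩ := hna
  obtain ⟨i, rfl⟩ := mem_zpowers_iff.mp (hg x)
  obtain ⟨j, rfl⟩ := mem_zpowers_iff.mp (hg y)
  exact hxy (zpow_mul_comm g i j)

/-- an element outside the Frattini subgroup whose powers contain `z` gives a metacyclic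
structure. -/
theorem metacyclic_of_gen (h2 : IsPGroup 2 G) (hr : Cfsg.SectionalPRankLE 2 2 G)
    (hna : ∃ x y : G, x * y ≠ y * x) (w : G) (hw : w ∉ frattini G) (hz : z ∈ zpowers w) :
    Cfsg.IsMetacyclic G := by
  have : Fact (Nat.Prime 2) := ⟨Nat.prime_two⟩
  have hidx := MetaA.index_frattini_eq_four h2 hr (h.not_isCyclic hna)
  have hzw : zpowers z ≤ zpowers w := by rw [zpowers_le]; exact hz
  have hN : (zpowers w).Normal := by
    refine ⟨fun n hn g => ?_⟩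
    obtain ⟨k, rfl⟩ := mem_zpowers_iff.mp hn
    rw [← conj_zpow]
    apply zpow_mem
    have : g * w * g⁻¹ = g * w * g⁻¹ * w⁻¹ * w := by group
    rw [this]
    exact mul_mem (hzw (h.comm g w)) (mem_zpowers w)
  obtain ⟨x, hx⟩ := Cfsg.Agent.Lib.Helper17.exists_zpowers_sup_eq_top (p := 2) hidx (zpowers w)
    (fun hle => hw (hle (mem_zpowers w)))
  exact MetaA.metacyclic_of_zpowers_sup w x hN hx

/-- if `z` is a `2 ^ m`-th power with `m ≥ 1`, the group is metacyclic. -/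
theorem claimA (h2 : IsPGroup 2 G) (hr : Cfsg.SectionalPRankLE 2 2 G)
    (hna : ∃ x y : G, x * y ≠ y * x) (d : ℕ) :
    ∀ m : ℕ, 1 ≤ m → (∃ w : G, w ^ (2 ^ m) = z) → Nat.card G ∣ 2 ^ (m + d) →
      Cfsg.IsMetacyclic G := by
  induction d with
  | zero =>
    intro m _ ⟨w, hw⟩ hdvd
    exfalso
    apply h.ne
    obtain ⟨t, ht⟩ := hdvd
    rw [← hw, Nat.add_zero] at *
    rw [ht, pow_mul, pow_card_eq_one', one_pow]
  | succ d ih =>
    intro m hm ⟨w, hw⟩ hdvd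
    by_cases hwF : w ∈ frattini G
    · obtain ⟨y, u, hu, rfl⟩ := h.frat_form hwF
      apply ih (m + 1) (by omega) ?_ (by rw [show m + 1 + d = m + (d + 1) by ring]; exact hdvd)
      refine ⟨y, ?_⟩
      rw [← hw, ((h.cen hu (y ^ 2)).symm).mul_pow]
      obtain ⟨m', rfl⟩ : ∃ m', m = m' + 1 := ⟨m - 1, by omega⟩
      have hu1 : u ^ 2 ^ (m' + 1) = 1 := by
        rw [pow_succ, Nat.mul_comm, pow_mul, h.sq_one hu, one_pow]
      rw [hu1, mul_one, ← pow_mul, ← pow_succ']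
    · exact h.metacyclic_of_gen h2 hr hna w hwF (by rw [← hw]; exact pow_mem (mem_zpowers w) _)

theorem metacyclic_of_sq (h2 : IsPGroup 2 G) (hr : Cfsg.SectionalPRankLE 2 2 G)
    (hna : ∃ x y : G, x * y ≠ y * x) (hsq : ∃ w : G, w ^ 2 = z) : Cfsg.IsMetacyclic G := by
  obtain ⟨e, he⟩ := IsPGroup.iff_card.mp h2
  obtain ⟨w, hw⟩ := hsq
  exact h.claimA h2 hr hna e 1 le_rfl ⟨w, by rw [pow_one]; exact hw⟩
    (by rw [he]; exact pow_dvd_pow 2 (by omega))

end finite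

end C2

end Cfsg.Agent.Lib.Helper23.MetaB
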