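import Mathlib
import Cfsg.Agent.Lib.Helper23.MetaB

/-! class two, `z` not a square: a section of rank three (helper23). -/

set_option autoImplicit false
set_option maxHeartbeats 800000

namespace Cfsg.Agent.Lib.Helper23.MetaB

universe u

open scoped commutatorElement
open Subgroup

variable {G : Type u} [Group G]

namespace C2

variable {z : G} (h : C2 z)
include h

variable [Finite G]

theorem R4_le_frat (h2 : IsPGroup 2 G) : h.R4 ≤ frattini G := by
  rintro t ⟨y, rfl⟩
  have : y ^ 4 = (y ^ 2) ^ 2 := by rw [← pow_mul]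
  rw [this]
  exact sq_mem_frat h2 _

theorem R41_le_frat (h2 : IsPGroup 2 G) (hna : ∃ x y : G, x * y ≠ y * x) :
    h.R41 ≤ frattini G := by
  rintro t ⟨y, u, hu, rfl⟩
  exact mul_mem (h.R4_le_frat h2 ⟨y, rfl⟩) (h.zp_le_frat h2 hna hu)

theorem R4_lt_R41 (hns : ∀ w : G, w ^ 2 ≠ z) : h.R4 < h.R41 := by
  refine lt_of_le_of_ne ?_ ?_
  · rintro t ⟨y, rfl⟩
    exact ⟨y, 1, one_mem _, by simp⟩
  · intro heq
    have hz : z ∈ h.R41 := ⟨1, z, mem_zpowers z, by simp⟩
    rw [← heq] at hz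
    obtain ⟨y, hy⟩ := hz
    apply hns (y ^ 2)
    rw [← pow_mul]
    exact hy.symm

theorem zp_le_R41 : zpowers z ≤ h.R41 := by
  intro u hu
  exact ⟨1, u, hu, by simp⟩

/-- adjusting an element with square in `R41` by a central element to an involution. -/
theorem exists_invol (hns : ∀ w : G, w ^ 2 ≠ z) (h2 : IsPGroup 2 G) (g : G)
    (hg : g ^ 2 ∈ h.R41) :
    ∃ t ∈ frattini G, (g * t) ^ 2 = 1 := by
  obtain ⟨y, u, hu, hgu⟩ := hg
  refine ⟨(y ^ 2)⁻¹, inv_mem (sq_mem_frat h2 y), ?_⟩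
  have hc : Commute g (y ^ 2)⁻¹ := ((h.sq_central y g).inv_left).symm
  have h1 : (g * (y ^ 2)⁻¹) ^ 2 = u := by
    rw [hc.mul_pow, hgu, inv_pow, ← pow_mul, (h.cen hu (y ^ 4)).symm.eq, mul_assoc]
    norm_num
  rcases h.mem_cases hu with h3 | h3
  · rw [h1, h3]
  · exfalso
    exact hns _ (h1.trans h3)

theorem key (h2 : IsPGroup 2 G) (hr : Cfsg.SectionalPRankLE 2 2 G)
    (hna : ∃ x y : G, x * y ≠ y * x) (hns : ∀ w : G, w ^ 2 ≠ z) (g : G)
    (hgF : g ∉ frattini G) : g ^ 2 ∉ h.R41 := by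
  intro hg2
  obtain ⟨t, ht, hgt⟩ := h.exists_invol hns h2 g hg2
  set g' := g * t with hg'
  have hg'F : g' ∉ frattini G := by
    intro hc
    apply hgF
    have := mul_mem hc (inv_mem ht)
    rwa [hg', mul_inv_cancel_right] at this
  set H : Subgroup G := zpowers g' ⊔ frattini G with hH
  have hHform : ∀ x ∈ H, ∃ k : ℤ, ∃ w ∈ frattini G, x = g' ^ k * w := by
    intro x hx
    have hx' : x ∈ ((zpowers g' ⊔ frattini G : Subgroup G) : Set G) := hx
    rw [Subgroup.mul_normal] at hx'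
    obtain ⟨a, ha, w, hw, rfl⟩ := Set.mem_mul.mp hx'
    obtain ⟨k, rfl⟩ := mem_zpowers_iff.mp ha
    exact ⟨k, w, hw, rfl⟩
  have hFH : frattini G < H := by
    refine lt_of_le_of_ne le_sup_right ?_
    intro heq
    apply hg'F
    rw [heq]
    exact le_sup_left (a := zpowers g') (mem_zpowers g')
  have hg'k : ∀ k : ℤ, (g' ^ k) ^ 2 = 1 := by
    intro k
    rw [← zpow_natCast, ← zpow_mul, mul_comm, zpow_mul, zpow_natCast, hgt, one_zpow]
  have hS2 : Nat.card H ≤ 2 ^ 2 * Nat.card h.R4 := by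
    apply MetaA.section_card_le hr H h.R4 ((h.R4_le_frat h2).trans le_sup_right)
    · rintro a _ x ⟨y, rfl⟩
      rw [(h.pow4_central y a).symm.eq, mul_inv_cancel_right]
      exact ⟨y, rfl⟩
    · intro x hx
      obtain ⟨k, w, hw, rfl⟩ := hHform x hx
      rw [((h.frat_central hw (g' ^ k)).symm).mul_pow, hg'k, one_mul]
      obtain ⟨y, u, hu, rfl⟩ := h.frat_form hw
      rw [((h.cen hu (y ^ 2)).symm).mul_pow, h.sq_one hu, mul_one, ← pow_mul]
      exact ⟨y, rfl⟩
    · intro x hx y hy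
      obtain ⟨k, w, hw, rfl⟩ := hHform x hx
      obtain ⟨l, v, hv, rfl⟩ := hHform y hy
      have hcomm : Commute (g' ^ k * w) (g' ^ l * v) := by
        apply Commute.mul_left
        · apply Commute.mul_right
          · exact (Commute.refl g').zpow_zpow k l
          · exact (h.frat_central hv _).symm
        · exact h.frat_central hw _
      have : g' ^ k * w * (g' ^ l * v) * (g' ^ k * w)⁻¹ * (g' ^ l * v)⁻¹ = 1 := by
        rw [hcomm.eq]; group
      rw [this]
      exact one_mem _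
  have hc1 := MetaA.two_mul_card_le_of_lt hFH
  have hc2 := MetaA.two_mul_card_le_of_lt (h.R4_lt_R41 hns)
  have hc3 : Nat.card h.R41 ≤ Nat.card (frattini G) :=
    Subgroup.card_le_of_le (h.R41_le_frat h2 hna)
  have hFeq : h.R41 = frattini G :=
    Subgroup.eq_of_le_of_card_ge (h.R41_le_frat h2 hna) (by omega)
  -- every coset of the Frattini subgroup contains an involution
  have hinv : ∀ x : G, ∃ t ∈ frattini G, (x * t) ^ 2 = 1 := by
    intro x
    apply h.exists_invol hns h2 x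
    rw [hFeq]
    exact sq_mem_frat h2 x
  obtain ⟨x0, y0, hxy⟩ := hna
  obtain ⟨t, ht, hx1⟩ := hinv x0
  obtain ⟨s, hs, hy1⟩ := hinv y0
  have hnc : (x0 * t) * (y0 * s) ≠ (y0 * s) * (x0 * t) := by
    intro hc
    apply hxy
    have e1 : (x0 * t) * (y0 * s) = x0 * y0 * (t * s) := by
      rw [mul_assoc, ← mul_assoc t, (h.frat_central ht y0).eq, mul_assoc, ← mul_assoc]
    have e2 : (y0 * s) * (x0 * t) = y0 * x0 * (t * s) := by
      rw [mul_assoc, ← mul_assoc s, (h.frat_central hs x0).eq, mul_assoc, ← mul_assoc,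
        (h.frat_central hs t).eq]
    rw [e1, e2] at hc
    exact mul_right_cancel hc
  obtain ⟨x1, hx1def⟩ : ∃ x1, x1 = x0 * t := ⟨_, rfl⟩
  obtain ⟨y1, hy1def⟩ : ∃ y1, y1 = y0 * s := ⟨_, rfl⟩
  rw [← hx1def] at hx1 hnc
  rw [← hy1def] at hy1 hnc
  have hx1i : x1⁻¹ = x1 := inv_eq_of_mul_eq_one_right (by rw [← pow_two]; exact hx1)
  have hy1i : y1⁻¹ = y1 := inv_eq_of_mul_eq_one_right (by rw [← pow_two]; exact hy1)
  rcases h.mem_cases (h.comm x1 y1) with h1 | h1
  · apply hnc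
    calc x1 * y1 = x1 * y1 * x1⁻¹ * y1⁻¹ * (y1 * x1) := by group
      _ = y1 * x1 := by rw [h1, one_mul]
  · apply hns (x1 * y1)
    rw [hx1i, hy1i] at h1
    rw [pow_two, ← h1]
    group

/-- `z` is a square. -/
theorem exists_sq (h2 : IsPGroup 2 G) (hr : Cfsg.SectionalPRankLE 2 2 G)
    (hna : ∃ x y : G, x * y ≠ y * x) : ∃ w : G, w ^ 2 = z := by
  have : Fact (Nat.Prime 2) := ⟨Nat.prime_two⟩
  by_contra hns
  push Not at hns
  have hidx := MetaA.index_frattini_eq_four h2 hr (h.not_isCyclic hna)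
  have hkey := h.key h2 hr hna hns
  -- section Φ / R4
  have hS1 : Nat.card (frattini G) ≤ 2 ^ 2 * Nat.card h.R4 := by
    apply MetaA.section_card_le hr (frattini G) h.R4 (h.R4_le_frat h2)
    · rintro a _ x ⟨y, rfl⟩
      rw [(h.pow4_central y a).symm.eq, mul_inv_cancel_right]
      exact ⟨y, rfl⟩
    · intro x hx
      obtain ⟨y, u, hu, rfl⟩ := h.frat_form hx
      rw [((h.cen hu (y ^ 2)).symm).mul_pow, h.sq_one hu, mul_one, ← pow_mul]
      exact ⟨y, rfl⟩
    · intro x hx y hy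
      have : x * y * x⁻¹ * y⁻¹ = 1 := by
        rw [(h.frat_central hx y).eq]; group
      rw [this]
      exact one_mem _
  have hc2 := MetaA.two_mul_card_le_of_lt (h.R4_lt_R41 hns)
  -- generators
  have hFtop : frattini G < ⊤ := by
    refine lt_of_le_of_ne le_top ?_
    intro heq
    rw [heq, Subgroup.index_top] at hidx
    norm_num at hidx
  obtain ⟨a, -, haF⟩ := SetLike.exists_of_lt hFtop
  have hM : zpowers a ⊔ frattini G < ⊤ := by
    refine lt_of_le_of_ne le_top ?_
    intro heq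
    have h1 : zpowers a = ⊤ := frattini_nongenerating heq
    apply h.not_isCyclic hna
    exact isCyclic_iff_exists_zpowers_eq_top.mpr ⟨a, h1⟩
  obtain ⟨b, -, hbM⟩ := SetLike.exists_of_lt hM
  have hbF : b ∉ frattini G := fun hc => hbM (le_sup_right (a := zpowers a) hc)
  have habF : a * b ∉ frattini G := by
    intro hc
    apply hbM
    have h1 : a⁻¹ ∈ zpowers a ⊔ frattini G :=
      le_sup_left (a := zpowers a) (inv_mem (mem_zpowers a))
    have h3 := mul_mem h1 (le_sup_right (a := zpowers a) hc)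
    rwa [inv_mul_cancel_left] at h3
  have ha2 := hkey a haF
  have hb2 := hkey b hbF
  have hab2 := hkey (a * b) habF
  -- index two
  set K : Subgroup ↥(frattini G) := (h.R41).subgroupOf (frattini G) with hK
  have hKc : Nat.card K = Nat.card h.R41 :=
    Nat.card_congr (Subgroup.subgroupOfEquivOfLe (h.R41_le_frat h2 hna)).toEquiv
  have hKi := Subgroup.card_mul_index K
  have hpos : 0 < Nat.card h.R41 := Nat.card_pos
  have hKle : K.index ≤ 2 := by
    by_contra hlt
    push Not at hlt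
    have : Nat.card h.R41 * 3 ≤ Nat.card K * K.index := by
      rw [hKc]; exact Nat.mul_le_mul_left _ hlt
    omega
  have ha2' : (⟨a ^ 2, sq_mem_frat h2 a⟩ : ↥(frattini G)) ∉ K := by
    rw [hK, Subgroup.mem_subgroupOf]; exact ha2
  have hb2' : (⟨b ^ 2, sq_mem_frat h2 b⟩ : ↥(frattini G)) ∉ K := by
    rw [hK, Subgroup.mem_subgroupOf]; exact hb2
  have hK1 : K.index ≠ 1 := by
    intro h1
    rw [Subgroup.index_eq_one] at h1
    apply ha2'
    rw [h1]; trivial
  have hK0 : K.index ≠ 0 := Subgroup.index_ne_zero_of_finite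
  have hK2 : K.index = 2 := by omega
  have hmul := (Subgroup.mul_mem_iff_of_index_two hK2
    (a := (⟨a ^ 2, sq_mem_frat h2 a⟩ : ↥(frattini G)))
    (b := (⟨b ^ 2, sq_mem_frat h2 b⟩ : ↥(frattini G)))).mpr
    (iff_of_false ha2' hb2')
  rw [hK, Subgroup.mem_subgroupOf] at hmul
  have hmul' : a ^ 2 * b ^ 2 ∈ h.R41 := hmul
  obtain ⟨c, hc, hab⟩ := h.mul_sq a b
  apply hab2
  rw [hab]
  exact mul_mem (h.zp_le_R41 hc) hmul'

/-- **class two case**: a `2`-group of sectional rank at most 2 whose commutators all lie in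
`⟨z⟩` for a central involution `z` is metacyclic. -/
theorem metacyclic (h2 : IsPGroup 2 G) (hr : Cfsg.SectionalPRankLE 2 2 G)
    (hna : ∃ x y : G, x * y ≠ y * x) : Cfsg.IsMetacyclic G :=
  h.metacyclic_of_sq h2 hr hna (h.exists_sq h2 hr hna)

end C2

end Cfsg.Agent.Lib.Helper23.MetaB
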