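import Mathlib
import Cfsg.Agent.Lib.Helper23.MetaB2
import Cfsg.Agent.Lib.Helper2.NilpotentBasic

/-! 2-groups of sectional rank at most 2 are metacyclic (helper23). -/

set_option autoImplicit false
set_option maxHeartbeats 800000

namespace Cfsg.Agent.Lib.Helper23.MetaC

universe u

open scoped commutatorElement
open Subgroup

variable {S : Type u} [Group S]

/-- lifting step: `z` a central involution in the derived subgroup, `N ∋ z` normal with
`N = ⟨a⟩⟨z⟩` and `S = ⟨b⟩ N`.  Either `N` is cyclic or all commutators lie in `⟨z⟩`. -/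
theorem step3 [Finite S] (h2 : IsPGroup 2 S) (z : S) (hz2 : z ^ 2 = 1)
    (hzc : ∀ g : S, Commute z g) (hzcomm : z ∈ commutator S)
    (N : Subgroup S) [hNn : N.Normal] (a b : S) (haN : a ∈ N) (hzN : z ∈ N)
    (hN : ∀ x ∈ N, ∃ k : ℤ, x = a ^ k ∨ x = a ^ k * z)
    (hG : ∀ g : S, ∃ k : ℤ, (b ^ k)⁻¹ * g ∈ N) :
    Cfsg.IsMetacyclic S ∨ (∀ x y : S, x * y * x⁻¹ * y⁻¹ ∈ zpowers z) := by
  by_cases hza : z ∈ zpowers a
  · left
    have hNeq : N = zpowers a := by
      apply le_antisymm
      · intro x hx
        obtain ⟨k, hk | hk⟩ := hN x hx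
        · rw [hk]; exact zpow_mem (mem_zpowers a) k
        · rw [hk]; exact mul_mem (zpow_mem (mem_zpowers a) k) hza
      · rw [zpowers_le]; exact haN
    refine ⟨N, hNn, ?_, ?_⟩
    · rw [hNeq]; infer_instance
    · refine ⟨⟨QuotientGroup.mk b, fun q => ?_⟩⟩
      obtain ⟨g, rfl⟩ := QuotientGroup.mk_surjective q
      obtain ⟨k, hk⟩ := hG g
      refine ⟨k, ?_⟩
      change (QuotientGroup.mk b : S ⧸ N) ^ k = _
      rw [← QuotientGroup.mk_zpow, QuotientGroup.eq]
      exact hk
  · right
    -- N is commutative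
    have hNcomm : ∀ x ∈ N, ∀ y ∈ N, Commute x y := by
      intro x hx y hy
      obtain ⟨k, hk | hk⟩ := hN x hx <;> obtain ⟨l, hl | hl⟩ := hN y hy <;> rw [hk, hl]
      · exact (Commute.refl a).zpow_zpow k l
      · exact Commute.mul_right ((Commute.refl a).zpow_zpow k l) (hzc _).symm
      · exact Commute.mul_left ((Commute.refl a).zpow_zpow k l) (hzc _)
      · exact Commute.mul_left
          (Commute.mul_right ((Commute.refl a).zpow_zpow k l) (hzc _).symm) (hzc _)
    set c := a * b * a⁻¹ * b⁻¹ with hcdef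
    have hcN : c ∈ N := by
      have h1 : c = a * (b * a⁻¹ * b⁻¹) := by rw [hcdef]; group
      rw [h1]
      exact mul_mem haN (hNn.conj_mem _ (inv_mem haN) b)
    have hcpow : ∀ j : ℤ, c ^ j ∈ N := fun j => zpow_mem hcN j
    have hba : b * a * b⁻¹ = c⁻¹ * a := by rw [hcdef]; group
    -- conjugation by b on N
    have hb1 : ∀ x ∈ N, ∃ j : ℤ, b * x * b⁻¹ = c ^ j * x := by
      intro x hx
      have hak : ∀ k : ℤ, b * a ^ k * b⁻¹ = c ^ (-k) * a ^ k := by
        intro k
        rw [← conj_zpow, hba, (hNcomm _ (inv_mem hcN) _ haN).mul_zpow, inv_zpow, zpow_neg]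
      obtain ⟨k, hk | hk⟩ := hN x hx
      · exact ⟨-k, by rw [hk, hak]⟩
      · refine ⟨-k, ?_⟩
        rw [hk]
        have : b * (a ^ k * z) * b⁻¹ = b * a ^ k * b⁻¹ * z := by
          rw [mul_assoc b, mul_assoc b, mul_assoc (a ^ k), (hzc b⁻¹).eq]
          simp only [mul_assoc]
        rw [this, hak, mul_assoc]
    have hb2 : ∀ x ∈ N, ∃ j : ℤ, b⁻¹ * x * b = c ^ j * x := by
      intro x hx
      have hy : b⁻¹ * x * b ∈ N := by
        have := hNn.conj_mem x hx b⁻¹
        rwa [inv_inv] at this
      obtain ⟨j, hj⟩ := hb1 _ hy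
      refine ⟨-j, ?_⟩
      have h1 : b * (b⁻¹ * x * b) * b⁻¹ = x := by group
      rw [h1] at hj
      rw [zpow_neg]
      calc b⁻¹ * x * b = (c ^ j)⁻¹ * (c ^ j * (b⁻¹ * x * b)) := by group
        _ = (c ^ j)⁻¹ * x := by rw [← hj]
    have hbk : ∀ k : ℤ, ∀ x ∈ N, ∃ j : ℤ, b ^ k * x * (b ^ k)⁻¹ = c ^ j * x := by
      intro k
      induction k using Int.induction_on with
      | zero => intro x _; exact ⟨0, by simp⟩
      | succ k ih =>
        intro x hx
        obtain ⟨j, hj⟩ := ih x hx
        obtain ⟨j', hj'⟩ := hb1 (c ^ j * x) (mul_mem (hcpow j) hx)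
        refine ⟨j' + j, ?_⟩
        have : b ^ ((k : ℤ) + 1) * x * (b ^ ((k : ℤ) + 1))⁻¹
            = b * (b ^ (k : ℤ) * x * (b ^ (k : ℤ))⁻¹) * b⁻¹ := by
          rw [add_comm, zpow_add, zpow_one]; group
        rw [this, hj, hj', zpow_add, mul_assoc]
      | pred k ih =>
        intro x hx
        obtain ⟨j, hj⟩ := ih x hx
        obtain ⟨j', hj'⟩ := hb2 (c ^ j * x) (mul_mem (hcpow j) hx)
        refine ⟨j' + j, ?_⟩
        have : b ^ (-(k : ℤ) - 1) * x * (b ^ (-(k : ℤ) - 1))⁻¹
            = b⁻¹ * (b ^ (-(k : ℤ)) * x * (b ^ (-(k : ℤ)))⁻¹) * b := by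
          rw [sub_eq_add_neg, add_comm, zpow_add, zpow_neg_one]; group
        rw [this, hj, hj', zpow_add, mul_assoc]
    -- zpowers c is normal
    have hCn : (zpowers c).Normal := by
      refine ⟨fun n hn g => ?_⟩
      obtain ⟨k, hk⟩ := hG g
      have hnN : n ∈ N := by
        obtain ⟨i, rfl⟩ := mem_zpowers_iff.mp hn
        exact hcpow i
      set m := (b ^ k)⁻¹ * g with hm
      have hg : g = b ^ k * m := by rw [hm]; group
      have h1 : g * n * g⁻¹ = b ^ k * (m * n * m⁻¹) * (b ^ k)⁻¹ := by rw [hg]; group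
      have h2 : m * n * m⁻¹ = n := by
        rw [(hNcomm m hk n hnN).eq, mul_inv_cancel_right]
      rw [h1, h2]
      obtain ⟨j, hj⟩ := hbk k n hnN
      rw [hj]
      exact mul_mem (zpow_mem (mem_zpowers c) j) hn
    -- the quotient is commutative
    have hquot : ∀ x y : S, x * y * x⁻¹ * y⁻¹ ∈ zpowers c := by
      have hcommle : commutator S ≤ zpowers c := by
        rw [← Subgroup.Normal.quotient_commutative_iff_commutator_le]
        let π : S →* S ⧸ zpowers c := QuotientGroup.mk' (zpowers c)
        have hπc : ∀ j : ℤ, π (c ^ j) = 1 := by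
          intro j
          exact (QuotientGroup.eq_one_iff _).mpr (zpow_mem (mem_zpowers c) j)
        have hNN : ∀ x ∈ N, ∀ y ∈ N, Commute (π x) (π y) := by
          intro x hx y hy
          exact (hNcomm x hx y hy).map π
        have hbN : ∀ x ∈ N, Commute (π b) (π x) := by
          intro x hx
          obtain ⟨j, hj⟩ := hb1 x hx
          have h1 : b * x = c ^ j * x * b := by
            calc b * x = b * x * b⁻¹ * b := by group
              _ = c ^ j * x * b := by rw [hj]
          have h2 : π b * π x = π x * π b := by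
            rw [← map_mul, h1, map_mul, map_mul, hπc, one_mul]
          exact h2
        have hgen : ∀ g : S, ∃ k : ℤ, ∃ m ∈ N, π g = π b ^ k * π m := by
          intro g
          obtain ⟨k, hk⟩ := hG g
          refine ⟨k, _, hk, ?_⟩
          rw [← map_zpow, ← map_mul]
          congr 1
          group
        refine ⟨⟨fun x y => ?_⟩⟩
        obtain ⟨g, rfl⟩ := QuotientGroup.mk_surjective x
        obtain ⟨g', rfl⟩ := QuotientGroup.mk_surjective y
        obtain ⟨k, m, hm, hg⟩ := hgen g
        obtain ⟨l, m', hm', hg'⟩ := hgen g'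
        change π g * π g' = π g' * π g
        rw [hg, hg']
        have c1 : Commute (π b ^ k) (π b ^ l) := (Commute.refl (π b)).zpow_zpow k l
        have c2 : Commute (π b ^ k) (π m') := (hbN m' hm').zpow_left k
        have c3 : Commute (π m) (π b ^ l) := ((hbN m hm).zpow_left l).symm
        have c4 : Commute (π m) (π m') := hNN m hm m' hm'
        exact (Commute.mul_left (Commute.mul_right c1 c2) (Commute.mul_right c3 c4)).eq
      intro x y
      apply hcommle
      rw [← commutatorElement_def]
      exact Subgroup.commutator_mem_commutator (Subgroup.mem_top x) (Subgroup.mem_top y)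
    -- now c = z
    have hzC : z ∈ zpowers c := by
      have hcommle : commutator S ≤ zpowers c := by
        rw [commutator_def, Subgroup.commutator_le]
        intro x _ y _
        rw [commutatorElement_def]
        exact hquot x y
      exact hcommle hzcomm
    obtain ⟨j, hj⟩ := mem_zpowers_iff.mp hzC
    have hc2a : c ^ 2 ∈ zpowers a := by
      obtain ⟨s, hs | hs⟩ := hN c hcN
      · rw [hs]; exact pow_mem (zpow_mem (mem_zpowers a) s) 2
      · rw [hs, ((hzc (a ^ s)).symm).mul_pow, hz2, mul_one]
        exact pow_mem (zpow_mem (mem_zpowers a) s) 2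
    have hcz : c = z := by
      rcases Int.even_or_odd' j with ⟨i, rfl | rfl⟩
      · exfalso
        apply hza
        rw [← hj, zpow_mul, zpow_two, ← pow_two]
        exact zpow_mem hc2a i
      · -- c has order at most 2
        have hc2 : c ^ 2 = 1 := by
          obtain ⟨r, hr⟩ := (IsPGroup.iff_orderOf.mp h2) c
          have h1 : c ^ (2 * (2 * i + 1)) = 1 := by
            rw [mul_comm, zpow_mul, hj, zpow_two, ← pow_two, hz2]
          have h3 : ((orderOf c : ℕ) : ℤ) ∣ 2 * (2 * i + 1) := orderOf_dvd_iff_zpow_eq_one.mpr h1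
          rw [hr] at h3
          have hr1 : r ≤ 1 := by
            by_contra hlt
            push Not at hlt
            have h4 : ((2 ^ 2 : ℕ) : ℤ) ∣ ((2 ^ r : ℕ) : ℤ) := by
              exact_mod_cast pow_dvd_pow 2 hlt
            have h5 := dvd_trans h4 h3
            obtain ⟨t, ht⟩ := h5
            push_cast at ht
            omega
          apply orderOf_dvd_iff_pow_eq_one.mp
          rw [hr]
          exact pow_dvd_pow 2 hr1 |>.trans (by norm_num)
        rw [← hj, zpow_add, zpow_one, zpow_mul, zpow_two, ← pow_two, hc2, one_zpow, one_mul]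
    rw [← hcz]
    exact hquot

/-- **2-groups of sectional rank at most 2 are metacyclic.** -/
theorem main (n : ℕ) : ∀ (S : Type u) [Group S] [Finite S], Nat.card S = n → IsPGroup 2 S →
    Cfsg.SectionalPRankLE 2 2 S → Cfsg.IsMetacyclic S := by
  induction n using Nat.strong_induction_on with
  | _ n ih =>
    intro S _ _ hn h2 hr
    have : Fact (Nat.Prime 2) := ⟨Nat.prime_two⟩
    by_cases hcyc : IsCyclic S
    · exact MetaA.metacyclic_of_isCyclic hcyc
    have hidx := MetaA.index_frattini_eq_four h2 hr hcyc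
    by_cases hab : ∀ x y : S, x * y = y * x
    · -- abelian case
      have hFtop : frattini S < ⊤ := by
        refine lt_of_le_of_ne le_top ?_
        intro heq
        rw [heq, Subgroup.index_top] at hidx
        norm_num at hidx
      obtain ⟨g, -, hgF⟩ := SetLike.exists_of_lt hFtop
      have hN : (zpowers g).Normal := by
        refine ⟨fun x hx y => ?_⟩
        rw [hab y x, mul_inv_cancel_right]
        exact hx
      obtain ⟨x, hx⟩ := Cfsg.Agent.Lib.Helper17.exists_zpowers_sup_eq_top (p := 2) hidx
        (zpowers g) (fun hle => hgF (hle (mem_zpowers g)))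
      exact MetaA.metacyclic_of_zpowers_sup g x hN hx
    · push Not at hab
      have hna : ∃ x y : S, x * y ≠ y * x := hab
      -- a central involution in the derived subgroup
      have hnil : Group.IsNilpotent S := h2.isNilpotent
      have hcne : commutator S ≠ ⊥ := by
        intro hbot
        obtain ⟨x, y, hxy⟩ := hna
        apply hxy
        have h1 : ⁅x, y⁆ ∈ commutator S :=
          Subgroup.commutator_mem_commutator (Subgroup.mem_top x) (Subgroup.mem_top y)
        rw [hbot, Subgroup.mem_bot, commutatorElement_eq_one_iff_commute] at h1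
        exact h1.eq
      have hmeet := Cfsg.Agent.Lib.Helper2.normal_inf_center_ne_bot (commutator S) hcne
      obtain ⟨⟨y, hy⟩, hy1⟩ := (Subgroup.ne_bot_iff_exists_ne_one).mp hmeet
      have hy1' : y ≠ 1 := fun h => hy1 (Subtype.ext h)
      obtain ⟨hyc, hyz⟩ := Subgroup.mem_inf.mp hy
      obtain ⟨r, hr'⟩ := (IsPGroup.iff_orderOf.mp h2) y
      have hr1 : 1 ≤ r := by
        by_contra hlt
        have h0 : r = 0 := by omega
        rw [h0, pow_zero, orderOf_eq_one_iff] at hr'
        exact hy1' hr'
      obtain ⟨r', rfl⟩ : ∃ r', r = r' + 1 := ⟨r - 1, by omega⟩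
      obtain ⟨z, hzdef⟩ : ∃ z, z = y ^ (2 ^ r') := ⟨_, rfl⟩
      have hz2 : z ^ 2 = 1 := by
        rw [hzdef, ← pow_mul, ← pow_succ, ← hr', pow_orderOf_eq_one]
      have hz1 : z ≠ 1 := by
        intro h1
        rw [hzdef] at h1
        have h3 := orderOf_dvd_of_pow_eq_one h1
        rw [hr'] at h3
        have h4 := Nat.le_of_dvd (by positivity) h3
        rw [pow_succ] at h4
        have := pow_pos (show 0 < 2 by norm_num) r'
        omega
      have hzcomm : z ∈ commutator S := by rw [hzdef]; exact pow_mem hyc _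
      have hzcen : z ∈ center S := by rw [hzdef]; exact pow_mem hyz _
      have hzc : ∀ g : S, Commute z g := fun g => (Subgroup.mem_center_iff.mp hzcen g).symm
      have hzcases : ∀ u ∈ zpowers z, u = 1 ∨ u = z := by
        intro u hu
        obtain ⟨k, rfl⟩ := mem_zpowers_iff.mp hu
        have hzz : z * z = 1 := by rw [← pow_two]; exact hz2
        rcases Int.even_or_odd' k with ⟨j, rfl | rfl⟩
        · left
          rw [zpow_mul, zpow_two, hzz, one_zpow]
        · right
          rw [zpow_add, zpow_one, zpow_mul, zpow_two, hzz, one_zpow, one_mul]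
      have hZn : (zpowers z).Normal := by
        refine ⟨fun x hx g => ?_⟩
        obtain ⟨k, rfl⟩ := mem_zpowers_iff.mp hx
        rw [((hzc g).zpow_left k).symm.eq, mul_inv_cancel_right]
        exact zpow_mem (mem_zpowers z) k
      have hZcard : Nat.card (zpowers z) = 2 := by
        rw [Nat.card_zpowers]
        exact orderOf_eq_prime hz2 hz1
      have hQlt : Nat.card (S ⧸ zpowers z) < n := by
        have h3 := Subgroup.card_eq_card_quotient_mul_card_subgroup (zpowers z)
        rw [hZcard, hn] at h3
        have h4 : 0 < Nat.card (S ⧸ zpowers z) := Nat.card_pos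
        omega
      have hQ := ih _ hQlt (S ⧸ zpowers z) rfl (h2.to_quotient (zpowers z))
        (MetaA.sectionalPRankLE_quotient hr (zpowers z))
      obtain ⟨Nb, hNbn, hNbc, hQc⟩ := hQ
      obtain ⟨⟨ab, hab'⟩, hgen⟩ := hNbc.exists_generator
      obtain ⟨a, rfl⟩ := QuotientGroup.mk_surjective ab
      obtain ⟨bb, hbgen⟩ := hQc.exists_generator
      obtain ⟨b', rfl⟩ := QuotientGroup.mk_surjective bb
      obtain ⟨b, rfl⟩ := QuotientGroup.mk_surjective b'
      have hNn : (Nb.comap (QuotientGroup.mk' (zpowers z))).Normal := hNbn.comap _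
      have haN : a ∈ Nb.comap (QuotientGroup.mk' (zpowers z)) := hab'
      have hzN : z ∈ Nb.comap (QuotientGroup.mk' (zpowers z)) := by
        rw [Subgroup.mem_comap]
        have : (QuotientGroup.mk' (zpowers z)) z = 1 :=
          (QuotientGroup.eq_one_iff z).mpr (mem_zpowers z)
        rw [this]
        exact one_mem _
      have hNform : ∀ x ∈ Nb.comap (QuotientGroup.mk' (zpowers z)),
          ∃ k : ℤ, x = a ^ k ∨ x = a ^ k * z := by
        intro x hx
        have hx' : (QuotientGroup.mk x : S ⧸ zpowers z) ∈ Nb := hx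
        obtain ⟨k, hk⟩ := mem_zpowers_iff.mp (hgen ⟨_, hx'⟩)
        have hk' : (QuotientGroup.mk a : S ⧸ zpowers z) ^ k = QuotientGroup.mk x := by
          have := congrArg Subtype.val hk
          simpa using this
        rw [← QuotientGroup.mk_zpow, QuotientGroup.eq] at hk'
        refine ⟨k, ?_⟩
        rcases hzcases _ hk' with h3 | h3
        · left
          have : x = a ^ k * ((a ^ k)⁻¹ * x) := by group
          rw [this, h3, mul_one]
        · right
          have : x = a ^ k * ((a ^ k)⁻¹ * x) := by group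
          rw [this, h3]
      have hGform : ∀ g : S, ∃ k : ℤ, (b ^ k)⁻¹ * g ∈ Nb.comap (QuotientGroup.mk' (zpowers z)) := by
        intro g
        obtain ⟨k, hk⟩ := mem_zpowers_iff.mp
          (hbgen (QuotientGroup.mk (QuotientGroup.mk g : S ⧸ zpowers z)))
        refine ⟨k, ?_⟩
        rw [← QuotientGroup.mk_zpow, ← QuotientGroup.mk_zpow, QuotientGroup.eq] at hk
        rw [Subgroup.mem_comap]
        simpa using hk
      rcases step3 h2 z hz2 hzc hzcomm (Nb.comap (QuotientGroup.mk' (zpowers z))) a b haN hzN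
        hNform hGform with hm | hcomm
      · exact hm
      · exact (MetaB.C2.mk hz2 hz1 hzc hcomm).metacyclic h2 hr hna

end Cfsg.Agent.Lib.Helper23.MetaC
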