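import Mathlib

/-!
# `N(P)/C(P)` has even order when an element of an abelian Sylow subgroup is inverted
-/

namespace Cfsg.Agent.Lib.Helper23.NCEven

open Subgroup Pointwise

/-- if `m` inverts `σ ≠ σ⁻¹` then no odd power of `m` commutes with `σ` -/
theorem not_commute_odd_pow {G : Type*} [Group G] (m σ : G) (hm : m⁻¹ * σ * m = σ⁻¹)
    (hσ : σ ≠ σ⁻¹) (s : ℕ) : ¬ Commute (m ^ (2 * s + 1)) σ := by
  intro hc
  have h2 : Commute (m ^ 2) σ := by
    have h3 : m⁻¹ * σ⁻¹ * m = σ := by
      have := congrArg (fun x => x⁻¹) hm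
      simpa [mul_assoc] using this
    have : (m ^ 2)⁻¹ * σ * m ^ 2 = σ := by
      calc (m ^ 2)⁻¹ * σ * m ^ 2 = m⁻¹ * (m⁻¹ * σ * m) * m := by
            rw [pow_two, mul_inv_rev]; group
        _ = m⁻¹ * σ⁻¹ * m := by rw [hm]
        _ = σ := h3
    show m ^ 2 * σ = σ * m ^ 2
    calc m ^ 2 * σ = m ^ 2 * ((m ^ 2)⁻¹ * σ * m ^ 2) := by rw [this]
      _ = σ * m ^ 2 := by group
  have h4 : Commute (m ^ (2 * s)) σ := by
    rw [pow_mul]; exact h2.pow_left s
  have h5 : Commute m σ := by
    have : m = (m ^ (2 * s))⁻¹ * m ^ (2 * s + 1) := by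
      rw [pow_succ]; group
    rw [this]
    exact h4.inv_left.mul_left hc
  apply hσ
  rw [← hm]
  have : m * σ = σ * m := h5
  calc σ = m⁻¹ * (m * σ) := by group
    _ = m⁻¹ * σ * m := by rw [this]; group

theorem two_dvd_index {G : Type*} [Group G] [Finite G] {p : ℕ} [Fact p.Prime] (P : Sylow p G)
    [IsMulCommutative (P : Subgroup G)] (σ g : G) (hσP : σ ∈ P) (hσ : σ ≠ σ⁻¹)
    (hg : g⁻¹ * σ * g = σ⁻¹) :
    2 ∣ ((centralizer ((P : Subgroup G) : Set G)).subgroupOf
      (normalizer ((P : Subgroup G) : Set G))).index := by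
  have hy : g⁻¹ * σ * g ∈ P := by rw [hg]; exact inv_mem hσP
  obtain ⟨m, hmN, hm⟩ := P.conj_eq_normalizer_conj_of_mem σ g hσP hy
  rw [hg] at hm
  set N := normalizer ((P : Subgroup G) : Set G) with hN
  set C' := (centralizer ((P : Subgroup G) : Set G)).subgroupOf N with hC'
  haveI : C'.Normal := normal_subgroupOf_centralizer_normalizer _
  let mbar : N ⧸ C' := QuotientGroup.mk ⟨m, hmN⟩
  have hdvd : orderOf mbar ∣ C'.index := by
    rw [Subgroup.index_eq_card]; exact orderOf_dvd_natCard mbar
  refine dvd_trans ?_ hdvd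
  by_contra hodd
  obtain ⟨s, hs⟩ : ∃ s, orderOf mbar = 2 * s + 1 := by
    have := Nat.odd_iff.mpr (by omega : orderOf mbar % 2 = 1)
    exact this
  have h1 : mbar ^ (2 * s + 1) = 1 := by rw [← hs]; exact pow_orderOf_eq_one mbar
  have h2 : (⟨m, hmN⟩ : N) ^ (2 * s + 1) ∈ C' := by
    rw [← QuotientGroup.eq_one_iff]; exact h1
  have h3 : m ^ (2 * s + 1) ∈ centralizer ((P : Subgroup G) : Set G) := by
    have := Subgroup.mem_subgroupOf.mp h2
    simpa using this
  have h4 : Commute (m ^ (2 * s + 1)) σ := by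
    have := (Subgroup.mem_centralizer_iff.mp h3) σ hσP
    exact this.symm
  exact not_commute_odd_pow m σ hm.symm hσ s h4

open Equiv Equiv.Perm in
theorem two_dvd_index_alt (n : ℕ) {p : ℕ} [hpp : Fact p.Prime] (hp2 : p ≠ 2) (hn : p + 2 ≤ n)
    (P : Sylow p (alternatingGroup (Fin n)))
    [IsMulCommutative (P : Subgroup (alternatingGroup (Fin n)))] :
    2 ∣ ((centralizer ((P : Subgroup (alternatingGroup (Fin n))) : Set (alternatingGroup (Fin n)))).subgroupOf
      (normalizer ((P : Subgroup (alternatingGroup (Fin n))) : Set (alternatingGroup (Fin n))))).index := by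
  have hp3 : 3 ≤ p := by
    have := hpp.out.two_le
    omega
  haveI : NeZero n := ⟨by omega⟩
  let i : Fin n := ⟨p - 1, by omega⟩
  have hi0 : i ≠ 0 := by
    intro h
    have := congrArg Fin.val h
    simp only [i, Fin.val_zero] at this
    omega
  let c : Perm (Fin n) := Fin.cycleRange i
  have hct : c.cycleType = {p} := by
    rw [Fin.cycleType_cycleRange hi0]
    have : ((i : ℕ) + 1) = p := by simp only [i]; omega
    rw [this]
  have hsign : Perm.sign c = 1 := by
    rw [Fin.sign_cycleRange]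
    have hodd : Odd p := hpp.out.odd_of_ne_two hp2
    have : Even ((i : ℕ)) := by
      simp only [i]
      obtain ⟨k, hk⟩ := hodd
      exact ⟨k, by omega⟩
    exact this.neg_one_pow
  let σ₀ : alternatingGroup (Fin n) := ⟨c, mem_alternatingGroup.mpr hsign⟩
  have hord : orderOf σ₀ = p := by
    have h1 : orderOf σ₀ = orderOf c := by
      rw [← Subgroup.orderOf_coe]
    rw [h1, ← Perm.lcm_cycleType, hct, Multiset.lcm_singleton, normalize_eq]
  have hpg : IsPGroup p (zpowers σ₀) := by
    apply IsPGroup.of_card (n := 1)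
    rw [Nat.card_zpowers, hord, pow_one]
  obtain ⟨Q, hQ⟩ := hpg.exists_le_sylow
  obtain ⟨h, hh⟩ := MulAction.exists_smul_eq (alternatingGroup (Fin n)) Q P
  -- σ = h σ₀ h⁻¹ ∈ P
  let σ : alternatingGroup (Fin n) := h * σ₀ * h⁻¹
  have hσP : σ ∈ P := by
    rw [← hh]
    rw [Sylow.smul_def]
    show σ ∈ (MulAut.conj h • (Q : Subgroup (alternatingGroup (Fin n))))
    rw [Subgroup.mem_pointwise_smul_iff_inv_smul_mem]
    have : (MulAut.conj h)⁻¹ • σ = σ₀ := by
      show (MulAut.conj h)⁻¹ σ = σ₀
      rw [← map_inv]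
      simp only [σ, MulAut.conj_apply, inv_inv]
      group
    rw [this]
    exact hQ (Subgroup.mem_zpowers σ₀)
  have hσct : (σ : Perm (Fin n)).cycleType = {p} := by
    have : (σ : Perm (Fin n)) = (h : Perm (Fin n)) * c * (h : Perm (Fin n))⁻¹ := rfl
    rw [this, Perm.cycleType_conj, hct]
  have hσord : orderOf σ = p := by
    have h1 : orderOf σ = orderOf (σ : Perm (Fin n)) := by
      rw [← Subgroup.orderOf_coe]
    rw [h1, ← Perm.lcm_cycleType, hσct, Multiset.lcm_singleton, normalize_eq]
  have hσne : σ ≠ σ⁻¹ := by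
    intro heq
    have h2 : σ ^ 2 = 1 := by
      rw [pow_two]
      nth_rewrite 2 [heq]
      exact mul_inv_cancel σ
    have := orderOf_dvd_of_pow_eq_one h2
    rw [hσord] at this
    have := Nat.le_of_dvd (by norm_num) this
    omega
  have hconj : IsConj σ σ⁻¹ := by
    apply alternatingGroup.isConj_of
    · rw [Perm.isConj_iff_cycleType_eq]
      show (σ : Perm (Fin n)).cycleType = ((σ : Perm (Fin n))⁻¹).cycleType
      rw [Perm.cycleType_inv]
    · have : (σ : Perm (Fin n)).support.card = p := by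
        rw [← Perm.sum_cycleType, hσct, Multiset.sum_singleton]
      rw [this, Fintype.card_fin]
      exact hn
  obtain ⟨g, hg⟩ := isConj_iff.mp hconj
  refine two_dvd_index P σ g⁻¹ hσP hσne ?_
  rw [inv_inv]
  exact hg

open Equiv Equiv.Perm in
theorem isCyclic_of_lt (n : ℕ) {p : ℕ} [hpp : Fact p.Prime] (hn : n < 2 * p)
    (P : Sylow p (alternatingGroup (Fin n))) :
    IsCyclic (P : Subgroup (alternatingGroup (Fin n))) := by
  obtain ⟨k, hk⟩ := IsPGroup.iff_card.mp P.isPGroup'
  have h1 : Nat.card (P : Subgroup (alternatingGroup (Fin n))) ∣ n.factorial := by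
    have h2 : Nat.card (P : Subgroup (alternatingGroup (Fin n))) ∣
        Nat.card (alternatingGroup (Fin n)) := Subgroup.card_subgroup_dvd_card _
    have h3 : Nat.card (alternatingGroup (Fin n)) ∣ Nat.card (Perm (Fin n)) :=
      Subgroup.card_subgroup_dvd_card _
    have h4 : Nat.card (Perm (Fin n)) = n.factorial := by
      rw [Nat.card_perm, Nat.card_eq_fintype_card, Fintype.card_fin]
    rw [h4] at h3
    exact h2.trans h3
  have hp2 : 2 ≤ p := hpp.out.two_le
  have hk1 : k ≤ 1 := by
    by_contra hlt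
    push_neg at hlt
    have h5 : p ^ 2 ∣ n.factorial := by
      rw [hk] at h1
      exact (pow_dvd_pow p hlt).trans h1
    have hlog : Nat.log p n < 2 := by
      apply Nat.log_lt_of_lt_pow'
      · norm_num
      · nlinarith
    rw [hpp.out.pow_dvd_factorial_iff hlog] at h5
    have h6 : n / p ≤ 1 := by
      have : n / p < 2 := by
        rw [Nat.div_lt_iff_lt_mul (by omega)]
        exact hn
      omega
    simp at h5
    omega
  interval_cases k
  · haveI : Subsingleton (P : Subgroup (alternatingGroup (Fin n))) := by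
      rw [← Finite.card_le_one_iff_subsingleton, hk, pow_zero]
    infer_instance
  · rw [pow_one] at hk
    exact isCyclic_of_prime_card hk

theorem isPGroup_zpowers_of_pow {G : Type*} [Group G] (p k : ℕ) (x : G) (hx : x ^ p ^ k = 1) :
    IsPGroup p (zpowers x) := by
  rintro ⟨g, hg⟩
  obtain ⟨j, rfl⟩ := Subgroup.mem_zpowers_iff.mp hg
  refine ⟨k, Subtype.ext ?_⟩
  show (x ^ j) ^ p ^ k = 1
  rw [← zpow_natCast, ← zpow_mul, mul_comm, zpow_mul, zpow_natCast, hx, one_zpow]

theorem isPGroup_two_dihedral {G : Type*} [Group G] (x z : G) (hx : x ^ 2 = 1) (hz : z ^ 4 = 1)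
    (hxz : x * z * x⁻¹ = z⁻¹) : IsPGroup 2 (zpowers x ⊔ zpowers z : Subgroup G) := by
  have hxinv : x⁻¹ = x := by
    rw [inv_eq_iff_mul_eq_one, ← pow_two, hx]
  apply IsPGroup.to_sup_of_normal_right'
  · exact isPGroup_zpowers_of_pow 2 1 x (by simpa using hx)
  · exact isPGroup_zpowers_of_pow 2 2 z (by simpa using hz)
  · rw [Subgroup.zpowers_le, Subgroup.mem_normalizer_iff]
    intro h
    constructor
    · intro hh
      obtain ⟨j, rfl⟩ := Subgroup.mem_zpowers_iff.mp hh
      rw [← conj_zpow, hxz]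
      exact Subgroup.zpow_mem _ (Subgroup.inv_mem _ (Subgroup.mem_zpowers z)) j
    · intro hh
      obtain ⟨j, hj⟩ := Subgroup.mem_zpowers_iff.mp hh
      have : h = x * z ^ j * x⁻¹ := by
        rw [hj]
        nth_rewrite 1 [← hxinv]
        nth_rewrite 3 [hxinv]
        group
      rw [this, ← conj_zpow, hxz]
      exact Subgroup.zpow_mem _ (Subgroup.inv_mem _ (Subgroup.mem_zpowers z)) j

open Equiv Equiv.Perm in
theorem exists_altHom {α β : Type*} [Fintype α] [DecidableEq α] [Fintype β] [DecidableEq β]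
    (f : α ↪ β) : ∃ ι : alternatingGroup α →* alternatingGroup β, Function.Injective ι := by
  classical
  let e := Equiv.ofInjective f f.injective
  have hsign : ∀ a : alternatingGroup α,
      ((Perm.extendDomainHom e).comp (alternatingGroup α).subtype) a ∈ alternatingGroup β := by
    intro a
    rw [mem_alternatingGroup]
    show Perm.sign (Perm.extendDomain (a : Perm α) e) = 1
    rw [Perm.sign_extendDomain]
    exact mem_alternatingGroup.mp a.2
  refine ⟨((Perm.extendDomainHom e).comp (alternatingGroup α).subtype).codRestrict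
    (alternatingGroup β) hsign, ?_⟩
  intro a b hab
  have : Perm.extendDomainHom e (a : Perm α) = Perm.extendDomainHom e (b : Perm α) :=
    congrArg Subtype.val hab
  exact Subtype.ext (Perm.extendDomainHom_injective e this)

open Equiv Equiv.Perm in
theorem exists_dihedral_six : ∃ X Y : alternatingGroup (Fin 6),
    X ^ 2 = 1 ∧ (X * Y) ^ 4 = 1 ∧ X * (X * Y) * X⁻¹ = (X * Y)⁻¹ ∧ X * Y ≠ Y * X := by
  refine ⟨⟨swap 0 1 * swap 2 3, mem_alternatingGroup.mpr (by decide)⟩,
    ⟨swap 0 2 * swap 4 5, mem_alternatingGroup.mpr (by decide)⟩, ?_, ?_, ?_, ?_⟩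
  · apply Subtype.ext; decide
  · apply Subtype.ext; decide
  · apply Subtype.ext; decide
  · intro h
    have := congrArg Subtype.val h
    revert this
    decide

theorem not_comm_two (n : ℕ) (hn : 6 ≤ n) (P : Sylow 2 (alternatingGroup (Fin n)))
    [hP : IsMulCommutative (P : Subgroup (alternatingGroup (Fin n)))] : False := by
  obtain ⟨X, Y, hX, hXY4, hconj, hne⟩ := exists_dihedral_six
  obtain ⟨ι, hι⟩ := exists_altHom (Fin.castLEEmb hn)
  have hD : IsPGroup 2 (zpowers X ⊔ zpowers (X * Y) : Subgroup (alternatingGroup (Fin 6))) :=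
    isPGroup_two_dihedral X (X * Y) hX hXY4 hconj
  have hXD : X ∈ (zpowers X ⊔ zpowers (X * Y) : Subgroup (alternatingGroup (Fin 6))) :=
    (le_sup_left : zpowers X ≤ _) (Subgroup.mem_zpowers X)
  have hXYD : X * Y ∈ (zpowers X ⊔ zpowers (X * Y) : Subgroup (alternatingGroup (Fin 6))) :=
    (le_sup_right : zpowers (X * Y) ≤ _) (Subgroup.mem_zpowers (X * Y))
  have hYD : Y ∈ (zpowers X ⊔ zpowers (X * Y) : Subgroup (alternatingGroup (Fin 6))) := by
    have h := Subgroup.mul_mem _ (Subgroup.inv_mem _ hXD) hXYD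
    rwa [inv_mul_cancel_left] at h
  have hD' := hD.map ι
  obtain ⟨Q, hQ⟩ := hD'.exists_le_sylow
  obtain ⟨h, hh⟩ := MulAction.exists_smul_eq (alternatingGroup (Fin n)) Q P
  have hmem : ∀ u ∈ Q, h * u * h⁻¹ ∈ P := by
    intro u hu
    rw [← hh, Sylow.smul_def]
    show h * u * h⁻¹ ∈ (MulAut.conj h • (Q : Subgroup (alternatingGroup (Fin n))))
    rw [Subgroup.mem_pointwise_smul_iff_inv_smul_mem]
    have : (MulAut.conj h)⁻¹ • (h * u * h⁻¹) = u := by
      show (MulAut.conj h)⁻¹ (h * u * h⁻¹) = u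
      rw [← map_inv]
      simp only [MulAut.conj_apply, inv_inv]
      group
    rw [this]
    exact hu
  have hXQ : ι X ∈ Q := hQ (Subgroup.mem_map_of_mem ι hXD)
  have hYQ : ι Y ∈ Q := hQ (Subgroup.mem_map_of_mem ι hYD)
  have hcomm : (h * ι X * h⁻¹) * (h * ι Y * h⁻¹) = (h * ι Y * h⁻¹) * (h * ι X * h⁻¹) := by
    have := hP.is_comm.comm (⟨_, hmem _ hXQ⟩ : (P : Subgroup (alternatingGroup (Fin n))))
      ⟨_, hmem _ hYQ⟩
    exact congrArg Subtype.val this
  apply hne
  apply hι
  rw [map_mul, map_mul]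
  have h1 : h * (ι X * ι Y) * h⁻¹ = h * (ι Y * ι X) * h⁻¹ := by
    calc h * (ι X * ι Y) * h⁻¹ = (h * ι X * h⁻¹) * (h * ι Y * h⁻¹) := by group
      _ = (h * ι Y * h⁻¹) * (h * ι X * h⁻¹) := hcomm
      _ = h * (ι Y * ι X) * h⁻¹ := by group
  exact mul_left_cancel (mul_right_cancel h1)

open Equiv Equiv.Perm in
theorem sq_eq_one_of_pow_four : ∀ g : Perm (Fin 5), g ^ 4 = 1 → Perm.sign g = 1 → g ^ 2 = 1 := by
  decide +kernel

theorem card_a5 : Nat.card (alternatingGroup (Fin 5)) = 60 := by
  rw [nat_card_alternatingGroup]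
  simp [Nat.factorial]

theorem a5_case [hp : Fact (Nat.Prime 2)] (P : Sylow 2 (alternatingGroup (Fin 5)))
    [hP : IsMulCommutative (P : Subgroup (alternatingGroup (Fin 5)))] :
    ((centralizer ((P : Subgroup (alternatingGroup (Fin 5))) : Set (alternatingGroup (Fin 5)))).subgroupOf
      (normalizer ((P : Subgroup (alternatingGroup (Fin 5))) : Set (alternatingGroup (Fin 5))))).index = 3 ∧
    IsKleinFour (P : Subgroup (alternatingGroup (Fin 5))) := by
  -- card P = 4
  have hcardP : Nat.card (P : Subgroup (alternatingGroup (Fin 5))) = 4 := by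
    obtain ⟨k, hk⟩ := IsPGroup.iff_card.mp P.isPGroup'
    have h1 := (P : Subgroup (alternatingGroup (Fin 5))).card_mul_index
    rw [card_a5, hk] at h1
    have h2 := P.not_dvd_index
    have hk3 : k < 3 := by
      by_contra hlt
      push_neg at hlt
      have : (2 : ℕ) ^ 3 ∣ 60 := (pow_dvd_pow 2 hlt).trans ⟨_, h1.symm⟩
      omega
    interval_cases k
    · exfalso; apply h2; omega
    · exfalso; apply h2; omega
    · rw [hk]; norm_num
  have hKlein : IsKleinFour (P : Subgroup (alternatingGroup (Fin 5))) := by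
    refine ⟨hcardP, ?_⟩
    haveI : Nontrivial (P : Subgroup (alternatingGroup (Fin 5))) := by
      rw [← Finite.one_lt_card_iff_nontrivial, hcardP]; norm_num
    apply Nat.dvd_antisymm
    · rw [Monoid.exponent_dvd_iff_forall_pow_eq_one]
      rintro ⟨⟨g, hg⟩, hgP⟩
      have h4 : (⟨⟨g, hg⟩, hgP⟩ : (P : Subgroup (alternatingGroup (Fin 5)))) ^ 4 = 1 := by
        rw [← hcardP]; exact pow_card_eq_one'
      have h4' : g ^ 4 = 1 := by
        have := congrArg (fun x : (P : Subgroup (alternatingGroup (Fin 5))) =>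
          ((x : alternatingGroup (Fin 5)) : Equiv.Perm (Fin 5))) h4
        simpa using this
      have h2' := sq_eq_one_of_pow_four g h4' (Equiv.Perm.mem_alternatingGroup.mp hg)
      apply Subtype.ext
      apply Subtype.ext
      simpa using h2'
    · by_contra hnd
      have hexp : Monoid.exponent (P : Subgroup (alternatingGroup (Fin 5))) ∣ 4 := by
        rw [← hcardP]; exact Group.exponent_dvd_nat_card
      have hpos : Monoid.exponent (P : Subgroup (alternatingGroup (Fin 5))) ≠ 1 := by
        rw [Ne, Monoid.exp_eq_one_iff]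
        exact not_subsingleton _
      have hle := Nat.le_of_dvd (by norm_num) hexp
      have hne0 : Monoid.exponent (P : Subgroup (alternatingGroup (Fin 5))) ≠ 0 := by
        intro h0; rw [h0] at hexp; omega
      interval_cases (Monoid.exponent (P : Subgroup (alternatingGroup (Fin 5)))) <;> omega
  refine ⟨?_, hKlein⟩
  set N := normalizer ((P : Subgroup (alternatingGroup (Fin 5))) : Set (alternatingGroup (Fin 5))) with hN
  set C := centralizer ((P : Subgroup (alternatingGroup (Fin 5))) : Set (alternatingGroup (Fin 5))) with hC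
  have hCN : C ≤ N := Subgroup.centralizer_le_normalizer _
  have hPC : (P : Subgroup (alternatingGroup (Fin 5))) ≤ C := Subgroup.le_centralizer _
  -- k ∣ 24
  have h24 : (C.subgroupOf N).index ∣ 24 := by
    rw [← Subgroup.normalizerMonoidHom_ker, Subgroup.index_ker]
    have h1 : Nat.card (P : Subgroup (alternatingGroup (Fin 5))).normalizerMonoidHom.range ∣
        Nat.card (MulAut (P : Subgroup (alternatingGroup (Fin 5)))) :=
      Subgroup.card_subgroup_dvd_card _
    have hinj : Function.Injective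
        (MulAut.toPerm (P : Subgroup (alternatingGroup (Fin 5)))) := by
      intro a b hab
      exact MulEquiv.toEquiv_injective hab
    have h2 : Nat.card (MulAut (P : Subgroup (alternatingGroup (Fin 5)))) ∣
        Nat.card (Equiv.Perm (P : Subgroup (alternatingGroup (Fin 5)))) := by
      rw [Nat.card_congr (MonoidHom.ofInjective hinj).toEquiv]
      exact Subgroup.card_subgroup_dvd_card _
    have h3 : Nat.card (Equiv.Perm (P : Subgroup (alternatingGroup (Fin 5)))) = 24 := by
      rw [Nat.card_perm, hcardP]; rfl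
    rw [h3] at h2
    exact h1.trans h2
  -- k ∣ 15
  have h15 : (C.subgroupOf N).index ∣ 15 := by
    have h1 := (C.subgroupOf N).card_mul_index
    rw [Nat.card_congr (Subgroup.subgroupOfEquivOfLe hCN).toEquiv] at h1
    have h2 : Nat.card N ∣ 60 := by
      rw [← card_a5]; exact Subgroup.card_subgroup_dvd_card _
    have h3 : 4 ∣ Nat.card C := by
      rw [← hcardP]; exact Subgroup.card_dvd_of_le hPC
    obtain ⟨c, hc⟩ := h3
    obtain ⟨j, hj⟩ := h2
    rw [hc] at h1
    refine ⟨c * j, ?_⟩
    have : 4 * ((C.subgroupOf N).index * (c * j)) = 4 * 15 := by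
      calc 4 * ((C.subgroupOf N).index * (c * j)) = (4 * c * (C.subgroupOf N).index) * j := by ring
        _ = Nat.card N * j := by rw [h1]
        _ = 4 * 15 := by rw [← hj]
    omega
  -- k ≠ 1
  have hne1 : (C.subgroupOf N).index ≠ 1 := by
    intro h1
    rw [Subgroup.index_eq_one, Subgroup.subgroupOf_eq_top] at h1
    have hcomp := MonoidHom.ker_transferSylow_isComplement' P h1
    have hcard := hcomp.card_mul_card
    rw [card_a5, hcardP] at hcard
    haveI := alternatingGroup.isSimpleGroup_five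
    rcases (MonoidHom.normal_ker (MonoidHom.transferSylow P h1)).eq_bot_or_eq_top with h | h
    · rw [h, Subgroup.card_bot] at hcard; omega
    · rw [h, Subgroup.card_top, card_a5] at hcard; omega
  have h3 : (C.subgroupOf N).index ∣ 3 := by
    have := Nat.dvd_gcd h24 h15
    simpa using this
  rcases (Nat.dvd_prime Nat.prime_three).mp h3 with h | h
  · exact absurd h hne1
  · exact h

end Cfsg.Agent.Lib.Helper23.NCEven
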