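import Mathlib

/-!
Arithmetic for the bound on nilpotent subgroups of symmetric groups.
-/

namespace Cfsg.Agent.Lib.Helper23.NilpBound

open Nat

/-- 2-adic valuation of `n!` -/
def e (n : ℕ) : ℕ := padicValNat 2 n.factorial

/-- weight: 3 if `n ≡ 3 mod 4`, else 2 -/
def w (n : ℕ) : ℕ := if n % 4 = 3 then 3 else 2

/-- twice the bound -/
def G2 (n : ℕ) : ℕ := w n * 2 ^ e n

theorem e_two_mul (m : ℕ) : e (2 * m) = e m + m := padicValNat_factorial_mul m

theorem e_two_mul_add_one (m : ℕ) : e (2 * m + 1) = e (2 * m) :=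
  padicValNat_factorial_mul_add m (by norm_num)

theorem e_zero : e 0 = 0 := by simp [e]
theorem e_one : e 1 = 0 := by simp [e]

/-- carries -/
def kap (a b : ℕ) : ℕ := padicValNat 2 (choose (a + b) b)

theorem e_add (a b : ℕ) : e (a + b) = e a + e b + kap a b := by
  unfold e kap
  rw [← add_choose_mul_factorial_mul_factorial a b,
    padicValNat.mul (Nat.mul_ne_zero (choose_pos (Nat.le_add_left b a)).ne'
      (factorial_ne_zero a)) (factorial_ne_zero b),
    padicValNat.mul (choose_pos (Nat.le_add_left b a)).ne' (factorial_ne_zero a)]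
  ring

theorem kap_eq (a b : ℕ) : kap a b =
    (Finset.filter (fun i => 2 ^ i ≤ b % 2 ^ i + a % 2 ^ i)
      (Finset.Ico 1 (Nat.log 2 (a + b) + 3))).card :=
  padicValNat_choose' (by omega)

theorem kap_ge_one_of_odd {a b : ℕ} (ha : a % 2 = 1) (hb : b % 2 = 1) : 1 ≤ kap a b := by
  rw [kap_eq]
  apply Finset.card_pos.mpr
  refine ⟨1, ?_⟩
  simp only [Finset.mem_filter, Finset.mem_Ico]
  refine ⟨⟨le_refl _, by omega⟩, ?_⟩
  norm_num
  omega

theorem kap_ge_one_of_four {a b : ℕ} (h : 4 ≤ a % 4 + b % 4) : 1 ≤ kap a b := by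
  rw [kap_eq]
  apply Finset.card_pos.mpr
  refine ⟨2, ?_⟩
  simp only [Finset.mem_filter, Finset.mem_Ico]
  refine ⟨⟨by norm_num, by omega⟩, ?_⟩
  norm_num
  omega

theorem kap_ge_two {a b : ℕ} (ha : a % 4 = 3) (hb : b % 4 = 3) : 2 ≤ kap a b := by
  rw [kap_eq]
  have hsub : ({1, 2} : Finset ℕ) ⊆ Finset.filter (fun i => 2 ^ i ≤ b % 2 ^ i + a % 2 ^ i)
      (Finset.Ico 1 (Nat.log 2 (a + b) + 3)) := by
    intro i hi
    simp only [Finset.mem_insert, Finset.mem_singleton] at hi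
    simp only [Finset.mem_filter, Finset.mem_Ico]
    rcases hi with rfl | rfl
    · refine ⟨⟨le_refl _, by omega⟩, ?_⟩
      norm_num
      omega
    · refine ⟨⟨by norm_num, by omega⟩, ?_⟩
      norm_num
      omega
  have := Finset.card_le_card hsub
  simpa using this


theorem w_cases (n : ℕ) : (n % 4 = 3 ∧ w n = 3) ∨ (n % 4 ≠ 3 ∧ w n = 2) := by
  unfold w
  by_cases h : n % 4 = 3
  · left; simp [h]
  · right; simp [h]

theorem w_ge (n : ℕ) : 2 ≤ w n := by
  rcases w_cases n with ⟨-, h⟩ | ⟨-, h⟩ <;> omega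

theorem w_mul_le (a b : ℕ) : w a * w b ≤ 2 * w (a + b) * 2 ^ kap a b := by
  have h1 : 1 ≤ 2 ^ kap a b := Nat.one_le_two_pow
  have hab := w_ge (a + b)
  rcases w_cases a with ⟨ha, hwa⟩ | ⟨ha, hwa⟩ <;> rcases w_cases b with ⟨hb, hwb⟩ | ⟨hb, hwb⟩
  · -- both 3
    have h2 : 2 ^ 2 ≤ 2 ^ kap a b := Nat.pow_le_pow_right (by norm_num) (kap_ge_two ha hb)
    rw [hwa, hwb]
    nlinarith
  · rw [hwa, hwb]
    have hb4 : b % 4 = 0 ∨ b % 4 = 1 ∨ b % 4 = 2 := by omega
    rcases hb4 with hb0 | hb1 | hb2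
    · have : (a + b) % 4 = 3 := by omega
      rcases w_cases (a + b) with ⟨-, h3⟩ | ⟨h3, -⟩
      · rw [h3]; nlinarith
      · exact absurd this h3
    · have h2 : 2 ^ 1 ≤ 2 ^ kap a b :=
        Nat.pow_le_pow_right (by norm_num) (kap_ge_one_of_odd (by omega) (by omega))
      nlinarith
    · have h2 : 2 ^ 1 ≤ 2 ^ kap a b :=
        Nat.pow_le_pow_right (by norm_num) (kap_ge_one_of_four (by omega))
      nlinarith
  · rw [hwa, hwb]
    have ha4 : a % 4 = 0 ∨ a % 4 = 1 ∨ a % 4 = 2 := by omega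
    rcases ha4 with ha0 | ha1 | ha2
    · have : (a + b) % 4 = 3 := by omega
      rcases w_cases (a + b) with ⟨-, h3⟩ | ⟨h3, -⟩
      · rw [h3]; nlinarith
      · exact absurd this h3
    · have h2 : 2 ^ 1 ≤ 2 ^ kap a b :=
        Nat.pow_le_pow_right (by norm_num) (kap_ge_one_of_odd (by omega) (by omega))
      nlinarith
    · have h2 : 2 ^ 1 ≤ 2 ^ kap a b :=
        Nat.pow_le_pow_right (by norm_num) (kap_ge_one_of_four (by omega))
      nlinarith
  · rw [hwa, hwb]
    nlinarith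

/-- supermultiplicativity -/
theorem G2_mul_le (a b : ℕ) : G2 a * G2 b ≤ 2 * G2 (a + b) := by
  unfold G2
  rw [e_add]
  have := w_mul_le a b
  calc w a * 2 ^ e a * (w b * 2 ^ e b) = (w a * w b) * 2 ^ (e a + e b) := by ring
    _ ≤ (2 * w (a + b) * 2 ^ kap a b) * 2 ^ (e a + e b) := Nat.mul_le_mul_right _ this
    _ = 2 * (w (a + b) * 2 ^ (e a + e b + kap a b)) := by ring

theorem G2_one : G2 1 = 2 := by simp [G2, w, e_one]
theorem G2_zero : G2 0 = 2 := by simp [G2, w, e_zero]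

theorem G2_mono_succ (a : ℕ) : G2 a ≤ G2 (a + 1) := by
  have := G2_mul_le a 1
  rw [G2_one] at this
  omega

theorem G2_mono {a b : ℕ} (h : a ≤ b) : G2 a ≤ G2 b := by
  induction b, h using Nat.le_induction with
  | base => exact le_refl _
  | succ n hn ih => exact ih.trans (G2_mono_succ n)

theorem G2_pos (n : ℕ) : 0 < G2 n := by
  unfold G2
  have := w_ge n
  positivity


theorem V_rec (q : ℕ) [hq : Fact q.Prime] (n : ℕ) :
    padicValNat q n.factorial = n / q + padicValNat q (n / q).factorial := by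
  conv_lhs => rw [← Nat.div_add_mod n q]
  rw [padicValNat_factorial_mul_add (n / q) (Nat.mod_lt _ hq.out.pos), padicValNat_factorial_mul,
    add_comm]

theorem e_rec (n : ℕ) : e n = n / 2 + e (n / 2) := V_rec 2 n

theorem e_two : e 2 = 1 := by rw [e_rec, show 2 / 2 = 1 from rfl, e_one]
theorem e_three : e 3 = 1 := by rw [e_rec, show 3 / 2 = 1 from rfl, e_one]
theorem e_four : e 4 = 3 := by rw [e_rec, show 4 / 2 = 2 from rfl, e_two]
theorem e_five : e 5 = 3 := by rw [e_rec, show 5 / 2 = 2 from rfl, e_two]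
theorem e_six : e 6 = 4 := by rw [e_rec, show 6 / 2 = 3 from rfl, e_three]
theorem e_seven : e 7 = 4 := by rw [e_rec, show 7 / 2 = 3 from rfl, e_three]
theorem e_8 : e 8 = 7 := by rw [e_rec, show 8 / 2 = 4 from rfl, e_four]
theorem e_9 : e 9 = 7 := by rw [e_rec, show 9 / 2 = 4 from rfl, e_four]
theorem e_10 : e 10 = 8 := by rw [e_rec, show 10 / 2 = 5 from rfl, e_five]
theorem e_11 : e 11 = 8 := by rw [e_rec, show 11 / 2 = 5 from rfl, e_five]
theorem e_12 : e 12 = 10 := by rw [e_rec, show 12 / 2 = 6 from rfl, e_six]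
theorem e_13 : e 13 = 10 := by rw [e_rec, show 13 / 2 = 6 from rfl, e_six]
theorem e_14 : e 14 = 11 := by rw [e_rec, show 14 / 2 = 7 from rfl, e_seven]
theorem e_15 : e 15 = 11 := by rw [e_rec, show 15 / 2 = 7 from rfl, e_seven]

theorem G2_8 : G2 8 = 256 := by simp [G2, w, e_8]

/-- `4 * 3^n ≤ 3 * G2(n)^2` for `n ≥ 8`. -/
theorem three_pow_le : ∀ n : ℕ, 8 ≤ n → 4 * 3 ^ n ≤ 3 * G2 n ^ 2 := by
  intro n
  induction n using Nat.strong_induction_on with
  | _ n ih =>
  intro hn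
  by_cases h16 : n < 16
  · interval_cases n
    · simp [G2, w, e_8]
    · simp [G2, w, e_9]
    · simp [G2, w, e_10]
    · simp [G2, w, e_11]
    · simp [G2, w, e_12]
    · simp [G2, w, e_13]
    · simp [G2, w, e_14]
    · simp [G2, w, e_15]
  · obtain ⟨m, rfl⟩ : ∃ m, n = m + 8 := ⟨n - 8, by omega⟩
    have h1 := ih m (by omega) (by omega)
    have h2 := G2_mul_le m 8
    rw [G2_8] at h2
    have h3 : 128 * G2 m ≤ G2 (m + 8) := by omega
    have h4 : (128 * G2 m) ^ 2 ≤ G2 (m + 8) ^ 2 := Nat.pow_le_pow_left h3 2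
    have h5 : (3:ℕ) ^ (m + 8) = 6561 * 3 ^ m := by rw [pow_add]; norm_num [mul_comm]
    rw [h5]
    nlinarith

theorem sq_le_three_pow : ∀ q : ℕ, 3 ≤ q → q ^ 2 ≤ 3 ^ (q - 1) := by
  intro q hq
  induction q, hq using Nat.le_induction with
  | base => norm_num
  | succ n hn ih =>
    have : n + 1 - 1 = (n - 1) + 1 := by omega
    rw [this]
    calc (n + 1) ^ 2 ≤ 3 * n ^ 2 := by nlinarith
      _ ≤ 3 * 3 ^ (n - 1) := Nat.mul_le_mul_left _ ih
      _ = 3 ^ (n - 1 + 1) := by ring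

theorem small_case (n q : ℕ) (hn : n < 8) (hq : 3 ≤ q) : 2 * q ^ (n / q) ≤ G2 n := by
  by_cases hlt : n < q
  · rw [Nat.div_eq_of_lt hlt, pow_zero]
    have := w_ge n
    unfold G2
    have h1 : 1 ≤ 2 ^ e n := Nat.one_le_two_pow
    nlinarith
  · have hq8 : q < 8 := by omega
    interval_cases n <;> interval_cases q <;>
      simp [G2, w, e_three, e_four, e_five, e_six, e_seven]

/-- Sylow bound: `2 * q^(v_q(n!)) ≤ G2 n`. -/
theorem sylow_le (q : ℕ) [hq : Fact q.Prime] (n : ℕ) :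
    2 * q ^ padicValNat q n.factorial ≤ G2 n := by
  rcases hq.out.eq_two_or_odd' with rfl | hodd
  · unfold G2
    have := w_ge n
    exact Nat.mul_le_mul_right _ this
  have hq3 : 3 ≤ q := by
    have := hq.out.two_le
    rcases hodd with ⟨k, hk⟩
    omega
  by_cases hn : n < 8
  · rw [V_rec]
    have h0 : padicValNat q (n / q).factorial = 0 := by
      rw [V_rec]
      have h1 : n / q / q = 0 := by
        rw [Nat.div_div_eq_div_mul]
        apply Nat.div_eq_of_lt
        nlinarith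
      rw [h1]
      simp
    rw [h0, add_zero]
    exact small_case n q hn hq3
  · have hn8 : 8 ≤ n := by omega
    set v := padicValNat q n.factorial with hv
    have h1 : (q - 1) * v < n :=
      sub_one_mul_padicValNat_factorial_lt_of_ne_zero q (by omega)
    have h2 : (q ^ v) ^ 2 ≤ 3 ^ ((q - 1) * v) := by
      rw [← pow_mul, mul_comm v 2, pow_mul, pow_mul]
      exact Nat.pow_le_pow_left (sq_le_three_pow q hq3) v
    have h3 : 3 * 3 ^ ((q - 1) * v) ≤ 3 ^ n := by
      rw [← pow_succ']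
      exact Nat.pow_le_pow_right (by norm_num) h1
    have h4 := three_pow_le n hn8
    have h5 : (2 * q ^ v) ^ 2 ≤ G2 n ^ 2 := by nlinarith
    exact (Nat.pow_le_pow_iff_left (by norm_num)).mp h5

end Cfsg.Agent.Lib.Helper23.NilpBound
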