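import Mathlib
import Cfsg.Agent.Lib.Helper23.NilpBound

/-!
Nilpotent subgroups of symmetric groups: order bound.
-/

namespace Cfsg.Agent.Lib.Helper23.NilpSym

open Cfsg.Agent.Lib.Helper23.NilpBound

section decomp

variable {G : Type*} [Group G] [Finite G]

/-- a subgroup containing a Sylow `r`-subgroup for every prime `r` is everything. -/
theorem eq_top_of_sylow_le (H : Subgroup G)
    (h : ∀ (r : ℕ) [Fact r.Prime], ∃ R : Sylow r G, (R : Subgroup G) ≤ H) : H = ⊤ := by
  apply Subgroup.eq_top_of_card_eq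
  apply Nat.dvd_antisymm (Subgroup.card_subgroup_dvd_card H)
  rw [← Nat.factorization_prime_le_iff_dvd Nat.card_pos.ne' Nat.card_pos.ne']
  intro r hr
  haveI := Fact.mk hr
  obtain ⟨R, hR⟩ := h r
  rw [← hr.pow_dvd_iff_le_factorization Nat.card_pos.ne', ← R.card_eq_multiplicity]
  exact Subgroup.card_dvd_of_le hR

/-- coprime commuting decomposition of a nilpotent group that is not of prime power order. -/
theorem nil_decomp [Group.IsNilpotent G] (hnp : ¬ ∃ p : ℕ, p.Prime ∧ IsPGroup p G) :
    ∃ A B : Subgroup G, A ≠ ⊥ ∧ B ≠ ⊥ ∧ (∀ a ∈ A, ∀ b ∈ B, Commute a b) ∧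
      (∀ g : G, ∃ a ∈ A, ∃ b ∈ B, g = a * b) ∧ Nat.card A * Nat.card B = Nat.card G ∧
      (Nat.card A).Coprime (Nat.card B) := by
  have hcard : Nat.card G ≠ 1 := by
    intro h1
    apply hnp
    refine ⟨2, Nat.prime_two, IsPGroup.of_card (n := 0) (by simpa using h1)⟩
  set q := (Nat.card G).minFac with hq
  have hqp : q.Prime := Nat.minFac_prime hcard
  haveI := Fact.mk hqp
  have hqd : q ∣ Nat.card G := Nat.minFac_dvd _
  let A : Sylow q G := default
  have hAn : (A : Subgroup G).Normal := inferInstance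
  have hAbot : (A : Subgroup G) ≠ ⊥ := A.ne_bot_of_dvd_card hqd
  have hAtop : (A : Subgroup G) ≠ ⊤ := by
    intro htop
    apply hnp
    refine ⟨q, hqp, IsPGroup.of_card (n := (Nat.card G).factorization q) ?_⟩
    rw [← A.card_eq_multiplicity, htop, Subgroup.card_top]
  obtain ⟨B, hB⟩ := Subgroup.exists_right_complement'_of_coprime A.card_coprime_index
  have hBcard : Nat.card B = (A : Subgroup G).index := by
    have := hB.symm.index_eq_card
    exact this.symm
  have hcop : (Nat.card (A : Subgroup G)).Coprime (Nat.card B) := by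
    rw [hBcard]; exact A.card_coprime_index
  have hBbot : B ≠ ⊥ := by
    rintro rfl
    exact hAtop (Subgroup.isComplement'_bot_right.mp hB)
  -- centralizer
  have hcent : (A : Subgroup G) ⊔ Subgroup.centralizer ((A : Subgroup G) : Set G) = ⊤ := by
    apply eq_top_of_sylow_le
    intro r _
    by_cases hrq : r = q
    · subst hrq
      exact ⟨A, le_sup_left⟩
    · let R : Sylow r G := default
      refine ⟨R, le_trans ?_ le_sup_right⟩
      intro y hy
      rw [Subgroup.mem_centralizer_iff]
      intro x hx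
      have hRn : (R : Subgroup G).Normal := inferInstance
      have hdis : Disjoint (A : Subgroup G) (R : Subgroup G) :=
        IsPGroup.disjoint_of_ne q r (Ne.symm hrq) _ _ A.isPGroup' R.isPGroup'
      exact (Subgroup.commute_of_normal_of_disjoint _ _ hAn hRn hdis x y hx hy).eq
  have hBle : B ≤ Subgroup.centralizer ((A : Subgroup G) : Set G) := by
    intro y hy
    have hy' : y ∈ ((A : Subgroup G) ⊔ Subgroup.centralizer ((A : Subgroup G) : Set G) :
        Subgroup G) := by rw [hcent]; trivial
    rw [← SetLike.mem_coe, Subgroup.normal_mul] at hy'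
    obtain ⟨a, ha, c, hc, rfl⟩ := hy'
    have hac : Commute a c := ((Subgroup.mem_centralizer_iff.mp hc) a ha)
    set m := Nat.card (A : Subgroup G) with hm
    have h1 : (a * c) ^ m = c ^ m := by
      rw [hac.mul_pow]
      have : a ^ m = 1 := by
        have := pow_card_eq_one' (G := (A : Subgroup G)) (x := ⟨a, ha⟩)
        exact congrArg Subtype.val this
      rw [this, one_mul]
    have h2 : m.Coprime (orderOf (a * c)) :=
      hcop.coprime_dvd_right (Subgroup.orderOf_dvd_natCard B hy)
    obtain ⟨k, hk⟩ := exists_pow_eq_self_of_coprime h2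
    show a * c ∈ _
    rw [← hk, h1]
    exact Subgroup.pow_mem _ (Subgroup.pow_mem _ hc m) k
  refine ⟨A, B, hAbot, hBbot, ?_, ?_, hB.card_mul_card, hcop⟩
  · intro a ha b hb
    exact ((Subgroup.mem_centralizer_iff.mp (hBle hb)) a ha)
  · intro g
    obtain ⟨⟨⟨a, ha⟩, ⟨b, hb⟩⟩, hab⟩ := hB.2 g
    exact ⟨a, ha, b, hb, hab.symm⟩

end decomp


section perm

open Equiv

variable {α : Type} {H : Type} [Group H]

/-- restriction of a permutation action to an invariant predicate -/
def resHom (φ : H →* Perm α) (p : α → Prop) (hp : ∀ h : H, ∀ x, p (φ h x) ↔ p x) :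
    H →* Perm (Subtype p) where
  toFun h := (φ h).subtypePerm (hp h)
  map_one' := by
    ext x
    simp
  map_mul' a b := by
    ext x
    simp only [map_mul, Perm.subtypePerm_apply, Perm.mul_apply]

@[simp] theorem resHom_apply (φ : H →* Perm α) (p : α → Prop)
    (hp : ∀ h : H, ∀ x, p (φ h x) ↔ p x) (h : H) (x : Subtype p) :
    ((resHom φ p hp h) x : α) = φ h x := rfl

theorem key_K (φ : H →* Perm α) (a b : H) (hab : Commute a b)
    (hco : (orderOf a).Coprime (orderOf b)) (ω : α) (h : φ (a * b) ω = ω) :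
    φ a ω = ω ∧ φ b ω = ω := by
  have h1 : ∀ k : ℕ, φ ((a * b) ^ k) ω = ω := by
    intro k
    induction k with
    | zero => simp
    | succ k ih => rw [pow_succ, map_mul, Perm.mul_apply, h, ih]
  have h2 : (a * b) ^ orderOf b = a ^ orderOf b := by
    rw [hab.mul_pow, pow_orderOf_eq_one, mul_one]
  obtain ⟨k, hk⟩ := exists_pow_eq_self_of_coprime (x := a) hco.symm
  have h3 : φ a ω = ω := by
    have := h1 (orderOf b * k)
    rw [pow_mul, h2, hk] at this
    exact this
  refine ⟨h3, ?_⟩
  have h4 : φ b ω = φ a⁻¹ (φ (a * b) ω) := by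
    rw [← Perm.mul_apply, ← map_mul]
    simp
  rw [h4, h, map_inv, Perm.inv_eq_iff_eq, h3]

theorem faithful_orbit (φ : H →* Perm α) (A B : Subgroup H)
    (hcomm : ∀ a ∈ A, ∀ b ∈ B, Commute a b) (ω : α)
    (htr : ∀ x : α, ∃ a ∈ A, ∃ b ∈ B, φ (a * b) ω = x)
    (a0 : H) (ha0 : a0 ∈ A) (hfix : ∀ a ∈ A, φ a0 (φ a ω) = φ a ω) : φ a0 = 1 := by
  ext x
  obtain ⟨a, ha, b, hb, rfl⟩ := htr x
  have h1 : φ (a * b) ω = φ b (φ a ω) := by
    rw [(hcomm a ha b hb).eq, map_mul, Perm.mul_apply]
  rw [h1, Perm.one_apply, ← Perm.mul_apply, ← map_mul, (hcomm a0 ha0 b hb).eq, map_mul,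
    Perm.mul_apply, hfix a ha]

theorem faithful_orbit' (φ : H →* Perm α) (A B : Subgroup H)
    (hcomm : ∀ a ∈ A, ∀ b ∈ B, Commute a b) (ω : α)
    (htr : ∀ x : α, ∃ a ∈ A, ∃ b ∈ B, φ (a * b) ω = x)
    (b0 : H) (hb0 : b0 ∈ B) (hfix : ∀ b ∈ B, φ b0 (φ b ω) = φ b ω) : φ b0 = 1 := by
  apply faithful_orbit φ B A (fun b hb a ha => (hcomm a ha b hb).symm) ω ?_ b0 hb0 hfix
  intro x
  obtain ⟨a, ha, b, hb, h⟩ := htr x
  exact ⟨b, hb, a, ha, by rw [← (hcomm a ha b hb).eq]; exact h⟩

theorem two_le_card_of_injective {K β : Type} [Group K] [Finite β] (f : K →* Perm β)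
    (hf : Function.Injective f) (hK : ∃ k : K, k ≠ 1) : 2 ≤ Nat.card β := by
  by_contra hlt
  push Not at hlt
  obtain ⟨k, hk⟩ := hK
  apply hk
  apply hf
  rw [map_one]
  ext x
  have : Subsingleton β := Finite.card_le_one_iff_subsingleton.mp (by omega)
  exact Subsingleton.elim _ _

end perm


section main

open Equiv

theorem bound : ∀ n : ℕ, ∀ (α : Type) [Finite α], Nat.card α = n →
    ∀ (H : Type) [Group H] [Finite H] [Group.IsNilpotent H] (φ : H →* Perm α),
    Function.Injective φ → 2 * Nat.card H ≤ G2 n := by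
  intro n
  induction n using Nat.strong_induction_on with
  | _ n ih =>
  intro α _ hα H _ _ _ φ hφ
  classical
  have ih' : ∀ m < n, ∀ (β : Type) [Finite β], Nat.card β = m → ∀ (K : Type) [Group K]
      [Finite K] [Group.IsNilpotent K] (f : K →* Perm β), 2 * Nat.card f.range ≤ G2 m := by
    intro m hm β _ hβ K _ _ _ f
    haveI : Group.IsNilpotent f.range :=
      nilpotent_of_surjective f.rangeRestrict f.rangeRestrict_surjective
    exact ih m hm β hβ f.range f.range.subtype (Subgroup.subtype_injective _)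
  by_cases hp : ∃ p : ℕ, p.Prime ∧ IsPGroup p H
  · obtain ⟨p, hpp, hPG⟩ := hp
    haveI := Fact.mk hpp
    obtain ⟨k, hk⟩ := hPG.exists_card_eq
    have hdvd : Nat.card H ∣ Nat.card (Perm α) := Subgroup.card_dvd_of_injective φ hφ
    rw [Nat.card_perm, hα, hk] at hdvd
    have hle : k ≤ padicValNat p n.factorial :=
      (padicValNat_dvd_iff_le (Nat.factorial_ne_zero _)).mp hdvd
    rw [hk]
    calc 2 * p ^ k ≤ 2 * p ^ padicValNat p n.factorial :=
          Nat.mul_le_mul_left _ (Nat.pow_le_pow_right hpp.pos hle)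
      _ ≤ G2 n := sylow_le p n
  · obtain ⟨A, B, hA, hB, hcomm, hprod, hcard, hcop⟩ := nil_decomp hp
    by_cases htr : ∀ x y : α, ∃ h : H, φ h x = y
    · -- transitive case
      obtain ⟨a1, ha1ne⟩ := (Subgroup.ne_bot_iff_exists_ne_one).mp hA
      obtain ⟨b1, hb1ne⟩ := (Subgroup.ne_bot_iff_exists_ne_one).mp hB
      have hφa1 : φ a1 ≠ 1 := by
        intro h
        apply ha1ne
        apply Subtype.ext
        apply hφ
        rw [h, Subgroup.coe_one, map_one]
      obtain ⟨ω, -⟩ : ∃ ω, φ a1 ω ≠ ω := by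
        by_contra hall
        push Not at hall
        exact hφa1 (Perm.ext hall)
      have htr' : ∀ x : α, ∃ a ∈ A, ∃ b ∈ B, φ (a * b) ω = x := by
        intro x
        obtain ⟨h, hh⟩ := htr ω x
        obtain ⟨a, ha, b, hb, rfl⟩ := hprod h
        exact ⟨a, ha, b, hb, hh⟩
      -- the two orbits
      let pA : α → Prop := fun z => ∃ a ∈ A, φ a ω = z
      let pB : α → Prop := fun z => ∃ b ∈ B, φ b ω = z
      have hpA : ∀ (a : A) (z : α), pA ((φ.comp A.subtype) a z) ↔ pA z := by
        intro a z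
        constructor
        · rintro ⟨a', ha', h⟩
          refine ⟨(a : H)⁻¹ * a', A.mul_mem (A.inv_mem a.2) ha', ?_⟩
          rw [map_mul, Perm.mul_apply, h]
          simp
        · rintro ⟨a', ha', rfl⟩
          refine ⟨(a : H) * a', A.mul_mem a.2 ha', ?_⟩
          rw [map_mul, Perm.mul_apply]
          rfl
      have hpB : ∀ (b : B) (z : α), pB ((φ.comp B.subtype) b z) ↔ pB z := by
        intro b z
        constructor
        · rintro ⟨b', hb', h⟩
          refine ⟨(b : H)⁻¹ * b', B.mul_mem (B.inv_mem b.2) hb', ?_⟩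
          rw [map_mul, Perm.mul_apply, h]
          simp
        · rintro ⟨b', hb', rfl⟩
          refine ⟨(b : H) * b', B.mul_mem b.2 hb', ?_⟩
          rw [map_mul, Perm.mul_apply]
          rfl
      let fA := resHom (φ.comp A.subtype) pA hpA
      let fB := resHom (φ.comp B.subtype) pB hpB
      have hfA : Function.Injective fA := by
        rw [injective_iff_map_eq_one]
        intro x hx
        apply Subtype.ext
        apply hφ
        rw [Subgroup.coe_one, map_one]
        apply faithful_orbit φ A B hcomm ω htr' x x.2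
        intro a ha
        have := congrArg (fun σ : Perm (Subtype pA) => (σ ⟨φ a ω, a, ha, rfl⟩ : α)) hx
        simpa [fA] using this
      have hfB : Function.Injective fB := by
        rw [injective_iff_map_eq_one]
        intro x hx
        apply Subtype.ext
        apply hφ
        rw [Subgroup.coe_one, map_one]
        apply faithful_orbit' φ A B hcomm ω htr' x x.2
        intro b hb
        have := congrArg (fun σ : Perm (Subtype pB) => (σ ⟨φ b ω, b, hb, rfl⟩ : α)) hx
        simpa [fB] using this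
      have hc2 : 2 ≤ Nat.card (Subtype pA) := two_le_card_of_injective fA hfA ⟨a1, ha1ne⟩
      have hd2 : 2 ≤ Nat.card (Subtype pB) := two_le_card_of_injective fB hfB ⟨b1, hb1ne⟩
      -- product injection
      have hcd : Nat.card (Subtype pA) * Nat.card (Subtype pB) ≤ n := by
        rw [← Nat.card_prod, ← hα]
        let θ : Subtype pA × Subtype pB → α := fun x => φ (Classical.choose x.1.2) x.2.1
        apply Nat.card_le_card_of_injective θ
        rintro ⟨⟨x, hx⟩, ⟨y, b, hb, rfl⟩⟩ ⟨⟨x', hx'⟩, ⟨y', b', hb', rfl⟩⟩ h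
        simp only [θ] at h
        obtain ⟨hac, hax⟩ := Classical.choose_spec hx
        obtain ⟨hac', hax'⟩ := Classical.choose_spec hx'
        set a := Classical.choose hx
        set a' := Classical.choose hx'
        have hco : (orderOf (a'⁻¹ * a)).Coprime (orderOf (b'⁻¹ * b)) := by
          apply Nat.Coprime.coprime_dvd_left (Subgroup.orderOf_dvd_natCard A
            (A.mul_mem (A.inv_mem hac') hac))
          exact Nat.Coprime.coprime_dvd_right (Subgroup.orderOf_dvd_natCard B
            (B.mul_mem (B.inv_mem hb') hb)) hcop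
        have hcm : Commute (a'⁻¹ * a) (b'⁻¹ * b) :=
          hcomm _ (A.mul_mem (A.inv_mem hac') hac) _ (B.mul_mem (B.inv_mem hb') hb)
        have hfix : φ ((a'⁻¹ * a) * (b'⁻¹ * b)) ω = ω := by
          have e1 : (a'⁻¹ * a) * (b'⁻¹ * b) = b'⁻¹ * a'⁻¹ * (a * b) := by
            have := (hcomm _ (A.mul_mem (A.inv_mem hac') hac) _ (B.inv_mem hb')).eq
            calc (a'⁻¹ * a) * (b'⁻¹ * b) = ((a'⁻¹ * a) * b'⁻¹) * b := by group
              _ = (b'⁻¹ * (a'⁻¹ * a)) * b := by rw [this]
              _ = b'⁻¹ * a'⁻¹ * (a * b) := by group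
          rw [e1, map_mul, Perm.mul_apply, map_mul (f := φ) a b, Perm.mul_apply, h, ← Perm.mul_apply,
            ← map_mul, ← Perm.mul_apply, ← map_mul]
          have : b'⁻¹ * a'⁻¹ * a' * b' = 1 := by group
          rw [this, map_one, Perm.one_apply]
        obtain ⟨h1, h2⟩ := key_K φ _ _ hcm hco ω hfix
        have hx1 : x = x' := by
          rw [← hax, ← hax']
          rw [map_mul, Perm.mul_apply, map_inv, Perm.inv_eq_iff_eq] at h1
          exact h1
        have hy1 : φ b ω = φ b' ω := by
          rw [map_mul, Perm.mul_apply, map_inv, Perm.inv_eq_iff_eq] at h2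
          exact h2
        simp only [Prod.mk.injEq, Subtype.mk.injEq]
        exact ⟨hx1, hy1⟩
      have hcn : Nat.card (Subtype pA) < n := by nlinarith
      have hdn : Nat.card (Subtype pB) < n := by nlinarith
      have i1 := ih _ hcn (Subtype pA) rfl A fA hfA
      have i2 := ih _ hdn (Subtype pB) rfl B fB hfB
      have i3 := G2_mul_le (Nat.card (Subtype pA)) (Nat.card (Subtype pB))
      have i4 : G2 (Nat.card (Subtype pA) + Nat.card (Subtype pB)) ≤ G2 n :=
        G2_mono (by nlinarith)
      have i5 : (2 * Nat.card A) * (2 * Nat.card B) ≤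
          G2 (Nat.card (Subtype pA)) * G2 (Nat.card (Subtype pB)) := Nat.mul_le_mul i1 i2
      rw [← hcard]
      nlinarith
    · -- intransitive case
      push Not at htr
      obtain ⟨x, y, hxy⟩ := htr
      let p : α → Prop := fun z => ∃ h : H, φ h x = z
      have hp' : ∀ (h : H) (z : α), p (φ h z) ↔ p z := by
        intro h z
        constructor
        · rintro ⟨h', hh'⟩
          refine ⟨h⁻¹ * h', ?_⟩
          rw [map_mul, Perm.mul_apply, hh']
          simp
        · rintro ⟨h', rfl⟩
          exact ⟨h * h', by rw [map_mul, Perm.mul_apply]⟩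
      have hq' : ∀ (h : H) (z : α), ¬ p (φ h z) ↔ ¬ p z := fun h z => not_congr (hp' h z)
      let f1 := resHom φ p hp'
      let f2 := resHom φ (fun z => ¬ p z) hq'
      have hsum : Nat.card (Subtype p) + Nat.card {z // ¬ p z} = n := by
        rw [← hα, ← Nat.card_sum]
        exact Nat.card_congr (Equiv.sumCompl p)
      have h1pos : 0 < Nat.card (Subtype p) :=
        Nat.card_pos_iff.mpr ⟨⟨⟨x, 1, by simp⟩⟩, inferInstance⟩
      have h2pos : 0 < Nat.card {z // ¬ p z} :=
        Nat.card_pos_iff.mpr ⟨⟨⟨y, fun ⟨h, hh⟩ => hxy h hh⟩⟩, inferInstance⟩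
      have hinj : Function.Injective (fun h : H =>
          ((⟨f1 h, h, rfl⟩ : f1.range), (⟨f2 h, h, rfl⟩ : f2.range))) := by
        intro h h' e
        simp only [Prod.mk.injEq] at e
        apply hφ
        ext z
        by_cases hz : p z
        · have := congrArg (fun σ : Perm (Subtype p) => (σ ⟨z, hz⟩ : α))
            (congrArg Subtype.val e.1)
          simpa [f1] using this
        · have := congrArg (fun σ : Perm {z // ¬ p z} => (σ ⟨z, hz⟩ : α))
            (congrArg Subtype.val e.2)
          simpa [f2] using this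
      have hle := Nat.card_le_card_of_injective _ hinj
      rw [Nat.card_prod] at hle
      have i1 := ih' _ (by omega) (Subtype p) rfl H f1
      have i2 := ih' _ (by omega) {z // ¬ p z} rfl H f2
      have i3 := G2_mul_le (Nat.card (Subtype p)) (Nat.card {z // ¬ p z})
      rw [hsum] at i3
      have i5 : (2 * Nat.card f1.range) * (2 * Nat.card f2.range) ≤
          G2 (Nat.card (Subtype p)) * G2 (Nat.card {z // ¬ p z}) := Nat.mul_le_mul i1 i2
      nlinarith

end main

end Cfsg.Agent.Lib.Helper23.NilpSym
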