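import Mathlib
import Cfsg.Agent.Lib.Helper23.NilpSym

/-!
Nilpotent subgroups of symmetric groups attaining the order bound: structure.
-/

namespace Cfsg.Agent.Lib.Helper23.NilpExt

open Cfsg.Agent.Lib.Helper23.NilpBound Cfsg.Agent.Lib.Helper23.NilpSym

section arith

theorem G2_two : G2 2 = 4 := by simp [G2, w, e_two]
theorem G2_three : G2 3 = 6 := by simp [G2, w, e_three]
theorem G2_four : G2 4 = 16 := by simp [G2, w, e_four]
theorem G2_six : G2 6 = 32 := by simp [G2, w, e_six]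

theorem G2_add_two (m : ℕ) : 2 * G2 m ≤ G2 (m + 2) := by
  have := G2_mul_le m 2
  rw [G2_two] at this
  omega

theorem G2_mul_lt {c d n : ℕ} (hc : 2 ≤ c) (hd : 2 ≤ d) (h : c * d ≤ n) :
    G2 c * G2 d < 2 * G2 n := by
  by_cases h22 : c = 2 ∧ d = 2
  · obtain ⟨rfl, rfl⟩ := h22
    have := G2_mono (show 4 ≤ n by omega)
    rw [G2_four] at this
    rw [G2_two]; omega
  by_cases h23 : (c = 2 ∧ d = 3) ∨ (c = 3 ∧ d = 2)
  · have := G2_mono (show 6 ≤ n by rcases h23 with ⟨rfl, rfl⟩ | ⟨rfl, rfl⟩ <;> omega)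
    rw [G2_six] at this
    rcases h23 with ⟨rfl, rfl⟩ | ⟨rfl, rfl⟩ <;> rw [G2_two, G2_three] <;> omega
  · have hcd : c + d + 2 ≤ n := by
      by_cases hc2 : c = 2
      · subst hc2; omega
      by_cases hc3 : c = 3
      · subst hc3; omega
      obtain ⟨c', rfl⟩ : ∃ c', c = c' + 4 := ⟨c - 4, by omega⟩
      obtain ⟨d', rfl⟩ : ∃ d', d = d' + 2 := ⟨d - 2, by omega⟩
      nlinarith [Nat.zero_le (c' * d')]
    have h1 := G2_mul_le c d
    have h2 := G2_add_two (c + d)
    have h3 := G2_mono hcd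
    have h4 := G2_pos (c + d)
    omega

theorem e_mono {a b : ℕ} (h : a ≤ b) : e a ≤ e b := by
  obtain ⟨c, rfl⟩ := Nat.exists_eq_add_of_le h
  rw [e_add]; omega

theorem e_mod4 {n : ℕ} (hn : n % 4 = 3) : e n = e (n - 3) + 1 := by
  obtain ⟨k, rfl⟩ : ∃ k, n = 4 * k + 3 := ⟨n / 4, by omega⟩
  have h1 : 4 * k + 3 = 2 * (2 * k + 1) + 1 := by ring
  have h2 : 4 * k + 3 - 3 = 2 * (2 * k) := by omega
  rw [h2, h1, e_two_mul_add_one, e_two_mul, e_two_mul_add_one, e_two_mul (2 * k)]
  ring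

theorem G2_mod4 {n : ℕ} (hn : n % 4 = 3) : G2 n = 2 * (3 * 2 ^ e (n - 3)) := by
  unfold G2
  rw [e_mod4 hn]
  rcases w_cases n with ⟨-, h⟩ | ⟨h, -⟩
  · rw [h]; ring
  · exact absurd hn h

theorem G2_eq_split {a b : ℕ} (h : G2 a * G2 b = 2 * G2 (a + b)) :
    ((a + b) % 4 ≠ 3 → a % 4 ≠ 3 ∧ b % 4 ≠ 3) ∧
    ((a + b) % 4 = 3 → (a % 4 = 3 ∧ b % 4 ≠ 3) ∨ (a % 4 ≠ 3 ∧ b % 4 = 3)) := by
  unfold G2 at h
  rw [e_add] at h
  have hK : 1 ≤ 2 ^ kap a b := Nat.one_le_two_pow
  have hpos : 0 < 2 ^ (e a + e b) := by positivity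
  have h' : w a * w b = 2 * w (a + b) * 2 ^ kap a b := by
    have : (w a * w b) * 2 ^ (e a + e b) = (2 * w (a + b) * 2 ^ kap a b) * 2 ^ (e a + e b) := by
      calc (w a * w b) * 2 ^ (e a + e b) = w a * 2 ^ e a * (w b * 2 ^ e b) := by ring
        _ = 2 * (w (a + b) * 2 ^ (e a + e b + kap a b)) := h
        _ = (2 * w (a + b) * 2 ^ kap a b) * 2 ^ (e a + e b) := by ring
    exact Nat.eq_of_mul_eq_mul_right hpos this
  set K := 2 ^ kap a b
  rcases w_cases a with ⟨ha, hwa⟩ | ⟨ha, hwa⟩ <;> rcases w_cases b with ⟨hb, hwb⟩ | ⟨hb, hwb⟩ <;>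
    rcases w_cases (a + b) with ⟨hab, hwab⟩ | ⟨hab, hwab⟩ <;> rw [hwa, hwb, hwab] at h' <;>
    refine ⟨fun h1 => ?_, fun h1 => ?_⟩ <;> first | omega | (exfalso; omega)

theorem pgroup_arith (p k n : ℕ) (hp : p.Prime) (h : 2 * p ^ k = G2 n) :
    (n % 4 ≠ 3 → p ^ k = 2 ^ e n) ∧ (n % 4 = 3 → n = 3 ∧ p ^ k = 3) := by
  unfold G2 at h
  constructor
  · intro hn
    rcases w_cases n with ⟨h1, -⟩ | ⟨-, h1⟩
    · exact absurd h1 hn
    · rw [h1] at h; omega
  · intro hn
    rcases w_cases n with ⟨-, h1⟩ | ⟨h1, -⟩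
    swap
    · exact absurd hn h1
    rw [h1] at h
    have he1 : 1 ≤ e n := by
      have := e_mono (show 3 ≤ n by omega)
      rw [e_three] at this
      exact this
    obtain ⟨e', he'⟩ : ∃ e', e n = e' + 1 := ⟨e n - 1, by omega⟩
    rw [he', pow_succ] at h
    have h2 : p ^ k = 3 * 2 ^ e' := by omega
    rcases Nat.eq_zero_or_pos e' with h0 | hpos
    · rw [h0] at h2 he'
      refine ⟨?_, by simpa using h2⟩
      by_contra hn3
      have := e_mono (show 7 ≤ n by omega)
      rw [e_seven] at this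
      omega
    · exfalso
      obtain ⟨e'', rfl⟩ : ∃ e'', e' = e'' + 1 := ⟨e' - 1, by omega⟩
      have h3 : 3 ∣ p ^ k := ⟨2 ^ (e'' + 1), h2⟩
      have h4 : 2 ∣ p ^ k := ⟨3 * 2 ^ e'', by rw [h2, pow_succ]; ring⟩
      have h5 : 3 ∣ p := Nat.Prime.dvd_of_dvd_pow Nat.prime_three h3
      have h6 : 2 ∣ p := Nat.Prime.dvd_of_dvd_pow Nat.prime_two h4
      have h7 := (Nat.prime_dvd_prime_iff_eq Nat.prime_three hp).mp h5
      have h8 := (Nat.prime_dvd_prime_iff_eq Nat.prime_two hp).mp h6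
      omega

end arith


section split

open Equiv

theorem transitive_split {n : ℕ} {α : Type} [Finite α] (hα : Nat.card α = n)
    {H : Type} [Group H] [Finite H] [Group.IsNilpotent H] (φ : H →* Perm α)
    (hφ : Function.Injective φ) (hp : ¬ ∃ p : ℕ, p.Prime ∧ IsPGroup p H)
    (htr : ∀ x y : α, ∃ h : H, φ h x = y) :
    ∃ c d a b : ℕ, 2 ≤ c ∧ 2 ≤ d ∧ c * d ≤ n ∧ a * b = Nat.card H ∧
      2 * a ≤ G2 c ∧ 2 * b ≤ G2 d := by
  classical
  obtain ⟨A, B, hA, hB, hcomm, hprod, hcard, hcop⟩ := nil_decomp hp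
  obtain ⟨a1, ha1ne⟩ := (Subgroup.ne_bot_iff_exists_ne_one).mp hA
  obtain ⟨b1, hb1ne⟩ := (Subgroup.ne_bot_iff_exists_ne_one).mp hB
  have hφa1 : φ a1 ≠ 1 := by
    intro h
    apply ha1ne
    apply Subtype.ext
    apply hφ
    rw [h, Subgroup.coe_one, map_one]
  obtain ⟨ω, -⟩ : ∃ ω, φ a1 ω ≠ ω := by
    by_contra hall
    push Not at hall
    exact hφa1 (Perm.ext hall)
  have htr' : ∀ x : α, ∃ a ∈ A, ∃ b ∈ B, φ (a * b) ω = x := by
    intro x
    obtain ⟨h, hh⟩ := htr ω x
    obtain ⟨a, ha, b, hb, rfl⟩ := hprod h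
    exact ⟨a, ha, b, hb, hh⟩
  -- the two orbits
  let pA : α → Prop := fun z => ∃ a ∈ A, φ a ω = z
  let pB : α → Prop := fun z => ∃ b ∈ B, φ b ω = z
  have hpA : ∀ (a : A) (z : α), pA ((φ.comp A.subtype) a z) ↔ pA z := by
    intro a z
    constructor
    · rintro ⟨a', ha', h⟩
      refine ⟨(a : H)⁻¹ * a', A.mul_mem (A.inv_mem a.2) ha', ?_⟩
      rw [map_mul, Perm.mul_apply, h]
      simp
    · rintro ⟨a', ha', rfl⟩
      refine ⟨(a : H) * a', A.mul_mem a.2 ha', ?_⟩
      rw [map_mul, Perm.mul_apply]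
      rfl
  have hpB : ∀ (b : B) (z : α), pB ((φ.comp B.subtype) b z) ↔ pB z := by
    intro b z
    constructor
    · rintro ⟨b', hb', h⟩
      refine ⟨(b : H)⁻¹ * b', B.mul_mem (B.inv_mem b.2) hb', ?_⟩
      rw [map_mul, Perm.mul_apply, h]
      simp
    · rintro ⟨b', hb', rfl⟩
      refine ⟨(b : H) * b', B.mul_mem b.2 hb', ?_⟩
      rw [map_mul, Perm.mul_apply]
      rfl
  let fA := resHom (φ.comp A.subtype) pA hpA
  let fB := resHom (φ.comp B.subtype) pB hpB
  have hfA : Function.Injective fA := by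
    rw [injective_iff_map_eq_one]
    intro x hx
    apply Subtype.ext
    apply hφ
    rw [Subgroup.coe_one, map_one]
    apply faithful_orbit φ A B hcomm ω htr' x x.2
    intro a ha
    have := congrArg (fun σ : Perm (Subtype pA) => (σ ⟨φ a ω, a, ha, rfl⟩ : α)) hx
    simpa [fA] using this
  have hfB : Function.Injective fB := by
    rw [injective_iff_map_eq_one]
    intro x hx
    apply Subtype.ext
    apply hφ
    rw [Subgroup.coe_one, map_one]
    apply faithful_orbit' φ A B hcomm ω htr' x x.2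
    intro b hb
    have := congrArg (fun σ : Perm (Subtype pB) => (σ ⟨φ b ω, b, hb, rfl⟩ : α)) hx
    simpa [fB] using this
  have hc2 : 2 ≤ Nat.card (Subtype pA) := two_le_card_of_injective fA hfA ⟨a1, ha1ne⟩
  have hd2 : 2 ≤ Nat.card (Subtype pB) := two_le_card_of_injective fB hfB ⟨b1, hb1ne⟩
  -- product injection
  have hcd : Nat.card (Subtype pA) * Nat.card (Subtype pB) ≤ n := by
    rw [← Nat.card_prod, ← hα]
    let θ : Subtype pA × Subtype pB → α := fun x => φ (Classical.choose x.1.2) x.2.1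
    apply Nat.card_le_card_of_injective θ
    rintro ⟨⟨x, hx⟩, ⟨y, b, hb, rfl⟩⟩ ⟨⟨x', hx'⟩, ⟨y', b', hb', rfl⟩⟩ h
    simp only [θ] at h
    obtain ⟨hac, hax⟩ := Classical.choose_spec hx
    obtain ⟨hac', hax'⟩ := Classical.choose_spec hx'
    set a := Classical.choose hx
    set a' := Classical.choose hx'
    have hco : (orderOf (a'⁻¹ * a)).Coprime (orderOf (b'⁻¹ * b)) := by
      apply Nat.Coprime.coprime_dvd_left (Subgroup.orderOf_dvd_natCard A
        (A.mul_mem (A.inv_mem hac') hac))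
      exact Nat.Coprime.coprime_dvd_right (Subgroup.orderOf_dvd_natCard B
        (B.mul_mem (B.inv_mem hb') hb)) hcop
    have hcm : Commute (a'⁻¹ * a) (b'⁻¹ * b) :=
      hcomm _ (A.mul_mem (A.inv_mem hac') hac) _ (B.mul_mem (B.inv_mem hb') hb)
    have hfix : φ ((a'⁻¹ * a) * (b'⁻¹ * b)) ω = ω := by
      have e1 : (a'⁻¹ * a) * (b'⁻¹ * b) = b'⁻¹ * a'⁻¹ * (a * b) := by
        have := (hcomm _ (A.mul_mem (A.inv_mem hac') hac) _ (B.inv_mem hb')).eq
        calc (a'⁻¹ * a) * (b'⁻¹ * b) = ((a'⁻¹ * a) * b'⁻¹) * b := by group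
          _ = (b'⁻¹ * (a'⁻¹ * a)) * b := by rw [this]
          _ = b'⁻¹ * a'⁻¹ * (a * b) := by group
      rw [e1, map_mul, Perm.mul_apply, map_mul (f := φ) a b, Perm.mul_apply, h, ← Perm.mul_apply,
        ← map_mul, ← Perm.mul_apply, ← map_mul]
      have : b'⁻¹ * a'⁻¹ * a' * b' = 1 := by group
      rw [this, map_one, Perm.one_apply]
    obtain ⟨h1, h2⟩ := key_K φ _ _ hcm hco ω hfix
    have hx1 : x = x' := by
      rw [← hax, ← hax']
      rw [map_mul, Perm.mul_apply, map_inv, Perm.inv_eq_iff_eq] at h1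
      exact h1
    have hy1 : φ b ω = φ b' ω := by
      rw [map_mul, Perm.mul_apply, map_inv, Perm.inv_eq_iff_eq] at h2
      exact h2
    simp only [Prod.mk.injEq, Subtype.mk.injEq]
    exact ⟨hx1, hy1⟩
  have i1 := bound _ (Subtype pA) rfl A fA hfA
  have i2 := bound _ (Subtype pB) rfl B fB hfB
  exact ⟨_, _, _, _, hc2, hd2, hcd, hcard, i1, i2⟩

variable {α : Type} {H : Type} [Group H]

/-- moved points of a restriction -/
theorem card_moved_res (φ : H →* Perm α) (q : α → Prop) (hq : ∀ h : H, ∀ x, q (φ h x) ↔ q x)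
    (h : H) (hfix : ∀ z, ¬ q z → φ h z = z) :
    Nat.card {x : Subtype q // (resHom φ q hq h) x ≠ x} = Nat.card {x : α // φ h x ≠ x} := by
  apply Nat.card_congr
  refine ⟨fun x => ⟨x.1.1, fun hx => x.2 (Subtype.ext (by rw [resHom_apply]; exact hx))⟩,
    fun x => ⟨⟨x.1, by by_contra hz; exact x.2 (hfix _ hz)⟩,
      fun hx => x.2 (by have := congrArg Subtype.val hx; rw [resHom_apply] at this; exact this)⟩,
    ?_, ?_⟩
  · intro x; rfl
  · intro x; rfl

theorem triv_of_order3 {K : Type*} [Group K] (hK : IsPGroup 2 K) (k : K) (hk : k ^ 3 = 1) :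
    k = 1 := by
  obtain ⟨j, hj⟩ := hK k
  have h1 : orderOf k ∣ 3 := orderOf_dvd_of_pow_eq_one hk
  have h2 : orderOf k ∣ 2 ^ j := orderOf_dvd_of_pow_eq_one hj
  have h3 : Nat.Coprime 3 (2 ^ j) := Nat.Coprime.pow_right j (by norm_num)
  have h4 : orderOf k ∣ 1 := by
    have := Nat.dvd_gcd h1 h2
    rwa [h3] at this
  exact orderOf_eq_one_iff.mp (Nat.dvd_one.mp h4)

theorem moved_three (α : Type) [Finite α] (hα : Nat.card α = 3) (σ : Perm α)
    (hσ : orderOf σ = 3) : Nat.card {x : α // σ x ≠ x} = 3 := by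
  classical
  haveI := Fintype.ofFinite α
  have hp : (orderOf σ).Prime := by rw [hσ]; exact Nat.prime_three
  obtain ⟨m, hm⟩ := Perm.cycleType_prime_order hp
  have hs : σ.support.card = (m + 1) * 3 := by
    rw [← Perm.sum_cycleType, hm, hσ]
    simp
    ring
  have hle : σ.support.card ≤ 3 := by
    have := Finset.card_le_univ σ.support
    rwa [← Nat.card_eq_fintype_card, hα] at this
  have h3 : σ.support.card = 3 := by omega
  rw [Nat.card_eq_fintype_card, Fintype.card_of_subtype σ.support (fun x => Perm.mem_support), h3]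

theorem step_b (φ : H →* Perm α) (hφ : Function.Injective φ) (q q' : α → Prop)
    (hq : ∀ h : H, ∀ x, q (φ h x) ↔ q x) (hq' : ∀ h : H, ∀ x, q' (φ h x) ↔ q' x)
    (hcov : ∀ z, q z ∨ q' z) (h : H) (hh : orderOf h = 3)
    (h2 : IsPGroup 2 (resHom φ q' hq').range)
    (hb : ∀ k : (resHom φ q hq).range, orderOf k = 3 →
      Nat.card {x : Subtype q // (k : Perm (Subtype q)) x ≠ x} = 3) :
    Nat.card {x : α // φ h x ≠ x} = 3 := by
  have h3 : h ^ 3 = 1 := by rw [← hh]; exact pow_orderOf_eq_one h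
  have hne : h ≠ 1 := by
    rintro rfl
    rw [orderOf_one] at hh
    omega
  -- trivial on q'
  have t1 : (⟨resHom φ q' hq' h, h, rfl⟩ : (resHom φ q' hq').range) = 1 := by
    apply triv_of_order3 h2
    apply Subtype.ext
    rw [Subgroup.coe_pow, Subgroup.coe_one]
    show (resHom φ q' hq' h) ^ 3 = 1
    rw [← map_pow, h3, map_one]
  have t2 : resHom φ q' hq' h = 1 := congrArg Subtype.val t1
  have hfix' : ∀ z, q' z → φ h z = z := by
    intro z hz
    have := congrArg (fun σ : Perm (Subtype q') => (σ ⟨z, hz⟩ : α)) t2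
    simpa using this
  have hfix : ∀ z, ¬ q z → φ h z = z := fun z hz => hfix' z ((hcov z).resolve_left hz)
  rw [← card_moved_res φ q hq h hfix]
  have hk1 : (⟨resHom φ q hq h, h, rfl⟩ : (resHom φ q hq).range) ≠ 1 := by
    intro hk
    have t3 : resHom φ q hq h = 1 := congrArg Subtype.val hk
    apply hne
    apply hφ
    rw [map_one]
    ext z
    by_cases hz : q z
    · have := congrArg (fun σ : Perm (Subtype q) => (σ ⟨z, hz⟩ : α)) t3
      simpa using this
    · simpa using hfix z hz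
  have hk3 : (⟨resHom φ q hq h, h, rfl⟩ : (resHom φ q hq).range) ^ 3 = 1 := by
    apply Subtype.ext
    rw [Subgroup.coe_pow, Subgroup.coe_one]
    show (resHom φ q hq h) ^ 3 = 1
    rw [← map_pow, h3, map_one]
  have : Fact (Nat.Prime 3) := ⟨Nat.prime_three⟩
  exact hb _ (orderOf_eq_prime hk3 hk1)

end split


section main

open Equiv

theorem eq_of_mul_eq {x y X Y : ℕ} (hx : x ≤ X) (hy : y ≤ Y) (hxp : 0 < x) (hyp : 0 < y)
    (h : X * Y ≤ x * y) : x = X ∧ y = Y := by
  constructor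
  · by_contra hne
    have h1 : x < X := lt_of_le_of_ne hx hne
    have h2 : x * y < X * y := Nat.mul_lt_mul_of_pos_right h1 hyp
    have h3 : X * y ≤ X * Y := Nat.mul_le_mul_left _ hy
    omega
  · by_contra hne
    have h1 : y < Y := lt_of_le_of_ne hy hne
    have h2 : x * y < x * Y := Nat.mul_lt_mul_of_pos_left h1 hxp
    have h3 : x * Y ≤ X * Y := Nat.mul_le_mul_right _ hx
    omega

theorem extremal : ∀ n : ℕ, ∀ (α : Type) [Finite α], Nat.card α = n →
    ∀ (H : Type) [Group H] [Finite H] [Group.IsNilpotent H] (φ : H →* Perm α),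
    Function.Injective φ → 2 * Nat.card H = G2 n →
    (n % 4 ≠ 3 → IsPGroup 2 H) ∧
    (n % 4 = 3 → ∀ h : H, orderOf h = 3 → Nat.card {x : α // φ h x ≠ x} = 3) := by
  intro n
  induction n using Nat.strong_induction_on with
  | _ n ih =>
  intro α _ hα H _ _ _ φ hφ hext
  classical
  by_cases hp : ∃ p : ℕ, p.Prime ∧ IsPGroup p H
  · obtain ⟨p, hpp, hPG⟩ := hp
    haveI := Fact.mk hpp
    obtain ⟨k, hk⟩ := hPG.exists_card_eq
    rw [hk] at hext
    obtain ⟨h1, h2⟩ := pgroup_arith p k n hpp hext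
    constructor
    · intro hn
      exact IsPGroup.of_card (n := e n) (by rw [hk, h1 hn])
    · intro hn h hh
      obtain ⟨rfl, h3⟩ := h2 hn
      exact moved_three α hα (φ h) (by rw [orderOf_injective φ hφ, hh])
  · by_cases htr : ∀ x y : α, ∃ h : H, φ h x = y
    · exfalso
      obtain ⟨c, d, a, b, hc, hd, hcd, hab, ha, hb⟩ := transitive_split hα φ hφ hp htr
      have h1 := G2_mul_lt hc hd hcd
      have h2 : (2 * a) * (2 * b) ≤ G2 c * G2 d := Nat.mul_le_mul ha hb
      rw [← hab] at hext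
      nlinarith
    · -- intransitive case
      push Not at htr
      obtain ⟨x, y, hxy⟩ := htr
      let p : α → Prop := fun z => ∃ h : H, φ h x = z
      have hp' : ∀ (h : H) (z : α), p (φ h z) ↔ p z := by
        intro h z
        constructor
        · rintro ⟨h', hh'⟩
          refine ⟨h⁻¹ * h', ?_⟩
          rw [map_mul, Perm.mul_apply, hh']
          simp
        · rintro ⟨h', rfl⟩
          exact ⟨h * h', by rw [map_mul, Perm.mul_apply]⟩
      have hq' : ∀ (h : H) (z : α), ¬ p (φ h z) ↔ ¬ p z := fun h z => not_congr (hp' h z)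
      let f1 := resHom φ p hp'
      let f2 := resHom φ (fun z => ¬ p z) hq'
      have hsum : Nat.card (Subtype p) + Nat.card {z // ¬ p z} = n := by
        rw [← hα, ← Nat.card_sum]
        exact Nat.card_congr (Equiv.sumCompl p)
      have h1pos : 0 < Nat.card (Subtype p) :=
        Nat.card_pos_iff.mpr ⟨⟨⟨x, 1, by simp⟩⟩, inferInstance⟩
      have h2pos : 0 < Nat.card {z // ¬ p z} :=
        Nat.card_pos_iff.mpr ⟨⟨⟨y, fun ⟨h, hh⟩ => hxy h hh⟩⟩, inferInstance⟩
      have hinj : Function.Injective (fun h : H =>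
          ((⟨f1 h, h, rfl⟩ : f1.range), (⟨f2 h, h, rfl⟩ : f2.range))) := by
        intro h h' e
        simp only [Prod.mk.injEq] at e
        apply hφ
        ext z
        by_cases hz : p z
        · have := congrArg (fun σ : Perm (Subtype p) => (σ ⟨z, hz⟩ : α))
            (congrArg Subtype.val e.1)
          simpa [f1] using this
        · have := congrArg (fun σ : Perm {z // ¬ p z} => (σ ⟨z, hz⟩ : α))
            (congrArg Subtype.val e.2)
          simpa [f2] using this
      have hle := Nat.card_le_card_of_injective _ hinj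
      rw [Nat.card_prod] at hle
      haveI : Group.IsNilpotent f1.range :=
        nilpotent_of_surjective f1.rangeRestrict f1.rangeRestrict_surjective
      haveI : Group.IsNilpotent f2.range :=
        nilpotent_of_surjective f2.rangeRestrict f2.rangeRestrict_surjective
      have i1 := bound _ (Subtype p) rfl f1.range f1.range.subtype (Subgroup.subtype_injective _)
      have i2 := bound _ {z // ¬ p z} rfl f2.range f2.range.subtype
        (Subgroup.subtype_injective _)
      have i3 := G2_mul_le (Nat.card (Subtype p)) (Nat.card {z // ¬ p z})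
      have hr1 : 0 < Nat.card f1.range := Nat.card_pos
      have hr2 : 0 < Nat.card f2.range := Nat.card_pos
      have key : G2 (Nat.card (Subtype p)) * G2 (Nat.card {z // ¬ p z}) ≤
          (2 * Nat.card f1.range) * (2 * Nat.card f2.range) := by
        rw [hsum] at i3
        nlinarith
      obtain ⟨e1, e2⟩ := eq_of_mul_eq i1 i2 (by omega) (by omega) key
      have e3 : G2 (Nat.card (Subtype p)) * G2 (Nat.card {z // ¬ p z}) =
          2 * G2 (Nat.card (Subtype p) + Nat.card {z // ¬ p z}) := by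
        apply le_antisymm i3
        rw [hsum, ← e1, ← e2]
        nlinarith
      have e4 : Nat.card H = Nat.card f1.range * Nat.card f2.range := by
        rw [← e1, ← e2, hsum] at e3
        nlinarith
      obtain ⟨sa, sb⟩ := G2_eq_split e3
      rw [hsum] at sa sb
      have ih1 := ih (Nat.card (Subtype p)) (by omega) (Subtype p) rfl f1.range f1.range.subtype
        (Subgroup.subtype_injective _) e1
      have ih2 := ih (Nat.card {z // ¬ p z}) (by omega) {z // ¬ p z} rfl f2.range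
        f2.range.subtype (Subgroup.subtype_injective _) e2
      constructor
      · intro hn
        obtain ⟨hm1, hm2⟩ := sa hn
        obtain ⟨k1, hk1⟩ := (ih1.1 hm1).exists_card_eq
        obtain ⟨k2, hk2⟩ := (ih2.1 hm2).exists_card_eq
        exact IsPGroup.of_card (n := k1 + k2) (by rw [e4, hk1, hk2, pow_add])
      · intro hn h hh
        rcases sb hn with ⟨hm1, hm2⟩ | ⟨hm1, hm2⟩
        · exact step_b φ hφ p (fun z => ¬ p z) hp' hq' (fun z => em (p z)) h hh (ih2.1 hm2)
            (ih1.2 hm1)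
        · exact step_b φ hφ (fun z => ¬ p z) p hq' hp' (fun z => (em (p z)).symm) h hh
            (ih1.1 hm1) (ih2.2 hm2)

end main

end Cfsg.Agent.Lib.Helper23.NilpExt
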