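import Mathlib
import Cfsg.Agent.Lib.Helper23.NilpExt

/-!
Arithmetic for the bound on nilpotent subgroups of alternating groups.
-/

namespace Cfsg.Agent.Lib.Helper23.NilpAltArith

open Cfsg.Agent.Lib.Helper23.NilpBound Cfsg.Agent.Lib.Helper23.NilpExt

theorem e_16 : e 16 = 15 := by rw [e_rec, show 16 / 2 = 8 from rfl, e_8]
theorem e_17 : e 17 = 15 := by rw [e_rec, show 17 / 2 = 8 from rfl, e_8]
theorem e_18 : e 18 = 16 := by rw [e_rec, show 18 / 2 = 9 from rfl, e_9]
theorem e_19 : e 19 = 16 := by rw [e_rec, show 19 / 2 = 9 from rfl, e_9]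
theorem e_20 : e 20 = 18 := by rw [e_rec, show 20 / 2 = 10 from rfl, e_10]
theorem e_21 : e 21 = 18 := by rw [e_rec, show 21 / 2 = 10 from rfl, e_10]
theorem e_22 : e 22 = 19 := by rw [e_rec, show 22 / 2 = 11 from rfl, e_11]
theorem e_23 : e 23 = 19 := by rw [e_rec, show 23 / 2 = 11 from rfl, e_11]

/-- four times the bound for alternating groups -/
def E4 (n : ℕ) : ℕ :=
  if n ≤ 1 then 4 else if n = 3 then 12 else if n = 5 then 20 else if n = 6 then 36
  else if n = 9 then 324 else G2 n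

/-- exceptional degrees -/
def Exc (n : ℕ) : Prop := n ≤ 1 ∨ n = 3 ∨ n = 5 ∨ n = 6 ∨ n = 9

theorem E4_of_not_exc {n : ℕ} (h : ¬ Exc n) : E4 n = G2 n := by
  unfold Exc at h
  push Not at h
  unfold E4
  rw [if_neg (by omega), if_neg h.2.1, if_neg h.2.2.1, if_neg h.2.2.2.1, if_neg h.2.2.2.2]

theorem E4_le (n : ℕ) : E4 n ≤ 2 * G2 n := by
  by_cases h : Exc n
  · rcases h with h | rfl | rfl | rfl | rfl
    · interval_cases n <;> simp [E4, G2, w, e_zero, e_one]
    · simp [E4, G2, w, e_three]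
    · simp [E4, G2, w, e_five]
    · simp [E4, G2, w, e_six]
    · simp [E4, G2, w, e_9]
  · rw [E4_of_not_exc h]; omega

theorem G2_le_E4 (n : ℕ) : G2 n ≤ E4 n := by
  by_cases h : Exc n
  · rcases h with h | rfl | rfl | rfl | rfl
    · interval_cases n <;> simp [E4, G2, w, e_zero, e_one]
    · simp [E4, G2, w, e_three]
    · simp [E4, G2, w, e_five]
    · simp [E4, G2, w, e_six]
    · simp [E4, G2, w, e_9]
  · rw [E4_of_not_exc h]

theorem E4_mul_le {a b : ℕ} (ha : 1 ≤ a) (hb : 1 ≤ b) : E4 a * E4 b ≤ 4 * E4 (a + b) := by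
  by_cases ha' : Exc a <;> by_cases hb' : Exc b
  · have ha'' : a = 1 ∨ a = 3 ∨ a = 5 ∨ a = 6 ∨ a = 9 := by
      rcases ha' with h | h | h | h | h
      · left; omega
      all_goals simp [h]
    have hb'' : b = 1 ∨ b = 3 ∨ b = 5 ∨ b = 6 ∨ b = 9 := by
      rcases hb' with h | h | h | h | h
      · left; omega
      all_goals simp [h]
    rcases ha'' with rfl | rfl | rfl | rfl | rfl <;> rcases hb'' with rfl | rfl | rfl | rfl | rfl <;>
      simp [E4, G2, w, e_two, e_four, e_six, e_seven, e_8, e_10, e_11, e_12, e_14, e_15, e_18]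
  · have h1 := E4_le a
    rw [E4_of_not_exc hb']
    have h2 := G2_mul_le a b
    have h3 := G2_le_E4 (a + b)
    calc E4 a * G2 b ≤ (2 * G2 a) * G2 b := Nat.mul_le_mul_right _ h1
      _ = 2 * (G2 a * G2 b) := by ring
      _ ≤ 2 * (2 * G2 (a + b)) := Nat.mul_le_mul_left _ h2
      _ ≤ 4 * E4 (a + b) := by omega
  · have h1 := E4_le b
    rw [E4_of_not_exc ha']
    have h2 := G2_mul_le a b
    have h3 := G2_le_E4 (a + b)
    calc G2 a * E4 b ≤ G2 a * (2 * G2 b) := Nat.mul_le_mul_left _ h1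
      _ = 2 * (G2 a * G2 b) := by ring
      _ ≤ 2 * (2 * G2 (a + b)) := Nat.mul_le_mul_left _ h2
      _ ≤ 4 * E4 (a + b) := by omega
  · rw [E4_of_not_exc ha', E4_of_not_exc hb']
    have h2 := G2_mul_le a b
    have h3 := G2_le_E4 (a + b)
    omega

theorem G2_mul_le' {c d n : ℕ} (hc : 2 ≤ c) (hd : 2 ≤ d) (h : c * d ≤ n) :
    G2 c * G2 d ≤ G2 n := by
  by_cases h22 : c = 2 ∧ d = 2
  · obtain ⟨rfl, rfl⟩ := h22
    have := G2_mono (show 4 ≤ n by omega)
    rw [G2_four] at this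
    rw [G2_two]; omega
  by_cases h23 : (c = 2 ∧ d = 3) ∨ (c = 3 ∧ d = 2)
  · have := G2_mono (show 6 ≤ n by rcases h23 with ⟨rfl, rfl⟩ | ⟨rfl, rfl⟩ <;> omega)
    rw [G2_six] at this
    rcases h23 with ⟨rfl, rfl⟩ | ⟨rfl, rfl⟩ <;> rw [G2_two, G2_three] <;> omega
  · have hcd : c + d + 2 ≤ n := by
      by_cases hc2 : c = 2
      · subst hc2; omega
      by_cases hc3 : c = 3
      · subst hc3; omega
      obtain ⟨c', rfl⟩ : ∃ c', c = c' + 4 := ⟨c - 4, by omega⟩
      obtain ⟨d', rfl⟩ : ∃ d', d = d' + 2 := ⟨d - 2, by omega⟩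
      nlinarith [Nat.zero_le (c' * d')]
    have h1 := G2_mul_le c d
    have h2 := G2_add_two (c + d)
    have h3 := G2_mono hcd
    omega

theorem E4_ge_four (n : ℕ) : 4 ≤ E4 n := by
  by_cases h : n ≤ 1
  · simp [E4, h]
  · have := G2_mono (show 2 ≤ n by omega)
    rw [G2_two] at this
    exact this.trans (G2_le_E4 n)

/-- `16 * 3^n ≤ 3 * G2(n)^2` for `n ≥ 16`. -/
theorem three_pow_le' : ∀ n : ℕ, 16 ≤ n → 16 * 3 ^ n ≤ 3 * G2 n ^ 2 := by
  intro n
  induction n using Nat.strong_induction_on with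
  | _ n ih =>
  intro hn
  by_cases h24 : n < 24
  · interval_cases n
    · simp [G2, w, e_16]
    · simp [G2, w, e_17]
    · simp [G2, w, e_18]
    · simp [G2, w, e_19]
    · simp [G2, w, e_20]
    · simp [G2, w, e_21]
    · simp [G2, w, e_22]
    · simp [G2, w, e_23]
  · obtain ⟨m, rfl⟩ : ∃ m, n = m + 8 := ⟨n - 8, by omega⟩
    have h1 := ih m (by omega) (by omega)
    have h2 := G2_mul_le m 8
    rw [G2_8] at h2
    have h3 : 128 * G2 m ≤ G2 (m + 8) := by omega
    have h4 : (128 * G2 m) ^ 2 ≤ G2 (m + 8) ^ 2 := Nat.pow_le_pow_left h3 2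
    have h5 : (3:ℕ) ^ (m + 8) = 6561 * 3 ^ m := by rw [pow_add]; norm_num [mul_comm]
    rw [h5]
    nlinarith

theorem small_caseA (n q : ℕ) (hn : n < 16) (hq : 3 ≤ q) :
    4 * q ^ (n / q + n / q / q) ≤ E4 n := by
  by_cases hlt : n < q
  · rw [Nat.div_eq_of_lt hlt]
    simpa using E4_ge_four n
  · have hq8 : q < 16 := by omega
    interval_cases n <;> interval_cases q <;>
      simp [E4, G2, w, e_three, e_four, e_five, e_six, e_seven, e_8, e_9, e_10, e_11, e_12, e_13,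
        e_14, e_15]

/-- Sylow bound for odd primes: `4 * q^(v_q(n!)) ≤ E4 n`. -/
theorem sylowA_le (q : ℕ) [hq : Fact q.Prime] (hq2 : q ≠ 2) (n : ℕ) :
    4 * q ^ padicValNat q n.factorial ≤ E4 n := by
  have hq3 : 3 ≤ q := by
    have := hq.out.two_le
    omega
  by_cases hn : n < 16
  · rw [V_rec, V_rec q (n / q)]
    have h0 : padicValNat q (n / q / q).factorial = 0 := by
      rw [V_rec]
      have h1 : n / q / q / q = 0 := by
        rw [Nat.div_div_eq_div_mul, Nat.div_div_eq_div_mul]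
        apply Nat.div_eq_of_lt
        nlinarith
      rw [h1]
      simp
    rw [h0, add_zero]
    exact small_caseA n q hn hq3
  · have hn16 : 16 ≤ n := by omega
    set v := padicValNat q n.factorial with hv
    have h1 : (q - 1) * v < n :=
      sub_one_mul_padicValNat_factorial_lt_of_ne_zero q (by omega)
    have h2 : (q ^ v) ^ 2 ≤ 3 ^ ((q - 1) * v) := by
      rw [← pow_mul, mul_comm v 2, pow_mul, pow_mul]
      exact Nat.pow_le_pow_left (sq_le_three_pow q hq3) v
    have h3 : 3 * 3 ^ ((q - 1) * v) ≤ 3 ^ n := by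
      rw [← pow_succ']
      exact Nat.pow_le_pow_right (by norm_num) h1
    have h4 := three_pow_le' n hn16
    have h5 : (4 * q ^ v) ^ 2 ≤ G2 n ^ 2 := by nlinarith
    exact ((Nat.pow_le_pow_iff_left (by norm_num)).mp h5).trans (G2_le_E4 n)

end Cfsg.Agent.Lib.Helper23.NilpAltArith
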