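import Mathlib
import Cfsg.Agent.Lib.Helper23.NilpAltArith

/-!
Nilpotent subgroups of alternating groups: order bound.
-/

namespace Cfsg.Agent.Lib.Helper23.NilpAlt

open Cfsg.Agent.Lib.Helper23.NilpBound Cfsg.Agent.Lib.Helper23.NilpSym
  Cfsg.Agent.Lib.Helper23.NilpExt Cfsg.Agent.Lib.Helper23.NilpAltArith

open Equiv

theorem half_of_odd {G : Type*} [Group G] [Finite G] (χ : G →* ℤˣ) (g0 : G) (h0 : χ g0 = -1)
    {X : Type*} (f : X → G) (hf : Function.Injective f) (hχ : ∀ x, χ (f x) = 1) :
    2 * Nat.card X ≤ Nat.card G := by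
  have hne : (1 : ℤˣ) ≠ -1 := by decide
  have hinj : Function.Injective (fun y : X × Bool => if y.2 then f y.1 * g0 else f y.1) := by
    rintro ⟨x, b⟩ ⟨x', b'⟩ h
    have hχ' := congrArg χ h
    cases b <;> cases b'
    · simp only [Bool.false_eq_true, if_false] at h
      rw [hf h]
    · exfalso
      simp only [Bool.false_eq_true, if_false, if_true, map_mul, hχ, h0, one_mul] at hχ'
      exact hne hχ'
    · exfalso
      simp only [Bool.false_eq_true, if_false, if_true, map_mul, hχ, h0, one_mul] at hχ'
      exact hne hχ'.symm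
    · simp only [if_true] at h
      rw [hf (mul_right_cancel h)]
  have := Nat.card_le_card_of_injective _ hinj
  rw [Nat.card_prod, Nat.card_eq_fintype_card (α := Bool), Fintype.card_bool] at this
  omega

theorem sign_split {α : Type} [Fintype α] [DecidableEq α] {H : Type} [Group H] (φ : H →* Perm α)
    (p : α → Prop) (hp : ∀ h : H, ∀ x, p (φ h x) ↔ p x)
    (hq : ∀ h : H, ∀ x, ¬ p (φ h x) ↔ ¬ p x)
    [Fintype (Subtype p)] [DecidableEq (Subtype p)] [Fintype {z // ¬ p z}]
    [DecidableEq {z // ¬ p z}] (h : H) :
    Perm.sign (φ h) = Perm.sign (resHom φ p hp h) *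
      Perm.sign (resHom φ (fun z => ¬ p z) hq h) := by
  classical
  have h1 := Perm.sign_subtypeCongr (resHom φ p hp h) (resHom φ (fun z => ¬ p z) hq h)
  have h2 : φ h = (resHom φ p hp h).subtypeCongr (resHom φ (fun z => ¬ p z) hq h) := by
    ext z
    by_cases hz : p z
    · rw [Perm.subtypeCongr.left_apply _ _ hz]; rfl
    · rw [Perm.subtypeCongr.right_apply _ _ hz]; rfl
  rw [h2]
  rw [h1]
  congr 1 <;> congr!


theorem boundA : ∀ n : ℕ, ∀ (α : Type) [Fintype α] [DecidableEq α], Nat.card α = n →
    ∀ (H : Type) [Group H] [Finite H] [Group.IsNilpotent H] (φ : H →* Perm α),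
    Function.Injective φ → (∀ h, Perm.sign (φ h) = 1) → 4 * Nat.card H ≤ E4 n := by
  intro n
  induction n using Nat.strong_induction_on with
  | _ n ih =>
  intro α _ _ hα H _ _ _ φ hφ hev
  classical
  by_cases hp : ∃ p : ℕ, p.Prime ∧ IsPGroup p H
  · obtain ⟨p, hpp, hPG⟩ := hp
    haveI := Fact.mk hpp
    obtain ⟨k, hk⟩ := hPG.exists_card_eq
    by_cases hp2 : p = 2
    · subst hp2
      by_cases hn1 : n ≤ 1
      · have h1 : Nat.card H ≤ Nat.card (Perm α) := Nat.card_le_card_of_injective φ hφ
        rw [Nat.card_perm, hα] at h1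
        have h2 : n.factorial = 1 := by interval_cases n <;> rfl
        have h3 := E4_ge_four n
        omega
      · haveI : Nontrivial α := by
          rw [← Finite.one_lt_card_iff_nontrivial, hα]; omega
        let ψ : H →* alternatingGroup α :=
          φ.codRestrict _ (fun h => Perm.mem_alternatingGroup.mpr (hev h))
        have hψ : Function.Injective ψ := by
          intro a b hab
          apply hφ
          exact congrArg Subtype.val hab
        have hdvd : Nat.card H ∣ Nat.card (alternatingGroup α) :=
          Subgroup.card_dvd_of_injective ψ hψ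
        have h2 : 2 * Nat.card (alternatingGroup α) = n.factorial := by
          rw [two_mul_nat_card_alternatingGroup, Nat.card_perm, hα]
        have h3 : 2 ^ (k + 1) ∣ n.factorial := by
          rw [pow_succ', ← h2, ← hk]
          exact Nat.mul_dvd_mul_left 2 hdvd
        have hle : k + 1 ≤ e n := (padicValNat_dvd_iff_le (Nat.factorial_ne_zero _)).mp h3
        have h4 : 2 ^ (k + 1) ≤ 2 ^ e n := Nat.pow_le_pow_right (by norm_num) hle
        have h5 : 2 * 2 ^ e n ≤ G2 n := by
          unfold G2
          exact Nat.mul_le_mul_right _ (w_ge n)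
        have h6 := G2_le_E4 n
        rw [hk]
        rw [pow_succ'] at h4
        omega
    · have hdvd : Nat.card H ∣ Nat.card (Perm α) := Subgroup.card_dvd_of_injective φ hφ
      rw [Nat.card_perm, hα, hk] at hdvd
      have hle : k ≤ padicValNat p n.factorial :=
        (padicValNat_dvd_iff_le (Nat.factorial_ne_zero _)).mp hdvd
      rw [hk]
      calc 4 * p ^ k ≤ 4 * p ^ padicValNat p n.factorial :=
            Nat.mul_le_mul_left _ (Nat.pow_le_pow_right hpp.pos hle)
        _ ≤ E4 n := sylowA_le p hp2 n
  · by_cases htr : ∀ x y : α, ∃ h : H, φ h x = y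
    · obtain ⟨c, d, a, b, hc, hd, hcd, hab, ha, hb⟩ := transitive_split hα φ hφ hp htr
      have h1 := G2_mul_le' hc hd hcd
      have h2 : (2 * a) * (2 * b) ≤ G2 c * G2 d := Nat.mul_le_mul ha hb
      have h3 := G2_le_E4 n
      rw [← hab]
      nlinarith
    · -- intransitive case
      push Not at htr
      obtain ⟨x, y, hxy⟩ := htr
      let p : α → Prop := fun z => ∃ h : H, φ h x = z
      have hp' : ∀ (h : H) (z : α), p (φ h z) ↔ p z := by
        intro h z
        constructor
        · rintro ⟨h', hh'⟩
          refine ⟨h⁻¹ * h', ?_⟩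
          rw [map_mul, Perm.mul_apply, hh']
          simp
        · rintro ⟨h', rfl⟩
          exact ⟨h * h', by rw [map_mul, Perm.mul_apply]⟩
      have hq' : ∀ (h : H) (z : α), ¬ p (φ h z) ↔ ¬ p z := fun h z => not_congr (hp' h z)
      let f1 := resHom φ p hp'
      let f2 := resHom φ (fun z => ¬ p z) hq'
      have hsum : Nat.card (Subtype p) + Nat.card {z // ¬ p z} = n := by
        rw [← hα, ← Nat.card_sum]
        exact Nat.card_congr (Equiv.sumCompl p)
      have h1pos : 0 < Nat.card (Subtype p) :=
        Nat.card_pos_iff.mpr ⟨⟨⟨x, 1, by simp⟩⟩, inferInstance⟩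
      have h2pos : 0 < Nat.card {z // ¬ p z} :=
        Nat.card_pos_iff.mpr ⟨⟨⟨y, fun ⟨h, hh⟩ => hxy h hh⟩⟩, inferInstance⟩
      have hinj : Function.Injective (fun h : H =>
          ((⟨f1 h, h, rfl⟩ : f1.range), (⟨f2 h, h, rfl⟩ : f2.range))) := by
        intro h h' e
        simp only [Prod.mk.injEq] at e
        apply hφ
        ext z
        by_cases hz : p z
        · have := congrArg (fun σ : Perm (Subtype p) => (σ ⟨z, hz⟩ : α))
            (congrArg Subtype.val e.1)
          simpa [f1] using this
        · have := congrArg (fun σ : Perm {z // ¬ p z} => (σ ⟨z, hz⟩ : α))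
            (congrArg Subtype.val e.2)
          simpa [f2] using this
      haveI : Group.IsNilpotent f1.range :=
        nilpotent_of_surjective f1.rangeRestrict f1.rangeRestrict_surjective
      haveI : Group.IsNilpotent f2.range :=
        nilpotent_of_surjective f2.rangeRestrict f2.rangeRestrict_surjective
      have hsplit : ∀ h : H, Perm.sign (f1 h) * Perm.sign (f2 h) = 1 := by
        intro h
        rw [← sign_split φ p hp' hq' h]
        exact hev h
      by_cases hodd : ∃ h0 : H, Perm.sign (f1 h0) = -1
      · obtain ⟨h0, hh0⟩ := hodd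
        let χ : f1.range × f2.range →* ℤˣ :=
          (Perm.sign.comp f1.range.subtype).coprod (Perm.sign.comp f2.range.subtype)
        have hχ0 : χ ((⟨f1 h0, h0, rfl⟩ : f1.range), (1 : f2.range)) = -1 := by
          simp only [χ, MonoidHom.coprod_apply, MonoidHom.comp_apply, Subgroup.coe_subtype,
            Subgroup.coe_one, map_one, mul_one]
          exact hh0
        have hχ1 : ∀ h : H, χ ((⟨f1 h, h, rfl⟩ : f1.range), (⟨f2 h, h, rfl⟩ : f2.range)) = 1 := by
          intro h
          simp only [χ, MonoidHom.coprod_apply, MonoidHom.comp_apply, Subgroup.coe_subtype]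
          exact hsplit h
        have hhalf := half_of_odd χ _ hχ0 _ hinj hχ1
        rw [Nat.card_prod] at hhalf
        have i1 := bound _ (Subtype p) rfl f1.range f1.range.subtype
          (Subgroup.subtype_injective _)
        have i2 := bound _ {z // ¬ p z} rfl f2.range f2.range.subtype
          (Subgroup.subtype_injective _)
        have i3 := G2_mul_le (Nat.card (Subtype p)) (Nat.card {z // ¬ p z})
        rw [hsum] at i3
        have i5 : (2 * Nat.card f1.range) * (2 * Nat.card f2.range) ≤
            G2 (Nat.card (Subtype p)) * G2 (Nat.card {z // ¬ p z}) := Nat.mul_le_mul i1 i2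
        have i6 := G2_le_E4 n
        nlinarith
      · push Not at hodd
        have hev1 : ∀ h : H, Perm.sign (f1 h) = 1 := by
          intro h
          rcases Int.units_eq_one_or (Perm.sign (f1 h)) with h1 | h1
          · exact h1
          · exact absurd h1 (hodd h)
        have hev2 : ∀ h : H, Perm.sign (f2 h) = 1 := by
          intro h
          have := hsplit h
          rwa [hev1 h, one_mul] at this
        have hle := Nat.card_le_card_of_injective _ hinj
        rw [Nat.card_prod] at hle
        have i1 := ih (Nat.card (Subtype p)) (by omega) (Subtype p) rfl f1.range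
          f1.range.subtype (Subgroup.subtype_injective _) (by
            rintro ⟨_, h, rfl⟩
            exact hev1 h)
        have i2 := ih (Nat.card {z // ¬ p z}) (by omega) {z // ¬ p z} rfl f2.range
          f2.range.subtype (Subgroup.subtype_injective _) (by
            rintro ⟨_, h, rfl⟩
            exact hev2 h)
        have i3 := E4_mul_le h1pos h2pos
        rw [hsum] at i3
        have i5 : (4 * Nat.card f1.range) * (4 * Nat.card f2.range) ≤
            E4 (Nat.card (Subtype p)) * E4 (Nat.card {z // ¬ p z}) := Nat.mul_le_mul i1 i2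
        nlinarith

end Cfsg.Agent.Lib.Helper23.NilpAlt
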