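import Mathlib
import Cfsg.Agent.Lib.Helper23.NilpAlt

/-!
Nilpotent subgroups of alternating groups attaining the bound, degree `3 mod 4`.
-/

namespace Cfsg.Agent.Lib.Helper23.NilpAltExt

open Cfsg.Agent.Lib.Helper23.NilpBound Cfsg.Agent.Lib.Helper23.NilpSym
  Cfsg.Agent.Lib.Helper23.NilpExt Cfsg.Agent.Lib.Helper23.NilpAltArith
  Cfsg.Agent.Lib.Helper23.NilpAlt

section arith

theorem G2_pred {n : ℕ} (hn : n % 4 = 3) : 3 * G2 (n - 1) = 2 * G2 n := by
  obtain ⟨k, rfl⟩ : ∃ k, n = 2 * k + 1 := ⟨n / 2, by omega⟩
  unfold G2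
  rw [show 2 * k + 1 - 1 = 2 * k by omega, e_two_mul_add_one]
  rcases w_cases (2 * k + 1) with ⟨-, h1⟩ | ⟨h1, -⟩
  swap
  · exact absurd hn h1
  rcases w_cases (2 * k) with ⟨h2, -⟩ | ⟨-, h2⟩
  · omega
  rw [h1, h2]
  ring

theorem G2_seven : G2 7 = 48 := by simp [G2, w, e_seven]
theorem G2_eleven : G2 11 = 768 := by simp [G2, w, e_11]
theorem G2_five : G2 5 = 16 := by simp [G2, w, e_five]
theorem G2_nine : G2 9 = 256 := by simp [G2, w, e_9]

theorem G2_mul_lt3 {c d n : ℕ} (hc : 2 ≤ c) (hd : 2 ≤ d) (h : c * d ≤ n) (hn : n % 4 = 3) :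
    G2 c * G2 d < G2 n := by
  have hn4 : 4 ≤ n := by nlinarith
  have h7 := G2_mono (show 7 ≤ n by omega)
  rw [G2_seven] at h7
  by_cases h22 : c = 2 ∧ d = 2
  · obtain ⟨rfl, rfl⟩ := h22
    rw [G2_two]; omega
  by_cases h23 : (c = 2 ∧ d = 3) ∨ (c = 3 ∧ d = 2)
  · rcases h23 with ⟨rfl, rfl⟩ | ⟨rfl, rfl⟩ <;> rw [G2_two, G2_three] <;> omega
  by_cases h24 : (c = 2 ∧ d = 4) ∨ (c = 4 ∧ d = 2)
  · have h11 := G2_mono (show 11 ≤ n by rcases h24 with ⟨rfl, rfl⟩ | ⟨rfl, rfl⟩ <;> omega)
    rw [G2_eleven] at h11
    rcases h24 with ⟨rfl, rfl⟩ | ⟨rfl, rfl⟩ <;> rw [G2_two, G2_four] <;> omega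
  · have hcd : c + d + 2 ≤ n - 1 := by
      by_cases hc2 : c = 2
      · subst hc2; omega
      by_cases hc3 : c = 3
      · subst hc3; omega
      by_cases hc4 : c = 4
      · subst hc4; omega
      obtain ⟨c', rfl⟩ : ∃ c', c = c' + 5 := ⟨c - 5, by omega⟩
      obtain ⟨d', rfl⟩ : ∃ d', d = d' + 2 := ⟨d - 2, by omega⟩
      have : c' + 5 + (d' + 2) + 3 ≤ n := by nlinarith [Nat.zero_le (c' * d')]
      omega
    have h1 := G2_mul_le c d
    have h2 := G2_add_two (c + d)
    have h3 := G2_mono hcd
    have h4 := G2_pred hn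
    have h5 := G2_pos (n - 1)
    omega

theorem no_pgroup {p k n : ℕ} (hp : p.Prime) (hn : n % 4 = 3) (h7 : 7 ≤ n)
    (h : 4 * p ^ k = G2 n) : False := by
  unfold G2 at h
  rcases w_cases n with ⟨-, h1⟩ | ⟨h1, -⟩
  swap
  · exact absurd hn h1
  rw [h1] at h
  have he : 4 ≤ e n := by
    have := e_mono h7
    rwa [e_seven] at this
  obtain ⟨e', he'⟩ : ∃ e', e n = e' + 4 := ⟨e n - 4, by omega⟩
  rw [he', pow_add] at h
  have h2 : p ^ k = 12 * 2 ^ e' := by omega
  have h3 : 3 ∣ p ^ k := ⟨4 * 2 ^ e', by rw [h2]; ring⟩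
  have h4 : 2 ∣ p ^ k := ⟨6 * 2 ^ e', by rw [h2]; ring⟩
  have h5 : 3 ∣ p := Nat.Prime.dvd_of_dvd_pow Nat.prime_three h3
  have h6 : 2 ∣ p := Nat.Prime.dvd_of_dvd_pow Nat.prime_two h4
  have h7 := (Nat.prime_dvd_prime_iff_eq Nat.prime_three hp).mp h5
  have h8 := (Nat.prime_dvd_prime_iff_eq Nat.prime_two hp).mp h6
  omega

theorem E4_eq_split {a b : ℕ} (ha : 1 ≤ a) (hb : 1 ≤ b) (hab : (a + b) % 4 = 3)
    (h7 : 7 ≤ a + b) (h : E4 a * E4 b = 4 * G2 (a + b)) :
    (a = 3 ∧ ¬ Exc b) ∨ (b = 3 ∧ ¬ Exc a) := by
  have hpos := G2_pos (a + b)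
  have hpa := G2_pos a
  have hpb := G2_pos b
  have hm := G2_mul_le a b
  by_cases ha' : Exc a <;> by_cases hb' : Exc b
  · exfalso
    have ha'' : a = 1 ∨ a = 3 ∨ a = 5 ∨ a = 6 ∨ a = 9 := by
      rcases ha' with h | h | h | h | h
      · left; omega
      all_goals simp [h]
    have hb'' : b = 1 ∨ b = 3 ∨ b = 5 ∨ b = 6 ∨ b = 9 := by
      rcases hb' with h | h | h | h | h
      · left; omega
      all_goals simp [h]
    rcases ha'' with rfl | rfl | rfl | rfl | rfl <;> rcases hb'' with rfl | rfl | rfl | rfl | rfl <;>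
      first
      | omega
      | (simp [E4, G2, w, e_seven, e_11, e_15] at h)
  · left
    refine ⟨?_, hb'⟩
    rw [E4_of_not_exc hb'] at h
    rcases ha' with h1 | rfl | rfl | rfl | rfl
    · exfalso
      have : a = 1 := by omega
      subst this
      have h2 : E4 1 = 4 := by simp [E4]
      rw [h2] at h
      have h3 := G2_pred hab
      rw [show 1 + b - 1 = b by omega] at h3
      omega
    · rfl
    · exfalso
      have h2 : E4 5 = 20 := by simp [E4]
      rw [h2] at h
      rw [G2_five] at hm
      omega
    · exfalso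
      have h2 : E4 6 = 36 := by simp [E4]
      rw [h2] at h
      rw [G2_six] at hm
      omega
    · exfalso
      have h2 : E4 9 = 324 := by simp [E4]
      rw [h2] at h
      rw [G2_nine] at hm
      omega
  · right
    refine ⟨?_, ha'⟩
    rw [E4_of_not_exc ha'] at h
    rcases hb' with h1 | rfl | rfl | rfl | rfl
    · exfalso
      have : b = 1 := by omega
      subst this
      have h2 : E4 1 = 4 := by simp [E4]
      rw [h2] at h
      have h3 := G2_pred hab
      rw [show a + 1 - 1 = a by omega] at h3
      omega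
    · rfl
    · exfalso
      have h2 : E4 5 = 20 := by simp [E4]
      rw [h2] at h
      rw [G2_five] at hm
      omega
    · exfalso
      have h2 : E4 6 = 36 := by simp [E4]
      rw [h2] at h
      rw [G2_six] at hm
      omega
    · exfalso
      have h2 : E4 9 = 324 := by simp [E4]
      rw [h2] at h
      rw [G2_nine] at hm
      omega
  · exfalso
    rw [E4_of_not_exc ha', E4_of_not_exc hb'] at h
    omega

end arith


section main

open Equiv

theorem extremalA (n : ℕ) (hn : n % 4 = 3) (h7 : 7 ≤ n) (α : Type) [Fintype α] [DecidableEq α]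
    (hα : Nat.card α = n) (H : Type) [Group H] [Finite H] [Group.IsNilpotent H]
    (φ : H →* Perm α) (hφ : Function.Injective φ) (hev : ∀ h, Perm.sign (φ h) = 1)
    (hext : 4 * Nat.card H = G2 n) :
    ∀ h : H, orderOf h = 3 → Nat.card {x : α // φ h x ≠ x} = 3 := by
  classical
  by_cases hp : ∃ p : ℕ, p.Prime ∧ IsPGroup p H
  · exfalso
    obtain ⟨p, hpp, hPG⟩ := hp
    haveI := Fact.mk hpp
    obtain ⟨k, hk⟩ := hPG.exists_card_eq
    rw [hk] at hext
    exact no_pgroup hpp hn h7 hext
  · by_cases htr : ∀ x y : α, ∃ h : H, φ h x = y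
    · exfalso
      obtain ⟨c, d, a, b, hc, hd, hcd, hab, ha, hb⟩ := transitive_split hα φ hφ hp htr
      have h1 := G2_mul_lt3 hc hd hcd hn
      have h2 : (2 * a) * (2 * b) ≤ G2 c * G2 d := Nat.mul_le_mul ha hb
      rw [← hab] at hext
      nlinarith
    · -- intransitive case
      push Not at htr
      obtain ⟨x, y, hxy⟩ := htr
      let p : α → Prop := fun z => ∃ h : H, φ h x = z
      have hp' : ∀ (h : H) (z : α), p (φ h z) ↔ p z := by
        intro h z
        constructor
        · rintro ⟨h', hh'⟩
          refine ⟨h⁻¹ * h', ?_⟩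
          rw [map_mul, Perm.mul_apply, hh']
          simp
        · rintro ⟨h', rfl⟩
          exact ⟨h * h', by rw [map_mul, Perm.mul_apply]⟩
      have hq' : ∀ (h : H) (z : α), ¬ p (φ h z) ↔ ¬ p z := fun h z => not_congr (hp' h z)
      let f1 := resHom φ p hp'
      let f2 := resHom φ (fun z => ¬ p z) hq'
      have hsum : Nat.card (Subtype p) + Nat.card {z // ¬ p z} = n := by
        rw [← hα, ← Nat.card_sum]
        exact Nat.card_congr (Equiv.sumCompl p)
      have h1pos : 0 < Nat.card (Subtype p) :=
        Nat.card_pos_iff.mpr ⟨⟨⟨x, 1, by simp⟩⟩, inferInstance⟩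
      have h2pos : 0 < Nat.card {z // ¬ p z} :=
        Nat.card_pos_iff.mpr ⟨⟨⟨y, fun ⟨h, hh⟩ => hxy h hh⟩⟩, inferInstance⟩
      have hinj : Function.Injective (fun h : H =>
          ((⟨f1 h, h, rfl⟩ : f1.range), (⟨f2 h, h, rfl⟩ : f2.range))) := by
        intro h h' e
        simp only [Prod.mk.injEq] at e
        apply hφ
        ext z
        by_cases hz : p z
        · have := congrArg (fun σ : Perm (Subtype p) => (σ ⟨z, hz⟩ : α))
            (congrArg Subtype.val e.1)
          simpa [f1] using this
        · have := congrArg (fun σ : Perm {z // ¬ p z} => (σ ⟨z, hz⟩ : α))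
            (congrArg Subtype.val e.2)
          simpa [f2] using this
      haveI : Group.IsNilpotent f1.range :=
        nilpotent_of_surjective f1.rangeRestrict f1.rangeRestrict_surjective
      haveI : Group.IsNilpotent f2.range :=
        nilpotent_of_surjective f2.rangeRestrict f2.rangeRestrict_surjective
      have hsplit : ∀ h : H, Perm.sign (f1 h) * Perm.sign (f2 h) = 1 := by
        intro h
        rw [← sign_split φ p hp' hq' h]
        exact hev h
      have hr1 : 0 < Nat.card f1.range := Nat.card_pos
      have hr2 : 0 < Nat.card f2.range := Nat.card_pos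
      by_cases hodd : ∃ h0 : H, Perm.sign (f1 h0) = -1
      · obtain ⟨h0, hh0⟩ := hodd
        let χ : f1.range × f2.range →* ℤˣ :=
          (Perm.sign.comp f1.range.subtype).coprod (Perm.sign.comp f2.range.subtype)
        have hχ0 : χ ((⟨f1 h0, h0, rfl⟩ : f1.range), (1 : f2.range)) = -1 := by
          simp only [χ, MonoidHom.coprod_apply, MonoidHom.comp_apply, Subgroup.coe_subtype,
            Subgroup.coe_one, map_one, mul_one]
          exact hh0
        have hχ1 : ∀ h : H, χ ((⟨f1 h, h, rfl⟩ : f1.range), (⟨f2 h, h, rfl⟩ : f2.range)) = 1 := by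
          intro h
          simp only [χ, MonoidHom.coprod_apply, MonoidHom.comp_apply, Subgroup.coe_subtype]
          exact hsplit h
        have hhalf := half_of_odd χ _ hχ0 _ hinj hχ1
        rw [Nat.card_prod] at hhalf
        have i1 := bound _ (Subtype p) rfl f1.range f1.range.subtype
          (Subgroup.subtype_injective _)
        have i2 := bound _ {z // ¬ p z} rfl f2.range f2.range.subtype
          (Subgroup.subtype_injective _)
        have i3 := G2_mul_le (Nat.card (Subtype p)) (Nat.card {z // ¬ p z})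
        have key : G2 (Nat.card (Subtype p)) * G2 (Nat.card {z // ¬ p z}) ≤
            (2 * Nat.card f1.range) * (2 * Nat.card f2.range) := by
          rw [hsum] at i3
          nlinarith
        obtain ⟨e1, e2⟩ := eq_of_mul_eq i1 i2 (by omega) (by omega) key
        have e3 : G2 (Nat.card (Subtype p)) * G2 (Nat.card {z // ¬ p z}) =
            2 * G2 (Nat.card (Subtype p) + Nat.card {z // ¬ p z}) := by
          apply le_antisymm i3
          rw [hsum, ← e1, ← e2]
          nlinarith
        obtain ⟨-, sb⟩ := G2_eq_split e3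
        rw [hsum] at sb
        have x1 := extremal (Nat.card (Subtype p)) (Subtype p) rfl f1.range f1.range.subtype
          (Subgroup.subtype_injective _) e1
        have x2 := extremal (Nat.card {z // ¬ p z}) {z // ¬ p z} rfl f2.range
          f2.range.subtype (Subgroup.subtype_injective _) e2
        intro h hh
        rcases sb hn with ⟨hm1, hm2⟩ | ⟨hm1, hm2⟩
        · exact step_b φ hφ p (fun z => ¬ p z) hp' hq' (fun z => em (p z)) h hh (x2.1 hm2)
            (x1.2 hm1)
        · exact step_b φ hφ (fun z => ¬ p z) p hq' hp' (fun z => (em (p z)).symm) h hh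
            (x1.1 hm1) (x2.2 hm2)
      · push Not at hodd
        have hev1 : ∀ h : H, Perm.sign (f1 h) = 1 := by
          intro h
          rcases Int.units_eq_one_or (Perm.sign (f1 h)) with h1 | h1
          · exact h1
          · exact absurd h1 (hodd h)
        have hev2 : ∀ h : H, Perm.sign (f2 h) = 1 := by
          intro h
          have := hsplit h
          rwa [hev1 h, one_mul] at this
        have hle := Nat.card_le_card_of_injective _ hinj
        rw [Nat.card_prod] at hle
        have i1 := boundA (Nat.card (Subtype p)) (Subtype p) rfl f1.range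
          f1.range.subtype (Subgroup.subtype_injective _) (by
            rintro ⟨_, h, rfl⟩
            exact hev1 h)
        have i2 := boundA (Nat.card {z // ¬ p z}) {z // ¬ p z} rfl f2.range
          f2.range.subtype (Subgroup.subtype_injective _) (by
            rintro ⟨_, h, rfl⟩
            exact hev2 h)
        have i3 := E4_mul_le h1pos h2pos
        have hE : E4 n = G2 n := E4_of_not_exc (by unfold Exc; omega)
        have key : E4 (Nat.card (Subtype p)) * E4 (Nat.card {z // ¬ p z}) ≤
            (4 * Nat.card f1.range) * (4 * Nat.card f2.range) := by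
          rw [hsum, hE] at i3
          nlinarith
        obtain ⟨e1, e2⟩ := eq_of_mul_eq i1 i2 (by omega) (by omega) key
        have e3 : E4 (Nat.card (Subtype p)) * E4 (Nat.card {z // ¬ p z}) =
            4 * G2 (Nat.card (Subtype p) + Nat.card {z // ¬ p z}) := by
          rw [hsum, hE] at i3
          rw [hsum]
          apply le_antisymm i3
          rw [← e1, ← e2]
          nlinarith
        intro h hh
        rcases E4_eq_split h1pos h2pos (by rw [hsum]; exact hn) (by rw [hsum]; exact h7) e3 with
          ⟨hm1, hm2⟩ | ⟨hm2, hm1⟩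
        · -- orbit of size 3, complement a 2-group
          have hmod : Nat.card {z // ¬ p z} % 4 ≠ 3 := by omega
          have hG : G2 (Nat.card {z // ¬ p z}) = 2 * 2 ^ e (Nat.card {z // ¬ p z}) := by
            unfold G2
            rcases w_cases (Nat.card {z // ¬ p z}) with ⟨h, -⟩ | ⟨-, h⟩
            · exact absurd h hmod
            · rw [h]
          have he1 : 1 ≤ e (Nat.card {z // ¬ p z}) := by
            have := e_mono (show 2 ≤ Nat.card {z // ¬ p z} by omega)
            rwa [e_two] at this
          have h2grp : IsPGroup 2 f2.range := by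
            apply IsPGroup.of_card (n := e (Nat.card {z // ¬ p z}) - 1)
            rw [E4_of_not_exc hm2, hG] at e2
            have hpow : 2 ^ e (Nat.card {z // ¬ p z}) =
                2 * 2 ^ (e (Nat.card {z // ¬ p z}) - 1) := by
              rw [← pow_succ']
              congr 1
              omega
            omega
          exact step_b φ hφ p (fun z => ¬ p z) hp' hq' (fun z => em (p z)) h hh h2grp
            (fun k hk => moved_three (Subtype p) hm1 _ (by
              rw [← hk]; exact Subgroup.orderOf_coe k))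
        · have hmod : Nat.card (Subtype p) % 4 ≠ 3 := by omega
          have hG : G2 (Nat.card (Subtype p)) = 2 * 2 ^ e (Nat.card (Subtype p)) := by
            unfold G2
            rcases w_cases (Nat.card (Subtype p)) with ⟨h, -⟩ | ⟨-, h⟩
            · exact absurd h hmod
            · rw [h]
          have he1 : 1 ≤ e (Nat.card (Subtype p)) := by
            have := e_mono (show 2 ≤ Nat.card (Subtype p) by omega)
            rwa [e_two] at this
          have h2grp : IsPGroup 2 f1.range := by
            apply IsPGroup.of_card (n := e (Nat.card (Subtype p)) - 1)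
            rw [E4_of_not_exc hm1, hG] at e1
            have hpow : 2 ^ e (Nat.card (Subtype p)) =
                2 * 2 ^ (e (Nat.card (Subtype p)) - 1) := by
              rw [← pow_succ']
              congr 1
              omega
            omega
          exact step_b φ hφ (fun z => ¬ p z) p hq' hp' (fun z => (em (p z)).symm) h hh h2grp
            (fun k hk => moved_three {z // ¬ p z} hm2 _ (by
              rw [← hk]; exact Subgroup.orderOf_coe k))

end main

end Cfsg.Agent.Lib.Helper23.NilpAltExt
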