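import Mathlib
import Cfsg.Agent.Lib.Helper23.NilpExt

/-!
Conjugacy of the extremal nilpotent subgroups of `S_n`, `n ≡ 3 mod 4`.
-/

namespace Cfsg.Agent.Lib.Helper23.NilpConj

open Cfsg.Agent.Lib.Helper23.NilpBound Cfsg.Agent.Lib.Helper23.NilpSym
  Cfsg.Agent.Lib.Helper23.NilpExt

open Equiv

section cyc

variable {β : Type*} [Fintype β] [DecidableEq β]

/-- an element of order coprime to a cycle it commutes with fixes the support of the cycle. -/
theorem cycle_fix (c q : Perm β) (hc : c.IsCycle) (hcomm : Commute q c)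
    (hco : (orderOf q).Coprime (orderOf c)) (x : β) (hx : c x ≠ x) : q x = x := by
  have hqx : c (q x) ≠ q x := by
    intro h
    apply hx
    have h1 : c (q x) = q (c x) := by
      rw [← Perm.mul_apply, ← Perm.mul_apply, hcomm.eq]
    rw [h1] at h
    exact q.injective h
  obtain ⟨i, hi⟩ := hc.exists_pow_eq hx hqx
  have hk : ∀ k : ℕ, (q ^ k) x = (c ^ (i * k)) x := by
    intro k
    induction k with
    | zero => simp
    | succ k ih =>
      have hcm : Commute (q ^ k) (c ^ i) := (hcomm.pow_left k).pow_right i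
      rw [pow_succ, Perm.mul_apply, ← hi, ← Perm.mul_apply, hcm.eq, Perm.mul_apply, ih,
        ← Perm.mul_apply, ← pow_add]
      congr 2
      ring
  have h1 := hk (orderOf q)
  rw [pow_orderOf_eq_one, Perm.one_apply] at h1
  have h2 : c ^ (i * orderOf q) = 1 := (hc.pow_eq_one_iff' hx).mpr h1.symm
  have h3 : orderOf c ∣ i * orderOf q := orderOf_dvd_of_pow_eq_one h2
  have h4 : orderOf c ∣ i := (Nat.Coprime.dvd_mul_right hco.symm).mp h3
  have h5 : c ^ i = 1 := orderOf_dvd_iff_pow_eq_one.mp h4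
  rw [← hi, h5, Perm.one_apply]

end cyc

section syl

variable {n : ℕ}

theorem card_fixed (c : Perm (Fin n)) (hc : c.support.card = 3) :
    Fintype.card {x : Fin n // c x = x} = n - 3 := by
  rw [Fintype.card_of_subtype (c.support)ᶜ (fun x => by simp [Perm.mem_support]),
    Finset.card_compl, hc, Fintype.card_fin]

theorem sylow_conj_fix (c : Perm (Fin n)) (hc : c.support.card = 3)
    (Q₁ Q₂ : Subgroup (Perm (Fin n))) (h1 : Nat.card Q₁ = 2 ^ e (n - 3))
    (h2 : Nat.card Q₂ = 2 ^ e (n - 3)) (f1 : ∀ q ∈ Q₁, ∀ x, c x ≠ x → q x = x)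
    (f2 : ∀ q ∈ Q₂, ∀ x, c x ≠ x → q x = x) :
    ∃ s : Perm (Fin n), Commute s c ∧ Q₁.map (MulAut.conj s).toMonoidHom = Q₂ := by
  have : Fact (Nat.Prime 2) := ⟨Nat.prime_two⟩
  let p : Fin n → Prop := fun x => c x = x
  let ι : Perm (Subtype p) →* Perm (Fin n) := Perm.ofSubtype
  have hι : Function.Injective ι := Perm.ofSubtype_injective
  have hr : ∀ Q : Subgroup (Perm (Fin n)), (∀ q ∈ Q, ∀ x, c x ≠ x → q x = x) → Q ≤ ι.range := by
    intro Q f q hq
    rw [Perm.mem_range_ofSubtype_iff]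
    intro x hx
    rw [Finset.mem_coe, Perm.mem_support] at hx
    show c x = x
    by_contra hcx
    exact hx (f q hq x hcx)
  have hcardG : (Nat.card (Perm (Subtype p))).factorization 2 = e (n - 3) := by
    rw [Nat.card_perm, Nat.card_eq_fintype_card, card_fixed c hc,
      Nat.factorization_def _ Nat.prime_two]
    rfl
  have hm1 := Subgroup.map_comap_eq_self (hr Q₁ f1)
  have hm2 := Subgroup.map_comap_eq_self (hr Q₂ f2)
  have hc1 : Nat.card (Q₁.comap ι) = 2 ^ (Nat.card (Perm (Subtype p))).factorization 2 := by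
    rw [hcardG, ← h1]
    conv_rhs => rw [← hm1]
    exact (Subgroup.card_map_of_injective hι).symm
  have hc2 : Nat.card (Q₂.comap ι) = 2 ^ (Nat.card (Perm (Subtype p))).factorization 2 := by
    rw [hcardG, ← h2]
    conv_rhs => rw [← hm2]
    exact (Subgroup.card_map_of_injective hι).symm
  let S₁ : Sylow 2 (Perm (Subtype p)) := Sylow.ofCard (Q₁.comap ι) hc1
  let S₂ : Sylow 2 (Perm (Subtype p)) := Sylow.ofCard (Q₂.comap ι) hc2
  obtain ⟨s', hs'⟩ := MulAction.exists_smul_eq (Perm (Subtype p)) S₁ S₂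
  have hs'' : (Q₁.comap ι).map (MulAut.conj s').toMonoidHom = Q₂.comap ι := by
    have := congrArg (fun S : Sylow 2 (Perm (Subtype p)) => (S : Subgroup (Perm (Subtype p)))) hs'
    simp only [Sylow.coe_subgroup_smul, Subgroup.pointwise_smul_def] at this
    exact this
  refine ⟨ι s', ?_, ?_⟩
  · apply Perm.Disjoint.commute
    intro x
    by_cases hx : c x = x
    · right; exact hx
    · left
      exact Perm.ofSubtype_apply_of_not_mem s' hx
  · have hcomp : (MulAut.conj (ι s')).toMonoidHom.comp ι =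
        ι.comp (MulAut.conj s').toMonoidHom := by
      ext1 σ
      simp [ι, MulAut.conj_apply]
    rw [← hm1, Subgroup.map_map, hcomp, ← Subgroup.map_map, hs'', hm2]

end syl


section struct

variable {n : ℕ}

theorem fact_two_three (k : ℕ) : (3 * 2 ^ k).factorization 2 = k := by
  rw [Nat.factorization_def _ Nat.prime_two, padicValNat.mul (by norm_num) (by positivity)]
  haveI : Fact (Nat.Prime 2) := ⟨Nat.prime_two⟩
  rw [padicValNat.prime_pow, padicValNat.eq_zero_of_not_dvd (by norm_num)]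
  simp

theorem structure_extremal (hn : n % 4 = 3) (N : Subgroup (Perm (Fin n)))
    [Group.IsNilpotent N] (hN : Nat.card N = 3 * 2 ^ e (n - 3)) :
    ∃ c : Perm (Fin n), ∃ Q : Subgroup (Perm (Fin n)), c.support.card = 3 ∧
      Nat.card Q = 2 ^ e (n - 3) ∧ (∀ q ∈ Q, ∀ x, c x ≠ x → q x = x) ∧
      N = Subgroup.zpowers c ⊔ Q := by
  haveI : Fact (Nat.Prime 2) := ⟨Nat.prime_two⟩
  haveI : Fact (Nat.Prime 3) := ⟨Nat.prime_three⟩
  have hext : 2 * Nat.card N = G2 n := by rw [hN, G2_mod4 hn]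
  have hb := (extremal n (Fin n) (by simp) N N.subtype (Subgroup.subtype_injective N) hext).2 hn
  obtain ⟨c₀, hc₀⟩ := exists_prime_orderOf_dvd_card' (G := N) 3 (by rw [hN]; exact dvd_mul_right _ _)
  have hc3 : (c₀ : Perm (Fin n)).support.card = 3 := by
    have := hb c₀ hc₀
    rw [Subgroup.coe_subtype, Nat.card_eq_fintype_card,
      Fintype.card_of_subtype (c₀ : Perm (Fin n)).support (fun x => Perm.mem_support)] at this
    exact this
  have hcyc : (c₀ : Perm (Fin n)).IsCycle := (card_support_eq_three_iff.mp hc3).isCycle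
  have hco : orderOf (c₀ : Perm (Fin n)) = 3 := by rw [Subgroup.orderOf_coe, hc₀]
  let Q₀ : Sylow 2 N := default
  have hQ₀card : Nat.card (Q₀ : Subgroup N) = 2 ^ e (n - 3) := by
    rw [Q₀.card_eq_multiplicity, hN, fact_two_three]
  -- commuting
  have hcomm : ∀ q₀ ∈ (Q₀ : Subgroup N), Commute q₀ c₀ := by
    intro q₀ hq₀
    have hz : IsPGroup 3 (Subgroup.zpowers c₀) :=
      IsPGroup.of_card (n := 1) (by rw [Nat.card_zpowers, hc₀, pow_one])
    obtain ⟨R₀, hR₀⟩ := hz.exists_le_sylow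
    have hQn : (Q₀ : Subgroup N).Normal := inferInstance
    have hRn : (R₀ : Subgroup N).Normal := inferInstance
    have hdis : Disjoint (Q₀ : Subgroup N) (R₀ : Subgroup N) :=
      IsPGroup.disjoint_of_ne 2 3 (by norm_num) _ _ Q₀.isPGroup' R₀.isPGroup'
    exact Subgroup.commute_of_normal_of_disjoint _ _ hQn hRn hdis q₀ c₀ hq₀
      (hR₀ (Subgroup.mem_zpowers c₀))
  refine ⟨c₀, (Q₀ : Subgroup N).map N.subtype, hc3, ?_, ?_, ?_⟩
  · rw [Subgroup.card_map_of_injective (Subgroup.subtype_injective N), hQ₀card]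
  · rintro q ⟨q₀, hq₀, rfl⟩ x hx
    apply cycle_fix (c₀ : Perm (Fin n)) _ hcyc ((hcomm q₀ hq₀).map N.subtype) _ x hx
    rw [hco]
    have h1 : orderOf (N.subtype q₀) ∣ 2 ^ e (n - 3) := by
      rw [Subgroup.coe_subtype, Subgroup.orderOf_coe, ← hQ₀card]
      exact Subgroup.orderOf_dvd_natCard _ hq₀
    exact Nat.Coprime.coprime_dvd_left h1 (Nat.Coprime.pow_left _ (by norm_num))
  · symm
    apply Subgroup.eq_of_le_of_card_ge
    · apply sup_le
      · rw [Subgroup.zpowers_le]
        exact c₀.2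
      · exact Subgroup.map_subtype_le _
    · apply Nat.le_of_dvd Nat.card_pos
      rw [hN]
      apply Nat.Coprime.mul_dvd_of_dvd_of_dvd (Nat.Coprime.pow_right _ (by norm_num))
      · have := Subgroup.card_dvd_of_le (le_sup_left :
          Subgroup.zpowers (c₀ : Perm (Fin n)) ≤ Subgroup.zpowers (c₀ : Perm (Fin n)) ⊔
            (Q₀ : Subgroup N).map N.subtype)
        rwa [Nat.card_zpowers, hco] at this
      · have := Subgroup.card_dvd_of_le (le_sup_right :
          (Q₀ : Subgroup N).map N.subtype ≤ Subgroup.zpowers (c₀ : Perm (Fin n)) ⊔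
            (Q₀ : Subgroup N).map N.subtype)
        rwa [Subgroup.card_map_of_injective (Subgroup.subtype_injective N), hQ₀card] at this

theorem conj_extremal (hn : n % 4 = 3) (N₁ N₂ : Subgroup (Perm (Fin n)))
    [Group.IsNilpotent N₁] [Group.IsNilpotent N₂] (h1 : Nat.card N₁ = 3 * 2 ^ e (n - 3))
    (h2 : Nat.card N₂ = 3 * 2 ^ e (n - 3)) :
    ∃ g : Perm (Fin n), N₂ = N₁.map (MulAut.conj g).toMonoidHom := by
  obtain ⟨c₁, Q₁, hc₁, hQ₁, hf₁, hN₁⟩ := structure_extremal hn N₁ h1
  obtain ⟨c₂, Q₂, hc₂, hQ₂, hf₂, hN₂⟩ := structure_extremal hn N₂ h2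
  have hconj : IsConj c₁ c₂ := by
    rw [Perm.isConj_iff_cycleType_eq, (card_support_eq_three_iff.mp hc₁).cycleType,
      (card_support_eq_three_iff.mp hc₂).cycleType]
  obtain ⟨g, hg⟩ := isConj_iff.mp hconj
  have hQ₁' : Nat.card (Q₁.map (MulAut.conj g).toMonoidHom) = 2 ^ e (n - 3) := by
    rw [Subgroup.card_map_of_injective (MulAut.conj g).injective, hQ₁]
  have hf₁' : ∀ q ∈ Q₁.map (MulAut.conj g).toMonoidHom, ∀ x, c₂ x ≠ x → q x = x := by
    rintro q ⟨q₁, hq₁, rfl⟩ x hx
    have hx1 : c₁ (g⁻¹ x) ≠ g⁻¹ x := by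
      intro h
      apply hx
      rw [← hg]
      simp only [Perm.mul_apply]
      rw [h]
      simp
    have := hf₁ q₁ hq₁ _ hx1
    simp only [MulEquiv.coe_toMonoidHom, MulAut.conj_apply, Perm.mul_apply]
    rw [this]
    simp
  obtain ⟨s, hsc, hsQ⟩ := sylow_conj_fix c₂ hc₂ _ Q₂ hQ₁' hQ₂ hf₁' hf₂
  refine ⟨s * g, ?_⟩
  have hcomp : (MulAut.conj (s * g)).toMonoidHom =
      (MulAut.conj s).toMonoidHom.comp (MulAut.conj g).toMonoidHom := by
    ext1 σ
    simp [map_mul]
  rw [hN₁, hN₂, Subgroup.map_sup, MonoidHom.map_zpowers, hcomp, ← Subgroup.map_map, hsQ]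
  congr 2
  simp only [MonoidHom.comp_apply, MulEquiv.coe_toMonoidHom, MulAut.conj_apply]
  rw [hg]
  have := hsc.eq
  rw [this, mul_assoc, mul_inv_cancel, mul_one]

end struct


section exist

/-- translation action of `ZMod 3` on itself -/
def theta : Multiplicative (ZMod 3) →* Perm (ZMod 3) where
  toFun a := Equiv.addLeft (Multiplicative.toAdd a)
  map_one' := by ext x; simp
  map_mul' a b := by ext x; simp [add_assoc]

theorem theta_injective : Function.Injective theta := by
  intro a b h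
  have := congrArg (fun σ : Perm (ZMod 3) => σ 0) h
  simpa [theta] using this

theorem exists_extremal (n : ℕ) (hn3 : 3 ≤ n) (P : Sylow 2 (Perm (Fin (n - 3)))) :
    ∃ M : Subgroup (Perm (Fin n)), Group.IsNilpotent M ∧ Nat.card M = 3 * Nat.card P ∧
      Nonempty (M ≃* (↥(P : Subgroup (Perm (Fin (n - 3)))) × Multiplicative (ZMod 3))) := by
  haveI : Fact (Nat.Prime 2) := ⟨Nat.prime_two⟩
  let e₀ : Fin (n - 3) ⊕ ZMod 3 ≃ Fin n :=
    Fintype.equivFinOfCardEq (by simp [ZMod.card]; omega)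
  let ψ : ↥(P : Subgroup (Perm (Fin (n - 3)))) × Multiplicative (ZMod 3) →* Perm (Fin n) :=
    (Equiv.permCongrHom e₀).toMonoidHom.comp
      ((Perm.sumCongrHom (Fin (n - 3)) (ZMod 3)).comp
        (MonoidHom.prodMap (P : Subgroup (Perm (Fin (n - 3)))).subtype theta))
  have hψ : Function.Injective ψ := by
    apply (Equiv.permCongrHom e₀).injective.comp
    apply Perm.sumCongrHom_injective.comp
    rw [MonoidHom.coe_prodMap]
    exact Function.Injective.prodMap (Subgroup.subtype_injective _) theta_injective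
  haveI : Group.IsNilpotent ↥(P : Subgroup (Perm (Fin (n - 3)))) := P.isPGroup'.isNilpotent
  refine ⟨ψ.range, nilpotent_of_mulEquiv (MonoidHom.ofInjective hψ), ?_,
    ⟨(MonoidHom.ofInjective hψ).symm⟩⟩
  rw [Nat.card_congr (MonoidHom.ofInjective hψ).symm.toEquiv, Nat.card_prod,
    Nat.card_congr (Multiplicative.toAdd : Multiplicative (ZMod 3) ≃ ZMod 3), Nat.card_zmod]
  ring

end exist

end Cfsg.Agent.Lib.Helper23.NilpConj
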