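import Mathlib
import Cfsg.Agent.Lib.Helper23.NilpAltExt
import Cfsg.Agent.Lib.Helper23.NilpConj

/-!
Conjugacy of the extremal nilpotent subgroups of `A_n`, `n ≡ 3 mod 4`.
-/

namespace Cfsg.Agent.Lib.Helper23.NilpAltConj

open Cfsg.Agent.Lib.Helper23.NilpBound Cfsg.Agent.Lib.Helper23.NilpSym
  Cfsg.Agent.Lib.Helper23.NilpExt Cfsg.Agent.Lib.Helper23.NilpAltArith
  Cfsg.Agent.Lib.Helper23.NilpAlt Cfsg.Agent.Lib.Helper23.NilpAltExt
  Cfsg.Agent.Lib.Helper23.NilpConj

open Equiv

variable {n : ℕ}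

theorem structure_gen (N : Subgroup (Perm (Fin n))) [Group.IsNilpotent N] (k : ℕ)
    (hN : Nat.card N = 3 * 2 ^ k)
    (hb : ∀ h : N, orderOf h = 3 → (h : Perm (Fin n)).support.card = 3) :
    ∃ c : Perm (Fin n), ∃ Q : Subgroup (Perm (Fin n)), c.support.card = 3 ∧
      Nat.card Q = 2 ^ k ∧ Q ≤ N ∧ (∀ q ∈ Q, ∀ x, c x ≠ x → q x = x) ∧
      N = Subgroup.zpowers c ⊔ Q := by
  haveI : Fact (Nat.Prime 2) := ⟨Nat.prime_two⟩
  haveI : Fact (Nat.Prime 3) := ⟨Nat.prime_three⟩
  obtain ⟨c₀, hc₀⟩ := exists_prime_orderOf_dvd_card' (G := N) 3 (by rw [hN]; exact dvd_mul_right _ _)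
  have hc3 : (c₀ : Perm (Fin n)).support.card = 3 := hb c₀ hc₀
  have hcyc : (c₀ : Perm (Fin n)).IsCycle := (card_support_eq_three_iff.mp hc3).isCycle
  have hco : orderOf (c₀ : Perm (Fin n)) = 3 := by rw [Subgroup.orderOf_coe, hc₀]
  let Q₀ : Sylow 2 N := default
  have hQ₀card : Nat.card (Q₀ : Subgroup N) = 2 ^ k := by
    rw [Q₀.card_eq_multiplicity, hN, fact_two_three]
  have hcomm : ∀ q₀ ∈ (Q₀ : Subgroup N), Commute q₀ c₀ := by
    intro q₀ hq₀
    have hz : IsPGroup 3 (Subgroup.zpowers c₀) :=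
      IsPGroup.of_card (n := 1) (by rw [Nat.card_zpowers, hc₀, pow_one])
    obtain ⟨R₀, hR₀⟩ := hz.exists_le_sylow
    have hQn : (Q₀ : Subgroup N).Normal := inferInstance
    have hRn : (R₀ : Subgroup N).Normal := inferInstance
    have hdis : Disjoint (Q₀ : Subgroup N) (R₀ : Subgroup N) :=
      IsPGroup.disjoint_of_ne 2 3 (by norm_num) _ _ Q₀.isPGroup' R₀.isPGroup'
    exact Subgroup.commute_of_normal_of_disjoint _ _ hQn hRn hdis q₀ c₀ hq₀
      (hR₀ (Subgroup.mem_zpowers c₀))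
  refine ⟨c₀, (Q₀ : Subgroup N).map N.subtype, hc3, ?_, Subgroup.map_subtype_le _, ?_, ?_⟩
  · rw [Subgroup.card_map_of_injective (Subgroup.subtype_injective N), hQ₀card]
  · rintro q ⟨q₀, hq₀, rfl⟩ x hx
    apply cycle_fix (c₀ : Perm (Fin n)) _ hcyc ((hcomm q₀ hq₀).map N.subtype) _ x hx
    rw [hco]
    have h1 : orderOf (N.subtype q₀) ∣ 2 ^ k := by
      rw [Subgroup.coe_subtype, Subgroup.orderOf_coe, ← hQ₀card]
      exact Subgroup.orderOf_dvd_natCard _ hq₀
    exact Nat.Coprime.coprime_dvd_left h1 (Nat.Coprime.pow_left _ (by norm_num))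
  · symm
    apply Subgroup.eq_of_le_of_card_ge
    · apply sup_le
      · rw [Subgroup.zpowers_le]
        exact c₀.2
      · exact Subgroup.map_subtype_le _
    · apply Nat.le_of_dvd Nat.card_pos
      rw [hN]
      apply Nat.Coprime.mul_dvd_of_dvd_of_dvd (Nat.Coprime.pow_right _ (by norm_num))
      · have := Subgroup.card_dvd_of_le (le_sup_left :
          Subgroup.zpowers (c₀ : Perm (Fin n)) ≤ Subgroup.zpowers (c₀ : Perm (Fin n)) ⊔
            (Q₀ : Subgroup N).map N.subtype)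
        rwa [Nat.card_zpowers, hco] at this
      · have := Subgroup.card_dvd_of_le (le_sup_right :
          (Q₀ : Subgroup N).map N.subtype ≤ Subgroup.zpowers (c₀ : Perm (Fin n)) ⊔
            (Q₀ : Subgroup N).map N.subtype)
        rwa [Subgroup.card_map_of_injective (Subgroup.subtype_injective N), hQ₀card] at this

theorem sylow_conj_fixA (h5 : 5 ≤ n) (c : Perm (Fin n)) (hc : c.support.card = 3)
    (Q₁ Q₂ : Subgroup (Perm (Fin n))) (h1 : Nat.card Q₁ = 2 ^ (e (n - 3) - 1))
    (h2 : Nat.card Q₂ = 2 ^ (e (n - 3) - 1)) (f1 : ∀ q ∈ Q₁, ∀ x, c x ≠ x → q x = x)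
    (f2 : ∀ q ∈ Q₂, ∀ x, c x ≠ x → q x = x) (ev1 : ∀ q ∈ Q₁, Perm.sign q = 1)
    (ev2 : ∀ q ∈ Q₂, Perm.sign q = 1) :
    ∃ s : Perm (Fin n), Perm.sign s = 1 ∧ Commute s c ∧
      Q₁.map (MulAut.conj s).toMonoidHom = Q₂ := by
  have : Fact (Nat.Prime 2) := ⟨Nat.prime_two⟩
  let p : Fin n → Prop := fun x => c x = x
  have hcardp : Fintype.card (Subtype p) = n - 3 := card_fixed c hc
  haveI : Nontrivial (Subtype p) := by
    rw [← Fintype.one_lt_card_iff_nontrivial, hcardp]; omega
  let ι : Perm (Subtype p) →* Perm (Fin n) := Perm.ofSubtype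
  let ι' : alternatingGroup (Subtype p) →* Perm (Fin n) :=
    ι.comp (alternatingGroup (Subtype p)).subtype
  have hι : Function.Injective ι' :=
    Perm.ofSubtype_injective.comp (Subgroup.subtype_injective _)
  have hr : ∀ Q : Subgroup (Perm (Fin n)), (∀ q ∈ Q, ∀ x, c x ≠ x → q x = x) →
      (∀ q ∈ Q, Perm.sign q = 1) → Q ≤ ι'.range := by
    intro Q f ev q hq
    have hq1 : q ∈ ι.range := by
      rw [Perm.mem_range_ofSubtype_iff]
      intro x hx
      rw [Finset.mem_coe, Perm.mem_support] at hx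
      show c x = x
      by_contra hcx
      exact hx (f q hq x hcx)
    obtain ⟨q', rfl⟩ := hq1
    have hs : Perm.sign q' = 1 := by
      rw [← Perm.sign_ofSubtype q']
      exact ev _ hq
    exact ⟨⟨q', Perm.mem_alternatingGroup.mpr hs⟩, rfl⟩
  have hcardG : (Nat.card (alternatingGroup (Subtype p))).factorization 2 = e (n - 3) - 1 := by
    have h2' : 2 * Nat.card (alternatingGroup (Subtype p)) = (n - 3).factorial := by
      rw [two_mul_nat_card_alternatingGroup, Nat.card_perm, Nat.card_eq_fintype_card, hcardp]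
    have hev : e (n - 3) = 1 + padicValNat 2 (Nat.card (alternatingGroup (Subtype p))) := by
      unfold e
      rw [← h2', padicValNat.mul (by norm_num) (Nat.card_pos.ne')]
      simp
    rw [Nat.factorization_def _ Nat.prime_two]
    omega
  have hm1 := Subgroup.map_comap_eq_self (hr Q₁ f1 ev1)
  have hm2 := Subgroup.map_comap_eq_self (hr Q₂ f2 ev2)
  have hc1 : Nat.card (Q₁.comap ι') =
      2 ^ (Nat.card (alternatingGroup (Subtype p))).factorization 2 := by
    rw [hcardG, ← h1]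
    conv_rhs => rw [← hm1]
    exact (Subgroup.card_map_of_injective hι).symm
  have hc2 : Nat.card (Q₂.comap ι') =
      2 ^ (Nat.card (alternatingGroup (Subtype p))).factorization 2 := by
    rw [hcardG, ← h2]
    conv_rhs => rw [← hm2]
    exact (Subgroup.card_map_of_injective hι).symm
  let S₁ : Sylow 2 (alternatingGroup (Subtype p)) := Sylow.ofCard (Q₁.comap ι') hc1
  let S₂ : Sylow 2 (alternatingGroup (Subtype p)) := Sylow.ofCard (Q₂.comap ι') hc2
  obtain ⟨s', hs'⟩ := MulAction.exists_smul_eq (alternatingGroup (Subtype p)) S₁ S₂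
  have hs'' : (Q₁.comap ι').map (MulAut.conj s').toMonoidHom = Q₂.comap ι' := by
    have := congrArg (fun S : Sylow 2 (alternatingGroup (Subtype p)) =>
      (S : Subgroup (alternatingGroup (Subtype p)))) hs'
    simp only [Sylow.coe_subgroup_smul, Subgroup.pointwise_smul_def] at this
    exact this
  refine ⟨ι' s', ?_, ?_, ?_⟩
  · show Perm.sign (Perm.ofSubtype (s' : Perm (Subtype p))) = 1
    rw [Perm.sign_ofSubtype]
    exact Perm.mem_alternatingGroup.mp s'.2
  · apply Perm.Disjoint.commute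
    intro x
    by_cases hx : c x = x
    · right; exact hx
    · left
      exact Perm.ofSubtype_apply_of_not_mem (s' : Perm (Subtype p)) hx
  · have hcomp : (MulAut.conj (ι' s')).toMonoidHom.comp ι' =
        ι'.comp (MulAut.conj s').toMonoidHom := by
      ext1 σ
      simp [ι', ι, MulAut.conj_apply]
    rw [← hm1, Subgroup.map_map, hcomp, ← Subgroup.map_map, hs'', hm2]


theorem sign_theta (a : Multiplicative (ZMod 3)) : Perm.sign (theta a) = 1 := by
  have h3 : a ^ 3 = 1 := by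
    have := pow_card_eq_one' (G := Multiplicative (ZMod 3)) (x := a)
    rwa [Nat.card_congr (Multiplicative.toAdd : Multiplicative (ZMod 3) ≃ ZMod 3),
      Nat.card_zmod] at this
  have h4 : Perm.sign (theta a) ^ 3 = 1 := by
    rw [← map_pow, ← map_pow, h3, map_one, map_one]
  rcases Int.units_eq_one_or (Perm.sign (theta a)) with h | h
  · exact h
  · rw [h] at h4
    exact absurd h4 (by decide)

theorem exists_extremalA (n : ℕ) (hn3 : 3 ≤ n) (P : Sylow 2 (alternatingGroup (Fin (n - 3)))) :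
    ∃ M : Subgroup (alternatingGroup (Fin n)), Group.IsNilpotent M ∧
      Nat.card M = 3 * Nat.card P ∧
      Nonempty (M ≃* (↥(P : Subgroup (alternatingGroup (Fin (n - 3)))) ×
        Multiplicative (ZMod 3))) := by
  haveI : Fact (Nat.Prime 2) := ⟨Nat.prime_two⟩
  let e₀ : Fin (n - 3) ⊕ ZMod 3 ≃ Fin n :=
    Fintype.equivFinOfCardEq (by simp [ZMod.card]; omega)
  let j : ↥(P : Subgroup (alternatingGroup (Fin (n - 3)))) →* Perm (Fin (n - 3)) :=
    (alternatingGroup (Fin (n - 3))).subtype.comp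
      (P : Subgroup (alternatingGroup (Fin (n - 3)))).subtype
  have hj : Function.Injective j :=
    (Subgroup.subtype_injective _).comp (Subgroup.subtype_injective _)
  let ψ₀ : ↥(P : Subgroup (alternatingGroup (Fin (n - 3)))) × Multiplicative (ZMod 3) →*
      Perm (Fin n) :=
    (Equiv.permCongrHom e₀).toMonoidHom.comp
      ((Perm.sumCongrHom (Fin (n - 3)) (ZMod 3)).comp (MonoidHom.prodMap j theta))
  have hψ₀ : Function.Injective ψ₀ := by
    apply (Equiv.permCongrHom e₀).injective.comp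
    apply Perm.sumCongrHom_injective.comp
    rw [MonoidHom.coe_prodMap]
    exact Function.Injective.prodMap hj theta_injective
  have hsign : ∀ x, ψ₀ x ∈ alternatingGroup (Fin n) := by
    rintro ⟨x, a⟩
    rw [Perm.mem_alternatingGroup]
    show Perm.sign (e₀.permCongr (Equiv.sumCongr (j x) (theta a))) = 1
    rw [Perm.sign_permCongr, Perm.sign_sumCongr, sign_theta, mul_one]
    exact Perm.mem_alternatingGroup.mp (x : alternatingGroup (Fin (n - 3))).2
  let ψ : ↥(P : Subgroup (alternatingGroup (Fin (n - 3)))) × Multiplicative (ZMod 3) →*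
      alternatingGroup (Fin n) := ψ₀.codRestrict _ hsign
  have hψ : Function.Injective ψ := by
    intro a b hab
    apply hψ₀
    exact congrArg Subtype.val hab
  haveI : Group.IsNilpotent ↥(P : Subgroup (alternatingGroup (Fin (n - 3)))) :=
    P.isPGroup'.isNilpotent
  refine ⟨ψ.range, nilpotent_of_mulEquiv (MonoidHom.ofInjective hψ), ?_,
    ⟨(MonoidHom.ofInjective hψ).symm⟩⟩
  rw [Nat.card_congr (MonoidHom.ofInjective hψ).symm.toEquiv, Nat.card_prod,
    Nat.card_congr (Multiplicative.toAdd : Multiplicative (ZMod 3) ≃ ZMod 3), Nat.card_zmod]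
  ring

theorem conj_extremalA (hn : n % 4 = 3) (h7 : 7 ≤ n)
    (N₁ N₂ : Subgroup (alternatingGroup (Fin n)))
    [Group.IsNilpotent N₁] [Group.IsNilpotent N₂]
    (h1 : Nat.card N₁ = 3 * 2 ^ (e (n - 3) - 1)) (h2 : Nat.card N₂ = 3 * 2 ^ (e (n - 3) - 1)) :
    ∃ g : alternatingGroup (Fin n), N₂ = N₁.map (MulAut.conj g).toMonoidHom := by
  have he1 : 1 ≤ e (n - 3) := by
    have := e_mono (show 2 ≤ n - 3 by omega)
    rwa [e_two] at this
  have hpow : 2 ^ e (n - 3) = 2 * 2 ^ (e (n - 3) - 1) := by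
    rw [← pow_succ']
    congr 1
    omega
  -- general facts about a subgroup of (alternatingGroup (Fin n))
  have key : ∀ (N : Subgroup (alternatingGroup (Fin n))) [Group.IsNilpotent N],
      Nat.card N = 3 * 2 ^ (e (n - 3) - 1) →
      ∃ c : Perm (Fin n), ∃ Q : Subgroup (Perm (Fin n)), c.support.card = 3 ∧
        Nat.card Q = 2 ^ (e (n - 3) - 1) ∧ Q ≤ N.map (alternatingGroup (Fin n)).subtype ∧
        (∀ q ∈ Q, ∀ x, c x ≠ x → q x = x) ∧ N.map (alternatingGroup (Fin n)).subtype = Subgroup.zpowers c ⊔ Q := by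
    intro N _ hN
    have hcard : Nat.card (N.map (alternatingGroup (Fin n)).subtype) = 3 * 2 ^ (e (n - 3) - 1) := by
      rw [Subgroup.card_map_of_injective (Subgroup.subtype_injective (alternatingGroup (Fin n))), hN]
    haveI : Group.IsNilpotent (N.map (alternatingGroup (Fin n)).subtype) :=
      nilpotent_of_mulEquiv (N.equivMapOfInjective (alternatingGroup (Fin n)).subtype (Subgroup.subtype_injective (alternatingGroup (Fin n))))
    have hev : ∀ h : N.map (alternatingGroup (Fin n)).subtype, Perm.sign ((N.map (alternatingGroup (Fin n)).subtype).subtype h) = 1 := by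
      rintro ⟨_, a, -, rfl⟩
      exact Perm.mem_alternatingGroup.mp a.2
    have hext : 4 * Nat.card (N.map (alternatingGroup (Fin n)).subtype) = G2 n := by
      rw [hcard, G2_mod4 hn, hpow]
      ring
    have hb := extremalA n hn h7 (Fin n) (by simp) (N.map (alternatingGroup (Fin n)).subtype) (N.map (alternatingGroup (Fin n)).subtype).subtype
      (Subgroup.subtype_injective _) hev hext
    apply structure_gen (N.map (alternatingGroup (Fin n)).subtype) _ hcard
    intro h hh
    have := hb h hh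
    rw [Subgroup.coe_subtype, Nat.card_eq_fintype_card,
      Fintype.card_of_subtype (h : Perm (Fin n)).support (fun x => Perm.mem_support)] at this
    exact this
  obtain ⟨c₁, Q₁, hc₁, hQ₁, hQN₁, hf₁, hN₁⟩ := key N₁ h1
  obtain ⟨c₂, Q₂, hc₂, hQ₂, hQN₂, hf₂, hN₂⟩ := key N₂ h2
  have hmapA : ∀ (N : Subgroup (alternatingGroup (Fin n))), ∀ q ∈ N.map (alternatingGroup (Fin n)).subtype, Perm.sign q = 1 := by
    rintro N _ ⟨a, -, rfl⟩
    exact Perm.mem_alternatingGroup.mp a.2
  have t₁ := card_support_eq_three_iff.mp hc₁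
  have t₂ := card_support_eq_three_iff.mp hc₂
  have hconj : IsConj (⟨c₁, t₁.mem_alternatingGroup⟩ : (alternatingGroup (Fin n))) ⟨c₂, t₂.mem_alternatingGroup⟩ :=
    alternatingGroup.isThreeCycle_isConj (by simp; omega) t₁ t₂
  obtain ⟨g, hg'⟩ := isConj_iff.mp hconj
  have hg : (g : Perm (Fin n)) * c₁ * (g : Perm (Fin n))⁻¹ = c₂ := by
    have := congrArg Subtype.val hg'
    simpa using this
  have hQ₁' : Nat.card (Q₁.map (MulAut.conj (g : Perm (Fin n))).toMonoidHom) =
      2 ^ (e (n - 3) - 1) := by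
    rw [Subgroup.card_map_of_injective (MulAut.conj (g : Perm (Fin n))).injective, hQ₁]
  have hf₁' : ∀ q ∈ Q₁.map (MulAut.conj (g : Perm (Fin n))).toMonoidHom,
      ∀ x, c₂ x ≠ x → q x = x := by
    rintro q ⟨q₁, hq₁, rfl⟩ x hx
    have hx1 : c₁ ((g : Perm (Fin n))⁻¹ x) ≠ (g : Perm (Fin n))⁻¹ x := by
      intro h
      apply hx
      rw [← hg]
      simp only [Perm.mul_apply]
      rw [h]
      simp
    have := hf₁ q₁ hq₁ _ hx1
    simp only [MulEquiv.coe_toMonoidHom, MulAut.conj_apply, Perm.mul_apply]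
    rw [this]
    simp
  have hev₁' : ∀ q ∈ Q₁.map (MulAut.conj (g : Perm (Fin n))).toMonoidHom, Perm.sign q = 1 := by
    rintro q ⟨q₁, hq₁, rfl⟩
    simp only [MulEquiv.coe_toMonoidHom, MulAut.conj_apply, map_mul, map_inv]
    rw [hmapA N₁ q₁ (hQN₁ hq₁), Perm.mem_alternatingGroup.mp g.2]
    simp
  have hev₂ : ∀ q ∈ Q₂, Perm.sign q = 1 := fun q hq => hmapA N₂ q (hQN₂ hq)
  obtain ⟨s, hs1, hsc, hsQ⟩ := sylow_conj_fixA (by omega) c₂ hc₂ _ Q₂ hQ₁' hQ₂ hf₁' hf₂ hev₁' hev₂
  let t : alternatingGroup (Fin n) := ⟨s, Perm.mem_alternatingGroup.mpr hs1⟩ * g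
  refine ⟨t, ?_⟩
  apply Subgroup.map_injective (Subgroup.subtype_injective (alternatingGroup (Fin n)))
  have hcomp1 : (alternatingGroup (Fin n)).subtype.comp (MulAut.conj t).toMonoidHom =
      (MulAut.conj (t : Perm (Fin n))).toMonoidHom.comp (alternatingGroup (Fin n)).subtype := by
    ext1 σ
    simp [MulAut.conj_apply]
  have hcomp : (MulAut.conj (s * (g : Perm (Fin n)))).toMonoidHom =
      (MulAut.conj s).toMonoidHom.comp (MulAut.conj (g : Perm (Fin n))).toMonoidHom := by
    ext1 σ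
    simp [map_mul]
  have ht : (t : Perm (Fin n)) = s * (g : Perm (Fin n)) := rfl
  rw [Subgroup.map_map, hcomp1, ← Subgroup.map_map, ht, hN₁, hN₂, Subgroup.map_sup,
    MonoidHom.map_zpowers, hcomp, ← Subgroup.map_map, hsQ]
  congr 2
  simp only [MonoidHom.comp_apply, MulEquiv.coe_toMonoidHom, MulAut.conj_apply]
  rw [hg]
  have := hsc.eq
  rw [this, mul_assoc, mul_inv_cancel, mul_one]

end Cfsg.Agent.Lib.Helper23.NilpAltConj
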