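import Mathlib

set_option autoImplicit false

namespace Cfsg.Agent.Lib.Helper23.PFamily

variable {G : Type*} [Group G]

/-- elementwise commuting of two subgroups -/
def Cm (X Y : Subgroup G) : Prop := ∀ x ∈ X, ∀ y ∈ Y, x * y = y * x

theorem Cm.symm {X Y : Subgroup G} (h : Cm X Y) : Cm Y X :=
  fun y hy x hx => (h x hx y hy).symm

theorem mem_sup_of_cm {X Y : Subgroup G} (h : Cm X Y) {e : G} (he : e ∈ X ⊔ Y) :
    ∃ x ∈ X, ∃ y ∈ Y, e = x * y := by
  have hle : X ≤ Subgroup.normalizer (Y : Set G) := by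
    refine le_trans ?_ (Subgroup.centralizer_le_normalizer (Y : Set G))
    intro x hx
    rw [Subgroup.mem_centralizer_iff]
    intro y hy
    exact (h x hx y hy).symm
  have h1 := Subgroup.coe_mul_of_left_le_normalizer_right X Y hle
  have he' : e ∈ ((X ⊔ Y : Subgroup G) : Set G) := he
  rw [h1] at he'
  obtain ⟨x, hx, y, hy, rfl⟩ := Set.mem_mul.1 he'
  exact ⟨x, hx, y, hy, rfl⟩

theorem eq_zpowers_of_mem [Finite G] {p : ℕ} (hp : p.Prime) {X : Subgroup G}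
    (hX : Nat.card X = p) {x : G} (hx : x ∈ X) (hx1 : x ≠ 1) : X = Subgroup.zpowers x := by
  have hle : Subgroup.zpowers x ≤ X := (Subgroup.zpowers_le).2 hx
  have hcard : Nat.card (Subgroup.zpowers x) = orderOf x := Nat.card_zpowers x
  have hdvd : orderOf x ∣ p := by
    rw [← hX, ← hcard]; exact Subgroup.card_dvd_of_le hle
  have hord : orderOf x = p := by
    rcases (Nat.dvd_prime hp).1 hdvd with h | h
    · exact absurd (orderOf_eq_one_iff.1 h) hx1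
    · exact h
  exact (Subgroup.eq_of_le_of_card_ge hle (by rw [hcard, hord, hX])).symm

theorem exists_ne_one [Finite G] {p : ℕ} (hp : p.Prime) {X : Subgroup G}
    (hX : Nat.card X = p) : ∃ x ∈ X, x ≠ 1 := by
  by_contra h
  push Not at h
  have h0 : X = ⊥ := (Subgroup.eq_bot_iff_forall X).2 h
  rw [h0, Subgroup.card_bot] at hX
  exact hp.one_lt.ne hX

theorem pow_eq_one_of_mem [Finite G] {p : ℕ} {X : Subgroup G}
    (hX : Nat.card X = p) {x : G} (hx : x ∈ X) : x ^ p = 1 := by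
  have h := Subgroup.orderOf_dvd_natCard X hx
  rw [hX] at h
  exact orderOf_dvd_iff_pow_eq_one.1 h

theorem cm_of_gen_left [Finite G] {p : ℕ} (hp : p.Prime) {X Y : Subgroup G}
    (hX : Nat.card X = p) {x : G} (hx : x ∈ X) (hx1 : x ≠ 1)
    (h : ∀ y ∈ Y, x * y = y * x) : Cm X Y := by
  rw [eq_zpowers_of_mem hp hX hx hx1]
  intro a ha b hb
  obtain ⟨i, rfl⟩ := Subgroup.mem_zpowers_iff.1 ha
  exact (Commute.zpow_left (h b hb) i).eq

theorem cm_of_commute_gen [Finite G] {p : ℕ} (hp : p.Prime) {X Y : Subgroup G}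
    (hX : Nat.card X = p) (hY : Nat.card Y = p) {x y : G} (hx : x ∈ X) (hx1 : x ≠ 1)
    (hy : y ∈ Y) (hy1 : y ≠ 1) (h : x * y = y * x) : Cm X Y := by
  refine cm_of_gen_left hp hX hx hx1 ?_
  have h2 : Cm Y (Subgroup.zpowers x) := by
    refine cm_of_gen_left hp hY hy hy1 ?_
    intro b hb
    obtain ⟨i, rfl⟩ := Subgroup.mem_zpowers_iff.1 hb
    exact (Commute.zpow_right (show Commute y x from h.symm) i).eq
  intro b hb
  exact (h2 b hb x (Subgroup.mem_zpowers x)).symm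

theorem cm_self [Finite G] {p : ℕ} (hp : p.Prime) {X : Subgroup G}
    (hX : Nat.card X = p) : Cm X X := by
  obtain ⟨x, hx, hx1⟩ := exists_ne_one hp hX
  exact cm_of_commute_gen hp hX hX hx hx1 hx hx1 rfl

theorem cm_zpowers_right {X : Subgroup G} {c : G} (h : ∀ x ∈ X, x * c = c * x) :
    Cm X (Subgroup.zpowers c) := by
  intro x hx z hz
  obtain ⟨i, rfl⟩ := Subgroup.mem_zpowers_iff.1 hz
  exact (Commute.zpow_right (show Commute x c from h x hx) i).eq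

/-- the hypotheses on the family `K` -/
structure Fam [Finite G] (p : ℕ) (K : Set (Subgroup G)) : Prop where
  hp : p.Prime
  card : ∀ X ∈ K, Nat.card ↥X = p
  conj : ∀ X ∈ K, ∀ g : G, X.map (MulAut.conj g).toMonoidHom ∈ K
  ha : ∀ X ∈ K, ∀ Y ∈ K, X ≠ Y → Cm X Y →
      ∀ Z : Subgroup G, Z ≤ X ⊔ Y → Nat.card ↥Z = p → Z ∈ K
  hb : ∀ X ∈ K, ∀ Y ∈ K, X ≠ Y → Cm X Y →
      ∀ W ∈ K, (X ⊔ Y) ⊓ Subgroup.centralizer (W : Set G) ≠ ⊥

theorem Fam.point_mem [Finite G] {p : ℕ} {K : Set (Subgroup G)} (F : Fam p K)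
    {X Y : Subgroup G} (hX : X ∈ K) (hY : Y ∈ K) (hne : X ≠ Y) (hc : Cm X Y) {e : G}
    (he : e ∈ X ⊔ Y) (he1 : e ≠ 1) :
    Subgroup.zpowers e ∈ K ∧ Nat.card (Subgroup.zpowers e) = p := by
  obtain ⟨x, hx, y, hy, rfl⟩ := mem_sup_of_cm hc he
  have hxp : x ^ p = 1 := pow_eq_one_of_mem (F.card X hX) hx
  have hyp : y ^ p = 1 := pow_eq_one_of_mem (F.card Y hY) hy
  have hep : (x * y) ^ p = 1 := by
    rw [(show Commute x y from hc x hx y hy).mul_pow, hxp, hyp, one_mul]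
  have hord : orderOf (x * y) = p := by
    have hd : orderOf (x * y) ∣ p := orderOf_dvd_of_pow_eq_one hep
    rcases (Nat.dvd_prime F.hp).1 hd with h | h
    · exact absurd (orderOf_eq_one_iff.1 h) he1
    · exact h
  have hc' : Nat.card (Subgroup.zpowers (x * y)) = p := by rw [Nat.card_zpowers, hord]
  exact ⟨F.ha X hX Y hY hne hc _ ((Subgroup.zpowers_le).2 he) hc', hc'⟩

theorem Fam.lemmaA [Finite G] {p : ℕ} {K : Set (Subgroup G)} (F : Fam p K)
    {U W Y : Subgroup G} (hU : U ∈ K) (hW : W ∈ K) (hY : Y ∈ K)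
    (hUW : ¬ Cm U W) (hne : U ≠ Y) (hUY : Cm U Y) :
    ∃ Y' ∈ K, Cm U Y' ∧ Cm W Y' ∧ Y ≤ U ⊔ Y' := by
  have hb := F.hb U hU Y hY hne hUY W hW
  obtain ⟨⟨e, he⟩, he1⟩ := (Subgroup.ne_bot_iff_exists_ne_one).1 hb
  have he1' : e ≠ 1 := fun h => he1 (Subtype.ext h)
  have heS : e ∈ U ⊔ Y := he.1
  have heC : ∀ w ∈ W, w * e = e * w := fun w hw => (Subgroup.mem_centralizer_iff.1 he.2) w hw
  obtain ⟨hPK, hPcard⟩ := F.point_mem hU hY hne hUY heS he1'
  obtain ⟨u, hu, y, hy, rfl⟩ := mem_sup_of_cm hUY heS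
  have hUU := cm_self F.hp (F.card U hU)
  refine ⟨Subgroup.zpowers (u * y), hPK, ?_, ?_, ?_⟩
  · refine cm_zpowers_right ?_
    intro a ha
    exact ((show Commute a u from hUU a ha u hu).mul_right (hUY a ha y hy)).eq
  · exact cm_zpowers_right heC
  · have hy1 : y ≠ 1 := by
      rintro rfl
      rw [mul_one] at heC he1'
      exact hUW (cm_of_gen_left F.hp (F.card U hU) hu he1' (fun w hw => (heC w hw).symm))
    rw [eq_zpowers_of_mem F.hp (F.card Y hY) hy hy1, Subgroup.zpowers_le]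
    have hmem : u⁻¹ * (u * y) ∈ U ⊔ Subgroup.zpowers (u * y) :=
      Subgroup.mul_mem_sup (U.inv_mem hu) (Subgroup.mem_zpowers _)
    rwa [inv_mul_cancel_left] at hmem

theorem comm_central_left {a z f : G} (hza : Commute z a) (hzf : Commute z f) :
    (a * z)⁻¹ * f⁻¹ * (a * z) * f = a⁻¹ * f⁻¹ * a * f := by
  have hz : Commute z (a⁻¹ * f⁻¹ * a * f) :=
    ((hza.inv_right.mul_right hzf.inv_right).mul_right hza).mul_right hzf
  calc (a * z)⁻¹ * f⁻¹ * (a * z) * f = z⁻¹ * (a⁻¹ * f⁻¹ * a * (z * f)) := by group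
    _ = z⁻¹ * (a⁻¹ * f⁻¹ * a * (f * z)) := by rw [hzf.eq]
    _ = z⁻¹ * ((a⁻¹ * f⁻¹ * a * f) * z) := by group
    _ = z⁻¹ * (z * (a⁻¹ * f⁻¹ * a * f)) := by rw [hz.eq]
    _ = a⁻¹ * f⁻¹ * a * f := by group

theorem comm_central_right {a z w : G} (hza : Commute z a) (hzw : Commute z w) :
    a⁻¹ * (w * z)⁻¹ * a * (w * z) = a⁻¹ * w⁻¹ * a * w := by
  have h := comm_central_left (a := w) (z := z) (f := a) hzw hza
  have h' : ((w * z)⁻¹ * a⁻¹ * (w * z) * a)⁻¹ = (w⁻¹ * a⁻¹ * w * a)⁻¹ := by rw [h]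
  calc a⁻¹ * (w * z)⁻¹ * a * (w * z) = ((w * z)⁻¹ * a⁻¹ * (w * z) * a)⁻¹ := by group
    _ = (w⁻¹ * a⁻¹ * w * a)⁻¹ := h'
    _ = a⁻¹ * w⁻¹ * a * w := by group

theorem Fam.lemmaB [Finite G] {p : ℕ} {K : Set (Subgroup G)} (F : Fam p K)
    {U W Y Y' : Subgroup G} (hU : U ∈ K) (hW : W ∈ K) (hY : Y ∈ K) (hY' : Y' ∈ K)
    (hUW : ¬ Cm U W) (hUY : Cm U Y) (hWY : Cm W Y) (hUY' : Cm U Y') (hWY' : Cm W Y')
    (hYY' : ¬ Cm Y Y') :
    ∃ V ∈ K, ∀ T ∈ K, Cm V T := by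
  have hWneY : W ≠ Y := by rintro rfl; exact hUW hUY
  have hUneY' : U ≠ Y' := by rintro rfl; exact hUW hWY'.symm
  obtain ⟨w, hw, hw1⟩ := exists_ne_one F.hp (F.card W hW)
  obtain ⟨y, hy, hy1⟩ := exists_ne_one F.hp (F.card Y hY)
  have hwy1 : w * y ≠ 1 := by
    intro h
    have hwY : w ∈ Y := by rw [mul_eq_one_iff_eq_inv.1 h]; exact Y.inv_mem hy
    apply hWneY
    rw [eq_zpowers_of_mem F.hp (F.card W hW) hw hw1,
      eq_zpowers_of_mem F.hp (F.card Y hY) hwY hw1]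
  obtain ⟨hPK, hPcard⟩ := F.point_mem hW hY hWneY hWY (Subgroup.mul_mem_sup hw hy) hwy1
  have hbb := F.hb U hU Y' hY' hUneY' hUY' _ hPK
  obtain ⟨⟨e, he⟩, he1⟩ := (Subgroup.ne_bot_iff_exists_ne_one).1 hbb
  have he1' : e ≠ 1 := fun h => he1 (Subtype.ext h)
  obtain ⟨a, ha, b, hbm, rfl⟩ := mem_sup_of_cm hUY' he.1
  have hcomm : (a * b) * (w * y) = (w * y) * (a * b) :=
    ((Subgroup.mem_centralizer_iff.1 he.2) (w * y) (Subgroup.mem_zpowers _)).symm
  have hbw : b * w = w * b := (hWY' w hw b hbm).symm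
  have hya : y * a = a * y := (hUY a ha y hy).symm
  -- a ≠ 1
  have ha1 : a ≠ 1 := by
    rintro rfl
    simp only [one_mul] at hcomm he1'
    have hby : b * y = y * b := by
      have h1 : b * (w * y) = w * (b * y) := by rw [← mul_assoc, hbw, mul_assoc]
      have h2 : (w * y) * b = w * (y * b) := mul_assoc _ _ _
      rw [h1, h2] at hcomm
      exact mul_left_cancel hcomm
    exact hYY' (cm_of_commute_gen F.hp (F.card Y hY) (F.card Y' hY') hy hy1 hbm he1' hby.symm)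
  have hb1 : b ≠ 1 := by
    rintro rfl
    simp only [mul_one] at hcomm he1'
    have haw : a * w = w * a := by
      have h1 : a * (w * y) = (a * w) * y := (mul_assoc _ _ _).symm
      have h2 : (w * y) * a = (w * a) * y := by rw [mul_assoc, hya, ← mul_assoc]
      rw [h1, h2] at hcomm
      exact mul_right_cancel hcomm
    exact hUW (cm_of_commute_gen F.hp (F.card U hU) (F.card W hW) ha ha1 hw hw1 haw)
  -- the commutator
  obtain ⟨c, hc⟩ : ∃ c : G, c = a⁻¹ * w⁻¹ * a * w := ⟨_, rfl⟩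
  have hc2 : c = y * b * y⁻¹ * b⁻¹ := by
    have h1 : a * w * (b * y) = w * a * (y * b) := by
      calc a * w * (b * y) = a * (w * b) * y := by group
        _ = a * (b * w) * y := by rw [hbw]
        _ = (a * b) * (w * y) := by group
        _ = (w * y) * (a * b) := hcomm
        _ = w * (y * a) * b := by group
        _ = w * (a * y) * b := by rw [hya]
        _ = w * a * (y * b) := by group
    have h2 : (w * a)⁻¹ * (a * w) = (y * b) * (b * y)⁻¹ := by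
      rw [eq_mul_inv_iff_mul_eq, mul_assoc, h1, inv_mul_cancel_left]
    calc c = (w * a)⁻¹ * (a * w) := by rw [hc]; group
      _ = (y * b) * (b * y)⁻¹ := h2
      _ = y * b * y⁻¹ * b⁻¹ := by group
  have hcomm_c : ∀ g : G, Commute g y → Commute g b → Commute g c := by
    intro g hgy hgb
    rw [hc2]
    exact ((hgy.mul_right hgb).mul_right hgy.inv_right).mul_right hgb.inv_right
  have hcU : ∀ u ∈ U, u * c = c * u := fun u hu =>
    (hcomm_c u (hUY u hu y hy) (hUY' u hu b hbm)).eq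
  have hcW : ∀ v ∈ W, v * c = c * v := fun v hv =>
    (hcomm_c v (hWY v hv y hy) (hWY' v hv b hbm)).eq
  have hc1 : c ≠ 1 := by
    intro h
    rw [hc] at h
    have haw : a * w = w * a := by
      have : (w * a)⁻¹ * (a * w) = 1 := by rw [← h]; group
      exact (inv_mul_eq_one.1 this).symm
    exact hUW (cm_of_commute_gen F.hp (F.card U hU) (F.card W hW) ha ha1 hw hw1 haw)
  have hcW' : c ∉ W := by
    intro hcw
    exact hUW (cm_of_gen_left F.hp (F.card W hW) hcw hc1 (fun u hu => (hcU u hu).symm)).symm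
  have hcU' : c ∉ U := by
    intro hcu
    exact hUW (cm_of_gen_left F.hp (F.card U hU) hcu hc1 (fun v hv => (hcW v hv).symm))
  -- the conjugate of W
  have hW'K : W.map (MulAut.conj a⁻¹).toMonoidHom ∈ K := F.conj W hW a⁻¹
  have ht : c * w⁻¹ ∈ W.map (MulAut.conj a⁻¹).toMonoidHom := by
    refine Subgroup.mem_map.2 ⟨w⁻¹, W.inv_mem hw, ?_⟩
    simp only [MulEquiv.coe_toMonoidHom, MulAut.conj_apply, inv_inv]
    rw [hc]; group
  have ht1 : c * w⁻¹ ≠ 1 := by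
    intro h
    apply hcW'
    rw [mul_inv_eq_one.1 h]; exact hw
  have hWneW' : W ≠ W.map (MulAut.conj a⁻¹).toMonoidHom := by
    intro h
    apply hcW'
    have h3 : c * w⁻¹ ∈ W := by rw [h]; exact ht
    have : c = c * w⁻¹ * w := by group
    rw [this]; exact W.mul_mem h3 hw
  have hWW' : Cm W (W.map (MulAut.conj a⁻¹).toMonoidHom) := by
    refine cm_of_commute_gen F.hp (F.card W hW) (F.card _ hW'K) hw hw1 ht ht1 ?_
    have h5 := hcW w hw
    calc w * (c * w⁻¹) = (w * c) * w⁻¹ := by group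
      _ = (c * w) * w⁻¹ := by rw [h5]
      _ = c * w⁻¹ * w := by group
  have hcsup : c ∈ W ⊔ W.map (MulAut.conj a⁻¹).toMonoidHom := by
    have : c = w * (w⁻¹ * c) := by group
    have h6 : w⁻¹ * c = c * w⁻¹ := by
      have h5 := hcW w⁻¹ (W.inv_mem hw)
      exact h5
    rw [this, h6]
    exact Subgroup.mul_mem_sup hw ht
  obtain ⟨hZK, hZcard⟩ := F.point_mem hW hW'K hWneW' hWW' hcsup hc1
  refine ⟨Subgroup.zpowers c, hZK, fun T hT => ?_⟩
  have hWneZ : W ≠ Subgroup.zpowers c := by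
    intro h; apply hcW'; rw [h]; exact Subgroup.mem_zpowers c
  have hUneZ : U ≠ Subgroup.zpowers c := by
    intro h; apply hcU'; rw [h]; exact Subgroup.mem_zpowers c
  have hCmWZ : Cm W (Subgroup.zpowers c) := cm_zpowers_right hcW
  have hCmUZ : Cm U (Subgroup.zpowers c) := cm_zpowers_right hcU
  have hb1' := F.hb W hW _ hZK hWneZ hCmWZ T hT
  have hb2' := F.hb U hU _ hZK hUneZ hCmUZ T hT
  obtain ⟨⟨e₁, he₁⟩, he₁1⟩ := (Subgroup.ne_bot_iff_exists_ne_one).1 hb1'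
  have he₁1' : e₁ ≠ 1 := fun h => he₁1 (Subtype.ext h)
  obtain ⟨⟨e₂, he₂⟩, he₂1⟩ := (Subgroup.ne_bot_iff_exists_ne_one).1 hb2'
  have he₂1' : e₂ ≠ 1 := fun h => he₂1 (Subtype.ext h)
  obtain ⟨w₁, hw₁, z₁, hz₁, rfl⟩ := mem_sup_of_cm hCmWZ he₁.1
  obtain ⟨u₂, hu₂, z₂, hz₂, rfl⟩ := mem_sup_of_cm hCmUZ he₂.1
  have hcent : ∀ {g : G}, g ∈ Subgroup.centralizer (T : Set G) → g ∈ Subgroup.zpowers c →
      g ≠ 1 → Cm (Subgroup.zpowers c) T := by
    intro g hgT hgZ hg1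
    refine cm_of_gen_left F.hp hZcard hgZ hg1 ?_
    intro t ht
    exact ((Subgroup.mem_centralizer_iff.1 hgT) t ht).symm
  by_cases hw₁1 : w₁ = 1
  · subst hw₁1
    rw [one_mul] at he₁ he₁1'
    exact hcent he₁.2 hz₁ he₁1'
  by_cases hu₂1 : u₂ = 1
  · subst hu₂1
    rw [one_mul] at he₂ he₂1'
    exact hcent he₂.2 hz₂ he₂1'
  -- both nontrivial
  have hWz : W = Subgroup.zpowers w₁ := eq_zpowers_of_mem F.hp (F.card W hW) hw₁ hw₁1
  have hUz : U = Subgroup.zpowers u₂ := eq_zpowers_of_mem F.hp (F.card U hU) hu₂ hu₂1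
  obtain ⟨k, hk⟩ := Subgroup.mem_zpowers_iff.1 (hWz ▸ hw)
  obtain ⟨m, hm⟩ := Subgroup.mem_zpowers_iff.1 (hUz ▸ ha)
  have hf₁ : w * z₁ ^ k ∈ Subgroup.centralizer (T : Set G) := by
    have h7 := Subgroup.zpow_mem _ he₁.2 k
    rwa [(show Commute w₁ z₁ from hCmWZ w₁ hw₁ z₁ hz₁).mul_zpow, hk] at h7
  have hf₂ : a * z₂ ^ m ∈ Subgroup.centralizer (T : Set G) := by
    have h7 := Subgroup.zpow_mem _ he₂.2 m
    rwa [(show Commute u₂ z₂ from hCmUZ u₂ hu₂ z₂ hz₂).mul_zpow, hm] at h7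
  have hz' : z₁ ^ k ∈ Subgroup.zpowers c := Subgroup.zpow_mem _ hz₁ k
  have hz'' : z₂ ^ m ∈ Subgroup.zpowers c := Subgroup.zpow_mem _ hz₂ m
  have hZZ : Cm (Subgroup.zpowers c) (Subgroup.zpowers c) := cm_self F.hp hZcard
  have hcomm_z : ∀ z ∈ Subgroup.zpowers c, Commute z a ∧ Commute z w := by
    intro z hz
    exact ⟨(hCmUZ a ha z hz).symm, (hCmWZ w hw z hz).symm⟩
  have hcmem : c ∈ Subgroup.centralizer (T : Set G) := by
    have h8 : (a * z₂ ^ m)⁻¹ * (w * z₁ ^ k)⁻¹ * (a * z₂ ^ m) * (w * z₁ ^ k) = c := by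
      rw [comm_central_left (hcomm_z _ hz'').1
        ((hcomm_z _ hz'').2.mul_right (hZZ _ hz'' _ hz')),
        comm_central_right (hcomm_z _ hz').1 (hcomm_z _ hz').2, hc]
    rw [← h8]
    exact Subgroup.mul_mem _ (Subgroup.mul_mem _ (Subgroup.mul_mem _ (Subgroup.inv_mem _ hf₂)
      (Subgroup.inv_mem _ hf₁)) hf₂) hf₁
  exact hcent hcmem (Subgroup.mem_zpowers c) hc1

theorem Fam.exists_central [Finite G] {p : ℕ} {K : Set (Subgroup G)} (F : Fam p K)
    (hex : ∃ X ∈ K, ∃ Y ∈ K, X ≠ Y ∧ Cm X Y) :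
    ∃ V ∈ K, ∀ T ∈ K, Cm V T := by
  by_contra hno
  push Not at hno
  obtain ⟨U, hU, Y₀, hY₀, hne, hc⟩ := hex
  obtain ⟨W, hW, hUW⟩ := hno U hU
  obtain ⟨X, hX, hUX, hWX, _⟩ := F.lemmaA hU hW hY₀ hUW hne hc
  obtain ⟨T, hT, hXT⟩ := hno X hX
  have hXneU : X ≠ U := by rintro rfl; exact hUW hWX.symm
  have hXneW : X ≠ W := by rintro rfl; exact hUW hUX
  obtain ⟨Y₁, hY₁, hXY₁, hTY₁, hUle⟩ := F.lemmaA hX hT hU hXT hXneU hUX.symm
  obtain ⟨Y₂, hY₂, hXY₂, hTY₂, hWle⟩ := F.lemmaA hX hT hW hXT hXneW hWX.symm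
  by_cases h12 : Cm Y₁ Y₂
  · apply hUW
    intro u hu w hw
    obtain ⟨x₁, hx₁, y₁, hy₁, rfl⟩ := mem_sup_of_cm hXY₁ (hUle hu)
    obtain ⟨x₂, hx₂, y₂, hy₂, rfl⟩ := mem_sup_of_cm hXY₂ (hWle hw)
    have hXX := cm_self F.hp (F.card X hX)
    have c1 : Commute x₁ x₂ := hXX x₁ hx₁ x₂ hx₂
    have c2 : Commute x₁ y₂ := hXY₂ x₁ hx₁ y₂ hy₂
    have c3 : Commute y₁ x₂ := (hXY₁ x₂ hx₂ y₁ hy₁).symm
    have c4 : Commute y₁ y₂ := h12 y₁ hy₁ y₂ hy₂
    exact ((c1.mul_right c2).mul_left (c3.mul_right c4)).eq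
  · obtain ⟨V, hV, hVc⟩ := F.lemmaB hX hT hY₁ hY₂ hXT hXY₁ hTY₁ hXY₂ hTY₂ h12
    obtain ⟨T', hT', hVT'⟩ := hno V hV
    exact hVT' (hVc T' hT')

theorem Fam.conj_central [Finite G] {p : ℕ} {K : Set (Subgroup G)} (F : Fam p K)
    {V : Subgroup G} (hVc : ∀ T ∈ K, Cm V T) (g : G) :
    ∀ T ∈ K, Cm (V.map (MulAut.conj g).toMonoidHom) T := by
  intro T hT x hx t ht
  obtain ⟨v, hv, rfl⟩ := Subgroup.mem_map.1 hx
  simp only [MulEquiv.coe_toMonoidHom, MulAut.conj_apply]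
  have hT' : T.map (MulAut.conj g⁻¹).toMonoidHom ∈ K := F.conj T hT g⁻¹
  have ht' : g⁻¹ * t * g ∈ T.map (MulAut.conj g⁻¹).toMonoidHom := by
    refine Subgroup.mem_map.2 ⟨t, ht, ?_⟩
    simp only [MulEquiv.coe_toMonoidHom, MulAut.conj_apply, inv_inv]
  have key := hVc _ hT' v hv _ ht'
  calc g * v * g⁻¹ * t = g * (v * (g⁻¹ * t * g)) * g⁻¹ := by group
    _ = g * ((g⁻¹ * t * g) * v) * g⁻¹ := by rw [key]
    _ = t * (g * v * g⁻¹) := by group

theorem Fam.normalClosure_facts [Finite G] {p : ℕ} {K : Set (Subgroup G)} (F : Fam p K)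
    {V : Subgroup G} (hV : V ∈ K) (hVc : ∀ T ∈ K, Cm V T) :
    (∀ n ∈ Subgroup.normalClosure (V : Set G), n ^ p = 1) ∧
    (∀ n ∈ Subgroup.normalClosure (V : Set G), ∀ m ∈ Subgroup.normalClosure (V : Set G),
      n * m = m * n) := by
  have hS : ∀ s ∈ Group.conjugatesOfSet (V : Set G),
      ∃ g : G, s ∈ V.map (MulAut.conj g).toMonoidHom := by
    intro s hs
    obtain ⟨v, hv, hconj⟩ := Group.mem_conjugatesOfSet_iff.1 hs
    obtain ⟨g, hg⟩ := isConj_iff.1 hconj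
    refine ⟨g, Subgroup.mem_map.2 ⟨v, hv, ?_⟩⟩
    simpa only [MulEquiv.coe_toMonoidHom, MulAut.conj_apply] using hg
  have hScomm : ∀ s ∈ Group.conjugatesOfSet (V : Set G),
      ∀ s' ∈ Group.conjugatesOfSet (V : Set G), s * s' = s' * s := by
    intro s hs s' hs'
    obtain ⟨g, hg⟩ := hS s hs
    obtain ⟨g', hg'⟩ := hS s' hs'
    exact F.conj_central hVc g _ (F.conj V hV g') s hg s' hg'
  have hSpow : ∀ s ∈ Group.conjugatesOfSet (V : Set G), s ^ p = 1 := by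
    intro s hs
    obtain ⟨g, hg⟩ := hS s hs
    exact pow_eq_one_of_mem (F.card _ (F.conj V hV g)) hg
  have key : ∀ n ∈ Subgroup.normalClosure (V : Set G),
      n ^ p = 1 ∧ n ∈ Subgroup.centralizer (Group.conjugatesOfSet (V : Set G)) := by
    intro n hn
    unfold Subgroup.normalClosure at hn
    induction hn using Subgroup.closure_induction with
    | mem s hs =>
      refine ⟨hSpow s hs, ?_⟩
      rw [Subgroup.mem_centralizer_iff]
      intro s' hs'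
      exact hScomm s' hs' s hs
    | one => exact ⟨one_pow _, Subgroup.one_mem _⟩
    | mul x y hx hy ihx ihy =>
      refine ⟨?_, Subgroup.mul_mem _ ihx.2 ihy.2⟩
      have hxy : Commute x y := by
        have h1 : x ∈ Subgroup.centralizer
            ((Subgroup.closure (Group.conjugatesOfSet (V : Set G)) : Subgroup G) : Set G) := by
          rw [Subgroup.centralizer_closure]; exact ihx.2
        exact ((Subgroup.mem_centralizer_iff.1 h1) y hy).symm
      rw [hxy.mul_pow, ihx.1, ihy.1, one_mul]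
    | inv x hx ihx =>
      exact ⟨by rw [inv_pow, ihx.1, inv_one], Subgroup.inv_mem _ ihx.2⟩
  refine ⟨fun n hn => (key n hn).1, fun n hn m hm => ?_⟩
  have h1 : n ∈ Subgroup.centralizer
      ((Subgroup.closure (Group.conjugatesOfSet (V : Set G)) : Subgroup G) : Set G) := by
    rw [Subgroup.centralizer_closure]; exact (key n hn).2
  exact ((Subgroup.mem_centralizer_iff.1 h1) m hm).symm

end Cfsg.Agent.Lib.Helper23.PFamily
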