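import Cfsg.Agent.Lib.Helper20.PConstrained

/-!
Copy of the first part of `Lib/Helper20/PSolvable.lean` (helper20), so that S3057 does not
import the module that generates the equation lemmas of `upperPSeries`.
-/

set_option autoImplicit false

namespace Cfsg.Agent.Lib.Helper23.PSolvCopy

open Cfsg.Agent.Lib.Helper20

variable {p : ℕ} [hp : Fact p.Prime]

theorem relIndex_map_dvd' {C Q : Type*} [Group C] [Group Q] (f : C →* Q) (H K : Subgroup C)
    [H.Normal] (hHK : H ≤ K) : (H.map f).relIndex (K.map f) ∣ H.relIndex K := by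
  rw [Subgroup.relIndex_map_map]
  have h1 : K ⊔ f.ker = K ⊔ (H ⊔ f.ker) := by
    rw [← sup_assoc, sup_eq_left.mpr hHK]
  rw [h1, Subgroup.relIndex_sup_right]
  exact Subgroup.relIndex_dvd_of_le_left K le_sup_left

omit hp in
theorem pow_or_coprime_of_dvd (hp : p.Prime) {a b : ℕ} (hab : a ∣ b)
    (h : (∃ m : ℕ, b = p ^ m) ∨ b.Coprime p) : (∃ m : ℕ, a = p ^ m) ∨ a.Coprime p := by
  rcases h with ⟨m, hm⟩ | h
  · left
    rw [hm] at hab
    obtain ⟨k, _, hk⟩ := (Nat.dvd_prime_pow hp).mp hab
    exact ⟨k, hk⟩
  · right
    exact Nat.Coprime.coprime_dvd_left hab h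

/-- A homomorphic image of a `p`-solvable group is `p`-solvable. -/
theorem isPSolvable_of_surjective {C Q : Type*} [Group C] [Group Q] (f : C →* Q)
    (hf : Function.Surjective f) (h : Cfsg.IsPSolvable p C) : Cfsg.IsPSolvable p Q := by
  obtain ⟨n, H, h0, hlast, hmono, hnorm, hidx⟩ := h
  refine ⟨n, fun i => (H i).map f, ?_, ?_, ?_, ?_, ?_⟩
  · simp only [h0, Subgroup.map_bot]
  · simp only [hlast, ← MonoidHom.range_eq_map, MonoidHom.range_eq_top.mpr hf]
  · intro i j hij
    exact Subgroup.map_mono (hmono hij)
  · intro i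
    exact Subgroup.Normal.map (hnorm i) f hf
  · intro i
    haveI := hnorm i.castSucc
    have hle : H i.castSucc ≤ H i.succ := hmono (Fin.castSucc_le_succ i)
    exact pow_or_coprime_of_dvd hp.out (relIndex_map_dvd' f _ _ hle) (hidx i)

/-- A quasisimple subgroup of a finite `p`-solvable group has order prime to `p`. -/
theorem quasisimple_coprime_of_isPSolvable {Q : Type*} [Group Q] [Finite Q]
    (h : Cfsg.IsPSolvable p Q) (K : Subgroup Q) (hK : Cfsg.IsQuasisimple K) :
    (Nat.card K).Coprime p := by
  obtain ⟨n, H, h0, hlast, hmono, hnorm, hidx⟩ := h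
  have hnonab : ¬ (⊤ : Subgroup K) ≤ Subgroup.center K := by
    intro htop
    apply isQuasisimple_not_isSolvable hK
    have : IsMulCommutative K := by
      constructor; constructor
      intro a b
      have ha : a ∈ Subgroup.center K := htop (Subgroup.mem_top a)
      exact (Subgroup.mem_center_iff.mp ha b).symm
    letI : CommGroup K := { (inferInstance : Group K) with mul_comm := this.is_comm.comm }
    infer_instance
  -- find the transition index
  have htrans : ∃ i : Fin n, (H i.castSucc).subgroupOf K ≤ Subgroup.center K ∧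
      ¬ (H i.succ).subgroupOf K ≤ Subgroup.center K := by
    by_contra hno
    push_neg at hno
    have hall : ∀ i : Fin (n + 1), (H i).subgroupOf K ≤ Subgroup.center K := by
      intro i
      induction i using Fin.induction with
      | zero => rw [h0, Subgroup.bot_subgroupOf]; exact bot_le
      | succ i ih => exact hno i ih
    apply hnonab
    have := hall (Fin.last n)
    rwa [hlast, Subgroup.top_subgroupOf] at this
  obtain ⟨i, hi1, hi2⟩ := htrans
  haveI := hnorm i.castSucc
  haveI := hnorm i.succ
  have hKle : K ≤ H i.succ := by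
    rcases quasisimple_normal_top_or_le_center hK ((H i.succ).subgroupOf K) inferInstance with h | h
    · exact Subgroup.subgroupOf_eq_top.mp h
    · exact absurd h hi2
  -- index computation
  have hdvd1 : (H i.castSucc).relIndex K ∣ (H i.castSucc).relIndex (H i.succ) := by
    have := Subgroup.relIndex_dvd_index_of_normal ((H i.castSucc).subgroupOf (H i.succ))
      (K.subgroupOf (H i.succ))
    rwa [Subgroup.relIndex_subgroupOf hKle] at this
  have hdvd2 : (Subgroup.center K).index ∣ (H i.castSucc).relIndex K :=
    Subgroup.index_dvd_of_le hi1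
  rcases pow_or_coprime_of_dvd hp.out (hdvd2.trans hdvd1) (hidx i) with ⟨m, hm⟩ | hc
  · exfalso
    apply isQuasisimple_not_isSolvable hK
    have hpg : IsPGroup p (K ⧸ Subgroup.center K) := by
      apply IsPGroup.of_card (n := m)
      rw [← hm]; rfl
    have hnil : Group.IsNilpotent (K ⧸ Subgroup.center K) := hpg.isNilpotent
    have : Group.IsNilpotent K := Group.of_quotient_center_nilpotent hnil
    infer_instance
  · exact perfect_coprime_of_index_center_coprime p hK.1 hc

/-- A finite `p`-solvable group with `O_{p'} = 1` has no components. -/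
theorem layer_eq_bot_of_isPSolvable {H : Type*} [Group H] [Finite H]
    (hsol : Cfsg.IsPSolvable p H) (hO : Cfsg.pPrimeCore p H = ⊥) : Cfsg.layer H = ⊥ := by
  unfold Cfsg.layer
  rw [sSup_eq_bot]
  intro K hK
  exfalso
  have hc := quasisimple_coprime_of_isPSolvable hsol K hK.2
  have hle := subnormal_coprime_le_pPrimeCore p K hK.1 hc
  rw [hO, le_bot_iff] at hle
  exact isComponent_ne_bot hK hle

/-- Hall–Higman Lemma 1.2.3: in a finite `p`-solvable group with `O_{p'} = 1`, `O_p` contains its
centralizer. -/
theorem centralizer_pCore_le_of_isPSolvable {H : Type*} [Group H] [Finite H]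
    (hsol : Cfsg.IsPSolvable p H) (hO : Cfsg.pPrimeCore p H = ⊥) :
    Subgroup.centralizer ((pCore p H : Subgroup H) : Set H) ≤ pCore p H := by
  have hF : fittingSubgroup H = pCore p H := fitting_eq_pCore_of_pPrimeCore_eq_bot p hO
  rw [← hF, centralizer_fitting_le_iff_layer_eq_bot]
  exact layer_eq_bot_of_isPSolvable hsol hO



end Cfsg.Agent.Lib.Helper23.PSolvCopy
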