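import Mathlib
import Cfsg.Prelude.Def_RootSubgroups
import Cfsg.Agent.Lib.Helper5.RankOne

set_option autoImplicit false

namespace Cfsg.Agent.Lib.Helper23

open Cfsg Cfsg.Agent.Lib.Helper5

variable {G : Type*} [Group G]

/-- A non-isolated member of `S` has a rank one partner in `S`. -/
theorem exists_rankOnePartner {S : Set (Subgroup G)} {A : Subgroup G}
    (hA : ¬ Cfsg.IsIsolatedIn (Cfsg.FAdj S) S A) (hAS : A ∈ S) :
    ∃ C ∈ S, Cfsg.IsRankOnePair A C := by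
  unfold Cfsg.IsIsolatedIn at hA
  push Not at hA
  obtain ⟨B, hB⟩ := hA hAS
  by_cases h1 : Cfsg.FAdj S A B
  · exact ⟨B, h1.2.1, h1.2.2⟩
  · have h2 := hB h1
    exact ⟨B, h2.1, Cfsg.RankOnePair_symm h2.2.2⟩

/-- In a rank one pair `(A, C)`, for `d ∈ C` nonidentity the conjugate `d A d⁻¹` is an
`A`-conjugate of `C`. -/
theorem exists_conjBy_eq_of_mem_right {A C : Subgroup G} (h : Cfsg.IsRankOnePair A C) {d : G}
    (hd : d ∈ C) (hd1 : d ≠ 1) :
    ∃ a ∈ A, a ≠ 1 ∧ Cfsg.conjBy C a⁻¹ = Cfsg.conjBy A d := by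
  have hd1' : d⁻¹ ≠ 1 := fun hh => hd1 (inv_eq_one.1 hh)
  obtain ⟨a, haA, ha1, ha⟩ := h.cond_right d⁻¹ (inv_mem hd) hd1'
  rw [inv_inv] at ha
  exact ⟨a, haA, ha1, ha⟩

/-- `A ⊓ C = ⊥` for a rank one pair. -/
theorem rankOne_inf_eq_bot {A C : Subgroup G} (h : Cfsg.IsRankOnePair A C) : A ⊓ C = ⊥ := by
  rw [eq_bot_iff]
  intro x hx
  have : x ∈ A ⊓ Subgroup.normalizer (C : Set G) :=
    ⟨hx.1, Subgroup.le_normalizer hx.2⟩
  rw [inf_normalizer_eq_bot h.ne h.cond_left] at this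
  exact this

/-- In a rank one pair `(A, C)`, `A` meets its conjugates under nonidentity elements of `C` trivially. -/
theorem inf_conjBy_eq_bot {A C : Subgroup G} (h : Cfsg.IsRankOnePair A C) {d : G}
    (hd : d ∈ C) (hd1 : d ≠ 1) : A ⊓ Cfsg.conjBy A d = ⊥ := by
  obtain ⟨a, haA, _, ha⟩ := exists_conjBy_eq_of_mem_right h hd hd1
  rw [eq_bot_iff]
  intro x hx
  rw [Subgroup.mem_bot]
  have hx2 : x ∈ Cfsg.conjBy C a⁻¹ := ha ▸ hx.2
  rw [mem_conjBy_iff, inv_inv] at hx2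
  have hx1 : a * x * a⁻¹ ∈ A := A.mul_mem (A.mul_mem haA hx.1) (A.inv_mem haA)
  have hmem : a * x * a⁻¹ ∈ A ⊓ C := ⟨hx1, hx2⟩
  rw [rankOne_inf_eq_bot h, Subgroup.mem_bot] at hmem
  have := congrArg (fun t => a⁻¹ * t * a) hmem
  simpa [mul_assoc] using this

/-- If `(A, C)` and `(B, C)` are rank one pairs and `A`, `B` share a nonidentity element,
then `B` is a conjugate of `A` under an element of `C`. -/
theorem exists_conjBy_of_common {A B C : Subgroup G} (hAC : Cfsg.IsRankOnePair A C)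
    (hBC : Cfsg.IsRankOnePair B C) {x : G} (hxA : x ∈ A) (hxB : x ∈ B) (hx1 : x ≠ 1) :
    ∃ d ∈ C, B = Cfsg.conjBy A d := by
  obtain ⟨c₁, hc₁, _, h₁⟩ := hAC.cond_left x hxA hx1
  obtain ⟨c₂, hc₂, _, h₂⟩ := hBC.cond_left x hxB hx1
  refine ⟨c₂ * c₁⁻¹, C.mul_mem hc₂ (C.inv_mem hc₁), ?_⟩
  have h3 : Cfsg.conjBy B c₂⁻¹ = Cfsg.conjBy A c₁⁻¹ := h₂.trans h₁.symm
  have := congrArg (fun D => Cfsg.conjBy D c₂) h3
  simp only [conjBy_conjBy, mul_inv_cancel, conjBy_one] at this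
  exact this

/-- If `(A, C)` and `(B, C)` are rank one pairs and `A`, `B` share a nonidentity element,
then `A = B`. -/
theorem eq_of_common_of_rankOne {A B C : Subgroup G} (hAC : Cfsg.IsRankOnePair A C)
    (hBC : Cfsg.IsRankOnePair B C) {x : G} (hxA : x ∈ A) (hxB : x ∈ B) (hx1 : x ≠ 1) :
    A = B := by
  obtain ⟨d, hd, hB⟩ := exists_conjBy_of_common hAC hBC hxA hxB hx1
  by_cases hd1 : d = 1
  · rw [hB, hd1, conjBy_one]
  · exfalso
    have : x ∈ A ⊓ Cfsg.conjBy A d := ⟨hxA, hB ▸ hxB⟩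
    rw [inf_conjBy_eq_bot hAC hd hd1, Subgroup.mem_bot] at this
    exact hx1 this

/-- In a rank one pair `(A, C)` with `C` commutative, a nonidentity element of `A` commutes with
no nonidentity element of `C`. -/
theorem eq_one_of_commute_of_rankOne {A C : Subgroup G} (h : Cfsg.IsRankOnePair A C)
    (hC : ∀ x ∈ C, ∀ y ∈ C, x * y = y * x) {a c : G} (ha : a ∈ A) (ha1 : a ≠ 1) (hc : c ∈ C)
    (hac : a * c = c * a) : c = 1 := by
  obtain ⟨c₁, hc₁, _, h₁⟩ := h.cond_left a ha ha1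
  -- c normalizes a⁻¹ C a = c₁⁻¹ A c₁
  have hcn : Cfsg.conjBy (Cfsg.conjBy C a⁻¹) c = Cfsg.conjBy C a⁻¹ := by
    rw [conjBy_conjBy]
    have : c * a⁻¹ = a⁻¹ * c := by
      have := congrArg (fun t => a⁻¹ * t * a⁻¹) hac
      simpa [mul_assoc] using this
    rw [this, ← conjBy_conjBy, conjBy_of_mem hc]
  rw [← h₁, conjBy_conjBy] at hcn
  -- so c₁ c c₁⁻¹ = c normalizes A
  have h2 : Cfsg.conjBy A (c₁ * (c * c₁⁻¹)) = A := by
    have := congrArg (fun D => Cfsg.conjBy D c₁) hcn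
    simp only [conjBy_conjBy, mul_inv_cancel, conjBy_one] at this
    exact this
  have h3 : c₁ * (c * c₁⁻¹) = c := by
    rw [hC c hc c₁⁻¹ (C.inv_mem hc₁), ← mul_assoc, mul_inv_cancel, one_mul]
  rw [h3, conjBy_eq_self_iff] at h2
  have hmem : c ∈ C ⊓ Subgroup.normalizer (A : Set G) := ⟨hc, h2⟩
  rw [inf_normalizer_eq_bot h.ne.symm h.cond_right, Subgroup.mem_bot] at hmem
  exact hmem

/-- commutativity of a member of a root subgroup set, elementwise form -/
theorem comm_of_mem {S : Set (Subgroup G)} (hS : Cfsg.IsRootSubgroupSet S) {A : Subgroup G}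
    (hA : A ∈ S) : ∀ x ∈ A, ∀ y ∈ A, x * y = y * x := by
  intro x hx y hy
  have := hS.commutative A hA
  have h := this.is_comm.comm ⟨x, hx⟩ ⟨y, hy⟩
  exact congrArg Subtype.val h

/-- `⁅A, B⁆ = ⊥` elementwise. -/
theorem comm_of_commutator_eq_bot {A B : Subgroup G} (h : ⁅A, B⁆ = ⊥) {a b : G} (ha : a ∈ A)
    (hb : b ∈ B) : a * b = b * a := by
  have := Subgroup.commutator_mem_commutator ha hb
  rw [h, Subgroup.mem_bot, commutatorElement_eq_one_iff_mul_comm] at this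
  exact this

end Cfsg.Agent.Lib.Helper23

namespace Cfsg.Agent.Lib.Helper23

open Cfsg Cfsg.Agent.Lib.Helper5

variable {G : Type*} [Group G]

/-- In a rank one pair `(A, C)`, for `a ∈ A` nonidentity, `a C a⁻¹` does not normalize `C`. -/
theorem not_conjBy_le_normalizer {A C : Subgroup G} (h : Cfsg.IsRankOnePair A C) {a : G}
    (ha : a ∈ A) (ha1 : a ≠ 1) : ¬ Cfsg.conjBy C a ≤ Subgroup.normalizer (C : Set G) := by
  intro hle
  have h1 := conjBy_right_inf_normalizer h ha ha1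
  rw [inf_eq_left.2 hle] at h1
  have : C = ⊥ := by
    have h2 : Cfsg.conjBy C a = Cfsg.conjBy ⊥ a := by
      rw [h1]; ext y; simp
    exact conjBy_injective a h2
  exact right_ne_bot h this

/-- If `C` is commutative and all commutators `x c x⁻¹ c⁻¹` (`c ∈ C`) centralize `C`, then
`x C x⁻¹` centralizes `C`. -/
theorem conjBy_le_centralizer_of_comm {C : Subgroup G} (hC : ∀ x ∈ C, ∀ y ∈ C, x * y = y * x)
    {x : G} (hx : ∀ c ∈ C, ∀ y ∈ C, (x * c * x⁻¹ * c⁻¹) * y = y * (x * c * x⁻¹ * c⁻¹)) :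
    Cfsg.conjBy C x ≤ Subgroup.centralizer (C : Set G) := by
  intro w hw
  rw [mem_conjBy_iff] at hw
  rw [Subgroup.mem_centralizer_iff]
  intro y hy
  have hy' : y ∈ C := hy
  obtain ⟨c, hc⟩ : ∃ c, c = x⁻¹ * w * x := ⟨_, rfl⟩
  rw [← hc] at hw
  have hw' : w = (x * c * x⁻¹ * c⁻¹) * c := by rw [hc]; group
  have h1 := hx c hw y hy'
  have h2 := hC y hy' c hw
  generalize x * c * x⁻¹ * c⁻¹ = k at hw' h1
  rw [hw', ← mul_assoc, ← h1, mul_assoc, h2, mul_assoc]

end Cfsg.Agent.Lib.Helper23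

namespace Cfsg.Agent.Lib.Helper23

variable {G : Type*} [Group G]

theorem le_centralizer_zpowers_iff (A : Subgroup G) (g : G) :
    A ≤ Subgroup.centralizer (Subgroup.zpowers g : Set G) ↔ ∀ x ∈ A, x * g = g * x := by
  constructor
  · intro h x hx
    have := h hx
    rw [Subgroup.mem_centralizer_iff] at this
    exact (this g (Subgroup.mem_zpowers g)).symm
  · intro h x hx
    rw [Subgroup.mem_centralizer_iff]
    rintro y ⟨k, rfl⟩
    have hc : Commute x g := h x hx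
    exact ((hc.zpow_right k).eq).symm

end Cfsg.Agent.Lib.Helper23

namespace Cfsg.Agent.Lib.Helper23

open Cfsg Cfsg.Agent.Lib.Helper5

variable {G : Type*} [Group G]

/-- A member of a root subgroup set having a rank one partner meets every other member trivially
(general form of S5028). -/
theorem inf_eq_bot_or_eq_of_rankOne {S : Set (Subgroup G)} (hS : Cfsg.IsRootSubgroupSet S)
    {A C : Subgroup G} (hCS : C ∈ S) (hAC : Cfsg.IsRankOnePair A C) :
    ∀ B ∈ S, A ⊓ B = ⊥ ∨ A = B := by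
  intro B hBS
  by_contra hcon
  push Not at hcon
  obtain ⟨hne, hAB⟩ := hcon
  obtain ⟨x, hx, hx1⟩ : ∃ x ∈ A ⊓ B, x ≠ 1 := by
    by_contra h
    push Not at h
    exact hne ((Subgroup.eq_bot_iff_forall _).2 h)
  have hxN : x ∉ Subgroup.normalizer (C : Set G) := by
    intro hxN
    have : x ∈ A ⊓ Subgroup.normalizer (C : Set G) := ⟨hx.1, hxN⟩
    rw [inf_normalizer_eq_bot hAC.ne hAC.cond_left, Subgroup.mem_bot] at this
    exact hx1 this
  have hCcomm := comm_of_mem hS hCS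
  rcases hS.pair B hBS C hCS with h1 | h2 | h3
  · apply hxN
    apply Subgroup.centralizer_le_normalizer
    rw [Subgroup.mem_centralizer_iff]
    intro c hc
    exact (comm_of_commutator_eq_bot h1 hx.2 hc).symm
  · exact hAB (eq_of_common_of_rankOne hAC h2 hx.1 hx.2 hx1)
  · have hx1' : x⁻¹ ≠ 1 := fun hh => hx1 (inv_eq_one.1 hh)
    apply not_conjBy_le_normalizer hAC (A.inv_mem hx.1) hx1'
    refine le_trans ?_ (Subgroup.centralizer_le_normalizer _)
    apply conjBy_le_centralizer_of_comm hCcomm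
    intro c hc y hy
    have hmem : x⁻¹ * c * x⁻¹⁻¹ * c⁻¹ ∈ ⁅B, C⁆ :=
      Subgroup.commutator_mem_commutator (B.inv_mem hx.2) hc
    exact h3.2.1 _ hmem y (Subgroup.mem_sup_right hy)

/-- Conjugation preserves rank one pairs. -/
theorem isRankOnePair_conjBy {A B : Subgroup G} (h : Cfsg.IsRankOnePair A B) (g : G) :
    Cfsg.IsRankOnePair (Cfsg.conjBy A g) (Cfsg.conjBy B g) := by
  have hcond : ∀ {A B : Subgroup G}, Cfsg.RankOneCondition A B →
      Cfsg.RankOneCondition (Cfsg.conjBy A g) (Cfsg.conjBy B g) := by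
    intro A B hc x hx hx1
    rw [mem_conjBy_iff] at hx
    have hx1' : g⁻¹ * x * g ≠ 1 := by
      intro hh
      apply hx1
      have := congrArg (fun t => g * t * g⁻¹) hh
      simpa [mul_assoc] using this
    obtain ⟨b, hb, hb1, e⟩ := hc _ hx hx1'
    refine ⟨g * b * g⁻¹, ?_, ?_, ?_⟩
    · rw [mem_conjBy_iff]; simpa [mul_assoc] using hb
    · intro hh
      apply hb1
      have := congrArg (fun t => g⁻¹ * t * g) hh
      simpa [mul_assoc] using this
    · have := congrArg (fun D => Cfsg.conjBy D g) e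
      simp only [conjBy_conjBy] at this
      rw [conjBy_conjBy, conjBy_conjBy]
      have e1 : (g * b * g⁻¹)⁻¹ * g = g * b⁻¹ := by group
      have e2 : x⁻¹ * g = g * (g⁻¹ * x * g)⁻¹ := by group
      rw [e1, e2]
      exact this
  refine ⟨?_, ?_, ?_, hcond h.cond_left, hcond h.cond_right⟩
  · intro hh
    exact h.ne (conjBy_injective g hh)
  · haveI := h.nilpotent_left
    exact (Group.isNilpotent_congr (A.equivMapOfInjective _ (MulAut.conj g).injective)).1 inferInstance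
  · haveI := h.nilpotent_right
    exact (Group.isNilpotent_congr (B.equivMapOfInjective _ (MulAut.conj g).injective)).1 inferInstance

theorem mem_sup_of_commute {A C : Subgroup G} (h : ∀ a ∈ A, ∀ c ∈ C, a * c = c * a) {x : G}
    (hx : x ∈ A ⊔ C) : ∃ a ∈ A, ∃ c ∈ C, x = a * c := by
  rw [Subgroup.sup_eq_closure] at hx
  induction hx using Subgroup.closure_induction with
  | mem x hx =>
    rcases hx with hx | hx
    · exact ⟨x, hx, 1, C.one_mem, (mul_one x).symm⟩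
    · exact ⟨1, A.one_mem, x, hx, (one_mul x).symm⟩
  | one => exact ⟨1, A.one_mem, 1, C.one_mem, (mul_one 1).symm⟩
  | mul x y _ _ hx hy =>
    obtain ⟨a₁, ha₁, c₁, hc₁, rfl⟩ := hx
    obtain ⟨a₂, ha₂, c₂, hc₂, rfl⟩ := hy
    refine ⟨a₁ * a₂, A.mul_mem ha₁ ha₂, c₁ * c₂, C.mul_mem hc₁ hc₂, ?_⟩
    have := h a₂ ha₂ c₁ hc₁
    calc a₁ * c₁ * (a₂ * c₂) = a₁ * (c₁ * a₂) * c₂ := by group
      _ = a₁ * (a₂ * c₁) * c₂ := by rw [this]
      _ = a₁ * a₂ * (c₁ * c₂) := by group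
  | inv x _ hx =>
    obtain ⟨a₁, ha₁, c₁, hc₁, rfl⟩ := hx
    refine ⟨a₁⁻¹, A.inv_mem ha₁, c₁⁻¹, C.inv_mem hc₁, ?_⟩
    have := h a₁ ha₁ c₁ hc₁
    rw [this]; group

end Cfsg.Agent.Lib.Helper23
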