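import Mathlib
import Cfsg.Prelude.Def_RootSubgroups
import Cfsg.Agent.Lib.Helper23.RootBasic
import Cfsg.Agent.Lib.Helper16.SubnormalResidual

set_option autoImplicit false

namespace Cfsg.Agent.Lib.Helper23

open Cfsg Cfsg.Agent.Lib.Helper5
open scoped commutatorElement

variable {G : Type*} [Group G]

/-- `h • ⁅H, K⁆ = ⁅H, K⁆` for `h ∈ H`. -/
theorem conjBy_commutator_of_mem_left {H K : Subgroup G} {h : G} (hh : h ∈ H) :
    Cfsg.conjBy ⁅H, K⁆ h = ⁅H, K⁆ :=
  (conjBy_eq_self_iff _ h).2 (Cfsg.Agent.Lib.Helper16.le_normalizer_commutator_left H K hh)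

theorem conjBy_commutator_of_mem_right {H K : Subgroup G} {k : G} (hk : k ∈ K) :
    Cfsg.conjBy ⁅H, K⁆ k = ⁅H, K⁆ :=
  (conjBy_eq_self_iff _ k).2 (Cfsg.Agent.Lib.Helper16.le_normalizer_commutator_right H K hk)

theorem conj_mem_of_conjBy_eq {C : Subgroup G} {g : G} (h : Cfsg.conjBy C g = C) {c : G} (hc : c ∈ C) :
    g * c * g⁻¹ ∈ C := by
  rw [← h, mem_conjBy_iff]
  simpa [mul_assoc] using hc

/-- For a rank one pair `(A, B)` of members of a set of abstract root subgroups, the commutator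
`⁅A, B⁆` is not a member. -/
theorem commutator_not_mem_of_rankOne {S : Set (Subgroup G)} (hS : Cfsg.IsRootSubgroupSet S)
    {A B : Subgroup G} (hA : A ∈ S) (hAB : Cfsg.IsRankOnePair A B) : ⁅A, B⁆ ∉ S := by
  intro hC
  have hAcomm := comm_of_mem hS hA
  have hCcomm := comm_of_mem hS hC
  have hAne := left_ne_bot hAB
  have hAbotB : A ⊓ Subgroup.normalizer (B : Set G) = ⊥ := inf_normalizer_eq_bot hAB.ne hAB.cond_left
  -- Step 2: B ≤ C A
  have hB : ∀ b' ∈ B, ∃ c ∈ ⁅A, B⁆, ∃ a' ∈ A, b' = c * a' := by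
    obtain ⟨b, hb, hb1⟩ := exists_ne_one_of_ne_bot (right_ne_bot hAB)
    obtain ⟨a, ha, _, e⟩ := hAB.cond_right b hb hb1
    intro b' hb'
    have h1 : a⁻¹ * b' * a ∈ Cfsg.conjBy B a⁻¹ := by
      rw [mem_conjBy_iff]; simpa [mul_assoc] using hb'
    rw [e, mem_conjBy_iff, inv_inv] at h1
    obtain ⟨a', ha'⟩ : ∃ a', a' = b * (a⁻¹ * b' * a) * b⁻¹ := ⟨_, rfl⟩
    rw [← ha'] at h1
    have hc0 : b⁻¹ * a' * b⁻¹⁻¹ * a'⁻¹ ∈ ⁅A, B⁆ := by
      rw [Subgroup.commutator_comm]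
      exact Subgroup.commutator_mem_commutator (B.inv_mem hb) h1
    have hc1 := conj_mem_of_conjBy_eq (conjBy_commutator_of_mem_left (K := B) ha) hc0
    refine ⟨_, hc1, a', h1, ?_⟩
    have e3 : a * a' * a⁻¹ = a' := by rw [hAcomm a ha a' h1]; group
    calc b' = a * (b⁻¹ * a' * b) * a⁻¹ := by rw [ha']; group
      _ = (a * (b⁻¹ * a' * b⁻¹⁻¹ * a'⁻¹) * a⁻¹) * (a * a' * a⁻¹) := by group
      _ = _ := by rw [e3]
  rcases hS.pair A hA _ hC with h1 | h2 | h3
  · -- A commutes with C, hence with B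
    obtain ⟨a, ha, ha1⟩ := exists_ne_one_of_ne_bot hAne
    apply ha1
    have : a ∈ A ⊓ Subgroup.normalizer (B : Set G) := by
      refine ⟨ha, Subgroup.centralizer_le_normalizer _ ?_⟩
      rw [Subgroup.mem_centralizer_iff]
      intro b' hb'
      obtain ⟨c, hc, a', ha', rfl⟩ := hB b' hb'
      have e1 := comm_of_commutator_eq_bot h1 ha hc
      have e2 := hAcomm a ha a' ha'
      rw [mul_assoc, ← e2, ← mul_assoc, ← e1, mul_assoc]
    rw [hAbotB, Subgroup.mem_bot] at this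
    exact this
  · -- rank one pair (A, C) impossible: A normalizes C
    obtain ⟨a, ha, ha1⟩ := exists_ne_one_of_ne_bot hAne
    apply ha1
    have : a ∈ A ⊓ Subgroup.normalizer ((⁅A, B⁆ : Subgroup G) : Set G) :=
      ⟨ha, Cfsg.Agent.Lib.Helper16.le_normalizer_commutator_left A B ha⟩
    rw [inf_normalizer_eq_bot h2.ne h2.cond_left, Subgroup.mem_bot] at this
    exact this
  · -- commutator case (A, C): then [A, C] = 1, contradiction
    have hK := hS.ne_bot _ h3.1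
    apply hK
    rw [eq_bot_iff, Subgroup.commutator_le]
    intro a ha c hc
    rw [Subgroup.mem_bot, commutatorElement_eq_one_iff_mul_comm]
    -- a commutes with each generator of C = ⁅A, B⁆
    have hle : ⁅A, B⁆ ≤ Subgroup.centralizer ({a} : Set G) := by
      rw [Subgroup.commutator_le]
      intro a₁ ha₁ b₁ hb₁
      obtain ⟨c₁, hc₁, a₂, ha₂, rfl⟩ := hB b₁ hb₁
      rw [Subgroup.mem_centralizer_iff]
      intro y hy
      rw [Set.mem_singleton_iff] at hy
      subst hy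
      have e : ⁅a₁, c₁ * a₂⁆ = a₁ * c₁ * a₁⁻¹ * c₁⁻¹ := by
        rw [commutatorElement_def]
        have := hAcomm a₂ ha₂ a₁⁻¹ (A.inv_mem ha₁)
        calc a₁ * (c₁ * a₂) * a₁⁻¹ * (c₁ * a₂)⁻¹ = a₁ * c₁ * (a₂ * a₁⁻¹) * a₂⁻¹ * c₁⁻¹ := by group
          _ = a₁ * c₁ * (a₁⁻¹ * a₂) * a₂⁻¹ * c₁⁻¹ := by rw [this]
          _ = a₁ * c₁ * a₁⁻¹ * c₁⁻¹ := by group
      rw [e]
      have hmem : a₁ * c₁ * a₁⁻¹ * c₁⁻¹ ∈ ⁅A, ⁅A, B⁆⁆ := Subgroup.commutator_mem_commutator ha₁ hc₁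
      exact (h3.2.1 _ hmem y (Subgroup.mem_sup_left ha)).symm
    have := hle hc
    rw [Subgroup.mem_centralizer_iff] at this
    exact this a rfl

/-- If `⁅A, B⁆ ∈ S` then the pair `(A, B)` is in the commutator case. -/
theorem commutatorCase_of_mem {S : Set (Subgroup G)} (hS : Cfsg.IsRootSubgroupSet S)
    {A B : Subgroup G} (hA : A ∈ S) (hB : B ∈ S) (hC : ⁅A, B⁆ ∈ S) :
    Cfsg.RootCommutatorCase S A B := by
  rcases hS.pair A hA B hB with h1 | h2 | h3
  · exact absurd h1 (hS.ne_bot _ hC)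
  · exact absurd hC (commutator_not_mem_of_rankOne hS hA h2)
  · exact h3

/-- The commutator case is symmetric. -/
theorem commutatorCase_symm {S : Set (Subgroup G)} {A B : Subgroup G}
    (h : Cfsg.RootCommutatorCase S A B) : Cfsg.RootCommutatorCase S B A := by
  have hinv : ∀ (X : Subgroup G) (f g : G → G), (∀ x, g x = (f x)⁻¹) →
      Subgroup.closure (g '' (X : Set G)) = Subgroup.closure (f '' (X : Set G)) := by
    intro X f g hfg
    apply le_antisymm
    · rw [Subgroup.closure_le]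
      rintro _ ⟨x, hx, rfl⟩
      rw [hfg]
      exact Subgroup.inv_mem _ (Subgroup.subset_closure ⟨x, hx, rfl⟩)
    · rw [Subgroup.closure_le]
      rintro _ ⟨x, hx, rfl⟩
      have : f x = (g x)⁻¹ := by rw [hfg, inv_inv]
      rw [this]
      exact Subgroup.inv_mem _ (Subgroup.subset_closure ⟨x, hx, rfl⟩)
  refine ⟨?_, ?_, ?_, ?_⟩
  · rw [Subgroup.commutator_comm]; exact h.1
  · intro c hc x hx
    rw [Subgroup.commutator_comm] at hc
    rw [sup_comm] at hx
    exact h.2.1 c hc x hx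
  · intro b hb hb1
    rw [Subgroup.commutator_comm B A, ← h.2.2.2 b hb hb1]
    apply hinv
    intro x; group
  · intro a ha ha1
    rw [Subgroup.commutator_comm B A, ← h.2.2.1 a ha ha1]
    apply hinv
    intro x; group

/-- In the commutator case the map `b ↦ a⁻¹ b⁻¹ a b` is multiplicative. -/
theorem commMap_mul {S : Set (Subgroup G)} {A B : Subgroup G}
    (h : Cfsg.RootCommutatorCase S A B) {a b b' : G} (ha : a ∈ A) (hb : b ∈ B) (hb' : b' ∈ B) :
    a⁻¹ * (b * b')⁻¹ * a * (b * b') = (a⁻¹ * b⁻¹ * a * b) * (a⁻¹ * b'⁻¹ * a * b') := by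
  have hz : a⁻¹ * b⁻¹ * a⁻¹⁻¹ * b⁻¹⁻¹ ∈ ⁅A, B⁆ :=
    Subgroup.commutator_mem_commutator (A.inv_mem ha) (B.inv_mem hb)
  rw [inv_inv, inv_inv] at hz
  have hcomm := h.2.1 _ hz (a⁻¹ * b'⁻¹ * a)
    (mul_mem (mul_mem (Subgroup.mem_sup_left (A.inv_mem ha)) (Subgroup.mem_sup_right (B.inv_mem hb')))
      (Subgroup.mem_sup_left ha))
  calc a⁻¹ * (b * b')⁻¹ * a * (b * b')
      = (a⁻¹ * b'⁻¹ * a) * (a⁻¹ * b⁻¹ * a * b) * b' := by group
    _ = (a⁻¹ * b⁻¹ * a * b) * (a⁻¹ * b'⁻¹ * a) * b' := by rw [hcomm]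
    _ = (a⁻¹ * b⁻¹ * a * b) * (a⁻¹ * b'⁻¹ * a * b') := by group

/-- In the commutator case, for `a ≠ 1` the map `b ↦ a⁻¹ b⁻¹ a b` is onto `⁅A, B⁆`. -/
theorem commMap_surj {S : Set (Subgroup G)} {A B : Subgroup G}
    (h : Cfsg.RootCommutatorCase S A B) {a : G} (ha : a ∈ A) (ha1 : a ≠ 1) {c : G}
    (hc : c ∈ ⁅A, B⁆) : ∃ b ∈ B, a⁻¹ * b⁻¹ * a * b = c := by
  have ha1' : a⁻¹ ≠ 1 := fun hh => ha1 (inv_eq_one.1 hh)
  have hcl := h.2.2.1 a⁻¹ (A.inv_mem ha) ha1'
  rw [← hcl] at hc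
  induction hc using Subgroup.closure_induction with
  | mem x hx =>
    obtain ⟨b, hb, rfl⟩ := hx
    refine ⟨b⁻¹, B.inv_mem hb, ?_⟩
    simp only [inv_inv]
  | one => exact ⟨1, B.one_mem, by group⟩
  | mul x y _ _ hx hy =>
    obtain ⟨b₁, hb₁, rfl⟩ := hx
    obtain ⟨b₂, hb₂, rfl⟩ := hy
    exact ⟨b₁ * b₂, B.mul_mem hb₁ hb₂, commMap_mul h ha hb₁ hb₂⟩
  | inv x _ hx =>
    obtain ⟨b₁, hb₁, rfl⟩ := hx
    refine ⟨b₁⁻¹, B.inv_mem hb₁, ?_⟩
    have := commMap_mul h ha hb₁ (B.inv_mem hb₁)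
    rw [mul_inv_cancel] at this
    have e : a⁻¹ * (1 : G)⁻¹ * a * 1 = 1 := by group
    rw [e] at this
    exact (inv_eq_of_mul_eq_one_right this.symm).symm

end Cfsg.Agent.Lib.Helper23

namespace Cfsg.Agent.Lib.Helper23

open Cfsg Cfsg.Agent.Lib.Helper5
open scoped commutatorElement

variable {G : Type*} [Group G]

/-- In the commutator case with `A` having a rank one partner, `A ⊓ ⁅A, B⁆ = ⊥`. -/
theorem inf_commutator_eq_bot {S : Set (Subgroup G)} (hS : Cfsg.IsRootSubgroupSet S)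
    {A B D : Subgroup G} (hD : D ∈ S) (hAD : Cfsg.IsRankOnePair A D)
    (h : Cfsg.RootCommutatorCase S A B) : A ⊓ ⁅A, B⁆ = ⊥ := by
  rcases inf_eq_bot_or_eq_of_rankOne hS hD hAD _ h.1 with k | k
  · exact k
  · exfalso
    -- A = ⁅A, B⁆ is central in A ⊔ B, so ⁅A, B⁆ = ⊥
    apply hS.ne_bot _ h.1
    rw [eq_bot_iff, Subgroup.commutator_le]
    intro a ha b hb
    rw [Subgroup.mem_bot, commutatorElement_eq_one_iff_mul_comm]
    have ha' : a ∈ ⁅A, B⁆ := k ▸ ha
    exact h.2.1 a ha' b (Subgroup.mem_sup_right hb)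

/-- In the commutator case with `A` having a rank one partner, no nonidentity element of `B`
normalizes `A`. -/
theorem eq_one_of_conjBy_eq_self {S : Set (Subgroup G)} (hS : Cfsg.IsRootSubgroupSet S)
    {A B D : Subgroup G} (hD : D ∈ S) (hAD : Cfsg.IsRankOnePair A D)
    (h : Cfsg.RootCommutatorCase S A B) {b : G} (hb : b ∈ B) (hbA : Cfsg.conjBy A b = A) :
    b = 1 := by
  by_contra hb1
  apply hS.ne_bot _ h.1
  rw [← h.2.2.2 b hb hb1, Subgroup.closure_eq_bot_iff]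
  rintro _ ⟨a', ha', rfl⟩
  rw [Set.mem_singleton_iff]
  have h1 : a' * b * a'⁻¹ * b⁻¹ ∈ A := by
    have := conj_mem_of_conjBy_eq hbA (A.inv_mem ha')
    have e : a' * b * a'⁻¹ * b⁻¹ = a' * (b * a'⁻¹ * b⁻¹) := by group
    rw [e]
    exact A.mul_mem ha' this
  have h2 : a' * b * a'⁻¹ * b⁻¹ ∈ ⁅A, B⁆ := Subgroup.commutator_mem_commutator ha' hb
  have : a' * b * a'⁻¹ * b⁻¹ ∈ A ⊓ ⁅A, B⁆ := ⟨h1, h2⟩
  rw [inf_commutator_eq_bot hS hD hAD h, Subgroup.mem_bot] at this
  exact this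

/-- In the commutator case with `A` having a rank one partner, a nonidentity element of `A`
commutes with no nonidentity element of `B`. -/
theorem eq_one_of_commute_commCase {S : Set (Subgroup G)} (hS : Cfsg.IsRootSubgroupSet S)
    {A B D : Subgroup G} (hA : A ∈ S) (hD : D ∈ S) (hAD : Cfsg.IsRankOnePair A D)
    (h : Cfsg.RootCommutatorCase S A B) {a b : G} (ha : a ∈ A) (ha1 : a ≠ 1) (hb : b ∈ B)
    (hab : a * b = b * a) : b = 1 := by
  have hA'S : Cfsg.conjBy A b ∈ S := hS.conj_mem A hA b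
  have hmem : a ∈ Cfsg.conjBy A b := by
    rw [mem_conjBy_iff, mul_assoc, hab, ← mul_assoc, inv_mul_cancel, one_mul]
    exact ha
  rcases inf_eq_bot_or_eq_of_rankOne hS hD hAD _ hA'S with k | k
  · exfalso
    have : a ∈ A ⊓ Cfsg.conjBy A b := ⟨ha, hmem⟩
    rw [k, Subgroup.mem_bot] at this
    exact ha1 this
  · exact eq_one_of_conjBy_eq_self hS hD hAD h hb k.symm

theorem conjBy_le_sup_commutator {A B : Subgroup G} {b : G} (hb : b ∈ B) :
    Cfsg.conjBy A b ≤ A ⊔ ⁅A, B⁆ := by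
  intro x hx
  rw [mem_conjBy_iff] at hx
  have e : x = (b * (b⁻¹ * x * b) * b⁻¹ * (b⁻¹ * x * b)⁻¹) * (b⁻¹ * x * b) := by group
  rw [e]
  apply Subgroup.mul_mem
  · apply Subgroup.mem_sup_right
    rw [Subgroup.commutator_comm]
    exact Subgroup.commutator_mem_commutator hb hx
  · exact Subgroup.mem_sup_left hx

theorem exists_mem_conjBy_of_commCase {S : Set (Subgroup G)} {A B : Subgroup G}
    (h : Cfsg.RootCommutatorCase S A B) {a c : G} (ha : a ∈ A) (ha1 : a ≠ 1) (hc : c ∈ ⁅A, B⁆) :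
    ∃ b ∈ B, a * c ∈ Cfsg.conjBy A b := by
  obtain ⟨b₀, hb₀, e⟩ := commMap_surj h ha ha1 hc
  refine ⟨b₀⁻¹, B.inv_mem hb₀, ?_⟩
  rw [mem_conjBy_iff, ← e]
  have : b₀⁻¹⁻¹ * (a * (a⁻¹ * b₀⁻¹ * a * b₀)) * b₀⁻¹ = a := by group
  rw [this]
  exact ha

end Cfsg.Agent.Lib.Helper23

namespace Cfsg.Agent.Lib.Helper23

open Cfsg Cfsg.Agent.Lib.Helper5
open scoped commutatorElement

variable {G : Type*} [Group G]

/-- Auxiliary: in the commutator case `(A, B)` with `D` a rank one partner of `A`,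
`D` does not centralize `⁅A, B⁆`. -/
theorem commutator_partner_ne_bot {S : Set (Subgroup G)} (hS : Cfsg.IsRootSubgroupSet S)
    {A B D : Subgroup G} (hA : A ∈ S) (hB : B ∈ S) (hD : D ∈ S) (hAD : Cfsg.IsRankOnePair A D)
    (h : Cfsg.RootCommutatorCase S A B) : ⁅⁅A, B⁆, D⁆ ≠ ⊥ := by
  intro h1
  have hDcomm := comm_of_mem hS hD
  have hAcomm := comm_of_mem hS hA
  have hAbotD : A ⊓ Subgroup.normalizer (D : Set G) = ⊥ := inf_normalizer_eq_bot hAD.ne hAD.cond_left
  obtain ⟨b, hb, hb1⟩ := exists_ne_one_of_ne_bot (hS.ne_bot B hB)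
  obtain ⟨a, ha, ha1⟩ := exists_ne_one_of_ne_bot (left_ne_bot hAD)
  obtain ⟨A', hA'⟩ : ∃ A', A' = Cfsg.conjBy A b := ⟨_, rfl⟩
  have hA'S : A' ∈ S := hA' ▸ hS.conj_mem A hA b
  have hA'le : A' ≤ A ⊔ ⁅A, B⁆ := hA' ▸ conjBy_le_sup_commutator hb
  obtain ⟨c', hc'⟩ : ∃ c', c' = b * a * b⁻¹ * a⁻¹ := ⟨_, rfl⟩
  have hc'C : c' ∈ ⁅A, B⁆ := by
    rw [hc', Subgroup.commutator_comm]
    exact Subgroup.commutator_mem_commutator hb ha
  have hx : c' * a ∈ A' := by
    rw [hA', mem_conjBy_iff, hc']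
    have : b⁻¹ * (b * a * b⁻¹ * a⁻¹ * a) * b = a := by group
    rw [this]; exact ha
  have hx1 : c' * a ≠ 1 := by
    intro hh
    apply ha1
    have e : c' * a = b * a * b⁻¹ := by rw [hc']; group
    rw [e] at hh
    have := congrArg (fun t => b⁻¹ * t * b) hh
    simpa [mul_assoc] using this
  have hc'D : ∀ d ∈ D, c' * d = d * c' := fun d hd => comm_of_commutator_eq_bot h1 hc'C hd
  have hc'a : c' * a = a * c' := h.2.1 c' hc'C a (Subgroup.mem_sup_left ha)
  have hACcomm : ∀ a₁ ∈ A, ∀ c₁ ∈ ⁅A, B⁆, a₁ * c₁ = c₁ * a₁ := fun a₁ ha₁ c₁ hc₁ =>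
    (h.2.1 c₁ hc₁ a₁ (Subgroup.mem_sup_left ha₁)).symm
  -- every element of A commutes with every element of A'
  have hAA' : ∀ a₀ ∈ A, ∀ y ∈ A', a₀ * y = y * a₀ := by
    intro a₀ ha₀ y hy
    obtain ⟨a₁, ha₁, c₁, hc₁, rfl⟩ := mem_sup_of_commute hACcomm (hA'le hy)
    rw [← mul_assoc, hAcomm a₀ ha₀ a₁ ha₁, mul_assoc, hACcomm a₀ ha₀ c₁ hc₁, mul_assoc]
  rcases hS.pair _ hA'S D hD with k1 | k2 | k3
  · apply ha1
    have : a ∈ A ⊓ Subgroup.normalizer (D : Set G) := by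
      refine ⟨ha, Subgroup.centralizer_le_normalizer _ ?_⟩
      rw [Subgroup.mem_centralizer_iff]
      intro d hd
      have e1 := comm_of_commutator_eq_bot k1 hx hd
      have e2 := hc'D d hd
      have : c' * (d * a) = c' * (a * d) := by
        calc c' * (d * a) = (c' * d) * a := by group
          _ = d * (c' * a) := by rw [e2]; group
          _ = c' * a * d := e1.symm
          _ = c' * (a * d) := by group
      exact mul_left_cancel this
    rw [hAbotD, Subgroup.mem_bot] at this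
    exact this
  · obtain ⟨d, hd, _, e₁⟩ := k2.cond_left (c' * a) hx hx1
    obtain ⟨d', hd', _, e₂⟩ := hAD.cond_left a ha ha1
    have e₃ : Cfsg.conjBy D (c' * a)⁻¹ = Cfsg.conjBy D a⁻¹ := by
      have hk : c'⁻¹ ∈ Subgroup.centralizer (D : Set G) := by
        apply Subgroup.inv_mem
        rw [Subgroup.mem_centralizer_iff]
        intro d₀ hd₀
        exact (hc'D d₀ hd₀).symm
      rw [mul_inv_rev, ← conjBy_conjBy, conjBy_of_mem_centralizer hk]
    have e₄ : Cfsg.conjBy A' d⁻¹ = Cfsg.conjBy A d'⁻¹ := by rw [e₁, e₃, e₂]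
    have e₅ : A' = Cfsg.conjBy A (d * d'⁻¹) := by
      have := congrArg (fun X => Cfsg.conjBy X d) e₄
      simp only [conjBy_conjBy, mul_inv_cancel, conjBy_one] at this
      exact this
    by_cases hd1 : d * d'⁻¹ = 1
    · rw [hd1, conjBy_one, hA'] at e₅
      exact hb1 (eq_one_of_conjBy_eq_self hS hD hAD h hb e₅)
    · obtain ⟨a'', ha'', _, e₆⟩ :=
        exists_conjBy_eq_of_mem_right hAD (D.mul_mem hd (D.inv_mem hd')) hd1
      rw [← e₅] at e₆
      have hcen : Cfsg.conjBy A' a'' = A' := by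
        apply conjBy_of_mem_centralizer
        rw [Subgroup.mem_centralizer_iff]
        intro y hy
        exact (hAA' a'' ha'' y hy).symm
      have hDA' : D = A' := by
        have := congrArg (fun X => Cfsg.conjBy X a'') e₆
        simp only [conjBy_conjBy, mul_inv_cancel, conjBy_one] at this
        rw [this, hcen]
      apply ha1
      have : a ∈ A ⊓ Subgroup.normalizer (D : Set G) := by
        refine ⟨ha, Subgroup.centralizer_le_normalizer _ ?_⟩
        rw [Subgroup.mem_centralizer_iff]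
        intro y hy
        rw [hDA'] at hy
        exact (hAA' a ha y hy).symm
      rw [hAbotD, Subgroup.mem_bot] at this
      exact this
  · apply not_conjBy_le_normalizer hAD ha ha1
    refine le_trans ?_ (Subgroup.centralizer_le_normalizer _)
    apply conjBy_le_centralizer_of_comm hDcomm
    intro d hd y hy
    have hmem : (c' * a) * d * (c' * a)⁻¹ * d⁻¹ ∈ ⁅A', D⁆ :=
      Subgroup.commutator_mem_commutator hx hd
    have heq : (c' * a) * d * (c' * a)⁻¹ * d⁻¹ = a * d * a⁻¹ * d⁻¹ := by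
      have hc'a' : c' * a⁻¹ = a⁻¹ * c' := by
        have := congrArg (fun t => a⁻¹ * t * a⁻¹) hc'a
        simpa [mul_assoc] using this.symm
      have e1 : c' * (a * d * a⁻¹) = (a * d * a⁻¹) * c' := by
        calc c' * (a * d * a⁻¹) = (c' * a) * d * a⁻¹ := by group
          _ = a * (c' * d) * a⁻¹ := by rw [hc'a]; group
          _ = a * d * (c' * a⁻¹) := by rw [hc'D d hd]; group
          _ = a * d * (a⁻¹ * c') := by rw [hc'a']
          _ = (a * d * a⁻¹) * c' := by group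
      calc (c' * a) * d * (c' * a)⁻¹ * d⁻¹ = (c' * (a * d * a⁻¹)) * c'⁻¹ * d⁻¹ := by group
        _ = ((a * d * a⁻¹) * c') * c'⁻¹ * d⁻¹ := by rw [e1]
        _ = a * d * a⁻¹ * d⁻¹ := by group
    rw [heq] at hmem
    exact k3.2.1 _ hmem y (Subgroup.mem_sup_right hy)

/-- In the commutator case `(A, B)` with `A` having a rank one partner, a member of `S` inside
`⁅A, B⁆` equals `⁅A, B⁆`. -/
theorem eq_of_le_commutator {S : Set (Subgroup G)} (hS : Cfsg.IsRootSubgroupSet S)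
    {A B D E : Subgroup G} (hA : A ∈ S) (hB : B ∈ S) (hD : D ∈ S) (hAD : Cfsg.IsRankOnePair A D)
    (h : Cfsg.RootCommutatorCase S A B) (hE : E ∈ S) (hEC : E ≤ ⁅A, B⁆) : E = ⁅A, B⁆ := by
  have hC := h.1
  have hEne := hS.ne_bot E hE
  obtain ⟨e, he, he1⟩ := exists_ne_one_of_ne_bot hEne
  have hinfE : ⁅A, B⁆ ⊓ E = E := inf_eq_right.2 hEC
  rcases hS.pair _ hC D hD with h1 | h2 | h3
  · exact absurd h1 (commutator_partner_ne_bot hS hA hB hD hAD h)
  · rcases inf_eq_bot_or_eq_of_rankOne hS hD h2 E hE with k | k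
    · rw [hinfE] at k; exact absurd k hEne
    · exact k.symm
  · rcases hS.pair E hE D hD with k1 | k2 | k3
    · exfalso
      have := h3.2.2.1 e (hEC he) he1
      apply hS.ne_bot _ h3.1
      rw [← this, Subgroup.closure_eq_bot_iff]
      rintro _ ⟨d, hd, rfl⟩
      rw [Set.mem_singleton_iff]
      have := comm_of_commutator_eq_bot k1 he hd
      show e * d * e⁻¹ * d⁻¹ = 1
      rw [this]; group
    · rcases inf_eq_bot_or_eq_of_rankOne hS hD k2 _ hC with k | k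
      · rw [inf_comm, hinfE] at k; exact absurd k hEne
      · exact k
    · have hF : ⁅E, D⁆ = ⁅⁅A, B⁆, D⁆ := by
        rw [← k3.2.2.1 e he he1, ← h3.2.2.1 e (hEC he) he1]
      obtain ⟨d, hd, hd1⟩ := exists_ne_one_of_ne_bot (right_ne_bot hAD)
      have hDE := commutatorCase_symm k3
      have hDC := commutatorCase_symm h3
      apply le_antisymm hEC
      intro c hc
      have hy : d⁻¹ * c⁻¹ * d * c ∈ ⁅D, E⁆ := by
        rw [Subgroup.commutator_comm D E, hF, Subgroup.commutator_comm]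
        have := Subgroup.commutator_mem_commutator (D.inv_mem hd) ((⁅A, B⁆).inv_mem hc)
        simpa [commutatorElement_def] using this
      obtain ⟨e', he', hee⟩ := commMap_surj hDE hd hd1 hy
      have hcomm : d * (c * e'⁻¹) = (c * e'⁻¹) * d := by
        have h5 : e'⁻¹ * d * e' = c⁻¹ * d * c := by
          have := congrArg (fun t => d * t) hee
          simpa [mul_assoc] using this
        have := congrArg (fun t => c * t * e'⁻¹) h5
        simp only [mul_assoc, mul_inv_cancel, mul_one, mul_inv_cancel_left] at this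
        rw [mul_assoc]
        exact this.symm
      have h6 := eq_one_of_commute_commCase hS hD hA (Cfsg.RankOnePair_symm hAD) hDC hd hd1
        (Subgroup.mul_mem _ hc (Subgroup.inv_mem _ (hEC he'))) hcomm
      have : c = e' := by
        have := congrArg (fun t => t * e') h6
        simpa [mul_assoc] using this
      rw [this]; exact he'

end Cfsg.Agent.Lib.Helper23
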