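import Mathlib

/-!
Upper central series of a subgroup `R ≤ G`, transported to `G` (helper23): membership criterion on
generators, and a nilpotency criterion.  Also a closure-induction lemma for commutators.
-/

set_option autoImplicit false
open scoped commutatorElement

namespace Cfsg.Agent.Lib.Helper23.UcsGens

variable {G : Type*} [Group G]

/-- If `x y x⁻¹ y⁻¹ ∈ L` for all `y` in a generating set, and `L` is normalized by the generated
subgroup, then the same holds for all `y` in the generated subgroup. -/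
theorem comm_mem_closure {L : Subgroup G} {x : G} {Sg : Set G}
    (hgen : ∀ y ∈ Sg, x * y * x⁻¹ * y⁻¹ ∈ L)
    (hnorm : ∀ y ∈ Subgroup.closure Sg, ∀ l ∈ L, y * l * y⁻¹ ∈ L) :
    ∀ y ∈ Subgroup.closure Sg, x * y * x⁻¹ * y⁻¹ ∈ L := by
  intro y hy
  induction hy using Subgroup.closure_induction with
  | mem y hy => exact hgen y hy
  | one => simp
  | mul y₁ y₂ hy₁ hy₂ ih₁ ih₂ =>
    have e : x * (y₁ * y₂) * x⁻¹ * (y₁ * y₂)⁻¹ =
        (x * y₁ * x⁻¹ * y₁⁻¹) * (y₁ * (x * y₂ * x⁻¹ * y₂⁻¹) * y₁⁻¹) := by group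
    rw [e]
    exact L.mul_mem ih₁ (hnorm y₁ hy₁ _ ih₂)
  | inv y hy ih =>
    have e : x * y⁻¹ * x⁻¹ * y⁻¹⁻¹ = y⁻¹ * (x * y * x⁻¹ * y⁻¹)⁻¹ * y⁻¹⁻¹ := by group
    rw [e]
    exact hnorm y⁻¹ (Subgroup.inv_mem _ hy) _ (L.inv_mem ih)

/-- The `n`-th term of the upper central series of the subgroup `R`, as a subgroup of `G`. -/
def Zg (R : Subgroup G) (n : ℕ) : Subgroup G :=
  (Subgroup.upperCentralSeries ↥R n).map R.subtype

theorem Zg_le (R : Subgroup G) (n : ℕ) : Zg R n ≤ R := Subgroup.map_subtype_le _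

theorem mem_Zg_iff (R : Subgroup G) (n : ℕ) {g : G} (hg : g ∈ R) :
    g ∈ Zg R n ↔ (⟨g, hg⟩ : ↥R) ∈ Subgroup.upperCentralSeries ↥R n := by
  constructor
  · rintro ⟨z, hz, hzg⟩
    have : z = ⟨g, hg⟩ := Subtype.ext hzg
    rwa [this] at hz
  · intro h
    exact ⟨⟨g, hg⟩, h, rfl⟩

theorem mem_Zg_succ (R : Subgroup G) (n : ℕ) {g : G} :
    g ∈ Zg R (n + 1) ↔ g ∈ R ∧ ∀ y ∈ R, g * y * g⁻¹ * y⁻¹ ∈ Zg R n := by
  constructor
  · intro h
    have hg : g ∈ R := Zg_le R _ h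
    refine ⟨hg, ?_⟩
    intro y hy
    rw [mem_Zg_iff R _ hg, Subgroup.mem_upperCentralSeries_succ_iff] at h
    have := h ⟨y, hy⟩
    have hmem : g * y * g⁻¹ * y⁻¹ ∈ R :=
      R.mul_mem (R.mul_mem (R.mul_mem hg hy) (R.inv_mem hg)) (R.inv_mem hy)
    rw [mem_Zg_iff R _ hmem]
    exact this
  · rintro ⟨hg, h⟩
    rw [mem_Zg_iff R _ hg, Subgroup.mem_upperCentralSeries_succ_iff]
    intro y
    have := h y y.2
    have hmem : g * y * g⁻¹ * (y : G)⁻¹ ∈ R :=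
      R.mul_mem (R.mul_mem (R.mul_mem hg y.2) (R.inv_mem hg)) (R.inv_mem y.2)
    rw [mem_Zg_iff R _ hmem] at this
    exact this

theorem Zg_conj (R : Subgroup G) (n : ℕ) {z y : G} (hz : z ∈ Zg R n) (hy : y ∈ R) :
    y * z * y⁻¹ ∈ Zg R n := by
  have hzR : z ∈ R := Zg_le R n hz
  rw [mem_Zg_iff R _ hzR] at hz
  have hmem : y * z * y⁻¹ ∈ R := R.mul_mem (R.mul_mem hy hzR) (R.inv_mem hy)
  rw [mem_Zg_iff R _ hmem]
  haveI : (Subgroup.upperCentralSeries ↥R n).Normal := inferInstance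
  exact Subgroup.Normal.conj_mem inferInstance _ hz ⟨y, hy⟩

theorem Zg_mono (R : Subgroup G) {m n : ℕ} (h : m ≤ n) : Zg R m ≤ Zg R n :=
  Subgroup.map_mono (Subgroup.upperCentralSeries_mono _ h)

theorem one_mem_Zg (R : Subgroup G) (n : ℕ) : (1 : G) ∈ Zg R n := Subgroup.one_mem _

/-- Generator criterion for membership in the next term. -/
theorem mem_Zg_succ_of_gens {R : Subgroup G} {Sg : Set G} (hR : R = Subgroup.closure Sg) (n : ℕ)
    {g : G} (hg : g ∈ R) (h : ∀ y ∈ Sg, g * y * g⁻¹ * y⁻¹ ∈ Zg R n) : g ∈ Zg R (n + 1) := by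
  rw [mem_Zg_succ]
  refine ⟨hg, ?_⟩
  intro y hy
  rw [hR] at hy
  apply comm_mem_closure h _ y hy
  intro y' hy' l hl
  rw [← hR] at hy'
  exact Zg_conj R n hl hy'

theorem isNilpotent_of_le_Zg {R : Subgroup G} {n : ℕ} (h : R ≤ Zg R n) : Group.IsNilpotent ↥R := by
  refine ⟨⟨n, ?_⟩⟩
  rw [eq_top_iff]
  intro x _
  have := h x.2
  rw [mem_Zg_iff R _ x.2] at this
  exact this

end Cfsg.Agent.Lib.Helper23.UcsGens
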