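import Mathlib
import Cfsg.Agent.Lib.Helper23.RootComm
import Cfsg.Agent.Lib.Helper23.UcsGens

/-!
The "no diagonal" lemma for rank one pairs in a set of abstract root subgroups (helper23), a class two
lemma, and: a nilpotent group contains no rank one pair of abelian subgroups.
-/

set_option autoImplicit false
open Cfsg Cfsg.Agent.Lib.Helper5 Cfsg.Agent.Lib.Helper23
open scoped commutatorElement

namespace Cfsg.Agent.Lib.Helper23.RootDiag

variable {G : Type*} [Group G]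

/-- Let `(A, C)` be a rank one pair of members of `S`. No member `E ≠ A` commuting with `A` contains
an element `a u` with `1 ≠ a ∈ A` and `u` centralizing `A` and `C`. -/
theorem no_diag {S : Set (Subgroup G)} (hS : Cfsg.IsRootSubgroupSet S) {A C E : Subgroup G}
    (hA : A ∈ S) (hC : C ∈ S) (hE : E ∈ S) (hAC : Cfsg.IsRankOnePair A C) (hEA : E ≠ A)
    (hcomm : ∀ x ∈ E, ∀ y ∈ A, x * y = y * x) {a u : G} (ha : a ∈ A) (ha1 : a ≠ 1)
    (huA : ∀ y ∈ A, u * y = y * u) (huC : ∀ y ∈ C, u * y = y * u) (he : a * u ∈ E) : False := by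
  have hCcomm := comm_of_mem hS hC
  have hAcomm := comm_of_mem hS hA
  have hCne : C ≠ ⊥ := right_ne_bot hAC
  have hanot : ¬ ∀ c ∈ C, a * c = c * a := by
    intro h
    obtain ⟨c, hc, hc1⟩ := exists_ne_one_of_ne_bot hCne
    exact hc1 (eq_one_of_commute_of_rankOne hAC hCcomm ha ha1 hc (h c hc))
  have hec : ∀ c ∈ C, (a * u) * c * (a * u)⁻¹ * c⁻¹ = a * c * a⁻¹ * c⁻¹ := by
    intro c hc
    have := huC c hc
    calc (a * u) * c * (a * u)⁻¹ * c⁻¹ = a * (u * c) * u⁻¹ * a⁻¹ * c⁻¹ := by group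
      _ = a * (c * u) * u⁻¹ * a⁻¹ * c⁻¹ := by rw [this]
      _ = a * c * a⁻¹ * c⁻¹ := by group
  rcases hS.pair E hE C hC with h | h | h
  · apply hanot
    intro c hc
    have h1 := comm_of_commutator_eq_bot h he hc
    have h2 := hec c hc
    rw [h1] at h2
    have h3 : a * c * a⁻¹ * c⁻¹ = 1 := by rw [← h2]; group
    calc a * c = (a * c * a⁻¹ * c⁻¹) * c * a := by group
      _ = c * a := by rw [h3, one_mul]
  · have he1 : a * u ≠ 1 := by
      intro h1
      apply hanot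
      intro c hc
      have hu : u = a⁻¹ := by
        calc u = a⁻¹ * (a * u) := by group
          _ = a⁻¹ := by rw [h1, mul_one]
      have := huC c hc
      rw [hu] at this
      calc a * c = a * (c * a⁻¹) * a := by group
        _ = a * (a⁻¹ * c) * a := by rw [this]
        _ = c * a := by group
    obtain ⟨c', hc', hc'1, e1⟩ := h.cond_left (a * u) he he1
    obtain ⟨c₁, hc₁, hc₁1, e2⟩ := hAC.cond_left a ha ha1
    have hau : a * u = u * a := (huA a ha).symm
    have e3 : Cfsg.conjBy C (a * u)⁻¹ = Cfsg.conjBy C a⁻¹ := by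
      have : (a * u)⁻¹ = a⁻¹ * u⁻¹ := by rw [hau]; group
      rw [this, ← conjBy_conjBy]
      congr 1
      apply conjBy_of_mem_centralizer
      apply Subgroup.inv_mem
      rw [Subgroup.mem_centralizer_iff]
      intro y hy
      exact (huC y hy).symm
    rw [e3, ← e2] at e1
    -- E = conjBy A (c' * c₁⁻¹)
    have e4 : E = Cfsg.conjBy A (c' * c₁⁻¹) := by
      have := congrArg (fun X => Cfsg.conjBy X c') e1
      simp only [conjBy_conjBy, mul_inv_cancel, conjBy_one] at this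
      exact this
    by_cases hg1 : c' * c₁⁻¹ = 1
    · rw [hg1, conjBy_one] at e4
      exact hEA e4
    · obtain ⟨a', ha', ha'1, e5⟩ := exists_conjBy_eq_of_mem_right hAC
        (C.mul_mem hc' (C.inv_mem hc₁)) hg1
      rw [← e4] at e5
      apply hanot
      intro c hc
      have hmem : a'⁻¹ * c * a' ∈ E := by
        rw [← e5, mem_conjBy_iff]
        have : a'⁻¹⁻¹ * (a'⁻¹ * c * a') * a'⁻¹ = c := by group
        rw [this]; exact hc
      have h1 := hcomm _ hmem a ha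
      have h2 := hAcomm a' ha' a ha
      calc a * c = a' * (a'⁻¹ * a * a') * (a'⁻¹ * c * a') * a'⁻¹ := by group
        _ = a' * (a'⁻¹ * (a' * a)) * (a'⁻¹ * c * a') * a'⁻¹ := by rw [h2]; group
        _ = a' * (a * (a'⁻¹ * c * a')) * a'⁻¹ := by group
        _ = a' * ((a'⁻¹ * c * a') * a) * a'⁻¹ := by rw [h1]
        _ = c * (a' * a) * a'⁻¹ := by group
        _ = c * (a * a') * a'⁻¹ := by rw [h2]
        _ = c * a := by group
  · apply not_conjBy_le_normalizer hAC ha ha1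
    apply le_trans _ (Subgroup.centralizer_le_normalizer (C : Set G))
    intro x hx
    rw [mem_conjBy_iff] at hx
    rw [Subgroup.mem_centralizer_iff]
    intro c'' hc''
    have hk : a * (a⁻¹ * x * a) * a⁻¹ * (a⁻¹ * x * a)⁻¹ ∈ ⁅E, C⁆ := by
      rw [← hec _ hx]
      exact Subgroup.commutator_mem_commutator he hx
    have hk1 := h.2.1 _ hk c'' (Subgroup.mem_sup_right hc'')
    have hk2 := hCcomm _ hx c'' hc''
    have ex : x = (a * (a⁻¹ * x * a) * a⁻¹ * (a⁻¹ * x * a)⁻¹) * (a⁻¹ * x * a) := by group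
    calc c'' * x = c'' * ((a * (a⁻¹ * x * a) * a⁻¹ * (a⁻¹ * x * a)⁻¹) * (a⁻¹ * x * a)) := by
          rw [← ex]
      _ = ((a * (a⁻¹ * x * a) * a⁻¹ * (a⁻¹ * x * a)⁻¹) * c'') * (a⁻¹ * x * a) := by
          rw [hk1]; group
      _ = (a * (a⁻¹ * x * a) * a⁻¹ * (a⁻¹ * x * a)⁻¹) * ((a⁻¹ * x * a) * c'') := by
          rw [hk2]; group
      _ = x * c'' := by rw [← mul_assoc, ← ex]

/-- If `L` is normalized by `A ⊔ C` and contains the commutators of generators, it contains all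
commutators of elements of `A ⊔ C`. -/
theorem comm_mem_of_gens {A C L : Subgroup G}
    (hnorm' : ∀ y ∈ A ⊔ C, ∀ l ∈ L, y * l * y⁻¹ ∈ L)
    (hgen : ∀ x ∈ (A : Set G) ∪ C, ∀ y ∈ (A : Set G) ∪ C, x * y * x⁻¹ * y⁻¹ ∈ L) :
    ∀ x ∈ A ⊔ C, ∀ y ∈ A ⊔ C, x * y * x⁻¹ * y⁻¹ ∈ L := by
  have hnorm : ∀ y ∈ Subgroup.closure ((A : Set G) ∪ C), ∀ l ∈ L, y * l * y⁻¹ ∈ L := by
    intro y hy l hl
    rw [← Subgroup.sup_eq_closure] at hy
    exact hnorm' y hy l hl
  have step1 : ∀ x ∈ (A : Set G) ∪ C, ∀ y ∈ A ⊔ C, x * y * x⁻¹ * y⁻¹ ∈ L := by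
    intro x hx y hy
    rw [Subgroup.sup_eq_closure] at hy
    exact UcsGens.comm_mem_closure (hgen x hx) hnorm y hy
  intro x hx y hy
  have e : x * y * x⁻¹ * y⁻¹ = (y * x * y⁻¹ * x⁻¹)⁻¹ := by group
  rw [e]
  apply Subgroup.inv_mem
  rw [Subgroup.sup_eq_closure] at hx
  apply UcsGens.comm_mem_closure _ hnorm x hx
  intro x' hx'
  have e' : y * x' * y⁻¹ * x'⁻¹ = (x' * y * x'⁻¹ * y⁻¹)⁻¹ := by group
  rw [e']
  exact Subgroup.inv_mem _ (step1 x' hx' y hy)

/-- Class two lemma: if `A`, `C` are abelian and `T ⊇ ⁅A, C⁆` is central in `A ⊔ C`, then all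
commutators of elements of `A ⊔ C` lie in `T`. -/
theorem comm_mem_of_central {A C T : Subgroup G} (hA : ∀ x ∈ A, ∀ y ∈ A, x * y = y * x)
    (hC : ∀ x ∈ C, ∀ y ∈ C, x * y = y * x) (hT : ⁅A, C⁆ ≤ T)
    (hTc : ∀ t ∈ T, ∀ x ∈ A ⊔ C, t * x = x * t) :
    ∀ x ∈ A ⊔ C, ∀ y ∈ A ⊔ C, x * y * x⁻¹ * y⁻¹ ∈ T := by
  apply comm_mem_of_gens
  · intro y hy l hl
    have := hTc l hl y hy
    have e : y * l * y⁻¹ = l := by
      calc y * l * y⁻¹ = (y * l) * y⁻¹ := by group
        _ = (l * y) * y⁻¹ := by rw [this]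
        _ = l := by group
    rw [e]; exact hl
  · intro x hx y hy
    rcases hx with hx | hx <;> rcases hy with hy | hy
    · rw [hA x hx y hy]; simp
    · apply hT
      have := Subgroup.commutator_mem_commutator hx hy
      rwa [commutatorElement_def] at this
    · apply hT
      have := Subgroup.commutator_mem_commutator hy hx
      rw [commutatorElement_def] at this
      have e : x * y * x⁻¹ * y⁻¹ = (y * x * y⁻¹ * x⁻¹)⁻¹ := by group
      rw [e]; exact Subgroup.inv_mem _ this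
    · rw [hC x hx y hy]; simp

/-- A nilpotent group contains no rank one pair of abelian subgroups. -/
theorem not_rankOne_of_nilpotent {R A C : Subgroup G} (hR : Group.IsNilpotent ↥R)
    (hAR : A ≤ R) (hCR : C ≤ R) (hA : ∀ x ∈ A, ∀ y ∈ A, x * y = y * x)
    (hC : ∀ x ∈ C, ∀ y ∈ C, x * y = y * x) (h : Cfsg.IsRankOnePair A C) : False := by
  have hXR : A ⊔ C ≤ R := sup_le hAR hCR
  obtain ⟨n, hn⟩ := (Subgroup.isNilpotent_iff_lowerCentralSeries R).mp hR
  have hXn : (A ⊔ C).lowerCentralSeries n = ⊥ := by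
    have := Subgroup.lowerCentralSeries_mono n hXR
    simp only at this
    rw [hn] at this
    exact le_bot_iff.mp this
  obtain ⟨g, hg, hCg⟩ := right_eq_conjBy h
  -- all commutators of X lie in every term of the lower central series beyond the first
  have key : ∀ k : ℕ, ∀ x ∈ A ⊔ C, ∀ y ∈ A ⊔ C,
      x * y * x⁻¹ * y⁻¹ ∈ (A ⊔ C).lowerCentralSeries (k + 1) := by
    intro k
    induction k with
    | zero =>
      intro x hx y hy
      rw [Subgroup.lowerCentralSeries_succ, Subgroup.lowerCentralSeries_zero]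
      have := Subgroup.commutator_mem_commutator hx hy
      rwa [commutatorElement_def] at this
    | succ k ih =>
      apply comm_mem_of_gens
      · intro y hy l hl
        rw [Subgroup.lowerCentralSeries_succ] at hl ⊢
        have hyn := Cfsg.Agent.Lib.Helper16.le_normalizer_commutator_right
          ((A ⊔ C).lowerCentralSeries (k + 1)) (A ⊔ C) hy
        exact (Subgroup.mem_normalizer_iff.mp hyn l).mp hl
      · intro x hx y hy
        have hca : ∀ a ∈ A, ∀ c ∈ C,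
            a * c * a⁻¹ * c⁻¹ ∈ (A ⊔ C).lowerCentralSeries (k + 1 + 1) := by
          intro a ha c hc
          rw [hCg, mem_conjBy_iff] at hc
          -- c = a' z with a' = g⁻¹ c g ∈ A and z a commutator
          obtain ⟨a', ha'def⟩ : ∃ a' : G, a' = g⁻¹ * c * g := ⟨_, rfl⟩
          rw [← ha'def] at hc
          have hz : a'⁻¹ * g * a'⁻¹⁻¹ * g⁻¹ ∈ (A ⊔ C).lowerCentralSeries (k + 1) :=
            ih _ (Subgroup.inv_mem _ (Subgroup.mem_sup_left hc)) _ hg
          have hza : (a'⁻¹ * g * a'⁻¹⁻¹ * g⁻¹) * a * (a'⁻¹ * g * a'⁻¹⁻¹ * g⁻¹)⁻¹ * a⁻¹ ∈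
              (A ⊔ C).lowerCentralSeries (k + 1 + 1) := by
            rw [Subgroup.lowerCentralSeries_succ (A ⊔ C) (k + 1)]
            have := Subgroup.commutator_mem_commutator hz (Subgroup.mem_sup_left ha :
              a ∈ A ⊔ C)
            rwa [commutatorElement_def] at this
          have hconj : a' * ((a'⁻¹ * g * a'⁻¹⁻¹ * g⁻¹) * a * (a'⁻¹ * g * a'⁻¹⁻¹ * g⁻¹)⁻¹ * a⁻¹)⁻¹
              * a'⁻¹ ∈ (A ⊔ C).lowerCentralSeries (k + 1 + 1) := by
            rw [Subgroup.lowerCentralSeries_succ (A ⊔ C) (k + 1)] at hza ⊢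
            have hyn := Cfsg.Agent.Lib.Helper16.le_normalizer_commutator_right
              ((A ⊔ C).lowerCentralSeries (k + 1)) (A ⊔ C) (Subgroup.mem_sup_left hc : a' ∈ A ⊔ C)
            exact (Subgroup.mem_normalizer_iff.mp hyn _).mp (Subgroup.inv_mem _ hza)
          have haa' := hA a ha a' hc
          have e : a * c * a⁻¹ * c⁻¹ =
              a' * ((a'⁻¹ * g * a'⁻¹⁻¹ * g⁻¹) * a * (a'⁻¹ * g * a'⁻¹⁻¹ * g⁻¹)⁻¹ * a⁻¹)⁻¹ * a'⁻¹ := by
            have hc' : c = g * a' * g⁻¹ := by rw [ha'def]; group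
            rw [hc']
            calc a * (g * a' * g⁻¹) * a⁻¹ * (g * a' * g⁻¹)⁻¹
                = (a * a') * (a'⁻¹ * g * a' * g⁻¹) * a⁻¹ * (a'⁻¹ * g * a' * g⁻¹)⁻¹ * a'⁻¹ := by
                  group
              _ = (a' * a) * (a'⁻¹ * g * a' * g⁻¹) * a⁻¹ * (a'⁻¹ * g * a' * g⁻¹)⁻¹ * a'⁻¹ := by
                  rw [haa']
              _ = a' * ((a'⁻¹ * g * a'⁻¹⁻¹ * g⁻¹) * a * (a'⁻¹ * g * a'⁻¹⁻¹ * g⁻¹)⁻¹ * a⁻¹)⁻¹
                    * a'⁻¹ := by group
          rw [e]; exact hconj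
        rcases hx with hx | hx <;> rcases hy with hy | hy
        · rw [hA x hx y hy]; simp
        · exact hca x hx y hy
        · have e : x * y * x⁻¹ * y⁻¹ = (y * x * y⁻¹ * x⁻¹)⁻¹ := by group
          rw [e]; exact Subgroup.inv_mem _ (hca y hy x hx)
        · rw [hC x hx y hy]; simp
  -- hence A ⊔ C is abelian
  have hab : ∀ x ∈ A ⊔ C, ∀ y ∈ A ⊔ C, x * y = y * x := by
    intro x hx y hy
    cases n with
    | zero =>
      rw [Subgroup.lowerCentralSeries_zero] at hXn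
      rw [hXn, Subgroup.mem_bot] at hx hy
      rw [hx, hy]
    | succ m =>
      have := key m x hx y hy
      rw [hXn, Subgroup.mem_bot] at this
      calc x * y = (x * y * x⁻¹ * y⁻¹) * y * x := by group
        _ = y * x := by rw [this, one_mul]
  obtain ⟨a, ha, ha1⟩ := exists_ne_one_of_ne_bot (left_ne_bot h)
  obtain ⟨c, hc, hc1⟩ := exists_ne_one_of_ne_bot (right_ne_bot h)
  exact hc1 (eq_one_of_commute_of_rankOne h hC ha ha1 hc
    (hab a (Subgroup.mem_sup_left ha) c (Subgroup.mem_sup_right hc)))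

end Cfsg.Agent.Lib.Helper23.RootDiag
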