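import Mathlib
import Cfsg.Agent.S5029
import Cfsg.Agent.S5030

/-!
Lines `A ⊔ B` (`B` a line partner of `A`) in a set of abstract root subgroups (helper23):
for a rank one partner `C` of `A`, some member `E ≠ A` of the line has `⁅E, C⁆ ∈ S`, and then
`⁅A, ⁅E, C⁆⁆ = E`; so `K = ⁅E, C⁆` normalizes the line, fixes `E` and is regular on the other members.
-/

set_option autoImplicit false
set_option linter.unusedVariables false
open Cfsg Cfsg.Agent.Lib.Helper5 Cfsg.Agent.Lib.Helper23 Cfsg.Agent.Lib.Helper23.RootDiag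
open Cfsg.Agent.S5030
open scoped commutatorElement

namespace Cfsg.Agent.Lib.Helper23.RootLine

variable {G : Type*} [Group G] {S : Set (Subgroup G)}

theorem comm_conjBy {H K : Subgroup G} (h : ∀ x ∈ H, ∀ y ∈ K, x * y = y * x) (g : G) :
    ∀ x ∈ Cfsg.conjBy H g, ∀ y ∈ Cfsg.conjBy K g, x * y = y * x := by
  intro x hx y hy
  rw [mem_conjBy_iff] at hx hy
  have := h _ hx _ hy
  calc x * y = g * ((g⁻¹ * x * g) * (g⁻¹ * y * g)) * g⁻¹ := by group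
    _ = g * ((g⁻¹ * y * g) * (g⁻¹ * x * g)) * g⁻¹ := by rw [this]
    _ = y * x := by group

theorem not_isolated_of_partner {A D : Subgroup G} (hA : A ∈ S) (hD : D ∈ S)
    (hAD : Cfsg.IsRankOnePair A D) : ¬ Cfsg.IsIsolatedIn (Cfsg.FAdj S) S A :=
  fun h => (h.2 D).1 ⟨hA, hD, hAD⟩

/-- (P1) In an abelian subgroup `N` partitioned by its members of `S`, no member other than `A`
commutes with a rank one partner `C` of `A`. -/
theorem not_comm_of_partition (hS : Cfsg.IsRootSubgroupSet S) {A C E N : Subgroup G}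
    (hpart : Cfsg.IsSubgroupPartition N (Cfsg.membersIn S N))
    (hNcomm : ∀ x ∈ N, ∀ y ∈ N, x * y = y * x)
    (hA : A ∈ S) (hAN : A ≤ N) (hE : E ∈ S) (hEN : E ≤ N) (hEA : E ≠ A) (hC : C ∈ S)
    (hAC : Cfsg.IsRankOnePair A C) : ⁅E, C⁆ ≠ ⊥ := by
  intro h
  obtain ⟨a, ha, ha1⟩ := exists_ne_one_of_ne_bot (hS.ne_bot A hA)
  obtain ⟨e, he, he1⟩ := exists_ne_one_of_ne_bot (hS.ne_bot E hE)
  have hAE0 : A ⊓ E = ⊥ := hpart.2.2 A ⟨hA, hAN⟩ E ⟨hE, hEN⟩ (Ne.symm hEA)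
  have hae1 : a * e ≠ 1 := by
    intro h1
    have h' : a = e⁻¹ := eq_inv_of_mul_eq_one_left h1
    have : a ∈ A ⊓ E := ⟨ha, by rw [h']; exact E.inv_mem he⟩
    rw [hAE0, Subgroup.mem_bot] at this
    exact ha1 this
  obtain ⟨F, ⟨hF, hFN⟩, haeF⟩ := hpart.2.1 (a * e) (N.mul_mem (hAN ha) (hEN he)) hae1
  have hFA : F ≠ A := by
    intro hh
    rw [hh] at haeF
    have he' : e ∈ A := by
      have := A.mul_mem (A.inv_mem ha) haeF
      rwa [inv_mul_cancel_left] at this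
    have : e ∈ A ⊓ E := ⟨he', he⟩
    rw [hAE0, Subgroup.mem_bot] at this
    exact he1 this
  exact no_diag hS hA hC hF hAC hFA (fun x hx y hy => hNcomm x (hFN hx) y (hAN hy)) ha ha1
    (fun y hy => hNcomm e (hEN he) y (hAN hy)) (fun y hy => comm_of_commutator_eq_bot h he hy) haeF


/-- a member commuting elementwise with a nonidentity element of another... the commutator case is
impossible if a nonidentity `f ∈ F` commutes with all of `L`. -/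
theorem comm_of_elem_comm (hS : Cfsg.IsRootSubgroupSet S) {F L : Subgroup G} (hF : F ∈ S)
    (hL : L ∈ S) {f : G} (hf : f ∈ F) (hf1 : f ≠ 1) (hfl : ∀ l ∈ L, f * l = l * f) :
    ∀ x ∈ F, ∀ y ∈ L, x * y = y * x := by
  have hLc := comm_of_mem hS hL
  rcases hS.pair F hF L hL with h | h | h
  · exact fun x hx y hy => comm_of_commutator_eq_bot h hx hy
  · exfalso
    obtain ⟨l, hl, hl1⟩ := exists_ne_one_of_ne_bot (hS.ne_bot L hL)
    exact hl1 (eq_one_of_commute_of_rankOne h hLc hf hf1 hl (hfl l hl))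
  · exfalso
    apply hS.ne_bot _ h.1
    rw [← h.2.2.1 f hf hf1, Subgroup.closure_eq_bot_iff]
    rintro _ ⟨l, hl, rfl⟩
    rw [Set.mem_singleton_iff]
    exact comm_one (hfl l hl)

/-- (P3) `⁅A, ⁅E, C⁆⁆ = E` for `E` on a line through `A`, `C` a rank one partner of `A` with
`⁅E, C⁆ ∈ S`. -/
theorem commutator_commutator_eq (hS : Cfsg.IsRootSubgroupSet S) {A E C F D : Subgroup G}
    (hA : A ∈ S) (hE : E ∈ S) (hC : C ∈ S) (hF : F ∈ S) (hD : D ∈ S)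
    (hED : Cfsg.IsRankOnePair E D) (hAE : ∀ x ∈ A, ∀ y ∈ E, x * y = y * x)
    (hAC : Cfsg.IsRankOnePair A C) (hK : ⁅E, C⁆ ∈ S)
    {a e : G} (ha : a ∈ A) (ha1 : a ≠ 1) (he : e ∈ E) (he1 : e ≠ 1) (hae : a * e ∈ F)
    (hFA : ∀ x ∈ F, ∀ y ∈ A, x * y = y * x) : ⁅A, ⁅E, C⁆⁆ = E := by
  have hAc := comm_of_mem hS hA
  have hEc := comm_of_mem hS hE
  have hCc := comm_of_mem hS hC
  have hKcomm := comm_of_mem hS hK
  have hKc : Cfsg.RootCommutatorCase S E C := commutatorCase_of_mem hS hE hC hK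
  have cKE : ∀ k ∈ ⁅E, C⁆, ∀ x ∈ E, k * x = x * k := fun k hk x hx =>
    hKc.2.1 k hk x (Subgroup.mem_sup_left hx)
  have cKC : ∀ k ∈ ⁅E, C⁆, ∀ x ∈ C, k * x = x * k := fun k hk x hx =>
    hKc.2.1 k hk x (Subgroup.mem_sup_right hx)
  have hEni : ¬ Cfsg.IsIsolatedIn (Cfsg.FAdj S) S E := not_isolated_of_partner hE hD hED
  have hAni : ¬ Cfsg.IsIsolatedIn (Cfsg.FAdj S) S A := not_isolated_of_partner hA hC hAC
  obtain ⟨_, _, hEline, _⟩ := Cfsg.Agent.S5029.result hS hEni hE hC hK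
  -- `A ⊓ E = ⊥`
  have hAEne : A ≠ E := by
    intro h
    rw [← h] at hK
    exact commutator_not_mem_of_rankOne hS hA hAC hK
  have hAE0 : A ⊓ E = ⊥ := by
    rcases inf_eq_bot_or_eq_of_rankOne hS hC hAC E hE with h | h
    · exact h
    · exact absurd h hAEne
  -- Step 1: `L = ⁅A, K⁆ ∈ S`
  have hL : ⁅A, ⁅E, C⁆⁆ ∈ S := by
    rcases hS.pair A hA _ hK with h | h | h
    · exfalso
      apply hS.ne_bot _ hK
      apply commutator_eq_bot_of_comm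
      intro x hx y hy
      obtain ⟨c, hc, hc1⟩ := exists_ne_one_of_ne_bot (hS.ne_bot C hC)
      obtain ⟨a₁, ha₁, _, e1⟩ := hAC.cond_right c hc hc1
      -- w = a₁⁻¹ y a₁ ∈ conjBy C a₁⁻¹ = conjBy A c⁻¹
      have hw : a₁⁻¹ * y * a₁ ∈ Cfsg.conjBy A c⁻¹ := by
        rw [← e1, mem_conjBy_iff]
        have : a₁⁻¹⁻¹ * (a₁⁻¹ * y * a₁) * a₁⁻¹ = y := by group
        rw [this]; exact hy
      rw [mem_conjBy_iff, inv_inv] at hw
      -- c x c⁻¹ ∈ conjBy E c ≤ E ⊔ K, which A centralizes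
      have hx' : c * x * c⁻¹ ∈ E ⊔ ⁅E, C⁆ := by
        apply conjBy_le_sup_commutator hc
        rw [mem_conjBy_iff]
        have : c⁻¹ * (c * x * c⁻¹) * c = x := by group
        rw [this]; exact hx
      have hcomm : ∀ v ∈ A, ∀ u ∈ E ⊔ ⁅E, C⁆, v * u = u * v := fun v hv =>
        comm_of_mem_sup (hAE v hv) (fun k hk => comm_of_commutator_eq_bot h hv hk)
      have h1 := hcomm _ hw _ hx'
      have h2 : (a₁⁻¹ * y * a₁) * x = x * (a₁⁻¹ * y * a₁) := by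
        have e2 : c * (a₁⁻¹ * y * a₁) * c⁻¹ * (c * x * c⁻¹) = c * ((a₁⁻¹ * y * a₁) * x) * c⁻¹ := by
          group
        have e3 : c * x * c⁻¹ * (c * (a₁⁻¹ * y * a₁) * c⁻¹) = c * (x * (a₁⁻¹ * y * a₁)) * c⁻¹ := by
          group
        rw [e2, e3] at h1
        exact mul_left_cancel (mul_right_cancel h1)
      have h3 := hAE a₁ ha₁ x hx
      have h3' : a₁⁻¹ * x = x * a₁⁻¹ := by
        calc a₁⁻¹ * x = a₁⁻¹ * (x * a₁) * a₁⁻¹ := by group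
          _ = a₁⁻¹ * (a₁ * x) * a₁⁻¹ := by rw [h3]
          _ = x * a₁⁻¹ := by group
      calc x * y = a₁ * (a₁⁻¹ * x) * y := by group
        _ = a₁ * (x * a₁⁻¹) * y := by rw [h3']
        _ = a₁ * (x * (a₁⁻¹ * y * a₁)) * a₁⁻¹ := by group
        _ = a₁ * ((a₁⁻¹ * y * a₁) * x) * a₁⁻¹ := by rw [h2]
        _ = y * (a₁ * x) * a₁⁻¹ := by group
        _ = y * (x * a₁) * a₁⁻¹ := by rw [h3]
        _ = y * x := by group
    · exfalso
      obtain ⟨k, hk, hk1⟩ := exists_ne_one_of_ne_bot (hS.ne_bot _ hK)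
      obtain ⟨⟨_, hEK, hKEcomm⟩, hpart⟩ := hEline
      have hKE0 : ⁅E, C⁆ ⊓ E = ⊥ :=
        hpart.2.2 _ ⟨hK, le_sup_left⟩ E ⟨hE, le_sup_right⟩ (Ne.symm hEK)
      have hke1 : k * e ≠ 1 := by
        intro h1
        have h' : k = e⁻¹ := eq_inv_of_mul_eq_one_left h1
        have : k ∈ ⁅E, C⁆ ⊓ E := ⟨hk, by rw [h']; exact E.inv_mem he⟩
        rw [hKE0, Subgroup.mem_bot] at this
        exact hk1 this
      obtain ⟨F'', ⟨hF'', hF''N⟩, hkeF⟩ := hpart.2.1 (k * e)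
        (Subgroup.mul_mem _ (Subgroup.mem_sup_left hk) (Subgroup.mem_sup_right he)) hke1
      have hNcomm := sup_comm_of hKcomm hEc (fun x hx y hy => cKE x hx y hy)
      have hF''K : F'' ≠ ⁅E, C⁆ := by
        intro hh
        rw [hh] at hkeF
        have he' : e ∈ ⁅E, C⁆ := by
          have := Subgroup.mul_mem _ (Subgroup.inv_mem _ hk) hkeF
          rwa [inv_mul_cancel_left] at this
        have : e ∈ ⁅E, C⁆ ⊓ E := ⟨he', he⟩
        rw [hKE0, Subgroup.mem_bot] at this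
        exact he1 this
      exact no_diag hS hK hA hF'' (Cfsg.RankOnePair_symm h) hF''K
        (fun x hx y hy => hNcomm x (hF''N hx) y (Subgroup.mem_sup_left hy)) hk hk1
        (fun y hy => (cKE y hy e he).symm) (fun y hy => (hAE y hy e he).symm) hkeF
    · exact h.1
  have hLc : Cfsg.RootCommutatorCase S A ⁅E, C⁆ := commutatorCase_of_mem hS hA hK hL
  have cLA : ∀ l ∈ ⁅A, ⁅E, C⁆⁆, ∀ x ∈ A, l * x = x * l := fun l hl x hx =>
    hLc.2.1 l hl x (Subgroup.mem_sup_left hx)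
  have cLK : ∀ l ∈ ⁅A, ⁅E, C⁆⁆, ∀ x ∈ ⁅E, C⁆, l * x = x * l := fun l hl x hx =>
    hLc.2.1 l hl x (Subgroup.mem_sup_right hx)
  have hAL0 : A ⊓ ⁅A, ⁅E, C⁆⁆ = ⊥ := inf_commutator_eq_bot hS hC hAC hLc
  obtain ⟨hmem, hpartAL, _, _⟩ := Cfsg.Agent.S5029.result hS hAni hA hK hL
  by_contra hEL
  -- `e` commutes with `L`
  have ceL : ∀ l ∈ ⁅A, ⁅E, C⁆⁆, e * l = l * e := by
    apply comm_commutator_of_gens
    intro p hp q hq
    have c1 : Commute e p := (hAE p hp e he).symm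
    have c2 : Commute e q := (cKE q hq e he).symm
    exact (((c1.mul_right c2).mul_right c1.inv_right).mul_right c2.inv_right).eq
  -- Step 3: the element `z`
  obtain ⟨c, hc, hc1, e1⟩ := hAC.cond_left a ha ha1
  obtain ⟨κ, hκdef⟩ : ∃ κ, κ = e⁻¹ * c⁻¹ * e * c := ⟨_, rfl⟩
  obtain ⟨lam, hlamdef⟩ : ∃ lam, lam = κ⁻¹ * a * κ * a⁻¹ := ⟨_, rfl⟩
  have hκ : κ ∈ ⁅E, C⁆ := by
    have := Subgroup.commutator_mem_commutator (E.inv_mem he) (C.inv_mem hc)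
    rw [commutatorElement_def, inv_inv, inv_inv] at this
    rw [hκdef]; exact this
  have hlam : lam ∈ ⁅A, ⁅E, C⁆⁆ := by
    have := Subgroup.commutator_mem_commutator (Subgroup.inv_mem _ hκ) ha
    rw [commutatorElement_def, inv_inv, Subgroup.commutator_comm] at this
    rw [hlamdef]; exact this
  -- `C = conjBy A (a c⁻¹)`
  have hCeq : C = Cfsg.conjBy A (a * c⁻¹) := by
    have := congrArg (fun X => Cfsg.conjBy X a) e1
    simp only [conjBy_conjBy, mul_inv_cancel, conjBy_one] at this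
    exact this.symm
  have hP : ∀ y ∈ C, ((a * c⁻¹) * e * (a * c⁻¹)⁻¹) * y = y * ((a * c⁻¹) * e * (a * c⁻¹)⁻¹) := by
    intro y hy
    rw [hCeq, mem_conjBy_iff] at hy
    have := hAE _ hy e he
    calc ((a * c⁻¹) * e * (a * c⁻¹)⁻¹) * y
        = (a * c⁻¹) * (e * ((a * c⁻¹)⁻¹ * y * (a * c⁻¹))) * (a * c⁻¹)⁻¹ := by group
      _ = (a * c⁻¹) * (((a * c⁻¹)⁻¹ * y * (a * c⁻¹)) * e) * (a * c⁻¹)⁻¹ := by rw [this]
      _ = y * ((a * c⁻¹) * e * (a * c⁻¹)⁻¹) := by group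
  have hae' : a * e = e * a := hAE a ha e he
  have hκe : κ * e = e * κ := cKE κ hκ e he
  have hκlam : κ * lam = lam * κ := (cLK lam hlam κ hκ).symm
  have helam : e * lam = lam * e := ceL lam hlam
  have hPeq : (a * c⁻¹) * e * (a * c⁻¹)⁻¹ = (lam * e) * κ := by
    have e2 : (a * c⁻¹) * e * (a * c⁻¹)⁻¹ = a * (e * (e⁻¹ * c⁻¹ * e * c)) * a⁻¹ := by group
    rw [e2, ← hκdef]
    calc a * (e * κ) * a⁻¹ = (a * e) * κ * a⁻¹ := by group
      _ = (e * a) * κ * a⁻¹ := by rw [hae']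
      _ = e * κ * (κ⁻¹ * a * κ * a⁻¹) := by group
      _ = e * (κ * lam) := by rw [← hlamdef]; group
      _ = e * (lam * κ) := by rw [hκlam]
      _ = (e * lam) * κ := by group
      _ = (lam * e) * κ := by rw [helam]
  have hzC : ∀ y ∈ C, (lam * e) * y = y * (lam * e) := by
    intro y hy
    have h1 := hP y hy
    rw [hPeq] at h1
    have h2 := cKC κ hκ y hy
    have c1 : Commute ((lam * e) * κ) y := h1
    have c2 : Commute κ y := h2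
    have : Commute ((lam * e) * κ * κ⁻¹) y := c1.mul_left c2.inv_left
    rw [mul_inv_cancel_right] at this
    exact this.eq
  have hzA : ∀ y ∈ A, (lam * e) * y = y * (lam * e) := by
    intro y hy
    have c1 : Commute lam y := cLA lam hlam y hy
    have c2 : Commute e y := (hAE y hy e he).symm
    exact (c1.mul_left c2).eq
  have hzK : ∀ y ∈ ⁅E, C⁆, (lam * e) * y = y * (lam * e) := by
    intro y hy
    have c1 : Commute lam y := cLK lam hlam y hy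
    have c2 : Commute e y := (cKE y hy e he).symm
    exact (c1.mul_left c2).eq
  -- `u = a lam⁻¹`
  have hu1 : a * lam⁻¹ ≠ 1 := by
    intro h1
    have h' : a = lam := by
      have := eq_inv_of_mul_eq_one_left h1
      rwa [inv_inv] at this
    have : a ∈ A ⊓ ⁅A, ⁅E, C⁆⁆ := ⟨ha, by rw [h']; exact hlam⟩
    rw [hAL0, Subgroup.mem_bot] at this
    exact ha1 this
  have huAL : a * lam⁻¹ ∈ A ⊔ ⁅A, ⁅E, C⁆⁆ :=
    Subgroup.mul_mem _ (Subgroup.mem_sup_left ha) (Subgroup.mem_sup_right (Subgroup.inv_mem _ hlam))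
  obtain ⟨M, hM, huM⟩ := hpartAL.2.1 _ huAL hu1
  rw [hmem] at hM
  rcases hM with ⟨k, hk, rfl⟩ | hM
  swap
  · rw [Set.mem_singleton_iff] at hM
    rw [hM] at huM
    have : a ∈ A ⊓ ⁅A, ⁅E, C⁆⁆ := by
      refine ⟨ha, ?_⟩
      have := Subgroup.mul_mem _ huM hlam
      rwa [inv_mul_cancel_right] at this
    rw [hAL0, Subgroup.mem_bot] at this
    exact ha1 this
  have hk' : k ∈ ⁅E, C⁆ := hk
  have huM' : k⁻¹ * (a * lam⁻¹) * k ∈ A := by
    have := huM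
    rw [mem_conjBy_iff] at this
    exact this
  have ha'1 : k⁻¹ * (a * lam⁻¹) * k ≠ 1 := by
    intro h1
    apply hu1
    calc a * lam⁻¹ = k * (k⁻¹ * (a * lam⁻¹) * k) * k⁻¹ := by group
      _ = 1 := by rw [h1]; group
  -- `F` commutes with `L`
  have haeL : ∀ l ∈ ⁅A, ⁅E, C⁆⁆, (a * e) * l = l * (a * e) := by
    intro l hl
    have c1 : Commute a l := (cLA l hl a ha).symm
    have c2 : Commute e l := ceL l hl
    exact (c1.mul_left c2).eq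
  have hae1 : a * e ≠ 1 := by
    intro h1
    have h' : a = e⁻¹ := eq_inv_of_mul_eq_one_left h1
    have : a ∈ A ⊓ E := ⟨ha, by rw [h']; exact E.inv_mem he⟩
    rw [hAE0, Subgroup.mem_bot] at this
    exact ha1 this
  have hFL := comm_of_elem_comm hS hF hL hae hae1 haeL
  -- `F' = conjBy F k⁻¹`
  have hF'S : Cfsg.conjBy F k⁻¹ ∈ S := hS.conj_mem F hF k⁻¹
  have hF'comm : ∀ x ∈ Cfsg.conjBy F k⁻¹, ∀ y ∈ A, x * y = y * x := by
    intro x hx y hy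
    rw [mem_conjBy_iff, inv_inv] at hx
    have hy' : k * y * k⁻¹ ∈ A ⊔ ⁅A, ⁅E, C⁆⁆ := by
      apply conjBy_le_sup_commutator hk'
      rw [mem_conjBy_iff]
      have : k⁻¹ * (k * y * k⁻¹) * k = y := by group
      rw [this]; exact hy
    have h1 := comm_of_mem_sup (hFA _ hx) (hFL _ hx) _ hy'
    have e2 : k * x * k⁻¹ * (k * y * k⁻¹) = k * (x * y) * k⁻¹ := by group
    have e3 : k * y * k⁻¹ * (k * x * k⁻¹) = k * (y * x) * k⁻¹ := by group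
    rw [e2, e3] at h1
    exact mul_left_cancel (mul_right_cancel h1)
  have hF'mem : (k⁻¹ * (a * lam⁻¹) * k) * (lam * e) ∈ Cfsg.conjBy F k⁻¹ := by
    rw [mem_conjBy_iff, inv_inv]
    have hzk := hzK k hk'
    have : k * ((k⁻¹ * (a * lam⁻¹) * k) * (lam * e)) * k⁻¹ = a * e := by
      calc k * ((k⁻¹ * (a * lam⁻¹) * k) * (lam * e)) * k⁻¹
          = (a * lam⁻¹) * (k * (lam * e)) * k⁻¹ := by group
        _ = (a * lam⁻¹) * ((lam * e) * k) * k⁻¹ := by rw [hzk]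
        _ = a * e := by group
    rw [this]; exact hae
  have hF'A : Cfsg.conjBy F k⁻¹ ≠ A := by
    intro hh
    have hFeq : F = Cfsg.conjBy A k := by
      have := congrArg (fun X => Cfsg.conjBy X k) hh
      simp only [conjBy_conjBy, mul_inv_cancel, conjBy_one] at this
      exact this
    have haeAL : a * e ∈ A ⊔ ⁅A, ⁅E, C⁆⁆ := by
      apply conjBy_le_sup_commutator hk'
      rw [← hFeq]; exact hae
    have heAL : e ∈ A ⊔ ⁅A, ⁅E, C⁆⁆ := by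
      have := Subgroup.mul_mem _ (Subgroup.inv_mem _ (Subgroup.mem_sup_left ha :
        a ∈ A ⊔ ⁅A, ⁅E, C⁆⁆)) haeAL
      rwa [inv_mul_cancel_left] at this
    obtain ⟨M', hM', heM'⟩ := hpartAL.2.1 _ heAL he1
    have hEM' : E = M' := by
      rcases inf_eq_bot_or_eq_of_rankOne hS hD hED M' hM'.1 with h | h
      · exfalso
        have : e ∈ E ⊓ M' := ⟨he, heM'⟩
        rw [h, Subgroup.mem_bot] at this
        exact he1 this
      · exact h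
    rw [hmem] at hM'
    rcases hM' with ⟨k₂, hk₂, rfl⟩ | hM'
    · -- E = conjBy A k₂ commutes with K, so A commutes with K
      have hk₂' : k₂ ∈ ⁅E, C⁆ := hk₂
      apply hS.ne_bot _ hL
      apply commutator_eq_bot_of_comm
      intro y hy k₁ hk₁
      have hyE : k₂ * y * k₂⁻¹ ∈ E := by
        rw [hEM', mem_conjBy_iff]
        have : k₂⁻¹ * (k₂ * y * k₂⁻¹) * k₂ = y := by group
        rw [this]; exact hy
      have h1 := cKE k₁ hk₁ _ hyE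
      have h2 := hKcomm k₂ hk₂' k₁ hk₁
      have h2' : k₂⁻¹ * k₁ = k₁ * k₂⁻¹ := by
        calc k₂⁻¹ * k₁ = k₂⁻¹ * (k₁ * k₂) * k₂⁻¹ := by group
          _ = k₂⁻¹ * (k₂ * k₁) * k₂⁻¹ := by rw [h2]
          _ = k₁ * k₂⁻¹ := by group
      calc y * k₁ = y * ((k₁ * k₂⁻¹) * k₂) := by group
        _ = y * ((k₂⁻¹ * k₁) * k₂) := by rw [h2']
        _ = k₂⁻¹ * ((k₂ * y * k₂⁻¹) * k₁) * k₂ := by group
        _ = k₂⁻¹ * (k₁ * (k₂ * y * k₂⁻¹)) * k₂ := by rw [← h1]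
        _ = (k₂⁻¹ * k₁) * k₂ * y := by group
        _ = (k₁ * k₂⁻¹) * k₂ * y := by rw [h2']
        _ = k₁ * y := by group
    · rw [Set.mem_singleton_iff] at hM'
      exact hEL (hEM'.trans hM').symm
  exact no_diag hS hA hC hF'S hAC hF'A hF'comm huM' ha'1 hzA hzC hF'mem


/-- data of a line: abelian, partitioned -/
theorem line_comm (hS : Cfsg.IsRootSubgroupSet S) {A B : Subgroup G} (hA : A ∈ S)
    (hB : B ∈ Cfsg.linePartners S A) : ∀ x ∈ A ⊔ B, ∀ y ∈ A ⊔ B, x * y = y * x :=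
  sup_comm_of (comm_of_mem hS hA) (comm_of_mem hS hB.1.1)
    (fun x hx y hy => comm_of_commutator_eq_bot hB.1.2.2 hx hy)

/-- (P2) Some member `E ≠ A` of the line `A ⊔ B` has `⁅E, C⁆ ∈ S`, for `C` a rank one partner of `A`;
moreover `A ⊔ E` contains a nonidentity element of `B`. -/
theorem exists_commutator_member (hS : Cfsg.IsRootSubgroupSet S) {A B C : Subgroup G} (hA : A ∈ S)
    (hB : B ∈ Cfsg.linePartners S A) (hC : C ∈ S) (hAC : Cfsg.IsRankOnePair A C) :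
    ∃ E ∈ Cfsg.membersIn S (A ⊔ B), E ≠ A ∧ ⁅E, C⁆ ∈ S ∧ ∃ b ∈ B, b ≠ 1 ∧ b ∈ A ⊔ E := by
  have hNcomm := line_comm hS hA hB
  obtain ⟨⟨hBS, hBA, hcomm⟩, hpart⟩ := hB
  have hP1 : ∀ E ∈ Cfsg.membersIn S (A ⊔ B), E ≠ A → ⁅E, C⁆ ≠ ⊥ := fun E hE hEA =>
    not_comm_of_partition hS hpart hNcomm hA le_sup_left hE.1 hE.2 hEA hC hAC
  have hAB0 : A ⊓ B = ⊥ := hpart.2.2 A ⟨hA, le_sup_left⟩ B ⟨hBS, le_sup_right⟩ (Ne.symm hBA)
  rcases hS.pair B hBS C hC with h | hBC | h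
  · exact absurd h (hP1 B ⟨hBS, le_sup_right⟩ hBA)
  · obtain ⟨c, hc, hc1⟩ := exists_ne_one_of_ne_bot (hS.ne_bot C hC)
    obtain ⟨a, ha, ha1, e1⟩ := hAC.cond_right c hc hc1
    obtain ⟨b, hb, hb1, e2⟩ := hBC.cond_right c hc hc1
    have hf1 : b * a⁻¹ ≠ 1 := by
      intro h1
      have h' : b = a := by
        have := eq_inv_of_mul_eq_one_left h1
        rwa [inv_inv] at this
      have : a ∈ A ⊓ B := ⟨ha, by rw [← h']; exact hb⟩
      rw [hAB0, Subgroup.mem_bot] at this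
      exact ha1 this
    have hfN : b * a⁻¹ ∈ A ⊔ B :=
      Subgroup.mul_mem _ (Subgroup.mem_sup_right hb) (Subgroup.inv_mem _ (Subgroup.mem_sup_left ha))
    obtain ⟨F, hF, hfF⟩ := hpart.2.1 _ hfN hf1
    have hFA : F ≠ A := by
      intro hh
      rw [hh] at hfF
      have hb' : b ∈ A := by
        have := A.mul_mem hfF ha
        rwa [inv_mul_cancel_right] at this
      have : b ∈ A ⊓ B := ⟨hb', hb⟩
      rw [hAB0, Subgroup.mem_bot] at this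
      exact hb1 this
    have hFC : ⁅F, C⁆ ∈ S := by
      rcases hS.pair F hF.1 C hC with h | h | h
      · exact absurd h (hP1 F hF hFA)
      · exfalso
        have h1 := conjBy_right_inf_normalizer h hfF hf1
        -- conjBy C f commutes with C
        have h2 : Cfsg.conjBy C (b * a⁻¹) ≤ Subgroup.centralizer (C : Set G) := by
          have e3 : Cfsg.conjBy C (b * a⁻¹) = Cfsg.conjBy (Cfsg.conjBy A c⁻¹) b := by
            rw [← e1, conjBy_conjBy]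
          have e4 : C = Cfsg.conjBy (Cfsg.conjBy B c⁻¹) b := by
            rw [← e2, conjBy_conjBy, mul_inv_cancel, conjBy_one]
          have hcc := comm_conjBy (comm_conjBy
            (fun x hx y hy => comm_of_commutator_eq_bot hcomm hx hy) c⁻¹) b
          rw [← e3, ← e4] at hcc
          intro x hx
          rw [Subgroup.mem_centralizer_iff]
          intro y hy
          exact (hcc x hx y hy).symm
        have h3 : Cfsg.conjBy C (b * a⁻¹) = ⊥ := by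
          rw [eq_bot_iff, ← h1]
          exact le_inf le_rfl (le_trans h2 (Subgroup.centralizer_le_normalizer (C : Set G)))
        exact hS.ne_bot _ (hS.conj_mem C hC _) h3
      · exact h.1
    refine ⟨F, hF, hFA, hFC, b, hb, hb1, ?_⟩
    have : b = (b * a⁻¹) * a := by group
    rw [this]
    exact Subgroup.mul_mem _ (Subgroup.mem_sup_right hfF) (Subgroup.mem_sup_left ha)
  · obtain ⟨b, hb, hb1⟩ := exists_ne_one_of_ne_bot (hS.ne_bot B hBS)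
    exact ⟨B, ⟨hBS, le_sup_right⟩, hBA, h.1, b, hb, hb1, Subgroup.mem_sup_right hb⟩

/-- (half) On a line `A ⊔ B` there are a member `E ≠ A` and `K ∈ S` with `⁅A, K⁆ = E`, `K`
centralizing `E`, the members of the line being the `K`-conjugates of `A` together with `E`. -/
theorem exists_transitive_member_of (hS : Cfsg.IsRootSubgroupSet S)
    (hpartner : ∀ A ∈ S, ∃ D ∈ S, Cfsg.IsRankOnePair A D) {A B C : Subgroup G} (hA : A ∈ S)
    (hB : B ∈ Cfsg.linePartners S A) (hC : C ∈ S) (hAC : Cfsg.IsRankOnePair A C) :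
    ∃ E K : Subgroup G, E ∈ S ∧ K ∈ S ∧ E ≠ A ∧ A ⊔ E = A ⊔ B ∧ ⁅A, K⁆ = E ∧
      (∀ k ∈ K, ∀ x ∈ E, k * x = x * k) ∧
      Cfsg.membersIn S (A ⊔ B) = (fun k : G => Cfsg.conjBy A k) '' (K : Set G) ∪ {E} ∧
      (∀ k ∈ K, Cfsg.conjBy A k = A → k = 1) ∧ K = ⁅E, C⁆ := by
  obtain ⟨E, hE, hEA, hK, b, hb, hb1, hbAE⟩ := exists_commutator_member hS hA hB hC hAC
  obtain ⟨D, hD, hED⟩ := hpartner E hE.1
  have hNcomm := line_comm hS hA hB
  have hB' := hB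
  obtain ⟨⟨hBS, hBA, hcomm⟩, hpart⟩ := hB
  obtain ⟨DB, hDB, hBDB⟩ := hpartner B hBS
  have hAE0 : A ⊓ E = ⊥ := hpart.2.2 A ⟨hA, le_sup_left⟩ E hE (Ne.symm hEA)
  obtain ⟨a, ha, ha1⟩ := exists_ne_one_of_ne_bot (hS.ne_bot A hA)
  obtain ⟨e, he, he1⟩ := exists_ne_one_of_ne_bot (hS.ne_bot E hE.1)
  have hae1 : a * e ≠ 1 := by
    intro h1
    have h' : a = e⁻¹ := eq_inv_of_mul_eq_one_left h1
    have : a ∈ A ⊓ E := ⟨ha, by rw [h']; exact E.inv_mem he⟩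
    rw [hAE0, Subgroup.mem_bot] at this
    exact ha1 this
  obtain ⟨F, hF, haeF⟩ := hpart.2.1 (a * e)
    (Subgroup.mul_mem _ (Subgroup.mem_sup_left ha) (hE.2 he)) hae1
  have hAEcomm : ∀ x ∈ A, ∀ y ∈ E, x * y = y * x := fun x hx y hy =>
    hNcomm x (Subgroup.mem_sup_left hx) y (hE.2 hy)
  have hkey : ⁅A, ⁅E, C⁆⁆ = E :=
    commutator_commutator_eq hS hA hE.1 hC hF.1 hD hED hAEcomm hAC hK ha ha1 he he1 haeF
      (fun x hx y hy => hNcomm x (hF.2 hx) y (Subgroup.mem_sup_left hy))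
  have hL : ⁅A, ⁅E, C⁆⁆ ∈ S := by rw [hkey]; exact hE.1
  have hLc : Cfsg.RootCommutatorCase S A ⁅E, C⁆ := commutatorCase_of_mem hS hA hK hL
  have hKc : Cfsg.RootCommutatorCase S E C := commutatorCase_of_mem hS hE.1 hC hK
  obtain ⟨hmem, hpartAL, _, _⟩ :=
    Cfsg.Agent.S5029.result hS (not_isolated_of_partner hA hC hAC) hA hK hL
  rw [hkey] at hmem hpartAL
  -- `B ≤ A ⊔ E`
  obtain ⟨M, hM, hbM⟩ := hpartAL.2.1 b hbAE hb1
  have hBM : B = M := by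
    rcases inf_eq_bot_or_eq_of_rankOne hS hDB hBDB M hM.1 with h | h
    · exfalso
      have : b ∈ B ⊓ M := ⟨hb, hbM⟩
      rw [h, Subgroup.mem_bot] at this
      exact hb1 this
    · exact h
  have hBle : B ≤ A ⊔ E := by rw [hBM]; exact hM.2
  have hsup : A ⊔ E = A ⊔ B :=
    le_antisymm (sup_le le_sup_left hE.2) (sup_le le_sup_left hBle)
  refine ⟨E, ⁅E, C⁆, hE.1, hK, hEA, hsup, hkey, ?_, ?_, ?_, rfl⟩
  · intro k hk x hx
    exact hKc.2.1 k hk x (Subgroup.mem_sup_left hx)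
  · rw [← hsup]; exact hmem
  · intro k hk hkA
    exact eq_one_of_conjBy_eq_self hS hC hAC hLc hk hkA

theorem exists_transitive_member (hS : Cfsg.IsRootSubgroupSet S)
    (hpartner : ∀ A ∈ S, ∃ D ∈ S, Cfsg.IsRankOnePair A D) {A B : Subgroup G} (hA : A ∈ S)
    (hB : B ∈ Cfsg.linePartners S A) :
    ∃ E K : Subgroup G, E ∈ S ∧ K ∈ S ∧ E ≠ A ∧ A ⊔ E = A ⊔ B ∧ ⁅A, K⁆ = E ∧
      (∀ k ∈ K, ∀ x ∈ E, k * x = x * k) ∧
      Cfsg.membersIn S (A ⊔ B) = (fun k : G => Cfsg.conjBy A k) '' (K : Set G) ∪ {E} ∧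
      (∀ k ∈ K, Cfsg.conjBy A k = A → k = 1) := by
  obtain ⟨C, hC, hAC⟩ := hpartner A hA
  obtain ⟨E, K, h1, h2, h3, h4, h5, h6, h7, h8, _⟩ :=
    exists_transitive_member_of hS hpartner hA hB hC hAC
  exact ⟨E, K, h1, h2, h3, h4, h5, h6, h7, h8⟩

/-- line partners are preserved by conjugation -/
theorem linePartners_conjBy (hS : Cfsg.IsRootSubgroupSet S) {A B : Subgroup G}
    (hB : B ∈ Cfsg.linePartners S A) (g : G) :
    Cfsg.conjBy B g ∈ Cfsg.linePartners S (Cfsg.conjBy A g) := by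
  obtain ⟨⟨hBS, hBA, hcomm⟩, hpart⟩ := hB
  refine ⟨⟨hS.conj_mem B hBS g, fun h => hBA (conjBy_injective g h), ?_⟩, ?_⟩
  · apply commutator_eq_bot_of_comm
    exact comm_conjBy (fun x hx y hy => comm_of_commutator_eq_bot hcomm hx hy) g
  · have hsup : Cfsg.conjBy A g ⊔ Cfsg.conjBy B g = Cfsg.conjBy (A ⊔ B) g :=
      (Subgroup.map_sup A B _).symm
    rw [hsup]
    refine ⟨fun M hM => hM.2, ?_, ?_⟩
    · intro x hx hx1
      rw [mem_conjBy_iff] at hx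
      have hx1' : g⁻¹ * x * g ≠ 1 := by
        intro h1
        apply hx1
        calc x = g * (g⁻¹ * x * g) * g⁻¹ := by group
          _ = 1 := by rw [h1]; group
      obtain ⟨M₀, hM₀, hxM₀⟩ := hpart.2.1 _ hx hx1'
      refine ⟨Cfsg.conjBy M₀ g, ⟨hS.conj_mem M₀ hM₀.1 g, conjBy_mono hM₀.2 g⟩, ?_⟩
      rw [mem_conjBy_iff]; exact hxM₀
    · intro M₁ hM₁ M₂ hM₂ hne
      have h1 : Cfsg.conjBy M₁ g⁻¹ ∈ Cfsg.membersIn S (A ⊔ B) := by
        refine ⟨hS.conj_mem M₁ hM₁.1 g⁻¹, ?_⟩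
        have := conjBy_mono hM₁.2 g⁻¹
        rwa [conjBy_conjBy, inv_mul_cancel, conjBy_one] at this
      have h2 : Cfsg.conjBy M₂ g⁻¹ ∈ Cfsg.membersIn S (A ⊔ B) := by
        refine ⟨hS.conj_mem M₂ hM₂.1 g⁻¹, ?_⟩
        have := conjBy_mono hM₂.2 g⁻¹
        rwa [conjBy_conjBy, inv_mul_cancel, conjBy_one] at this
      have h3 := hpart.2.2 _ h1 _ h2 (fun h => hne (conjBy_injective g⁻¹ h))
      rw [eq_bot_iff]
      intro x hx
      rw [Subgroup.mem_bot]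
      have key : ∀ M : Subgroup G, x ∈ M → g⁻¹ * x * g ∈ Cfsg.conjBy M g⁻¹ := by
        intro M hxM
        rw [mem_conjBy_iff]
        have : g⁻¹⁻¹ * (g⁻¹ * x * g) * g⁻¹ = x := by group
        rw [this]; exact hxM
      have hx' : g⁻¹ * x * g ∈ Cfsg.conjBy M₁ g⁻¹ ⊓ Cfsg.conjBy M₂ g⁻¹ :=
        ⟨key M₁ hx.1, key M₂ hx.2⟩
      rw [h3, Subgroup.mem_bot] at hx'
      calc x = g * (g⁻¹ * x * g) * g⁻¹ := by group
        _ = 1 := by rw [hx']; group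


/-- Quadratic module criterion for the special relation: `A` centralizes `E`, `B` centralizes `K`,
`⁅K, A⁆ ≤ E`, `⁅E, B⁆ ≤ K`, `E` and `K` commute, `C_E(B) = 1` and `C_A(K) = 1`. -/
theorem special_of_module {A B E K : Subgroup G}
    (hAE : ∀ x ∈ A, ∀ y ∈ E, x * y = y * x) (hBK : ∀ x ∈ B, ∀ y ∈ K, x * y = y * x)
    (hEK : ∀ x ∈ E, ∀ y ∈ K, x * y = y * x)
    (hKA : ∀ κ ∈ K, ∀ a ∈ A, κ⁻¹ * a * κ * a⁻¹ ∈ E) (hEB : ∀ e ∈ E, ∀ b ∈ B, e⁻¹ * b * e * b⁻¹ ∈ K)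
    (hCE : ∀ e ∈ E, (∀ b' ∈ B, b' * e = e * b') → e = 1)
    (hCA : ∀ a₀ ∈ A, (∀ κ ∈ K, a₀ * κ = κ * a₀) → a₀ = 1)
    {a b : G} (ha : a ∈ A) (hb : b ∈ B) (hconj : Cfsg.conjBy A b⁻¹ = Cfsg.conjBy B a⁻¹) :
    b⁻¹ * a * b = a⁻¹ * b⁻¹ * a := by
  have conj_b'_K : ∀ κ ∈ K, b⁻¹ * κ * b = κ := fun κ hκ => by
    have := conj_eq_of_comm (hBK b⁻¹ (B.inv_mem hb) κ hκ)
    rwa [inv_inv] at this
  have conj_b_K : ∀ κ ∈ K, b * κ * b⁻¹ = κ := fun κ hκ => conj_eq_of_comm (hBK b hb κ hκ)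
  have conj_a_E : ∀ e ∈ E, a * e * a⁻¹ = e := fun e he => conj_eq_of_comm (hAE a ha e he)
  have conj_a'_E : ∀ e ∈ E, a⁻¹ * e * a = e := fun e he => by
    have := conj_eq_of_comm (hAE a⁻¹ (A.inv_mem ha) e he)
    rwa [inv_inv] at this
  have hα : ∀ κ ∈ K, κ⁻¹ * a * κ * a⁻¹ ∈ E := fun κ hκ => hKA κ hκ a ha
  have hα' : ∀ κ ∈ K, κ⁻¹ * a⁻¹ * κ * a ∈ E := fun κ hκ => by
    have := hKA κ hκ a⁻¹ (A.inv_mem ha)
    rwa [inv_inv] at this
  have hβ' : ∀ e ∈ E, e⁻¹ * b⁻¹ * e * b ∈ K := fun e he => by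
    have := hEB e he b⁻¹ (B.inv_mem hb)
    rwa [inv_inv] at this
  -- R2
  have R2 : ∀ κ ∈ K, (κ⁻¹ * a * κ * a⁻¹) * (κ⁻¹ * a⁻¹ * κ * a) = 1 := by
    intro κ hκ
    have h1 := conj_a_E _ (hα' κ hκ)
    have e : κ⁻¹ * a * κ * a⁻¹ = (a * (κ⁻¹ * a⁻¹ * κ * a) * a⁻¹)⁻¹ := by group
    rw [e, h1]
    exact inv_mul_cancel _
  -- R1
  have R1 : ∀ e ∈ E, e * ((e⁻¹ * b⁻¹ * e * b)⁻¹ * a * (e⁻¹ * b⁻¹ * e * b) * a⁻¹) = 1 := by
    intro e he
    have hk₂ := hβ' e he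
    obtain ⟨k₂, hk₂def⟩ : ∃ k₂, k₂ = e⁻¹ * b⁻¹ * e * b := ⟨_, rfl⟩
    rw [← hk₂def] at hk₂ ⊢
    have hαk₂ := hα k₂ hk₂
    obtain ⟨t, htdef⟩ : ∃ t, t = k₂⁻¹ * a * k₂ * a⁻¹ := ⟨_, rfl⟩
    rw [← htdef] at hαk₂ ⊢
    apply hCE _ (E.mul_mem he hαk₂)
    intro b' hb'
    -- x = a (b⁻¹ e b) a⁻¹ is centralized by B
    have hx : b' * (a * (b⁻¹ * e * b) * a⁻¹) = (a * (b⁻¹ * e * b) * a⁻¹) * b' := by
      have h1 : a⁻¹ * b' * a ∈ Cfsg.conjBy B a⁻¹ := by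
        rw [mem_conjBy_iff]
        have : a⁻¹⁻¹ * (a⁻¹ * b' * a) * a⁻¹ = b' := by group
        rw [this]; exact hb'
      rw [← hconj, mem_conjBy_iff, inv_inv] at h1
      have h2 := hAE _ h1 e he
      calc b' * (a * (b⁻¹ * e * b) * a⁻¹)
          = a * b⁻¹ * ((b * (a⁻¹ * b' * a) * b⁻¹) * e) * b * a⁻¹ := by group
        _ = a * b⁻¹ * (e * (b * (a⁻¹ * b' * a) * b⁻¹)) * b * a⁻¹ := by rw [h2]
        _ = (a * (b⁻¹ * e * b) * a⁻¹) * b' := by group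
    have hxeq : a * (b⁻¹ * e * b) * a⁻¹ = (e * t) * k₂ := by
      have e1 : b⁻¹ * e * b = e * k₂ := by rw [hk₂def]; group
      rw [e1]
      have e2 : a * (e * k₂) * a⁻¹ = (a * e * a⁻¹) * (k₂ * (k₂⁻¹ * a * k₂ * a⁻¹)) := by group
      rw [e2, conj_a_E e he, ← htdef, ← hEK t hαk₂ k₂ hk₂]
      group
    rw [hxeq] at hx
    have c1 : Commute b' ((e * t) * k₂) := hx
    have c2 : Commute b' k₂ := hBK b' hb' k₂ hk₂
    have c3 : Commute b' ((e * t) * k₂ * k₂⁻¹) := c1.mul_right c2.inv_right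
    rw [mul_inv_cancel_right] at c3
    exact c3.eq
  -- key: u κ u⁻¹ = v κ v⁻¹
  have key : ∀ κ ∈ K, (b⁻¹ * a * b) * κ * (b⁻¹ * a * b)⁻¹ =
      (a⁻¹ * b⁻¹ * a) * κ * (a⁻¹ * b⁻¹ * a)⁻¹ := by
    intro κ hκ
    have he := hα κ hκ
    obtain ⟨e, hedef⟩ : ∃ e, e = κ⁻¹ * a * κ * a⁻¹ := ⟨_, rfl⟩
    rw [← hedef] at he
    have hk₂ := hβ' e he
    obtain ⟨k₂, hk₂def⟩ : ∃ k₂, k₂ = e⁻¹ * b⁻¹ * e * b := ⟨_, rfl⟩
    rw [← hk₂def] at hk₂
    have r1 := R1 e he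
    rw [← hk₂def] at r1
    have r2 := R2 k₂ hk₂
    have r2κ := R2 κ hκ
    rw [← hedef] at r2κ
    -- α' k₂ = e
    have hα'k₂ : k₂⁻¹ * a⁻¹ * k₂ * a = e := by
      have h1 : k₂⁻¹ * a * k₂ * a⁻¹ = e⁻¹ := eq_inv_of_mul_eq_one_right r1
      rw [h1] at r2
      calc k₂⁻¹ * a⁻¹ * k₂ * a = e * (e⁻¹ * (k₂⁻¹ * a⁻¹ * k₂ * a)) := by group
        _ = e := by rw [r2, mul_one]
    have hα'κ : κ⁻¹ * a⁻¹ * κ * a = e⁻¹ := eq_inv_of_mul_eq_one_right r2κ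
    have lhs : (b⁻¹ * a * b) * κ * (b⁻¹ * a * b)⁻¹ = κ * (e * k₂) := by
      have e1 : (b⁻¹ * a * b) * κ * (b⁻¹ * a * b)⁻¹ =
          b⁻¹ * (a * (b * κ * b⁻¹) * a⁻¹) * b := by group
      rw [e1, conj_b_K κ hκ]
      have e2 : b⁻¹ * (a * κ * a⁻¹) * b =
          (b⁻¹ * κ * b) * (b⁻¹ * (κ⁻¹ * a * κ * a⁻¹) * b) := by group
      rw [e2, conj_b'_K κ hκ, ← hedef]
      have e3 : b⁻¹ * e * b = e * k₂ := by rw [hk₂def]; group
      rw [e3]
    have rhs : (a⁻¹ * b⁻¹ * a) * κ * (a⁻¹ * b⁻¹ * a)⁻¹ = κ * (e * k₂) := by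
      have e1 : (a⁻¹ * b⁻¹ * a) * κ * (a⁻¹ * b⁻¹ * a)⁻¹ =
          a⁻¹ * ((b⁻¹ * a * b) * (b⁻¹ * κ * b) * (b⁻¹ * a * b)⁻¹) * a := by group
      rw [e1, conj_b'_K κ hκ, lhs]
      have e2 : a⁻¹ * (κ * (e * k₂)) * a =
          (κ * (κ⁻¹ * a⁻¹ * κ * a)) * (a⁻¹ * e * a) * (k₂ * (k₂⁻¹ * a⁻¹ * k₂ * a)) := by group
      rw [e2, hα'κ, conj_a'_E e he, hα'k₂, hEK e he k₂ hk₂]
      group
    rw [lhs, rhs]
  -- conclude
  obtain ⟨u, hudef⟩ : ∃ u, u = b⁻¹ * a * b := ⟨_, rfl⟩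
  obtain ⟨v, hvdef⟩ : ∃ v, v = a⁻¹ * b⁻¹ * a := ⟨_, rfl⟩
  rw [← hudef, ← hvdef] at key ⊢
  have huD : u ∈ Cfsg.conjBy A b⁻¹ := by
    rw [mem_conjBy_iff, hudef]
    have : b⁻¹⁻¹ * (b⁻¹ * a * b) * b⁻¹ = a := by group
    rw [this]; exact ha
  have hvD : v ∈ Cfsg.conjBy A b⁻¹ := by
    rw [hconj, mem_conjBy_iff, hvdef]
    have : a⁻¹⁻¹ * (a⁻¹ * b⁻¹ * a) * a⁻¹ = b⁻¹ := by group
    rw [this]; exact B.inv_mem hb
  have hwD : v⁻¹ * u ∈ Cfsg.conjBy A b⁻¹ := Subgroup.mul_mem _ (Subgroup.inv_mem _ hvD) huD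
  rw [mem_conjBy_iff, inv_inv] at hwD
  have hw1 : b * (v⁻¹ * u) * b⁻¹ = 1 := by
    apply hCA _ hwD
    intro κ hκ
    have hk := key κ hκ
    have hwκ : (v⁻¹ * u) * κ = κ * (v⁻¹ * u) := by
      calc (v⁻¹ * u) * κ = v⁻¹ * (u * κ * u⁻¹) * u := by group
        _ = v⁻¹ * (v * κ * v⁻¹) * u := by rw [hk]
        _ = κ * (v⁻¹ * u) := by group
    have hbκ := conj_b_K κ hκ
    have hbκ' := conj_b'_K κ hκ
    calc b * (v⁻¹ * u) * b⁻¹ * κ = b * ((v⁻¹ * u) * (b⁻¹ * κ * b)) * b⁻¹ := by group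
      _ = b * ((v⁻¹ * u) * κ) * b⁻¹ := by rw [hbκ']
      _ = b * (κ * (v⁻¹ * u)) * b⁻¹ := by rw [hwκ]
      _ = (b * κ * b⁻¹) * (b * (v⁻¹ * u) * b⁻¹) := by group
      _ = κ * (b * (v⁻¹ * u) * b⁻¹) := by rw [hbκ]
  have hw : v⁻¹ * u = 1 := by
    calc v⁻¹ * u = b⁻¹ * (b * (v⁻¹ * u) * b⁻¹) * b := by group
      _ = 1 := by rw [hw1]; group
  calc u = v * (v⁻¹ * u) := by group
    _ = v := by rw [hw, mul_one]

end Cfsg.Agent.Lib.Helper23.RootLine
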