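import Mathlib
import Cfsg.Agent.Lib.Helper23.RootLine

/-!
Connectivity of conjugation-invariant graphs on a class of abstract root subgroups (helper23): if
members not joined by a path commute, the graph is connected.
-/

set_option autoImplicit false
set_option linter.unusedVariables false
open Cfsg Cfsg.Agent.Lib.Helper5 Cfsg.Agent.Lib.Helper23
open scoped commutatorElement

namespace Cfsg.Agent.Lib.Helper23.RootGraph

variable {G : Type*} [Group G] {S : Set (Subgroup G)}

theorem path_symm_of {r : Subgroup G → Subgroup G → Prop} (hsymm : ∀ X Y, r X Y → r Y X)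
    {A B : Subgroup G} (h : Relation.ReflTransGen r A B) : Relation.ReflTransGen r B A := by
  induction h with
  | refl => exact Relation.ReflTransGen.refl
  | tail _ hbc ih => exact Relation.ReflTransGen.head (hsymm _ _ hbc) ih

theorem path_conj_of {r : Subgroup G → Subgroup G → Prop}
    (hrconj : ∀ X Y g, r X Y → r (Cfsg.conjBy X g) (Cfsg.conjBy Y g)) {X Y : Subgroup G} (g : G)
    (h : Relation.ReflTransGen r X Y) :
    Relation.ReflTransGen r (Cfsg.conjBy X g) (Cfsg.conjBy Y g) := by
  induction h with
  | refl => exact Relation.ReflTransGen.refl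
  | tail _ hbc ih => exact Relation.ReflTransGen.tail ih (hrconj _ _ g hbc)

/-- the elements of `G` stabilizing the `r`-component of `A` -/
def compStabR (r : Subgroup G → Subgroup G → Prop) (A : Subgroup G) : Subgroup G where
  carrier := {g | ∀ D, Relation.ReflTransGen r A D →
    Relation.ReflTransGen r A (Cfsg.conjBy D g) ∧ Relation.ReflTransGen r A (Cfsg.conjBy D g⁻¹)}
  mul_mem' := by
    intro g h hg hh D hD
    constructor
    · rw [← conjBy_conjBy]
      exact (hg _ (hh D hD).1).1
    · rw [mul_inv_rev, ← conjBy_conjBy]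
      exact (hh _ (hg D hD).2).2
  one_mem' := by
    intro D hD
    simp only [inv_one, conjBy_one]
    exact ⟨hD, hD⟩
  inv_mem' := by
    intro g hg D hD
    rw [inv_inv]
    exact ⟨(hg D hD).2, (hg D hD).1⟩

theorem mem_compStabR {r : Subgroup G → Subgroup G → Prop} {A : Subgroup G} {g : G} :
    g ∈ compStabR r A ↔ ∀ D, Relation.ReflTransGen r A D →
      Relation.ReflTransGen r A (Cfsg.conjBy D g) ∧
      Relation.ReflTransGen r A (Cfsg.conjBy D g⁻¹) := Iff.rfl

/-- A symmetric conjugation-invariant graph on a conjugacy class `S` of abstract root subgroups in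
which members not joined by a path commute is connected. -/
theorem connected_of_commute {r : Subgroup G → Subgroup G → Prop} (hS : Cfsg.IsRootSubgroupSet S)
    (hconj : ∀ A ∈ S, ∀ B ∈ S, ∃ g : G, B = Cfsg.conjBy A g)
    (hrS : ∀ X Y, r X Y → Y ∈ S) (hsymm : ∀ X Y, r X Y → r Y X)
    (hrconj : ∀ X Y g, r X Y → r (Cfsg.conjBy X g) (Cfsg.conjBy Y g))
    (key : ∀ X ∈ S, ∀ Y ∈ S, ¬ Relation.ReflTransGen r X Y → ⁅X, Y⁆ = ⊥) :
    ∀ A ∈ S, ∀ B ∈ S, Relation.ReflTransGen r A B := by
  intro A hA B hB
  have mem_of_path : ∀ D, Relation.ReflTransGen r A D → D ∈ S := by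
    intro D h
    rcases Relation.ReflTransGen.cases_tail h with h | ⟨c, _, hc⟩
    · rw [h]; exact hA
    · exact hrS _ _ hc
  have hgen : ∀ E ∈ S, E ≤ compStabR r A := by
    intro E hE
    have aux : ∀ g ∈ E, ∀ D, Relation.ReflTransGen r A D →
        Relation.ReflTransGen r A (Cfsg.conjBy D g) := by
      intro g hg D hD
      by_cases hAE : Relation.ReflTransGen r A E
      · have hED : Relation.ReflTransGen r E D := (path_symm_of hsymm hAE).trans hD
        have := path_conj_of hrconj g hED
        rw [conjBy_of_mem hg] at this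
        exact hAE.trans this
      · have hDS : D ∈ S := mem_of_path D hD
        have hDE : ¬ Relation.ReflTransGen r D E := fun h => hAE (hD.trans h)
        have hcomm := key D hDS E hE hDE
        have hgc : g ∈ Subgroup.centralizer (D : Set G) := by
          rw [Subgroup.mem_centralizer_iff]
          intro d hd
          exact comm_of_commutator_eq_bot hcomm hd hg
        rw [conjBy_of_mem_centralizer hgc]
        exact hD
    intro g hg
    rw [mem_compStabR]
    intro D hD
    exact ⟨aux g hg D hD, aux g⁻¹ (E.inv_mem hg) D hD⟩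
  have htop : compStabR r A = ⊤ := by
    rw [eq_top_iff, ← hS.generates]
    exact iSup₂_le hgen
  obtain ⟨g, hg⟩ := hconj A hA B hB
  have hgT : g ∈ compStabR r A := by rw [htop]; exact Subgroup.mem_top g
  rw [hg]
  exact (mem_compStabR.mp hgT A Relation.ReflTransGen.refl).1

/-- line partners: symmetry -/
theorem linePartners_symm {A B : Subgroup G} (hA : A ∈ S) (hB : B ∈ Cfsg.linePartners S A) :
    A ∈ Cfsg.linePartners S B := by
  obtain ⟨⟨hBS, hBA, hcomm⟩, hpart⟩ := hB
  refine ⟨⟨hA, Ne.symm hBA, ?_⟩, ?_⟩
  · rw [Subgroup.commutator_comm]; exact hcomm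
  · rw [sup_comm]; exact hpart

end Cfsg.Agent.Lib.Helper23.RootGraph
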