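import Mathlib
import Cfsg.Prelude.Def_RootSubgroups
import Cfsg.Agent.Lib.Lead.BaerSuzuki

/-!
Root involutions (Timmesfeld), basic lemmas (helper23).
-/

set_option autoImplicit false

namespace Cfsg.Agent.Lib.Helper23.RootInv

open Cfsg

variable {G : Type*} [Group G]

theorem sq_eq_one_of_order_two {d : G} (h : orderOf d = 2) : d * d = 1 := by
  have := pow_orderOf_eq_one d
  rw [h, pow_two] at this
  exact this

theorem ne_one_of_order_two {d : G} (h : orderOf d = 2) : d ≠ 1 := by
  intro h1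
  rw [h1, orderOf_one] at h
  omega

theorem inv_eq_of_order_two {d : G} (h : orderOf d = 2) : d⁻¹ = d :=
  inv_eq_of_mul_eq_one_left (sq_eq_one_of_order_two h)

/-- two involutions whose product has order dividing 4 generate a 2-group -/
theorem isPGroup_closure_pair {x y : G} (hx : x * x = 1) (hy : y * y = 1)
    (h4 : (x * y) ^ 4 = 1) : IsPGroup 2 (Subgroup.closure ({x, y} : Set G)) := by
  have hxinv : x⁻¹ = x := inv_eq_of_mul_eq_one_left hx
  have hyinv : y⁻¹ = y := inv_eq_of_mul_eq_one_left hy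
  have h1 : IsPGroup 2 (Subgroup.zpowers x) := by
    have hd : orderOf x ∣ 2 ^ 1 := orderOf_dvd_of_pow_eq_one (by rw [pow_one, pow_two]; exact hx)
    obtain ⟨k, _, hk⟩ := (Nat.dvd_prime_pow Nat.prime_two).mp hd
    apply IsPGroup.of_card (n := k)
    rw [Nat.card_zpowers, hk]
  have h2 : IsPGroup 2 (Subgroup.zpowers (x * y)) := by
    have hd : orderOf (x * y) ∣ 2 ^ 2 := orderOf_dvd_of_pow_eq_one (by norm_num; exact h4)
    obtain ⟨k, _, hk⟩ := (Nat.dvd_prime_pow Nat.prime_two).mp hd
    apply IsPGroup.of_card (n := k)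
    rw [Nat.card_zpowers, hk]
  have h3 : Subgroup.zpowers x ≤ Subgroup.normalizer ((Subgroup.zpowers (x * y) : Subgroup G) : Set G) := by
    rw [Subgroup.zpowers_le]
    rw [Subgroup.mem_normalizer_iff]
    intro g
    have key : ∀ g : G, g ∈ Subgroup.zpowers (x * y) → x * g * x⁻¹ ∈ Subgroup.zpowers (x * y) := by
      intro g hg
      obtain ⟨k, rfl⟩ := Subgroup.mem_zpowers_iff.mp hg
      have : x * (x * y) ^ k * x⁻¹ = ((x * y)⁻¹) ^ k := by
        have e : x * (x * y) * x⁻¹ = (x * y)⁻¹ := by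
          rw [mul_inv_rev, hxinv, hyinv]
          calc x * (x * y) * x = (x * x) * y * x := by group
            _ = y * x := by rw [hx, one_mul]
        rw [← e]
        exact (conj_zpow (a := x) (b := x * y) (i := k)).symm
      rw [this, inv_zpow]
      exact Subgroup.inv_mem _ (Subgroup.zpow_mem _ (Subgroup.mem_zpowers _) k)
    constructor
    · exact key g
    · intro hg
      have := key _ hg
      rw [hxinv] at this
      have e : x * (x * g * x) * x = g := by
        calc x * (x * g * x) * x = (x * x) * g * (x * x) := by group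
          _ = g := by rw [hx, one_mul, mul_one]
      rwa [e] at this
  have h4' := IsPGroup.to_sup_of_normal_right' h1 h2 h3
  apply h4'.to_le
  rw [Subgroup.closure_le]
  intro g hg
  rcases hg with hg | hg
  · rw [hg]
    exact Subgroup.mem_sup_left (Subgroup.mem_zpowers _)
  · rw [Set.mem_singleton_iff] at hg
    have hy' : y ∈ Subgroup.zpowers x ⊔ Subgroup.zpowers (x * y) := by
      have h5 : x * (x * y) ∈ Subgroup.zpowers x ⊔ Subgroup.zpowers (x * y) :=
        Subgroup.mul_mem _ (Subgroup.mem_sup_left (Subgroup.mem_zpowers _))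
          (Subgroup.mem_sup_right (Subgroup.mem_zpowers _))
      have e : x * (x * y) = y := by rw [← mul_assoc, hx, one_mul]
      rwa [e] at h5
    rw [hg]; exact hy'

theorem sq_sq_of_pow_four {x : G} (h : x ^ 4 = 1) : (x * x) * (x * x) = 1 := by
  have : x ^ 4 = (x * x) * (x * x) := by
    rw [show 4 = 2 + 2 from rfl, pow_add, pow_two]
  rw [← this]; exact h

theorem cancel_left_of_sq {x : G} (h : x * x = 1) (t : G) : x * (x * t) = t := by
  rw [← mul_assoc, h, one_mul]

theorem pow_odd_of_sq {x : G} (h : x * x = 1) {n : ℕ} (hn : Odd n) : x ^ n = x := by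
  obtain ⟨k, rfl⟩ := hn
  rw [pow_succ, pow_mul, pow_two, h, one_pow, one_mul]

theorem pow_even_of_sq {x : G} (h : x * x = 1) (k : ℕ) : x ^ (2 * k) = 1 := by
  rw [pow_mul, pow_two, h, one_pow]

theorem odd_dvd_of_dvd_two_mul {m n : ℕ} (hm : Odd m) (h : m ∣ 2 * n) : m ∣ n :=
  (Nat.Coprime.dvd_of_dvd_mul_left (Nat.coprime_two_right.mpr hm)) h

section
variable {D : Set G} (hD : IsRootInvolutionSet D)
include hD

theorem mul_self_of_mem {d : G} (hd : d ∈ D) : d * d = 1 :=
  sq_eq_one_of_order_two (hD.orderOf_eq d hd)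

theorem ne_one_of_mem {d : G} (hd : d ∈ D) : d ≠ 1 :=
  ne_one_of_order_two (hD.orderOf_eq d hd)

theorem inv_eq_of_mem {d : G} (hd : d ∈ D) : d⁻¹ = d :=
  inv_eq_of_order_two (hD.orderOf_eq d hd)

theorem orderOf_mul_ne_one {x y : G} (hy : y ∈ D) (hne : x ≠ y) :
    orderOf (x * y) ≠ 1 := by
  intro h
  rw [orderOf_eq_one_iff] at h
  apply hne
  have := eq_inv_of_mul_eq_one_left h
  rw [this, inv_eq_of_mem hD hy]

/-- Lemma F (i): if `y a` has odd order (`y ≠ a`), and `b` commutes with `a` with `a b ∈ D`,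
then `y` does not commute with `b`. -/
theorem not_comm_of_odd {a b y : G} (ha : a ∈ D) (hb : b ∈ D) (hy : y ∈ D)
    (hab : a * b = b * a) (hc : a * b ∈ D) (hya : Odd (orderOf (y * a))) (hne : y ≠ a) :
    y * b ≠ b * y := by
  intro hyb
  have hbb := mul_self_of_mem hD hb
  have hm1 := orderOf_mul_ne_one hD ha hne
  have hcomm : Commute (y * a) b := by
    change y * a * b = b * (y * a)
    rw [mul_assoc, hab, ← mul_assoc, hyb, mul_assoc]
  have hpow : ∀ k : ℕ, (y * (a * b)) ^ k = (y * a) ^ k * b ^ k := by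
    intro k
    rw [← mul_assoc, hcomm.mul_pow]
  have hfin : ∀ k : ℕ, (y * a) ^ k = 1 → orderOf (y * a) ∣ k := fun k h =>
    orderOf_dvd_of_pow_eq_one h
  rcases hD.pair y hy (a * b) hc with h | h | h
  · -- commuting
    have h2 : (y * (a * b)) ^ 2 = 1 := by
      rw [pow_two]
      calc y * (a * b) * (y * (a * b)) = y * ((a * b) * y) * (a * b) := by group
        _ = y * (y * (a * b)) * (a * b) := by rw [h]
        _ = (y * y) * ((a * b) * (a * b)) := by group
        _ = 1 := by rw [mul_self_of_mem hD hy, mul_self_of_mem hD hc, one_mul]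
    rw [hpow, pow_two b, hbb, mul_one] at h2
    have h3 := hfin 2 h2
    have h4 : orderOf (y * a) ∣ 1 := odd_dvd_of_dvd_two_mul hya (by simpa using h3)
    exact hm1 (Nat.dvd_one.mp h4)
  · -- odd
    obtain ⟨n, hn⟩ : ∃ n, n = orderOf (y * (a * b)) := ⟨_, rfl⟩
    have h1 : (y * (a * b)) ^ n = 1 := by rw [hn]; exact pow_orderOf_eq_one _
    rw [hpow, pow_odd_of_sq hbb (hn ▸ h)] at h1
    have h2 : (y * a) ^ n = b := by
      have := eq_inv_of_mul_eq_one_left h1
      rw [this, inv_eq_of_mem hD hb]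
    have h3 : (y * a) ^ (2 * n) = 1 := by
      rw [mul_comm, pow_mul, h2, pow_two, hbb]
    have h4 : orderOf (y * a) ∣ n := odd_dvd_of_dvd_two_mul hya (hfin _ h3)
    obtain ⟨k, hk⟩ := h4
    have h5 : (y * a) ^ n = 1 := by rw [hk, pow_mul, pow_orderOf_eq_one, one_pow]
    rw [h5] at h2
    exact ne_one_of_mem hD hb h2.symm
  · -- order four
    have h1 : (y * (a * b)) ^ 4 = 1 := by rw [← h.1]; exact pow_orderOf_eq_one _
    rw [hpow] at h1
    have hb4 : b ^ 4 = 1 := pow_even_of_sq hbb 2
    rw [hb4, mul_one] at h1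
    have h3 := hfin 4 h1
    have h4 : orderOf (y * a) ∣ 2 := odd_dvd_of_dvd_two_mul hya (by simpa using h3)
    have h5 : orderOf (y * a) ∣ 1 := odd_dvd_of_dvd_two_mul hya (by simpa using h4)
    exact hm1 (Nat.dvd_one.mp h5)

end

section
variable {D : Set G} (hD : IsRootInvolutionSet D)
include hD

/-- Lemma F (ii): if `y a` has odd order (`y ≠ a`), `b` commutes with `a` and `a b ∈ D`, then
`y b` and `y (a b)` cannot both have order 4. -/
theorem not_four_four {a b y : G} (ha : a ∈ D) (hb : b ∈ D) (hy : y ∈ D)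
    (hab : a * b = b * a) (hc : a * b ∈ D) (hya : Odd (orderOf (y * a))) (hne : y ≠ a)
    (h4b : orderOf (y * b) = 4) (h4c : orderOf (y * (a * b)) = 4) : False := by
  have hyy := mul_self_of_mem hD hy
  have haa := mul_self_of_mem hD ha
  have hbb := mul_self_of_mem hD hb
  have hcc := mul_self_of_mem hD hc
  have hm1 := orderOf_mul_ne_one hD ha hne
  obtain ⟨c, hcdef⟩ : ∃ c, c = a * b := ⟨_, rfl⟩
  rw [← hcdef] at hcc h4c
  obtain ⟨r, hr⟩ : ∃ r, r = y * a := ⟨_, rfl⟩
  obtain ⟨z₁, hz₁⟩ : ∃ z₁, z₁ = (y * b) * (y * b) := ⟨_, rfl⟩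
  obtain ⟨z₂, hz₂⟩ : ∃ z₂, z₂ = (y * c) * (y * c) := ⟨_, rfl⟩
  have hz₁z₁ : z₁ * z₁ = 1 := by
    have : (y * b) ^ 4 = 1 := by rw [← h4b]; exact pow_orderOf_eq_one _
    rw [hz₁]; exact sq_sq_of_pow_four this
  have hz₂z₂ : z₂ * z₂ = 1 := by
    have : (y * c) ^ 4 = 1 := by rw [← h4c]; exact pow_orderOf_eq_one _
    rw [hz₂]; exact sq_sq_of_pow_four this
  -- F1, F2, F3
  have F1 : c * y * c = y * z₂ := by
    rw [hz₂]
    calc c * y * c = (y * y) * (c * y * c) := by rw [hyy, one_mul]
      _ = y * (y * c * (y * c)) := by group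
  have F2 : b * y * b = y * z₁ := by
    rw [hz₁]
    calc b * y * b = (y * y) * (b * y * b) := by rw [hyy, one_mul]
      _ = y * (y * b * (y * b)) := by group
  have F3 : a * y * a = y * (r * r) := by
    rw [hr]
    calc a * y * a = (y * y) * (a * y * a) := by rw [hyy, one_mul]
      _ = y * (y * a * (y * a)) := by group
  obtain ⟨w, hw⟩ : ∃ w, w = a * z₁ * a := ⟨_, rfl⟩
  have hww : w * w = 1 := by
    rw [hw]
    calc a * z₁ * a * (a * z₁ * a) = a * z₁ * (a * a) * z₁ * a := by group
      _ = a * (z₁ * z₁) * a := by rw [haa]; group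
      _ = 1 := by rw [hz₁z₁, mul_one, haa]
  have F4 : c * y * c = y * (r * r) * w := by
    have e1 : c * y * c = a * (b * y * b) * a := by
      rw [hcdef]
      calc a * b * y * (a * b) = a * b * y * (b * a) := by rw [hab]
        _ = a * (b * y * b) * a := by group
    rw [e1, F2, hw]
    calc a * (y * z₁) * a = a * y * (a * a) * z₁ * a := by rw [haa]; group
      _ = (a * y * a) * (a * z₁ * a) := by group
      _ = y * (r * r) * (a * z₁ * a) := by rw [F3]
  have F4' : z₂ = r * r * w := by
    have := F1.symm.trans F4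
    rw [mul_assoc] at this
    exact mul_left_cancel this
  have hrr : r * r = z₂ * w := by
    rw [F4', mul_assoc, hww, mul_one]
  -- z₂ inverts r²
  have F5 : z₂ * (r * r) * z₂ = (r * r)⁻¹ := by
    apply eq_inv_of_mul_eq_one_right
    rw [hrr]
    calc z₂ * w * (z₂ * (z₂ * w) * z₂) = z₂ * w * ((z₂ * z₂) * w * z₂) := by group
      _ = z₂ * (w * w) * z₂ := by rw [hz₂z₂]; group
      _ = 1 := by rw [hww, mul_one, hz₂z₂]
  -- y inverts r
  have F6 : y * r * y = r⁻¹ := by
    apply eq_inv_of_mul_eq_one_right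
    rw [hr]
    calc y * a * (y * (y * a) * y) = y * a * ((y * y) * a * y) := by group
      _ = y * (a * a) * y := by rw [hyy]; group
      _ = 1 := by rw [haa, mul_one, hyy]
  have F6' : y * (r * r) * y = (r * r)⁻¹ := by
    calc y * (r * r) * y = y * r * (y * y) * r * y := by rw [hyy]; group
      _ = (y * r * y) * (y * r * y) := by group
      _ = r⁻¹ * r⁻¹ := by rw [F6]
      _ = (r * r)⁻¹ := by group
  -- z₂ commutes with y
  have F7 : y * z₂ * y = z₂ := by
    have e1 : z₂ * (y * z₂ * y) = 1 := by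
      rw [hz₂]
      calc y * c * (y * c) * (y * (y * c * (y * c)) * y)
          = y * c * y * c * (y * y) * c * y * c * y := by group
        _ = y * c * y * (c * c) * y * c * y := by rw [hyy]; group
        _ = y * c * (y * y) * c * y := by rw [hcc]; group
        _ = y * (c * c) * y := by rw [hyy]; group
        _ = 1 := by rw [hcc, mul_one, hyy]
    have e2 : y * z₂ * y = z₂⁻¹ := eq_inv_of_mul_eq_one_right e1
    rw [e2]
    exact inv_eq_of_mul_eq_one_left hz₂z₂
  obtain ⟨u, hu⟩ : ∃ u, u = y * z₂ := ⟨_, rfl⟩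
  have huinv : u⁻¹ = z₂ * y := by
    apply inv_eq_of_mul_eq_one_right
    rw [hu]
    calc y * z₂ * (z₂ * y) = y * (z₂ * z₂) * y := by group
      _ = 1 := by rw [hz₂z₂, mul_one, hyy]
  have F8 : u * (r * r) * u⁻¹ = r * r := by
    rw [huinv, hu]
    calc y * z₂ * (r * r) * (z₂ * y) = y * (z₂ * (r * r) * z₂) * y := by group
      _ = y * (r * r)⁻¹ * y := by rw [F5]
      _ = y⁻¹ * (r * r)⁻¹ * y⁻¹ := by rw [inv_eq_of_mul_eq_one_left hyy]
      _ = (y * (r * r) * y)⁻¹ := by group
      _ = r * r := by rw [F6', inv_inv]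
  have F8' : Commute u (r * r) := by
    change u * (r * r) = r * r * u
    calc u * (r * r) = (u * (r * r) * u⁻¹) * u := by group
      _ = r * r * u := by rw [F8]
  -- `r` is a power of `r * r`
  have F9 : Commute u r := by
    obtain ⟨k, hk⟩ := hya
    have e : r = (r * r) ^ (k + 1) := by
      rw [← pow_two, ← pow_mul]
      have : 2 * (k + 1) = orderOf r + 1 := by rw [hr, hk]; ring
      rw [this, pow_succ, pow_orderOf_eq_one, one_mul]
    rw [e]
    exact F8'.pow_right _
  -- `u` commutes with `a`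
  have F10 : z₂ * a * z₂ = y * a * y := by
    have e1 : u * r = r * u := F9
    rw [hu, hr] at e1
    have e2 : y * z₂ * (y * a) = z₂ * a := by
      calc y * z₂ * (y * a) = (y * z₂ * y) * a := by group
        _ = z₂ * a := by rw [F7]
    rw [e2] at e1
    calc z₂ * a * z₂ = (y * a * (y * z₂)) * z₂ := by rw [e1]
      _ = y * a * y * (z₂ * z₂) := by group
      _ = y * a * y := by rw [hz₂z₂, mul_one]
  have F10' : z₂ * a = y * a * y * z₂ := by
    calc z₂ * a = (z₂ * a * z₂) * z₂ := by rw [mul_assoc, hz₂z₂, mul_one]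
      _ = y * a * y * z₂ := by rw [F10]
  have F11 : u * a = a * u := by
    rw [hu]
    calc y * z₂ * a = y * (z₂ * a) := by group
      _ = y * (y * a * y * z₂) := by rw [F10']
      _ = (y * y) * a * y * z₂ := by group
      _ = a * (y * z₂) := by rw [hyy]; group
  -- but `u = c y c` and `c` commutes with `a`
  have hca : c * a = a * c := by
    rw [hcdef]
    calc a * b * a = a * (b * a) := by group
      _ = a * (a * b) := by rw [hab]
  have F12 : y * a = a * y := by
    have e1 : u = c * y * c := by rw [hu, F1]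
    rw [e1] at F11
    have e2 : c * (y * a) * c = c * (a * y) * c := by
      calc c * (y * a) * c = c * y * (a * c) := by group
        _ = c * y * (c * a) := by rw [hca]
        _ = c * y * c * a := by group
        _ = a * (c * y * c) := F11
        _ = (a * c) * y * c := by group
        _ = (c * a) * y * c := by rw [hca]
        _ = c * (a * y) * c := by group
    exact mul_left_cancel (mul_right_cancel e2)
  -- so `(y a)^2 = 1`
  have h2 : (y * a) ^ 2 = 1 := by
    rw [pow_two]
    calc y * a * (y * a) = y * a * (a * y) := by rw [F12]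
      _ = y * (a * a) * y := by group
      _ = 1 := by rw [haa, mul_one, hyy]
  have h3 : orderOf (y * a) ∣ 2 := orderOf_dvd_of_pow_eq_one h2
  have h4 : orderOf (y * a) ∣ 1 := odd_dvd_of_dvd_two_mul hya (by simpa using h3)
  exact hm1 (Nat.dvd_one.mp h4)

end

theorem orderOf_conj'' (g c : G) : orderOf (g * c * g⁻¹) = orderOf c := by
  have := MulEquiv.orderOf_eq (MulAut.conj g) c
  simpa [MulAut.conj_apply] using this

theorem oddAdj_symm {D : Set G} {a b : G} (h : OddAdj D a b) : OddAdj D b a := by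
  obtain ⟨ha, hb, hne, hodd⟩ := h
  refine ⟨hb, ha, hne.symm, ?_⟩
  have : b * a = a⁻¹ * (a * b) * a⁻¹⁻¹ := by group
  rw [this, orderOf_conj'']
  exact hodd

theorem rtg_symm {D : Set G} {a b : G} (h : Relation.ReflTransGen (OddAdj D) a b) :
    Relation.ReflTransGen (OddAdj D) b a := by
  induction h with
  | refl => exact Relation.ReflTransGen.refl
  | tail _ hbc ih => exact Relation.ReflTransGen.head (oddAdj_symm hbc) ih

theorem comp_eq_of_rtg {D : Set G} {a b : G} (h : Relation.ReflTransGen (OddAdj D) a b) :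
    elemComponentOf (OddAdj D) D a = elemComponentOf (OddAdj D) D b := by
  ext x
  constructor
  · rintro ⟨hx, hax⟩
    exact ⟨hx, (rtg_symm h).trans hax⟩
  · rintro ⟨hx, hbx⟩
    exact ⟨hx, h.trans hbx⟩

theorem exists_adj_of_comp {D : Set G} {a : G}
    (h : ∃ a' ∈ elemComponentOf (OddAdj D) D a, a' ≠ a) : ∃ x, OddAdj D a x := by
  obtain ⟨a', ⟨_, hrt⟩, hne⟩ := h
  rcases Relation.ReflTransGen.cases_head hrt with h1 | ⟨c, hc, _⟩
  · exact absurd h1.symm hne
  · exact ⟨c, hc⟩

section
variable {D : Set G} (hD : IsRootInvolutionSet D)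
include hD

theorem oddAdj_conj {a b : G} (h : OddAdj D a b) (g : G) :
    OddAdj D (g * a * g⁻¹) (g * b * g⁻¹) := by
  obtain ⟨ha, hb, hne, hodd⟩ := h
  refine ⟨hD.conj_mem a ha g, hD.conj_mem b hb g, ?_, ?_⟩
  · intro h
    apply hne
    have := congrArg (fun t => g⁻¹ * t * g) h
    simpa [mul_assoc] using this
  · have : g * a * g⁻¹ * (g * b * g⁻¹) = g * (a * b) * g⁻¹ := by group
    rw [this, orderOf_conj'']
    exact hodd

/-- Lemma F. -/
theorem odd_of_odd {a b y : G} (ha : a ∈ D) (hb : b ∈ D) (hy : y ∈ D)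
    (hab : a * b = b * a) (hc : a * b ∈ D) (hya : OddAdj D y a) :
    OddAdj D y b ∨ OddAdj D y (a * b) := by
  obtain ⟨_, _, hne, hodd⟩ := hya
  have haa := mul_self_of_mem hD ha
  have h1 := not_comm_of_odd hD ha hb hy hab hc hodd hne
  have hac : a * (a * b) = (a * b) * a := by
    calc a * (a * b) = a * (b * a) := by rw [hab]
      _ = a * b * a := by group
  have hacD : a * (a * b) ∈ D := by
    rw [← mul_assoc, haa, one_mul]; exact hb
  have h2 := not_comm_of_odd hD ha hc hy hac hacD hodd hne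
  have hyb : y ≠ b := fun h => h1 (by rw [h])
  have hyc : y ≠ a * b := fun h => h2 (by rw [h])
  rcases hD.pair y hy b hb with h | h | h
  · exact absurd h h1
  · exact Or.inl ⟨hy, hb, hyb, h⟩
  · rcases hD.pair y hy (a * b) hc with h' | h' | h'
    · exact absurd h' h2
    · exact Or.inr ⟨hy, hc, hyc, h'⟩
    · exact (not_four_four hD ha hb hy hab hc hodd hne h.1 h'.1).elim

/-- members of `X_a` lie in the component of `a` or are isolated -/
theorem productPartners_subset {a : G} (ha : a ∈ D)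
    (hcomp : ∃ a' ∈ elemComponentOf (OddAdj D) D a, a' ≠ a) :
    productPartners D a ⊆ elemComponentOf (OddAdj D) D a ∪
      {w | IsIsolatedElem (OddAdj D) D w} := by
  rintro e ⟨⟨heD, hea, hne⟩, heaD⟩
  by_cases hiso : IsIsolatedElem (OddAdj D) D e
  · exact Or.inr hiso
  left
  obtain ⟨x, hx⟩ := exists_adj_of_comp hcomp
  have hy : ∃ y, OddAdj D y e := by
    by_contra hcon
    push Not at hcon
    exact hiso ⟨heD, fun b => ⟨fun h => hcon b (oddAdj_symm h), hcon b⟩⟩
  obtain ⟨y, hy⟩ := hy
  refine ⟨heD, ?_⟩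
  rcases odd_of_odd hD heD ha hy.1 hea heaD hy with h1 | h1
  · -- y ~ a
    exact (Relation.ReflTransGen.single (oddAdj_symm h1)).trans
      (Relation.ReflTransGen.single hy)
  · -- y ~ e a
    have hae : a * e = e * a := hea.symm
    have haeD : a * e ∈ D := by rw [hae]; exact heaD
    rcases odd_of_odd hD ha heD hx.2.1 hae haeD (oddAdj_symm hx) with h2 | h2
    · exact (Relation.ReflTransGen.single hx).trans (Relation.ReflTransGen.single h2)
    · rw [hae] at h2
      exact ((Relation.ReflTransGen.single hx).trans (Relation.ReflTransGen.single h2)).trans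
        ((Relation.ReflTransGen.single (oddAdj_symm h1)).trans (Relation.ReflTransGen.single hy))

end

end Cfsg.Agent.Lib.Helper23.RootInv
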