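import Mathlib
import Cfsg.Prelude.Def_RootSubgroups
import Cfsg.Agent.Lib.Helper23.RootBasic

set_option autoImplicit false

namespace Cfsg.Agent.Lib.Helper23

open Cfsg Cfsg.Agent.Lib.Helper5

variable {G : Type*} [Group G] {H : Type*} [Group H]

theorem map_conjBy (f : G →* H) (A : Subgroup G) (g : G) :
    (Cfsg.conjBy A g).map f = Cfsg.conjBy (A.map f) (f g) := by
  ext y
  constructor
  · rintro ⟨x, hx, rfl⟩
    have hx' : x ∈ Cfsg.conjBy A g := hx
    rw [mem_conjBy_iff] at hx' ⊢
    refine ⟨g⁻¹ * x * g, hx', ?_⟩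
    simp
  · intro hy
    rw [mem_conjBy_iff] at hy
    obtain ⟨a, ha, e⟩ := hy
    refine ⟨g * a * g⁻¹, ?_, ?_⟩
    · show g * a * g⁻¹ ∈ Cfsg.conjBy A g
      rw [mem_conjBy_iff]; simpa [mul_assoc] using ha
    · rw [map_mul, map_mul, e, map_inv]; group

/-- Members joined by a path of rank one pairs are conjugate. -/
theorem exists_conjBy_of_reflTransGen {S : Set (Subgroup G)} {A B : Subgroup G}
    (h : Relation.ReflTransGen (Cfsg.FAdj S) A B) : ∃ g : G, B = Cfsg.conjBy A g := by
  induction h with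
  | refl => exact ⟨1, (conjBy_one A).symm⟩
  | tail _ hbc ih =>
    obtain ⟨g, rfl⟩ := ih
    obtain ⟨x, _, hx⟩ := right_eq_conjBy hbc.2.2
    exact ⟨x * g, by rw [hx, conjBy_conjBy]⟩

/-- The image of a rank one pair under a homomorphism is a rank one pair, provided the images
are different. -/
theorem isRankOnePair_map {A B : Subgroup G} (h : Cfsg.IsRankOnePair A B) (f : G →* H)
    (hne : A.map f ≠ B.map f) : Cfsg.IsRankOnePair (A.map f) (B.map f) := by
  have hcond : ∀ {A B : Subgroup G}, Cfsg.RankOneCondition A B → A.map f ≠ B.map f →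
      Cfsg.RankOneCondition (A.map f) (B.map f) := by
    intro A B hc hne y hy hy1
    obtain ⟨a, ha, rfl⟩ := hy
    have ha1 : a ≠ 1 := by
      rintro rfl
      exact hy1 (map_one f)
    obtain ⟨b, hb, _, e⟩ := hc a ha ha1
    have e' := congrArg (fun X => Subgroup.map f X) e
    simp only [map_conjBy, map_inv] at e'
    refine ⟨f b, ⟨b, hb, rfl⟩, ?_, e'⟩
    intro hfb
    apply hne
    have this : f a ∈ A.map f := ⟨a, ha, rfl⟩
    have e1 : A.map f = Cfsg.conjBy (B.map f) (f a)⁻¹ := by
      rw [hfb, inv_one, conjBy_one] at e'; exact e'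
    have e2 : Cfsg.conjBy (A.map f) (f a) = B.map f := by
      rw [e1, conjBy_conjBy, mul_inv_cancel, conjBy_one]
    rw [conjBy_of_mem this] at e2
    exact e2
  refine ⟨hne, ?_, ?_, hcond h.cond_left hne, hcond h.cond_right hne.symm⟩
  · haveI := h.nilpotent_left
    exact Group.nilpotent_of_surjective (f.subgroupMap A) (f.subgroupMap_surjective A)
  · haveI := h.nilpotent_right
    exact Group.nilpotent_of_surjective (f.subgroupMap B) (f.subgroupMap_surjective B)

end Cfsg.Agent.Lib.Helper23
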