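import Cfsg.Agent.Lib.Helper23.ScnA
import Cfsg.Agent.S0028

/-!
# Centralizer of an SCN-subgroup of a nilpotent overgroup of the Fitting subgroup (helper23)

`centralizer_le_of_scn`: X solvable, O_q(X) = 1 for primes q ∉ π (2, 3 ∉ π), Φ ≥ F(X) nilpotent,
A ∈ SCN(Φ) a π-group ⇒ C_X(A) ≤ A.
-/

set_option autoImplicit false
set_option linter.style.haveILetI false

namespace Cfsg.Agent.Lib.Helper23.ScnB

open Subgroup Cfsg Cfsg.Agent.Lib.Helper2 Cfsg.Agent.Lib.Helper23.ScnA
open scoped commutatorElement

theorem pCore_le_fitting {X : Type*} [Group X] [Finite X] (r : ℕ) [Fact r.Prime] :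
    pCore r X ≤ fittingSubgroup X :=
  le_fittingSubgroup (Cfsg.Agent.Lib.Helper2.pCore_normal _) (pCore_isPGroup (G := X) r).isNilpotent

theorem orderOf_of_mem_pCore {X : Type*} [Group X] [Finite X] (r : ℕ) [Fact r.Prime] (m : X)
    (hm : m ∈ pCore r X) : ∃ i : ℕ, orderOf m = r ^ i := by
  obtain ⟨i, hi⟩ := (IsPGroup.iff_orderOf.1 (pCore_isPGroup (G := X) r)) ⟨m, hm⟩
  exact ⟨i, by rw [← hi, Subgroup.orderOf_mk]⟩

theorem centralizer_le_of_scn {X : Type*} [Group X] [Finite X] [hsolv : Group.IsSolvable X]
    (π : Set ℕ) (h2 : 2 ∉ π) (h3 : 3 ∉ π)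
    (hO : ∀ q : ℕ, q.Prime → q ∉ π → pCore q X = ⊥)
    (Φ A : Subgroup X) (hΦn : Group.IsNilpotent Φ)
    (hAπ : ∀ q : ℕ, q.Prime → q ∣ Nat.card A → q ∈ π)
    (hFΦ : fittingSubgroup X ≤ Φ) (hA : Cfsg.IsSCN Φ A) : centralizer (A : Set X) ≤ A := by
  obtain ⟨hAΦ, hΦA, hCA⟩ := hA
  have hAab : A ≤ centralizer (A : Set X) := by
    intro a ha
    rw [← hCA] at ha
    exact ha.2
  have hpi5 : ∀ q : ℕ, q.Prime → q ∈ π → 5 ≤ q := by
    intro q hq hqπ
    by_contra hlt
    push Not at hlt
    have h0 := hq.two_le
    interval_cases q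
    · exact h2 hqπ
    · exact h3 hqπ
    · exact absurd hq (by decide)
  -- Step 1 : A ≤ F(X)
  have hAF : A ≤ fittingSubgroup X := by
    apply le_of_primePow
    intro a ha p k hp hk
    rcases Nat.eq_zero_or_pos k with rfl | hkpos
    · rw [pow_zero, orderOf_eq_one_iff] at hk
      rw [hk]; exact Subgroup.one_mem _
    · have hpπ : p ∈ π := by
        apply hAπ p hp
        have h1 : orderOf a ∣ Nat.card A := by
          have := orderOf_dvd_natCard (⟨a, ha⟩ : A)
          rwa [Subgroup.orderOf_mk] at this
        rw [hk] at h1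
        exact (dvd_pow_self p hkpos.ne').trans h1
      haveI : Fact p.Prime := ⟨hp⟩
      apply mem_fitting_of_quadratic p (hpi5 p hp hpπ) a
      · intro r hr hrp m hm
        haveI : Fact r.Prime := ⟨hr⟩
        apply commute_of_coprime_orderOf_of_mem Φ hΦn a m (hAΦ ha) (hFΦ (pCore_le_fitting r hm))
        obtain ⟨i, hi⟩ := orderOf_of_mem_pCore r m hm
        rw [hk, hi]
        exact Nat.Coprime.pow _ _ ((Nat.coprime_primes hp hr).2 hrp.symm)
      · have h1 : ⁅pCore p X, zpowers a⁆ ≤ A := by
          rw [Subgroup.commutator_le]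
          intro g hg z hz
          have hgN : g ∈ normalizer (A : Set X) := hΦA (hFΦ (pCore_le_fitting p hg))
          have hzA : z ∈ A := (zpowers_le.2 ha) hz
          rw [commutatorElement_def]
          exact A.mul_mem ((mem_normalizer_iff.1 hgN z).1 hzA) (A.inv_mem hzA)
        have h2' : ⁅A, zpowers a⁆ = ⊥ := by
          rw [Subgroup.commutator_eq_bot_iff_le_centralizer]
          exact hAab.trans (Subgroup.centralizer_le (by
            intro z hz
            exact (zpowers_le.2 ha) hz))
        exact le_bot_iff.1 ((Subgroup.commutator_mono h1 le_rfl).trans h2'.le)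
  -- Step 2
  apply le_of_primePow
  intro y hy q k hq hk
  suffices hyΦ : y ∈ Φ by
    rw [← hCA]; exact ⟨hyΦ, hy⟩
  apply hFΦ
  have hZ : zpowers y ≤ centralizer (A : Set X) := zpowers_le.2 hy
  -- (2a)
  have h2a : ∀ p : ℕ, p.Prime → p ≠ q → ∀ m ∈ pCore p X, y * m = m * y := by
    intro p hp hpq m hm
    haveI : Fact p.Prime := ⟨hp⟩
    haveI hKn : (pCore p X).Normal := Cfsg.Agent.Lib.Helper2.pCore_normal p
    have hQ := Cfsg.Agent.S0028.result p (A ⊓ pCore p X) (zpowers y) (pCore p X)
      ((pCore_isPGroup (G := X) p).to_le inf_le_right)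
      (by
        rw [Nat.card_zpowers, hk]
        exact Nat.Coprime.pow_left k ((Nat.coprime_primes hq hp).2 hpq.symm))
      (pCore_isPGroup (G := X) p)
      (by
        intro a ha
        rw [mem_centralizer_iff]
        intro z hz
        exact (mem_centralizer_iff.1 (hZ hz) a ha.1).symm)
      (by rw [normalizer_eq_top]; exact le_top)
      (by rw [normalizer_eq_top]; exact le_top)
      (by
        intro u hu
        have hu1 : u ∈ pCore p X := hu.1
        have hu2 : u ∈ centralizer ((A ⊓ pCore p X : Subgroup X) : Set X) := hu.2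
        have huΦ : u ∈ Φ := hFΦ (pCore_le_fitting p hu1)
        obtain ⟨i, hi⟩ := orderOf_of_mem_pCore p u hu1
        have huA : u ∈ A := by
          rw [← hCA]
          refine ⟨huΦ, ?_⟩
          have h5 : A ≤ centralizer ({u} : Set X) := by
            apply le_of_primePow
            intro a ha r j hr hj
            rw [mem_centralizer_iff]
            intro z hz
            rw [Set.mem_singleton_iff] at hz
            rw [hz]
            by_cases hrp : r = p
            · subst hrp
              have haK : a ∈ pCore r X := mem_pCore_of_mem_fitting a (hAF ha) j hj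
              exact (mem_centralizer_iff.1 hu2 a ⟨ha, haK⟩).symm
            · have := commute_of_coprime_orderOf_of_mem Φ hΦn a u (hAΦ ha) huΦ (by
                rw [hj, hi]
                exact Nat.Coprime.pow _ _ ((Nat.coprime_primes hr hp).2 hrp))
              exact this.symm
          change u ∈ centralizer (A : Set X)
          rw [mem_centralizer_iff]
          intro a ha
          exact (mem_centralizer_iff.1 (h5 ha) u (Set.mem_singleton u)).symm
        rw [mem_centralizer_iff]
        intro z hz
        exact (mem_centralizer_iff.1 (hZ hz) u huA).symm)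
    have := hQ (mem_zpowers y)
    exact (mem_centralizer_iff.1 this m hm).symm
  by_cases hqπ : q ∈ π
  · haveI : Fact q.Prime := ⟨hq⟩
    haveI hKn : (pCore q X).Normal := Cfsg.Agent.Lib.Helper2.pCore_normal q
    apply mem_fitting_of_quadratic q (hpi5 q hq hqπ) y h2a
    have h1 : ⁅pCore q X, zpowers y⁆ ≤ A := by
      rw [Subgroup.commutator_le]
      intro g hg z hz
      have hgN : g ∈ normalizer (A : Set X) := hΦA (hFΦ (pCore_le_fitting q hg))
      have hzC : z ∈ centralizer (A : Set X) := hZ hz
      rw [← hCA]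
      constructor
      · apply hFΦ
        apply pCore_le_fitting q
        rw [commutatorElement_def]
        have : g * z * g⁻¹ * z⁻¹ = g * (z * g⁻¹ * z⁻¹) := by group
        rw [this]
        exact (pCore q X).mul_mem hg (hKn.conj_mem _ ((pCore q X).inv_mem hg) z)
      · rw [commutatorElement_def]
        have hgz : g * z * g⁻¹ ∈ centralizer (A : Set X) := by
          rw [mem_centralizer_iff]
          intro a ha
          have ha' : g⁻¹ * a * g ∈ A := by
            have := (mem_normalizer_iff.1 (Subgroup.inv_mem _ hgN) a).1 ha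
            simpa using this
          have h6 := mem_centralizer_iff.1 hzC _ ha'
          -- (g⁻¹ a g) z = z (g⁻¹ a g)
          calc a * (g * z * g⁻¹) = g * ((g⁻¹ * a * g) * z) * g⁻¹ := by group
            _ = g * (z * (g⁻¹ * a * g)) * g⁻¹ := by rw [h6]
            _ = g * z * g⁻¹ * a := by group
        exact Subgroup.mul_mem _ hgz (Subgroup.inv_mem _ hzC)
    have h2' : ⁅A, zpowers y⁆ = ⊥ := by
      rw [Subgroup.commutator_eq_bot_iff_le_centralizer]
      intro a ha
      rw [mem_centralizer_iff]
      intro z hz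
      exact (mem_centralizer_iff.1 (hZ hz) a ha).symm
    exact le_bot_iff.1 ((Subgroup.commutator_mono h1 le_rfl).trans h2'.le)
  · apply Cfsg.Agent.S0044.result
    have : fittingSubgroup X ≤ centralizer ({y} : Set X) := by
      rw [fittingSubgroup_eq_iSup_pCore]
      apply iSup_le
      intro r
      by_cases hrq : (r : ℕ) = q
      · rw [hrq, hO q hq hqπ]
        exact bot_le
      · intro m hm
        rw [mem_centralizer_iff]
        intro z hz
        rw [Set.mem_singleton_iff] at hz
        rw [hz]
        exact h2a r r.2 hrq m hm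
    rw [mem_centralizer_iff]
    intro f hf
    exact (mem_centralizer_iff.1 (this hf) y (Set.mem_singleton y)).symm

end Cfsg.Agent.Lib.Helper23.ScnB
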