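import Cfsg.Agent.Lib.Helper23.ScnB
import Cfsg.Agent.Lib.Helper13.TransHyp

/-!
# C_S(A) = A × D for A ∈ SCN(F(H)), H a Hall π-subgroup of the solvable group S, 2, 3 ∉ π (helper23)
-/

set_option autoImplicit false
set_option linter.style.haveILetI false

namespace Cfsg.Agent.Lib.Helper23.ScnC

open Subgroup Cfsg Cfsg.Agent.Lib.Helper2 Cfsg.Agent.Lib.Helper23.ScnA Cfsg.Agent.Lib.Helper23.ScnB
open scoped commutatorElement

/-- a normal `q`-subgroup lies in every subgroup of index prime to `q` -/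
theorem normal_pgroup_le_of_not_dvd_index {X : Type*} [Group X] [Finite X] (q : ℕ) [Fact q.Prime]
    (Q K : Subgroup X) [hQn : Q.Normal] (hQ : IsPGroup q Q) (hK : ¬ q ∣ K.index) : Q ≤ K := by
  have hcard : ¬ q ∣ Nat.card (X ⧸ K) := by rwa [← Subgroup.index_eq_card]
  obtain ⟨a, ha⟩ := hQ.nonempty_fixed_point_of_prime_not_dvd_card (X ⧸ K) hcard
  obtain ⟨x, rfl⟩ := QuotientGroup.mk_surjective a
  intro g hg
  have hg' : x * g⁻¹ * x⁻¹ ∈ Q := hQn.conj_mem _ (Q.inv_mem hg) x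
  have h1 := ha ⟨x * g⁻¹ * x⁻¹, hg'⟩
  have h2 : ((x * g⁻¹ * x⁻¹ * x : X) : X ⧸ K) = (x : X ⧸ K) := h1
  rw [QuotientGroup.eq] at h2
  have h3 : (x * g⁻¹ * x⁻¹ * x)⁻¹ * x = g := by group
  rwa [h3] at h2

theorem main {S : Type*} [Group S] [Finite S] [Group.IsSolvable S]
    (π : Set ℕ) (h2 : 2 ∉ π) (h3 : 3 ∉ π) (H : Subgroup S) (hH : Cfsg.IsPiHall π H)
    (A : Subgroup S) (hA : Cfsg.IsSCN ((Cfsg.fittingSubgroup H).map H.subtype) A) :
    ∃ D : Subgroup S, D ≤ Subgroup.centralizer (A : Set S) ∧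
      (∀ c ∈ Subgroup.centralizer (A : Set S), ∀ d ∈ D, c * d * c⁻¹ ∈ D) ∧
      A ⊓ D = ⊥ ∧ A ⊔ D = Subgroup.centralizer (A : Set S) ∧
      ∀ q : ℕ, q.Prime → q ∣ Nat.card D → q ∉ π := by
  classical
  obtain ⟨hH1, hH2⟩ := hH
  obtain ⟨hAΦ, hΦA, hCA⟩ := hA
  have hNmem := Cfsg.Agent.Lib.Helper13.piCore_mem' (H := S) πᶜ
  obtain ⟨hNn', hNπ⟩ := hNmem
  haveI hNn : (piCore πᶜ S).Normal := hNn'
  have hΦ₀H : (Cfsg.fittingSubgroup H).map H.subtype ≤ H := map_subtype_le _
  have hAH : A ≤ H := hAΦ.trans hΦ₀H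
  have hcop : (Nat.card H).Coprime (Nat.card (piCore πᶜ S)) := by
    apply Nat.coprime_of_dvd
    intro k hk hkH hkN
    exact hNπ k hk hkN (hH1 k hk hkH)
  have hHN : H ⊓ piCore πᶜ S = ⊥ := inf_eq_bot_of_coprime hcop
  have hfs : Function.Surjective (QuotientGroup.mk' (piCore πᶜ S)) :=
    QuotientGroup.mk'_surjective _
  have hinj : ∀ x ∈ H, QuotientGroup.mk' (piCore πᶜ S) x = 1 → x = 1 := by
    intro x hx h
    have : x ∈ H ⊓ piCore πᶜ S := ⟨hx, (QuotientGroup.eq_one_iff x).1 h⟩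
    rw [hHN] at this
    exact mem_bot.1 this
  have hAab : A ≤ centralizer (A : Set S) := by
    intro a ha
    rw [← hCA] at ha
    exact ha.2
  -- (M2)
  have hO : ∀ q : ℕ, q.Prime → q ∉ π → pCore q (S ⧸ piCore πᶜ S) = ⊥ := by
    intro q hq hqπ
    haveI : Fact q.Prime := ⟨hq⟩
    haveI hQn : (pCore q (S ⧸ piCore πᶜ S)).Normal := Cfsg.Agent.Lib.Helper2.pCore_normal q
    have hQp : IsPGroup q (pCore q (S ⧸ piCore πᶜ S)) := pCore_isPGroup q
    have hle : (pCore q (S ⧸ piCore πᶜ S)).comap (QuotientGroup.mk' (piCore πᶜ S)) ≤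
        piCore πᶜ S := by
      apply le_sSup
      refine ⟨hQn.comap _, ?_⟩
      intro r hr hrd
      haveI : Fact r.Prime := ⟨hr⟩
      obtain ⟨x, hx⟩ := exists_prime_orderOf_dvd_card' r hrd
      by_cases hx1 : QuotientGroup.mk' (piCore πᶜ S) (x : S) = 1
      · have hxN : (x : S) ∈ piCore πᶜ S := (QuotientGroup.eq_one_iff _).1 hx1
        apply hNπ r hr
        have h5 : orderOf (x : S) ∣ Nat.card (piCore πᶜ S) := by
          have := orderOf_dvd_natCard (⟨(x : S), hxN⟩ : piCore πᶜ S)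
          rwa [Subgroup.orderOf_mk] at this
        rwa [Subgroup.orderOf_coe, hx] at h5
      · have hxQ : QuotientGroup.mk' (piCore πᶜ S) (x : S) ∈ pCore q (S ⧸ piCore πᶜ S) := x.2
        have h5 : orderOf (QuotientGroup.mk' (piCore πᶜ S) (x : S)) ∣ r := by
          have := orderOf_map_dvd (QuotientGroup.mk' (piCore πᶜ S)) (x : S)
          rwa [Subgroup.orderOf_coe, hx] at this
        rcases (Nat.dvd_prime hr).1 h5 with h6 | h6
        · exact absurd (orderOf_eq_one_iff.1 h6) hx1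
        · obtain ⟨i, hi⟩ := (IsPGroup.iff_orderOf.1 hQp) ⟨_, hxQ⟩
          rw [Subgroup.orderOf_mk, h6] at hi
          have hrq : r = q := by
            rcases Nat.eq_zero_or_pos i with rfl | hipos
            · rw [pow_zero] at hi; exact absurd hi hr.one_lt.ne'
            · exact (Nat.prime_dvd_prime_iff_eq hr hq).1
                (hr.dvd_of_dvd_pow (dvd_of_eq hi))
          rw [hrq]
          exact hqπ
    have h7 := Subgroup.map_mono (f := QuotientGroup.mk' (piCore πᶜ S)) hle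
    rw [Subgroup.map_comap_eq_self_of_surjective hfs, QuotientGroup.map_mk'_self] at h7
    exact le_bot_iff.1 h7
  -- (M4) F(X) ≤ image of H
  have hFH : fittingSubgroup (S ⧸ piCore πᶜ S) ≤ H.map (QuotientGroup.mk' (piCore πᶜ S)) := by
    rw [fittingSubgroup_eq_iSup_pCore]
    apply iSup_le
    intro r
    haveI : Fact (r : ℕ).Prime := ⟨r.2⟩
    by_cases hrπ : (r : ℕ) ∈ π
    · haveI hQn : (pCore (r : ℕ) (S ⧸ piCore πᶜ S)).Normal := Cfsg.Agent.Lib.Helper2.pCore_normal _
      apply normal_pgroup_le_of_not_dvd_index (r : ℕ) _ _ (pCore_isPGroup _)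
      intro hdvd
      exact hH2 r r.2 hrπ (hdvd.trans (Subgroup.index_map_dvd H hfs))
    · rw [hO r r.2 hrπ]
      exact bot_le
  have hFΦ : fittingSubgroup (S ⧸ piCore πᶜ S) ≤
      ((Cfsg.fittingSubgroup H).map H.subtype).map (QuotientGroup.mk' (piCore πᶜ S)) := by
    -- the subgroup R' of H
    have hR'n : ((fittingSubgroup (S ⧸ piCore πᶜ S)).comap
        ((QuotientGroup.mk' (piCore πᶜ S)).comp H.subtype)).Normal :=
      (fittingSubgroup_normal).comap _
    have hR'nil : Group.IsNilpotent ↥((fittingSubgroup (S ⧸ piCore πᶜ S)).comap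
        ((QuotientGroup.mk' (piCore πᶜ S)).comp H.subtype)) := by
      haveI : Group.IsNilpotent ↥(fittingSubgroup (S ⧸ piCore πᶜ S)) := fittingSubgroup_isNilpotent
      apply Subgroup.isNilpotent_of_ker_le_center
        (((QuotientGroup.mk' (piCore πᶜ S)).comp H.subtype).subgroupComap
          (fittingSubgroup (S ⧸ piCore πᶜ S)))
      intro x hx
      rw [MonoidHom.mem_ker] at hx
      have h5 : QuotientGroup.mk' (piCore πᶜ S) ((x : H) : S) = 1 :=
        congrArg Subtype.val hx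
      have h6 : ((x : H) : S) = 1 := hinj _ (x : H).2 h5
      have h7 : x = 1 := by
        apply Subtype.ext
        apply Subtype.ext
        simpa using h6
      rw [h7]
      exact Subgroup.one_mem _
    have hR'le := le_fittingSubgroup hR'n hR'nil
    intro x hx
    obtain ⟨h, hh, rfl⟩ := hFH hx
    have h5 : (⟨h, hh⟩ : H) ∈ (fittingSubgroup (S ⧸ piCore πᶜ S)).comap
        ((QuotientGroup.mk' (piCore πᶜ S)).comp H.subtype) := by
      rw [mem_comap]
      exact hx
    exact ⟨h, ⟨⟨h, hh⟩, hR'le h5, rfl⟩, rfl⟩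
  -- nilpotent
  have hΦnil : Group.IsNilpotent ↥(((Cfsg.fittingSubgroup H).map H.subtype).map
      (QuotientGroup.mk' (piCore πᶜ S))) := by
    rw [Subgroup.map_map]
    haveI : Group.IsNilpotent ↥(fittingSubgroup H) := fittingSubgroup_isNilpotent
    exact Group.nilpotent_of_surjective
      (((QuotientGroup.mk' (piCore πᶜ S)).comp H.subtype).subgroupMap (fittingSubgroup H))
      (MonoidHom.subgroupMap_surjective _ _)
  -- (M5)
  have hscn : Cfsg.IsSCN (((Cfsg.fittingSubgroup H).map H.subtype).map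
      (QuotientGroup.mk' (piCore πᶜ S))) (A.map (QuotientGroup.mk' (piCore πᶜ S))) := by
    refine ⟨Subgroup.map_mono hAΦ, ?_, ?_⟩
    · exact (Subgroup.map_mono hΦA).trans (Subgroup.le_normalizer_map _)
    · apply le_antisymm
      · intro x hx
        obtain ⟨hx1, hxC⟩ := Subgroup.mem_inf.1 hx
        obtain ⟨φ, hφ, rfl⟩ := hx1
        refine ⟨φ, ?_, rfl⟩
        rw [← hCA]
        refine Subgroup.mem_inf.2 ⟨hφ, ?_⟩
        rw [mem_centralizer_iff]
        intro a ha
        have h5 := mem_centralizer_iff.1 hxC _ (Subgroup.mem_map_of_mem _ ha)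
        have h6 : QuotientGroup.mk' (piCore πᶜ S) (a * φ * (φ * a)⁻¹) = 1 := by
          rw [map_mul, map_mul, map_inv, map_mul, h5]
          group
        have h7 : a * φ * (φ * a)⁻¹ ∈ H :=
          H.mul_mem (H.mul_mem (hAH ha) (hΦ₀H hφ)) (H.inv_mem (H.mul_mem (hΦ₀H hφ) (hAH ha)))
        have h8 := hinj _ h7 h6
        exact mul_inv_eq_one.1 h8
      · rintro x ⟨a, ha, rfl⟩
        refine Subgroup.mem_inf.2 ⟨Subgroup.mem_map_of_mem _ (hAΦ ha), ?_⟩
        rw [mem_centralizer_iff]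
        rintro y ⟨b, hb, rfl⟩
        rw [← map_mul, ← map_mul, (mem_centralizer_iff.1 (hAab ha) b hb)]
  have hAπ : ∀ q : ℕ, q.Prime → q ∣ Nat.card (A.map (QuotientGroup.mk' (piCore πᶜ S))) → q ∈ π := by
    intro q hq hqd
    exact hH1 q hq ((hqd.trans (Subgroup.card_map_dvd A _)).trans (Subgroup.card_dvd_of_le hAH))
  have hL := centralizer_le_of_scn π h2 h3 hO _ _ hΦnil hAπ hFΦ hscn
  -- final assembly
  refine ⟨piCore πᶜ S ⊓ centralizer (A : Set S), inf_le_right, ?_, ?_, ?_, ?_⟩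
  · intro c hc d hd
    exact ⟨hNn.conj_mem d hd.1 c, Subgroup.mul_mem _ (Subgroup.mul_mem _ hc hd.2)
      (Subgroup.inv_mem _ hc)⟩
  · apply le_bot_iff.1
    rw [← hHN]
    exact le_inf (inf_le_left.trans hAH) (inf_le_right.trans inf_le_left)
  · apply le_antisymm
    · exact sup_le hAab inf_le_right
    · intro x hx
      have h5 : QuotientGroup.mk' (piCore πᶜ S) x ∈
          centralizer ((A.map (QuotientGroup.mk' (piCore πᶜ S)) : Subgroup _) : Set _) := by
        rw [mem_centralizer_iff]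
        rintro y ⟨a, ha, rfl⟩
        rw [← map_mul, ← map_mul, (mem_centralizer_iff.1 hx a ha)]
      obtain ⟨a, ha, hax⟩ := hL h5
      have h6 : a⁻¹ * x ∈ piCore πᶜ S := by
        rw [← QuotientGroup.eq_one_iff]
        change QuotientGroup.mk' (piCore πᶜ S) (a⁻¹ * x) = 1
        rw [map_mul, map_inv, hax, inv_mul_cancel]
      have h7 : a⁻¹ * x ∈ centralizer (A : Set S) :=
        Subgroup.mul_mem _ (Subgroup.inv_mem _ (hAab ha)) hx
      have h8 : x = a * (a⁻¹ * x) := by group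
      rw [h8]
      exact Subgroup.mul_mem _ (le_sup_left (a := A) ha)
        (le_sup_right (a := A) (show a⁻¹ * x ∈ piCore πᶜ S ⊓ centralizer (A : Set S) from ⟨h6, h7⟩))
  · intro q hq hqd
    exact hNπ q hq (hqd.trans (Subgroup.card_dvd_of_le inf_le_left))

end Cfsg.Agent.Lib.Helper23.ScnC
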