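import Mathlib
import Cfsg.Agent.Lib.Helper23.CentFusion
import Cfsg.Agent.Lib.Helper20.Cores
import Cfsg.Agent.Lib.Helper2.NilpotentBasic
import Cfsg.Agent.S0219
import Cfsg.Agent.S1200

set_option autoImplicit false

/-!
# The simple section of a group with quasi-dihedral or wreathed Sylow 2-subgroups

(helper23) If `G` has no subgroup of index 2 then `G / O(G)` has a normal simple subgroup of odd
index (Alperin–Brauer–Gorenstein).
-/

namespace Cfsg.Agent.Lib.Helper23.SimpSec

open Cfsg.Agent.Lib.Helper23.CentFus Cfsg.Agent.Lib.Helper23.FusionTools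

/-- The properties of the Sylow 2-subgroup `S` used below. -/
structure Props {G : Type*} [Group G] (S : Subgroup G) (z s₀ : G) : Prop where
  zS : z ∈ S
  ord : orderOf z = 2
  central : ∀ s ∈ S, s * z = z * s
  conj : ∀ t : G, orderOf t = 2 → IsConj t z
  nz : ∀ I : Subgroup G, I ≤ S → I ≠ ⊥ → S ≤ Subgroup.normalizer (I : Set G) → z ∈ I
  s₀S : s₀ ∈ S
  gen : S ≤ Subgroup.closure {t : G | t ∈ S ∧ orderOf t = 2} ⊔ Subgroup.zpowers s₀
  nonab : ∃ a ∈ S, ∃ b ∈ S, a * b ≠ b * a

section nz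

variable {G : Type*} [Group G] [Finite G] (S : Sylow 2 G)

/-- a nontrivial subgroup of `S` normalized by `S` contains a nontrivial central element -/
theorem exists_central_mem (I : Subgroup G) (hIS : I ≤ (S : Subgroup G)) (hI : I ≠ ⊥)
    (hn : (S : Subgroup G) ≤ Subgroup.normalizer (I : Set G)) :
    ∃ c : ↥(S : Subgroup G), c ∈ Subgroup.center ↥(S : Subgroup G) ∧ c ≠ 1 ∧ (c : G) ∈ I := by
  have : Fact (Nat.Prime 2) := ⟨Nat.prime_two⟩
  have hnil : Group.IsNilpotent ↥(S : Subgroup G) := S.isPGroup'.isNilpotent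
  have hnorm : (I.subgroupOf (S : Subgroup G)).Normal :=
    (Subgroup.normal_subgroupOf_iff_le_normalizer hIS).mpr hn
  have hne : I.subgroupOf (S : Subgroup G) ≠ ⊥ := by
    intro h
    apply hI
    rw [eq_bot_iff]
    intro g hg
    have : (⟨g, hIS hg⟩ : ↥(S : Subgroup G)) ∈ I.subgroupOf (S : Subgroup G) :=
      Subgroup.mem_subgroupOf.mpr hg
    rw [h, Subgroup.mem_bot] at this
    rw [Subgroup.mem_bot]
    exact congrArg Subtype.val this
  have := Cfsg.Agent.Lib.Helper2.normal_inf_center_ne_bot (I.subgroupOf (S : Subgroup G)) hne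
  obtain ⟨⟨c, hc⟩, hc1⟩ := (Subgroup.ne_bot_iff_exists_ne_one).mp this
  refine ⟨c, hc.2, ?_, Subgroup.mem_subgroupOf.mp hc.1⟩
  intro h
  apply hc1
  exact Subtype.ext h

end nz

section generic

variable {X : Type*} [Group X] [Finite X]

/-- `z` lies in every subgroup containing an involution and normal in a subgroup containing
`P`. -/
theorem z_mem_of_invol (P : Sylow 2 X) {z s₀ : X} (hP : Props (P : Subgroup X) z s₀)
    (Y M : Subgroup X) (hPY : (P : Subgroup X) ≤ Y) (hMY : M ≤ Y)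
    (hn : ∀ y ∈ Y, ∀ m ∈ M, y * m * y⁻¹ ∈ M) (t : X) (htM : t ∈ M) (ht : orderOf t = 2) :
    z ∈ M := by
  have : Fact (Nat.Prime 2) := ⟨Nat.prime_two⟩
  have hR : IsPGroup 2 (Subgroup.zpowers t) := by
    apply IsPGroup.of_card (n := 1)
    rw [Nat.card_zpowers, ht, pow_one]
  obtain ⟨c, hcY, hc⟩ := exists_conj_mem_sylow P Y hPY (Subgroup.zpowers t) hR
    ((Subgroup.zpowers_le).mpr (hMY htM))
  have h1 : c * t * c⁻¹ ∈ (P : Subgroup X) := hc t (Subgroup.mem_zpowers t)
  have h2 : c * t * c⁻¹ ∈ M := hn c hcY t htM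
  have hz : z ∈ M ⊓ (P : Subgroup X) := by
    apply hP.nz (M ⊓ (P : Subgroup X)) inf_le_right
    · intro h
      have h3 : c * t * c⁻¹ ∈ M ⊓ (P : Subgroup X) := Subgroup.mem_inf.mpr ⟨h2, h1⟩
      rw [h, Subgroup.mem_bot] at h3
      have h4 : t = 1 := by
        have : t = c⁻¹ * (c * t * c⁻¹) * c := by group
        rw [this, h3]; group
      rw [h4, orderOf_one] at ht
      omega
    · intro s hs
      rw [Subgroup.mem_normalizer_iff]
      intro h
      constructor
      · intro hh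
        obtain ⟨hh1, hh2⟩ := Subgroup.mem_inf.mp hh
        exact Subgroup.mem_inf.mpr ⟨hn s (hPY hs) h hh1,
          Subgroup.mul_mem _ (Subgroup.mul_mem _ hs hh2) (Subgroup.inv_mem _ hs)⟩
      · intro hh
        obtain ⟨hh1, hh2⟩ := Subgroup.mem_inf.mp hh
        have e : h = s⁻¹ * (s * h * s⁻¹) * s⁻¹⁻¹ := by group
        rw [e]
        exact Subgroup.mem_inf.mpr ⟨hn s⁻¹ (Y.inv_mem (hPY hs)) _ hh1,
          Subgroup.mul_mem _ (Subgroup.mul_mem _ (Subgroup.inv_mem _ hs) hh2)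
            (Subgroup.inv_mem _ (Subgroup.inv_mem _ hs))⟩
  exact (Subgroup.mem_inf.mp hz).1

/-- The main theorem for a group with trivial odd core. -/
theorem main_generic (P : Sylow 2 X) {z s₀ : X} (hP : Props (P : Subgroup X) z s₀)
    (hO : Cfsg.pPrimeCore 2 X = ⊥) (hX : ∀ H : Subgroup X, H.index ≠ 2) :
    ∃ L : Subgroup X, L.Normal ∧ Odd L.index ∧ IsSimpleGroup L ∧ ¬ IsMulCommutative L := by
  have : Fact (Nat.Prime 2) := ⟨Nat.prime_two⟩
  have hz1 : z ≠ 1 := by
    intro h; have := hP.ord; rw [h, orderOf_one] at this; omega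
  -- a minimal normal subgroup
  obtain ⟨N, ⟨hNn, hN1⟩, hNmin⟩ := exists_minimal_of_wellFoundedLT
    (fun N : Subgroup X => N.Normal ∧ N ≠ ⊥) ⟨⊤, inferInstance, by
      intro h
      have : z ∈ (⊤ : Subgroup X) := Subgroup.mem_top z
      rw [h, Subgroup.mem_bot] at this
      exact hz1 this⟩
  have heven : ∀ M : Subgroup X, M.IsSubnormal → M ≠ ⊥ → ∃ t ∈ M, orderOf t = 2 := by
    intro M hM hM1
    by_contra hcon
    have h2 : ¬ 2 ∣ Nat.card M := by
      intro hdvd
      obtain ⟨t, ht⟩ := exists_prime_orderOf_dvd_card' (G := ↥M) 2 hdvd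
      exact hcon ⟨t, t.2, by rw [← ht, Subgroup.orderOf_coe]⟩
    have hc : (Nat.card M).Coprime 2 := by
      rw [Nat.coprime_comm]; exact (Nat.Prime.coprime_iff_not_dvd Nat.prime_two).mpr h2
    have := Cfsg.Agent.Lib.Helper20.subnormal_coprime_le_pPrimeCore 2 M hM hc
    rw [hO] at this
    exact hM1 (le_bot_iff.mp this)
  obtain ⟨t, htN, ht2⟩ := heven N hNn.isSubnormal hN1
  have hzN : z ∈ N := z_mem_of_invol P hP ⊤ N le_top le_top
    (fun y _ m hm => hNn.conj_mem m hm y) t htN ht2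
  have hinvN : ∀ t : X, orderOf t = 2 → t ∈ N := by
    intro t ht
    obtain ⟨c, hc⟩ := isConj_iff.mp (hP.conj t ht)
    have : t = c⁻¹ * z * c⁻¹⁻¹ := by rw [← hc]; group
    rw [this]
    exact hNn.conj_mem z hzN c⁻¹
  have hclN : Subgroup.closure {t : X | t ∈ (P : Subgroup X) ∧ orderOf t = 2} ≤ N :=
    (Subgroup.closure_le _).mpr (fun t ht => hinvN t ht.2)
  -- the index is odd
  have hodd : Odd N.index := by
    rw [← Nat.not_even_iff_odd]
    intro hev
    have hle : (P : Subgroup X).map (QuotientGroup.mk' N) ≤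
        Subgroup.zpowers ((QuotientGroup.mk' N) s₀) := by
      calc (P : Subgroup X).map (QuotientGroup.mk' N)
          ≤ (Subgroup.closure {t : X | t ∈ (P : Subgroup X) ∧ orderOf t = 2} ⊔
              Subgroup.zpowers s₀).map (QuotientGroup.mk' N) := Subgroup.map_mono hP.gen
        _ = (Subgroup.closure {t : X | t ∈ (P : Subgroup X) ∧ orderOf t = 2}).map
              (QuotientGroup.mk' N) ⊔ (Subgroup.zpowers s₀).map (QuotientGroup.mk' N) :=
            Subgroup.map_sup _ _ _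
        _ ≤ ⊥ ⊔ Subgroup.zpowers ((QuotientGroup.mk' N) s₀) := by
            apply sup_le_sup
            · rintro _ ⟨a, ha, rfl⟩
              rw [Subgroup.mem_bot]
              exact (QuotientGroup.eq_one_iff a).mpr (hclN ha)
            · rw [MonoidHom.map_zpowers]
        _ = Subgroup.zpowers ((QuotientGroup.mk' N) s₀) := bot_sup_eq _
    have hcycl : IsCyclic ↥((P.mapSurjective (QuotientGroup.mk'_surjective N) :
        Sylow 2 (X ⧸ N)) : Subgroup (X ⧸ N)) := by
      have h1 : ((P.mapSurjective (QuotientGroup.mk'_surjective N) :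
        Sylow 2 (X ⧸ N)) : Subgroup (X ⧸ N)) ≤ Subgroup.zpowers ((QuotientGroup.mk' N) s₀) := hle
      exact isCyclic_of_injective (Subgroup.inclusion h1) (Subgroup.inclusion_injective h1)
    obtain ⟨H, hH⟩ := Cfsg.Agent.S0219.result
      (by rw [← Subgroup.index_eq_card]; exact hev)
      (P.mapSurjective (QuotientGroup.mk'_surjective N)) hcycl
    apply hX (H.comap (QuotientGroup.mk' N))
    rw [Subgroup.index_comap_of_surjective _ (QuotientGroup.mk'_surjective N)]
    exact hH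
  have hPN : (P : Subgroup X) ≤ N := by
    intro s hs
    obtain ⟨k, hk⟩ := P.isPGroup' ⟨s, hs⟩
    have hk' : s ^ 2 ^ k = 1 := by
      have := congrArg Subtype.val hk; simpa using this
    have h1 : orderOf ((QuotientGroup.mk' N) s) ∣ 2 ^ k := by
      apply orderOf_dvd_of_pow_eq_one
      rw [← map_pow, hk', map_one]
    have h2 : orderOf ((QuotientGroup.mk' N) s) ∣ N.index := by
      rw [Subgroup.index_eq_card]; exact orderOf_dvd_natCard _
    have h3 : (N.index).Coprime (2 ^ k) := (Nat.coprime_two_right.mpr hodd).pow_right k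
    have h4 : orderOf ((QuotientGroup.mk' N) s) = 1 := Nat.eq_one_of_dvd_coprimes h3 h2 h1
    rw [orderOf_eq_one_iff] at h4
    exact (QuotientGroup.eq_one_iff s).mp h4
  have hsimple : IsSimpleGroup ↥N := by
    haveI : Nontrivial ↥N := (Subgroup.nontrivial_iff_ne_bot N).mpr hN1
    refine ⟨fun M hM => ?_⟩
    by_cases hM1 : M = ⊥
    · exact Or.inl hM1
    right
    obtain ⟨M', hM'⟩ : ∃ M' : Subgroup X, M' = M.map N.subtype := ⟨_, rfl⟩
    have hM'N : M' ≤ N := by rw [hM']; exact Subgroup.map_subtype_le M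
    have hM'n : ∀ n ∈ N, ∀ m ∈ M', n * m * n⁻¹ ∈ M' := by
      intro n hn m hm
      rw [hM'] at hm ⊢
      obtain ⟨m₀, hm₀, rfl⟩ := Subgroup.mem_map.mp hm
      exact Subgroup.mem_map.mpr ⟨⟨n, hn⟩ * m₀ * ⟨n, hn⟩⁻¹, hM.conj_mem m₀ hm₀ ⟨n, hn⟩, rfl⟩
    have hM'1 : M' ≠ ⊥ := by
      intro h
      apply hM1
      rw [eq_bot_iff]
      intro m hm
      have : (m : X) ∈ M' := by rw [hM']; exact Subgroup.mem_map.mpr ⟨m, hm, rfl⟩
      rw [h, Subgroup.mem_bot] at this
      rw [Subgroup.mem_bot]; exact Subtype.ext this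
    have hsub : M'.IsSubnormal := by
      refine Subgroup.IsSubnormal.step M' N hM'N hNn.isSubnormal ?_
      have : M'.subgroupOf N = M := by
        ext ⟨x, hx⟩
        rw [Subgroup.mem_subgroupOf, hM']
        constructor
        · intro h
          obtain ⟨m₀, hm₀, he⟩ := Subgroup.mem_map.mp h
          have : m₀ = ⟨x, hx⟩ := Subtype.ext he
          rw [← this]; exact hm₀
        · intro h
          exact Subgroup.mem_map.mpr ⟨⟨x, hx⟩, h, rfl⟩
      rw [this]; exact hM
    obtain ⟨t, htM, ht2⟩ := heven M' hsub hM'1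
    have hzg : ∀ g : X, g * z * g⁻¹ ∈ M' := by
      intro g
      have key : z ∈ M'.comap (MulAut.conj g).toMonoidHom := by
        refine z_mem_of_invol P hP N _ hPN ?_ ?_ (g⁻¹ * t * g) ?_ ?_
        · intro x hx
          have hx' : g * x * g⁻¹ ∈ N := hM'N hx
          have : x = g⁻¹ * (g * x * g⁻¹) * g⁻¹⁻¹ := by group
          rw [this]; exact hNn.conj_mem _ hx' g⁻¹
        · intro y hy m hm
          have hm' : g * m * g⁻¹ ∈ M' := hm
          show g * (y * m * y⁻¹) * g⁻¹ ∈ M'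
          have e : g * (y * m * y⁻¹) * g⁻¹ = (g * y * g⁻¹) * (g * m * g⁻¹) * (g * y * g⁻¹)⁻¹ := by
            group
          rw [e]
          exact hM'n _ (hNn.conj_mem y hy g) _ hm'
        · show g * (g⁻¹ * t * g) * g⁻¹ ∈ M'
          have : g * (g⁻¹ * t * g) * g⁻¹ = t := by group
          rw [this]; exact htM
        · have := (MulAut.conj g⁻¹).orderOf_eq t
          rw [MulAut.conj_apply, inv_inv] at this
          rw [this]; exact ht2
      exact key
    have hzK : z ∈ M'.normalCore := hzg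
    have hK : M'.normalCore ≠ ⊥ := by
      intro h
      rw [h, Subgroup.mem_bot] at hzK
      exact hz1 hzK
    have hKle : M'.normalCore ≤ N := (Subgroup.normalCore_le M').trans hM'N
    have hNK : N ≤ M'.normalCore := hNmin ⟨Subgroup.normalCore_normal M', hK⟩ hKle
    rw [eq_top_iff]
    intro n _
    have : (n : X) ∈ M' := Subgroup.normalCore_le M' (hNK n.2)
    rw [hM'] at this
    obtain ⟨m₀, hm₀, he⟩ := Subgroup.mem_map.mp this
    have : m₀ = n := Subtype.ext he
    rw [← this]; exact hm₀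
  have hnc : ¬ IsMulCommutative ↥N := by
    intro hc
    obtain ⟨a, ha, b, hb, hab⟩ := hP.nonab
    exact hab (congrArg Subtype.val (hc.is_comm.comm ⟨a, hPN ha⟩ ⟨b, hPN hb⟩))
  exact ⟨N, hNn, hodd, hsimple, hnc⟩

end generic

section propsqd

open Cfsg.Agent.Lib.Helper12.QD Cfsg.Agent.Lib.Helper23.QDFusion

variable {G : Type*} [Group G] [Finite G] (S : Sylow 2 G) (D : Data ↥(S : Subgroup G))

theorem props_qd (hG : ∀ H : Subgroup G, H.index ≠ 2) :
    Props (S : Subgroup G) (zG D) ((D.x : ↥(S : Subgroup G)) : G) where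
  zS := zG_mem D
  ord := orderOf_zG D
  central := fun s hs => zG_comm D s hs
  conj := fun t ht => qd_invol_conj S D hG t ht
  nz := by
    intro I hIS hI hn
    obtain ⟨c, hcc, hc1, hcI⟩ := exists_central_mem S I hIS hI hn
    rcases (mem_center_iff D c).mp hcc with h | h
    · exact absurd h hc1
    · rw [h] at hcI; exact hcI
  s₀S := (D.x : ↥(S : Subgroup G)).2
  gen := by
    intro s hs
    obtain ⟨i, h | h⟩ := D.normal_form ⟨s, hs⟩
    · apply Subgroup.mem_sup_right
      have : s = ((D.x : ↥(S : Subgroup G)) : G) ^ i.val := by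
        have := congrArg Subtype.val h
        simpa [Data.px] using this
      rw [this]; exact Subgroup.pow_mem _ (Subgroup.mem_zpowers _) _
    · have : s = ((D.x : ↥(S : Subgroup G)) : G) ^ i.val * yG D := by
        have := congrArg Subtype.val h
        simpa [Data.px, yG] using this
      rw [this]
      exact Subgroup.mul_mem _
        (Subgroup.mem_sup_right (Subgroup.pow_mem _ (Subgroup.mem_zpowers _) _))
        (Subgroup.mem_sup_left (Subgroup.subset_closure ⟨yG_mem D, orderOf_yG D⟩))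
  nonab := ⟨yG D, yG_mem D, ((D.px 1 : ↥(S : Subgroup G)) : G), (D.px 1).2, by
    intro h
    apply y_not_central D
    exact Subtype.ext h⟩

end propsqd

section propswr

open Cfsg.Agent.Lib.Helper12.Wr Cfsg.Agent.Lib.Helper23.WrAut Cfsg.Agent.Lib.Helper23.WrFus

variable {G : Type*} [Group G] [Finite G] (S : Sylow 2 G) (D : Data ↥(S : Subgroup G))

theorem props_wr (hG : ∀ H : Subgroup G, H.index ≠ 2) :
    ∃ s₀ : G, Props (S : Subgroup G) (cG S D) s₀ := by
  have hSw : Cfsg.IsWreathed ↥(S : Subgroup G) :=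
    ⟨D.n, D.hn, D.card, D.x, D.y, D.z, D.hx, D.hxy, D.hdisj, D.hz, D.rel⟩
  obtain ⟨-, s, hs⟩ := Cfsg.Agent.S1200.result hSw D.n D.card
  refine ⟨(s : G), ?_⟩
  refine ⟨cG_mem_S, orderOf_cG S D, ?_, ?_, ?_, s.2, ?_, ?_⟩
  · intro s hs
    have := conj_cG_of_mem_S (S := S) (D := D) hs
    calc s * cG S D = (s * cG S D * s⁻¹) * s := by group
      _ = cG S D * s := by rw [this]
  · intro x hx
    obtain ⟨Q', ⟨e⟩, hq⟩ := exists_qDat_wr D 0
    obtain ⟨h₁, h₂⟩ := wr_six_six hq e hG
    rcases invol_isConj S D x hx with h | h | h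
    · exact h
    · exact h.trans (isConj_aG_cG S D h₁).symm
    · exact (h.trans (isConj_aG_zG hq e h₂).symm).trans (isConj_aG_cG S D h₁).symm
  · intro I hIS hI hn
    obtain ⟨c, hcc, hc1, hcI⟩ := exists_central_mem S I hIS hI hn
    have h2 : ∃ k : ℕ, c ^ (2 ^ k) = 1 := by
      have : Fact (Nat.Prime 2) := ⟨Nat.prime_two⟩
      obtain ⟨k, hk⟩ := S.isPGroup' c
      exact ⟨k, hk⟩
    obtain ⟨m, hm1, hmm⟩ := Cfsg.Agent.Lib.Helper23.LocalIndex.exists_pow_involution hc1 h2
    have h3 : c ^ m = cc D :=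
      eq_cc_of_central D (c ^ m) (Subgroup.pow_mem _ hcc m) hm1 hmm
    have h4 : ((c ^ m : ↥(S : Subgroup G)) : G) ∈ I := by
      rw [Subgroup.coe_pow]; exact Subgroup.pow_mem _ hcI m
    rw [h3] at h4
    exact h4
  · intro g hg
    have h1 : (⟨g, hg⟩ : ↥(S : Subgroup G)) ∈
        Subgroup.closure {x : ↥(S : Subgroup G) | orderOf x = 2} ⊔ Subgroup.zpowers s := by
      rw [hs]; exact Subgroup.mem_top _
    have h2 : g ∈ (Subgroup.closure {x : ↥(S : Subgroup G) | orderOf x = 2} ⊔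
        Subgroup.zpowers s).map (S : Subgroup G).subtype := Subgroup.mem_map.mpr ⟨_, h1, rfl⟩
    rw [Subgroup.map_sup, MonoidHom.map_zpowers, MonoidHom.map_closure] at h2
    refine (sup_le_sup_right (Subgroup.closure_mono ?_) _) h2
    rintro _ ⟨t, ht, rfl⟩
    exact ⟨t.2, by rw [Subgroup.coe_subtype, Subgroup.orderOf_coe]; exact ht⟩
  · refine ⟨((D.z : ↥(S : Subgroup G)) : G), (D.z).2, ((D.x : ↥(S : Subgroup G)) : G), (D.x).2, ?_⟩
    intro h
    have h1 : D.z * D.x = D.x * D.z := Subtype.ext h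
    apply D.x_ne_y
    rw [← D.rel, h1]; group

end propswr

section final

variable {G : Type*} [Group G] [Finite G]

theorem main (S : Sylow 2 G)
    (hS : Cfsg.IsQuasiDihedral ↥(S : Subgroup G) ∨ Cfsg.IsWreathed ↥(S : Subgroup G))
    (hG : ∀ H : Subgroup G, H.index ≠ 2) :
    ∃ L : Subgroup (G ⧸ Cfsg.oddCore G),
      L.Normal ∧ Odd L.index ∧ IsSimpleGroup L ∧ ¬ IsMulCommutative L := by
  have : Fact (Nat.Prime 2) := ⟨Nat.prime_two⟩
  have hπ : Function.Surjective (QuotientGroup.mk' (Cfsg.oddCore G)) :=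
    QuotientGroup.mk'_surjective _
  obtain ⟨P, hPdef⟩ : ∃ P : Sylow 2 (G ⧸ Cfsg.oddCore G), P = S.mapSurjective hπ := ⟨_, rfl⟩
  have hPcoe : (P : Subgroup (G ⧸ Cfsg.oddCore G)) =
      (S : Subgroup G).map (QuotientGroup.mk' (Cfsg.oddCore G)) := by rw [hPdef]; rfl
  have hdisj : (S : Subgroup G) ⊓ Cfsg.oddCore G = ⊥ := by
    apply disjoint_iff.mp
    apply Subgroup.disjoint_of_coprime_natCard
    obtain ⟨k, hk⟩ := IsPGroup.iff_card.mp S.isPGroup'
    rw [hk]
    exact Nat.Coprime.pow_left k (Cfsg.Agent.Lib.Helper20.pPrimeCore_coprime' 2).symm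
  have hinj : Function.Injective
      ((QuotientGroup.mk' (Cfsg.oddCore G)).comp (S : Subgroup G).subtype) := by
    rw [injective_iff_map_eq_one]
    intro s hs
    have h1 : (s : G) ∈ Cfsg.oddCore G := (QuotientGroup.eq_one_iff _).mp hs
    have h2 : (s : G) ∈ (S : Subgroup G) ⊓ Cfsg.oddCore G := Subgroup.mem_inf.mpr ⟨s.2, h1⟩
    rw [hdisj, Subgroup.mem_bot] at h2
    exact Subtype.ext h2
  have hrange : ((QuotientGroup.mk' (Cfsg.oddCore G)).comp (S : Subgroup G).subtype).range =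
      (P : Subgroup (G ⧸ Cfsg.oddCore G)) := by
    rw [hPcoe, MonoidHom.range_comp, Subgroup.range_subtype]
  have e : ↥(S : Subgroup G) ≃* ↥(P : Subgroup (G ⧸ Cfsg.oddCore G)) :=
    (MonoidHom.ofInjective hinj).trans (MulEquiv.subgroupCongr hrange)
  have hP : Cfsg.IsQuasiDihedral ↥(P : Subgroup (G ⧸ Cfsg.oddCore G)) ∨
      Cfsg.IsWreathed ↥(P : Subgroup (G ⧸ Cfsg.oddCore G)) :=
    hS.imp (isQuasiDihedral_congr e) (isWreathed_congr e)
  have hX : ∀ H : Subgroup (G ⧸ Cfsg.oddCore G), H.index ≠ 2 := by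
    intro H hH
    apply hG (H.comap (QuotientGroup.mk' (Cfsg.oddCore G)))
    rw [Subgroup.index_comap_of_surjective _ hπ]; exact hH
  have hO : Cfsg.pPrimeCore 2 (G ⧸ Cfsg.oddCore G) = ⊥ :=
    Cfsg.Agent.Lib.Helper20.pPrimeCore_quotient_eq_bot 2
  rcases hP with h | h
  · obtain ⟨D⟩ := Cfsg.Agent.Lib.Helper12.QD.exists_data h
    exact main_generic P (props_qd P D hX) hO hX
  · obtain ⟨D⟩ := Cfsg.Agent.Lib.Helper12.Wr.exists_data h
    obtain ⟨s₀, hp⟩ := props_wr P D hX
    exact main_generic P hp hO hX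

end final

end Cfsg.Agent.Lib.Helper23.SimpSec
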