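import Mathlib
import Cfsg.Prelude.Def_RootSubgroups
import Cfsg.Agent.Lib.Helper5.RankOne

/-!
Special rank one groups with abelian unipotent subgroups (Timmesfeld I §2), helper23.

Main identity: for a matched pair `(c, d)` and `e` matched with `d ^ m` one has `e ^ m = c`
(whenever the relevant powers are non-trivial).
-/

set_option autoImplicit false

namespace Cfsg.Agent.Lib.Helper23.SpecialRankOne

open Cfsg Cfsg.Agent.Lib.Helper5

variable {G : Type*} [Group G]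

/-- matched pair (left-action form): `b A b⁻¹ = a B a⁻¹`. -/
def Pr (A B : Subgroup G) (a b : G) : Prop :=
  a ∈ A ∧ b ∈ B ∧ a ≠ 1 ∧ b ≠ 1 ∧ conjBy A b = conjBy B a

theorem comm_of_mem {A : Subgroup G} (hA : IsMulCommutative A) {x y : G} (hx : x ∈ A)
    (hy : y ∈ A) : x * y = y * x :=
  congrArg Subtype.val (hA.is_comm.comm ⟨x, hx⟩ ⟨y, hy⟩)

/-- The special condition is symmetric. -/
theorem special_symm {A B : Subgroup G} (hsp : IsSpecialRankOnePair A B) :
    IsSpecialRankOnePair B A := by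
  refine ⟨RankOnePair_symm hsp.1, ?_⟩
  intro b hb hb1 a ha ha1 hc
  have := hsp.2 a ha ha1 b hb hb1 hc.symm
  have h2 := congrArg (fun t => t⁻¹) this
  simp only [mul_inv_rev, inv_inv] at h2
  rw [← mul_assoc, ← mul_assoc] at h2
  exact h2.symm

theorem pr_swap {A B : Subgroup G} {a b : G} (h : Pr A B a b) : Pr B A b a :=
  ⟨h.2.1, h.1, h.2.2.2.1, h.2.2.1, h.2.2.2.2.symm⟩

theorem pr_of_cond {A B : Subgroup G} {a b : G} (ha : a ∈ A) (ha1 : a ≠ 1) (hb : b ∈ B) (hb1 : b ≠ 1)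
    (hc : conjBy A b⁻¹ = conjBy B a⁻¹) : Pr A B a⁻¹ b⁻¹ :=
  ⟨A.inv_mem ha, B.inv_mem hb, fun h => ha1 (inv_eq_one.mp h), fun h => hb1 (inv_eq_one.mp h), hc⟩

theorem cond_of_pr {A B : Subgroup G} {a b : G} (h : Pr A B a b) :
    conjBy A (b⁻¹)⁻¹ = conjBy B (a⁻¹)⁻¹ := by
  rw [inv_inv, inv_inv]; exact h.2.2.2.2

section
variable {A B : Subgroup G} (hsp : IsSpecialRankOnePair A B)
include hsp

/-- Two distinct conjugates (under `A ⊔ B`) of `A` meet trivially. -/
theorem ti_of_mem {C D : Subgroup G} (hC : C ∈ unipotentSubgroups A B)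
    (hD : D ∈ unipotentSubgroups A B) {x : G} (hxC : x ∈ C) (hxD : x ∈ D) (hx : x ≠ 1) :
    C = D := by
  by_contra hne
  have h1 := inf_normalizer_of_ne hsp.1 hC hD hne
  have h2 : x ∈ C ⊓ Subgroup.normalizer (D : Set G) :=
    ⟨hxC, Subgroup.le_normalizer hxD⟩
  rw [h1, Subgroup.mem_bot] at h2
  exact hx h2

/-- the special relation in left form: `b a b⁻¹ = a b⁻¹ a⁻¹`. -/
theorem pr_rel {a b : G} (h : Pr A B a b) : b * a * b⁻¹ = a * b⁻¹ * a⁻¹ := by
  obtain ⟨ha, hb, ha1, hb1, hc⟩ := h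
  have h1 := hsp.2 a⁻¹ (A.inv_mem ha) (fun h => ha1 (inv_eq_one.mp h)) b⁻¹ (B.inv_mem hb)
    (fun h => hb1 (inv_eq_one.mp h)) (by rw [inv_inv, inv_inv]; exact hc)
  simp only [inv_inv] at h1
  -- h1 : b * a⁻¹ * b⁻¹ = a * b * a⁻¹
  have h2 := congrArg (fun t => t⁻¹) h1
  simp only [mul_inv_rev, inv_inv] at h2
  rw [← mul_assoc, ← mul_assoc] at h2
  exact h2

/-- the inverse pair is again matched -/
theorem pr_inv {a b : G} (h : Pr A B a b) : Pr A B a⁻¹ b⁻¹ := by
  have hrel := pr_rel hsp h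
  obtain ⟨ha, hb, ha1, hb1, hc⟩ := h
  refine ⟨A.inv_mem ha, B.inv_mem hb, fun h => ha1 (inv_eq_one.mp h),
    fun h => hb1 (inv_eq_one.mp h), ?_⟩
  -- the element `b⁻¹ a b` lies in both `b⁻¹ A b` and `a⁻¹ B a`
  have hsup_a : a ∈ A ⊔ B := Subgroup.mem_sup_left ha
  have hsup_b : b ∈ A ⊔ B := Subgroup.mem_sup_right hb
  have hC : conjBy A b⁻¹ ∈ unipotentSubgroups A B :=
    ⟨b⁻¹, Subgroup.inv_mem _ hsup_b, rfl⟩
  have hD : conjBy B a⁻¹ ∈ unipotentSubgroups A B :=
    conjBy_mem_unipotentSubgroups (Subgroup.inv_mem _ hsup_a) (right_mem_unipotentSubgroups hsp.1)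
  have hx1 : b⁻¹ * a * b ∈ conjBy A b⁻¹ := by
    rw [mem_conjBy_iff]
    have : b⁻¹⁻¹ * (b⁻¹ * a * b) * b⁻¹ = a := by group
    rw [this]; exact ha
  have hrel2 : b⁻¹ * a * b = a⁻¹ * b⁻¹ * a := by
    have h3 : a⁻¹ * b * a = b⁻¹ * a⁻¹ * b := by
      have : a⁻¹ * (b * a * b⁻¹) * b = a⁻¹ * (a * b⁻¹ * a⁻¹) * b := by rw [hrel]
      have e1 : a⁻¹ * (b * a * b⁻¹) * b = a⁻¹ * b * a := by group
      have e2 : a⁻¹ * (a * b⁻¹ * a⁻¹) * b = b⁻¹ * a⁻¹ * b := by group
      rw [e1, e2] at this; exact this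
    have h4 := congrArg (fun t => t⁻¹) h3
    simp only [mul_inv_rev, inv_inv] at h4
    rw [← mul_assoc, ← mul_assoc] at h4
    exact h4.symm
  have hx2 : b⁻¹ * a * b ∈ conjBy B a⁻¹ := by
    rw [hrel2, mem_conjBy_iff]
    have : a⁻¹⁻¹ * (a⁻¹ * b⁻¹ * a) * a⁻¹ = b⁻¹ := by group
    rw [this]; exact B.inv_mem hb
  have hx3 : b⁻¹ * a * b ≠ 1 := by
    intro h
    apply ha1
    have : a = b * (b⁻¹ * a * b) * b⁻¹ := by group
    rw [this, h]; group
  exact ti_of_mem hsp hC hD hx1 hx2 hx3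

theorem pr_unique_right {a b b' : G} (h : Pr A B a b) (h' : Pr A B a b') : b = b' := by
  have hBA := inf_normalizer_eq_bot hsp.1.ne.symm hsp.1.cond_right
  have h1 : conjBy A (b'⁻¹ * b) = A := by
    have : conjBy A b = conjBy A b' := h.2.2.2.2.trans h'.2.2.2.2.symm
    have := congrArg (fun C => conjBy C b'⁻¹) this
    simpa [conjBy_conjBy, conjBy_one] using this
  have h2 : b'⁻¹ * b ∈ B ⊓ Subgroup.normalizer (A : Set G) :=
    ⟨B.mul_mem (B.inv_mem h'.2.1) h.2.1, (conjBy_eq_self_iff A _).1 h1⟩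
  rw [hBA, Subgroup.mem_bot] at h2
  exact (inv_mul_eq_one.mp h2).symm

theorem pr_unique_left {a a' b : G} (h : Pr A B a b) (h' : Pr A B a' b) : a = a' :=
  pr_unique_right (special_symm hsp) (pr_swap h) (pr_swap h')

theorem exists_pr_right {a : G} (ha : a ∈ A) (ha1 : a ≠ 1) : ∃ b, Pr A B a b := by
  obtain ⟨b, hb, hb1, hc⟩ := hsp.1.cond_left a⁻¹ (A.inv_mem ha) (fun h => ha1 (inv_eq_one.mp h))
  rw [inv_inv] at hc
  exact ⟨b⁻¹, ha, B.inv_mem hb, ha1, fun h => hb1 (inv_eq_one.mp h), hc⟩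

theorem exists_pr_left {b : G} (hb : b ∈ B) (hb1 : b ≠ 1) : ∃ a, Pr A B a b := by
  obtain ⟨a, h⟩ := exists_pr_right (special_symm hsp) hb hb1
  exact ⟨a, pr_swap h⟩

/-- points `x B x⁻¹`, `x ∈ A`, are distinct -/
theorem pt_inj {x y : G} (hx : x ∈ A) (hy : y ∈ A) (h : conjBy B x = conjBy B y) : x = y := by
  have hAB := inf_normalizer_eq_bot hsp.1.ne hsp.1.cond_left
  have h1 : conjBy B (y⁻¹ * x) = B := by
    have := congrArg (fun C => conjBy C y⁻¹) h
    simpa [conjBy_conjBy, conjBy_one] using this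
  have h2 : y⁻¹ * x ∈ A ⊓ Subgroup.normalizer (B : Set G) :=
    ⟨A.mul_mem (A.inv_mem hy) hx, (conjBy_eq_self_iff B _).1 h1⟩
  rw [hAB, Subgroup.mem_bot] at h2
  exact (inv_mul_eq_one.mp h2).symm

end

theorem orderOf_conj' (g c : G) : orderOf (g * c * g⁻¹) = orderOf c := by
  have := MulEquiv.orderOf_eq (MulAut.conj g) c
  simpa [MulAut.conj_apply] using this

/-- the order condition used in the induction -/
def Good (p : ℕ) (d : G) : Prop := orderOf d = 0 ∨ ∀ q : ℕ, q.Prime → q ∣ orderOf d → p ≤ q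

theorem good_pow {p : ℕ} {d : G} (h : Good p d) {j : ℕ} (hj : 0 < j) : Good p (d ^ j) := by
  rcases h with h | h
  · left
    rw [orderOf_pow' d hj.ne', h]
    simp
  · right
    intro q hq hqd
    apply h q hq
    rw [orderOf_pow' d hj.ne'] at hqd
    exact dvd_trans hqd (Nat.div_dvd_of_dvd (Nat.gcd_dvd_left _ _))

theorem pow_ne_one_of_good {p : ℕ} {d : G} (h : Good p d) (hd : d ≠ 1) {j : ℕ} (hj : 0 < j)
    (hsm : ∀ q : ℕ, q.Prime → q ∣ j → q < p) : d ^ j ≠ 1 := by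
  intro h1
  have hdvd : orderOf d ∣ j := orderOf_dvd_iff_pow_eq_one.mpr h1
  rcases h with h | h
  · rw [h] at hdvd
    have := zero_dvd_iff.mp hdvd
    omega
  · have hN1 : orderOf d ≠ 1 := fun h0 => hd (orderOf_eq_one_iff.mp h0)
    obtain ⟨q, hq, hqd⟩ := Nat.exists_prime_and_dvd hN1
    have h2 := h q hq hqd
    have h3 := hsm q hq (dvd_trans hqd hdvd)
    omega

section
variable {A B : Subgroup G} (hsp : IsSpecialRankOnePair A B)
include hsp

/-- matched elements have the same order -/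
theorem orderOf_eq_of_pr {c d : G} (h : Pr A B c d) : orderOf d = orderOf c := by
  have hrel := pr_rel hsp h
  have e : d⁻¹ = (c⁻¹ * d) * c * (c⁻¹ * d)⁻¹ := by
    have : (c⁻¹ * d) * c * (c⁻¹ * d)⁻¹ = c⁻¹ * (d * c * d⁻¹) * c := by group
    rw [this, hrel]; group
  rw [← orderOf_inv d, e, orderOf_conj']

/-- key computation: `d • [c^k] = [c e⁻¹]` where `e` is matched with `d^(k+1)`. -/
theorem key {c d e : G} (k : ℕ) (hcd : Pr A B c d) (he : Pr A B e (d ^ (k + 1))) :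
    conjBy B (d * c ^ k) = conjBy B (c * e⁻¹) := by
  have h1 := (pr_inv hsp he).2.2.2.2
  have h2 := (pr_inv hsp hcd).2.2.2.2
  have hrel := pr_rel hsp hcd
  -- (d⁻¹)^k * c⁻¹ = c⁻¹ * d * c^k * d⁻¹
  have e1 : (d⁻¹) ^ k * c⁻¹ = c⁻¹ * d * c ^ k * d⁻¹ := by
    have h3 : (c * d⁻¹ * c⁻¹) ^ k = (d * c * d⁻¹) ^ k := by rw [hrel]
    rw [conj_pow, conj_pow] at h3
    have : (d⁻¹) ^ k = c⁻¹ * (c * d⁻¹ ^ k * c⁻¹) * c := by group
    rw [this, h3]; group
  have e2 : (d ^ (k + 1))⁻¹ = (d⁻¹) ^ k * d⁻¹ := by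
    rw [pow_succ, mul_inv_rev, ← inv_pow]
    exact (Commute.pow_right (Commute.refl d⁻¹) k).eq
  have h4 : conjBy B e⁻¹ = conjBy B (c⁻¹ * d * c ^ k) := by
    rw [← h1, e2, ← conjBy_conjBy, h2, conjBy_conjBy, e1, ← conjBy_conjBy,
      conjBy_of_mem (B.inv_mem hcd.2.1)]
  have h5 := congrArg (fun C => conjBy C c) h4
  simp only [conjBy_conjBy] at h5
  rw [h5]
  congr 1
  group

/-- the inductive step -/
theorem step {c d ek ek1 s : G} (k : ℕ) (hcd : Pr A B c d) (hek : Pr A B ek (d ^ k))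
    (hek1 : Pr A B ek1 (d ^ (k + 1))) (hs : Pr A B s ((d ^ k) ^ (k + 1))) (h1 : ek ^ k = c)
    (h2 : s ^ k = ek1) : ek1 ^ (k + 1) = c := by
  have hkey := key hsp k hek hs
  rw [h1] at hkey
  have h3 : conjBy B (d ^ k * c) = conjBy B ek1 := by
    rw [← conjBy_conjBy, ← hcd.2.2.2.2, conjBy_conjBy, ← pow_succ]
    exact hek1.2.2.2.2
  rw [h3] at hkey
  have h4 : ek1 = ek * s⁻¹ :=
    pt_inj hsp hek1.1 (A.mul_mem hek.1 (A.inv_mem hs.1)) hkey
  have h5 : s ^ (k + 1) = ek := by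
    rw [pow_succ, h2, h4]; group
  rw [← h2, ← pow_mul, mul_comm, pow_mul, h5, h1]

theorem ind_step (p k : ℕ)
    (ih : ∀ c d e : G, Pr A B c d → Good p d → Pr A B e (d ^ k) → e ^ k = c)
    {c d e : G} (hcd : Pr A B c d) (hg : Good p d) (hne : d ^ (k * (k + 1)) ≠ 1)
    (he : Pr A B e (d ^ (k + 1))) : e ^ (k + 1) = c := by
  have hdk : d ^ k ≠ 1 := by
    intro h
    apply hne
    rw [pow_mul, h, one_pow]
  have hdB : d ∈ B := hcd.2.1
  obtain ⟨ek, hek⟩ := exists_pr_left hsp (B.pow_mem hdB k) hdk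
  have hne' : (d ^ k) ^ (k + 1) ≠ 1 := by rw [← pow_mul]; exact hne
  obtain ⟨s, hs⟩ := exists_pr_left hsp (B.pow_mem (B.pow_mem hdB k) (k + 1)) hne'
  have h1 := ih c d ek hcd hg hek
  have hs' : Pr A B s ((d ^ (k + 1)) ^ k) := by
    have : (d ^ (k + 1)) ^ k = (d ^ k) ^ (k + 1) := by
      rw [← pow_mul, ← pow_mul, mul_comm]
    rw [this]; exact hs
  have h2 := ih e (d ^ (k + 1)) s he (good_pow hg (Nat.succ_pos k)) hs'
  exact step hsp k hcd hek he hs h1 h2

/-- the main identity below the prime `p` -/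
theorem main_ind (p : ℕ) : ∀ m : ℕ, 0 < m → m < p → ∀ c d e : G, Pr A B c d → Good p d →
    Pr A B e (d ^ m) → e ^ m = c := by
  intro m
  induction m with
  | zero => intro h; omega
  | succ k ih =>
    intro _ hkp c d e hcd hg he
    rcases Nat.eq_zero_or_pos k with hk0 | hk0
    · subst hk0
      rw [zero_add, pow_one] at he ⊢
      exact pr_unique_left hsp he hcd
    · apply ind_step hsp p k (ih hk0 (by omega)) hcd hg _ he
      apply pow_ne_one_of_good hg hcd.2.2.2.1 (Nat.mul_pos hk0 (Nat.succ_pos k))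
      intro q hq hqd
      rcases (Nat.Prime.dvd_mul hq).mp hqd with h | h
      · have := Nat.le_of_dvd hk0 h; omega
      · have := Nat.le_of_dvd (Nat.succ_pos k) h; omega

/-- the main identity at the prime `p` -/
theorem main_prime {p : ℕ} (hp : p.Prime) {c d e : G} (hcd : Pr A B c d) (hg : Good p d)
    (hne : d ^ ((p - 1) * p) ≠ 1) (he : Pr A B e (d ^ p)) : e ^ p = c := by
  obtain ⟨k, rfl⟩ : ∃ k, p = k + 1 := ⟨p - 1, by have := hp.two_le; omega⟩
  have hk0 : 0 < k := by have := hp.two_le; omega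
  rw [Nat.add_sub_cancel] at hne
  exact ind_step hsp (k + 1) k (main_ind hsp (k + 1) k hk0 (by omega)) hcd hg hne he

end

section
variable {A B : Subgroup G} (hsp : IsSpecialRankOnePair A B)
include hsp

/-- `B`-side version of the identity: `b(y^m)^m = b(y)`. -/
theorem main_ind_right (p m : ℕ) (hm : 0 < m) (hmp : m < p) {y β β' : G} (hy : Pr A B y β)
    (hg : Good p y) (hy' : Pr A B (y ^ m) β') : β' ^ m = β :=
  main_ind (special_symm hsp) p m hm hmp β y β' (pr_swap hy) hg (pr_swap hy')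

/-- every non-identity element of finite order of `A` has prime order -/
theorem prime_order {x : G} (hx : x ∈ A) (hx1 : x ≠ 1) (hfin : IsOfFinOrder x) :
    (orderOf x).Prime := by
  by_contra hnp
  obtain ⟨N, hN⟩ : ∃ N, N = orderOf x := ⟨_, rfl⟩
  rw [← hN] at hnp
  have hN0 : N ≠ 0 := by rw [hN]; exact (orderOf_pos_iff.mpr hfin).ne'
  have hN1 : N ≠ 1 := by rw [hN]; exact fun h => hx1 (orderOf_eq_one_iff.mp h)
  have hq : N.minFac.Prime := Nat.minFac_prime hN1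
  obtain ⟨q, hqdef⟩ : ∃ q, q = N.minFac := ⟨_, rfl⟩
  rw [← hqdef] at hq
  have hqN : q ∣ N := hqdef ▸ Nat.minFac_dvd N
  have hNq : N ≠ q := fun h => hnp (h ▸ hq)
  obtain ⟨N', hN'⟩ := hqN
  have hN'1 : N' ≠ 1 := fun h => hNq (by rw [hN', h, mul_one])
  have hN'0 : N' ≠ 0 := fun h => hN0 (by rw [hN', h, mul_zero])
  obtain ⟨d, hd⟩ := exists_pr_right hsp hx hx1
  have hod : orderOf d = N := by rw [orderOf_eq_of_pr hsp hd, hN]
  have hg : Good q d := by
    right
    intro r hr hrd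
    rw [hod] at hrd
    rw [hqdef]
    exact Nat.minFac_le_of_dvd hr.two_le hrd
  have hdq : d ^ q ≠ 1 := by
    intro h
    have : N ∣ q := by rw [← hod]; exact orderOf_dvd_iff_pow_eq_one.mpr h
    rcases (Nat.dvd_prime hq).mp this with h1 | h1
    · exact hN1 h1
    · exact hNq h1
  have hne : d ^ ((q - 1) * q) ≠ 1 := by
    intro h
    have h1 : N ∣ (q - 1) * q := by rw [← hod]; exact orderOf_dvd_iff_pow_eq_one.mpr h
    rw [hN', mul_comm (q - 1) q] at h1
    have h2 : N' ∣ q - 1 := (Nat.mul_dvd_mul_iff_left hq.pos).mp h1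
    obtain ⟨r, hr, hrN'⟩ := Nat.exists_prime_and_dvd hN'1
    have h3 : q ≤ r := by
      rw [hqdef]
      exact Nat.minFac_le_of_dvd hr.two_le (by rw [hN']; exact dvd_mul_of_dvd_right hrN' q)
    have h4 : r ≤ q - 1 := Nat.le_of_dvd (by have := hq.two_le; omega) (dvd_trans hrN' h2)
    have := hq.two_le
    omega
  obtain ⟨e, he⟩ := exists_pr_left hsp (B.pow_mem hd.2.1 q) hdq
  have hmain := main_prime hsp hq hd hg hne he
  have hoe : orderOf e = N' := by
    rw [← orderOf_eq_of_pr hsp he, orderOf_pow' d hq.pos.ne', hod, hN',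
      Nat.gcd_eq_right (dvd_mul_right q N'), Nat.mul_div_cancel_left _ hq.pos]
  have hox : orderOf x ≤ N' := by
    rw [← hmain, orderOf_pow' e hq.pos.ne', hoe]
    exact Nat.div_le_self _ _
  rw [← hN, hN'] at hox
  have := hq.two_le
  have hpos : 0 < N' := Nat.pos_of_ne_zero hN'0
  nlinarith

theorem elementary_or_divisible (hA : IsMulCommutative A) :
    (∃ p : ℕ, p.Prime ∧ ∀ a ∈ A, a ^ p = 1) ∨
    ((∀ a ∈ A, a ≠ 1 → ¬ IsOfFinOrder a) ∧ ∀ a ∈ A, ∀ n : ℕ, 0 < n → ∃ c ∈ A, c ^ n = a) := by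
  by_cases htf : ∀ a ∈ A, a ≠ 1 → ¬ IsOfFinOrder a
  · right
    refine ⟨htf, ?_⟩
    intro a ha n hn
    by_cases ha1 : a = 1
    · exact ⟨1, A.one_mem, by rw [one_pow, ha1]⟩
    obtain ⟨d, hd⟩ := exists_pr_right hsp ha ha1
    have hod : orderOf d = 0 := by
      rw [orderOf_eq_of_pr hsp hd]
      exact orderOf_eq_zero_iff.mpr (htf a ha ha1)
    have hg : Good (n + 1) d := Or.inl hod
    have hdn : d ^ n ≠ 1 := by
      intro h
      have : orderOf d ∣ n := orderOf_dvd_iff_pow_eq_one.mpr h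
      rw [hod] at this
      have := zero_dvd_iff.mp this
      omega
    obtain ⟨e, he⟩ := exists_pr_left hsp (B.pow_mem hd.2.1 n) hdn
    exact ⟨e, he.1, main_ind hsp (n + 1) n hn (by omega) a d e hd hg he⟩
  · left
    push Not at htf
    obtain ⟨a₀, ha₀, ha₀1, ha₀fin⟩ := htf
    have hp := prime_order hsp ha₀ ha₀1 ha₀fin
    refine ⟨orderOf a₀, hp, ?_⟩
    intro x hx
    by_cases hx1 : x = 1
    · rw [hx1, one_pow]
    have hcomm : Commute a₀ x := comm_of_mem hA ha₀ hx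
    by_cases hxfin : IsOfFinOrder x
    · have hr := prime_order hsp hx hx1 hxfin
      by_cases hpr : orderOf x = orderOf a₀
      · rw [← hpr]; exact pow_orderOf_eq_one x
      · exfalso
        have hcop : (orderOf a₀).Coprime (orderOf x) :=
          (Nat.coprime_primes hp hr).mpr (fun h => hpr h.symm)
        have hmul := hcomm.orderOf_mul_eq_mul_orderOf_of_coprime hcop
        have hne1 : a₀ * x ≠ 1 := by
          intro h
          have h1 : orderOf (a₀ * x) = 1 := by rw [h]; exact orderOf_one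
          rw [hmul] at h1
          have := hp.two_le
          have := hr.two_le
          nlinarith
        have hpr2 := prime_order hsp (A.mul_mem ha₀ hx) hne1
          (hcomm.isOfFinOrder_mul ha₀fin hxfin)
        rw [hmul] at hpr2
        exact Nat.not_prime_mul hp.one_lt.ne' hr.one_lt.ne' hpr2
    · exfalso
      obtain ⟨p, hpdef⟩ : ∃ p, p = orderOf a₀ := ⟨_, rfl⟩
      rw [← hpdef] at hp
      have hxy : (a₀ * x) ^ p = x ^ p := by
        rw [hcomm.mul_pow, hpdef, pow_orderOf_eq_one, one_mul]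
      have hinf : ¬ IsOfFinOrder (a₀ * x) := by
        intro h
        apply hxfin
        have h1 : Commute a₀⁻¹ (a₀ * x) :=
          comm_of_mem hA (A.inv_mem ha₀) (A.mul_mem ha₀ hx)
        have := h1.isOfFinOrder_mul ha₀fin.inv h
        rwa [inv_mul_cancel_left] at this
      have hne1 : a₀ * x ≠ 1 := fun h => hinf (h ▸ IsOfFinOrder.one)
      have hxp1 : x ^ p ≠ 1 := by
        intro h
        exact hxfin (isOfFinOrder_iff_pow_eq_one.mpr ⟨p, hp.pos, h⟩)
      obtain ⟨β, hβ⟩ := exists_pr_right hsp hx hx1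
      obtain ⟨β₂, hβ₂⟩ := exists_pr_right hsp (A.mul_mem ha₀ hx) hne1
      obtain ⟨β', hβ'⟩ := exists_pr_right hsp (A.pow_mem hx p) hxp1
      have hgx : Good (p + 1) x := Or.inl (orderOf_eq_zero_iff.mpr hxfin)
      have hgy : Good (p + 1) (a₀ * x) := Or.inl (orderOf_eq_zero_iff.mpr hinf)
      have e1 := main_ind_right hsp (p + 1) p hp.pos (by omega) hβ hgx hβ'
      have e2 := main_ind_right hsp (p + 1) p hp.pos (by omega) hβ₂ hgy (by rw [hxy]; exact hβ')
      have e3 : β = β₂ := e1.symm.trans e2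
      rw [← e3] at hβ₂
      have e4 := pr_unique_left hsp hβ hβ₂
      apply ha₀1
      have : a₀ = (a₀ * x) * x⁻¹ := by group
      rw [this, ← e4]; group

end

end Cfsg.Agent.Lib.Helper23.SpecialRankOne
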