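import Mathlib
import Cfsg.Agent.Lib.Helper16.Subnormal

/-!
# Subnormalizers of p-subgroups: basic lemmas

`subn_iff`: for a `p`-subgroup `H` and `g : G`, `H` is subnormal in `⟨H, g⟩` iff `g` normalizes
some `p`-subgroup containing `H`.
Also a relative notion `IsSyl p X N` (`X` is a maximal `p`-subgroup of `N`) with basic facts.
-/

set_option autoImplicit false
set_option linter.unusedSectionVars false

namespace Cfsg.Agent.Lib.Helper23.SubnA

variable {G : Type*} [Group G]

theorem relSubn_of_le {S L K : Subgroup G} (hLK : L ≤ K)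
    (h : (S.subgroupOf K).IsSubnormal) : (S.subgroupOf L).IsSubnormal := by
  have := h.comap (Subgroup.inclusion hLK)
  rwa [Subgroup.comap_inclusion_subgroupOf] at this

theorem relSubn_trans {S K L : Subgroup G} (hSK : S ≤ K) (hKL : K ≤ L)
    (h1 : (S.subgroupOf K).IsSubnormal) (h2 : (K.subgroupOf L).IsSubnormal) :
    (S.subgroupOf L).IsSubnormal := by
  have hle : S.subgroupOf L ≤ K.subgroupOf L := by
    intro x hx
    exact hSK hx
  refine Subgroup.IsSubnormal.trans hle ?_ h2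
  have := h1.comap (Subgroup.subgroupOfEquivOfLe hKL).toMonoidHom
  convert this using 1
  ext x
  simp only [Subgroup.mem_subgroupOf, Subgroup.mem_comap]
  rfl

/-- every subgroup of a finite nilpotent group is subnormal -/
theorem isSubnormal_of_nilp {N : Type*} [Group N] [Finite N] [hN : Group.IsNilpotent N]
    (K : Subgroup N) : K.IsSubnormal := by
  induction K using WellFoundedGT.induction with
  | ind K ih =>
  by_cases htop : K = ⊤
  · rw [htop]; exact Subgroup.IsSubnormal.top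
  have h1 : K < Subgroup.normalizer (K : Set N) :=
    Group.normalizerCondition_of_isNilpotent K (lt_top_iff_ne_top.mpr htop)
  refine Subgroup.IsSubnormal.step K _ h1.le (ih _ h1) ?_
  exact (Subgroup.normal_subgroupOf_iff_le_normalizer h1.le).mpr le_rfl

variable [Finite G] (p : ℕ) [Fact p.Prime]

theorem subn_iff (H : Subgroup G) (hH : IsPGroup p H) (g : G) :
    (H.subgroupOf (H ⊔ Subgroup.zpowers g)).IsSubnormal ↔
      ∃ R : Subgroup G, IsPGroup p R ∧ H ≤ R ∧ g ∈ Subgroup.normalizer (R : Set G) := by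
  constructor
  · intro h
    have hA : IsPGroup p (H.subgroupOf (H ⊔ Subgroup.zpowers g)) := hH.comap_subtype
    have hle := Cfsg.Agent.Lib.Helper16.le_pCore_of_isSubnormal_of_isPGroup p h hA
    have hnorm := Cfsg.Agent.Lib.Helper16.pCore_normal p ↥(H ⊔ Subgroup.zpowers g)
    refine ⟨(Cfsg.pCore p ↥(H ⊔ Subgroup.zpowers g)).map (H ⊔ Subgroup.zpowers g).subtype,
      (Cfsg.Agent.Lib.Helper16.pCore_isPGroup p _).map _, ?_, ?_⟩
    · intro x hx
      have hxK : x ∈ H ⊔ Subgroup.zpowers g := (le_sup_left : H ≤ _) hx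
      refine ⟨⟨x, hxK⟩, hle ?_, rfl⟩
      rw [Subgroup.mem_subgroupOf]
      exact hx
    · have h1 := Subgroup.le_normalizer_map (H ⊔ Subgroup.zpowers g).subtype
        (H := Cfsg.pCore p ↥(H ⊔ Subgroup.zpowers g))
      have h2 := Subgroup.normalizer_eq_top_iff.mpr hnorm
      apply h1
      rw [h2]
      refine ⟨⟨g, ?_⟩, Subgroup.mem_top _, rfl⟩
      exact (le_sup_right : Subgroup.zpowers g ≤ _) (Subgroup.mem_zpowers g)
  · rintro ⟨R, hR, hHR, hg⟩
    have hRL : R ≤ R ⊔ Subgroup.zpowers g := le_sup_left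
    have hLN : R ⊔ Subgroup.zpowers g ≤ Subgroup.normalizer (R : Set G) :=
      sup_le Subgroup.le_normalizer ((Subgroup.zpowers_le).mpr hg)
    have hKL : H ⊔ Subgroup.zpowers g ≤ R ⊔ Subgroup.zpowers g := sup_le_sup_right hHR _
    have h2 : (R.subgroupOf (R ⊔ Subgroup.zpowers g)).IsSubnormal :=
      ((Subgroup.normal_subgroupOf_iff_le_normalizer hRL).mpr hLN).isSubnormal
    have : Group.IsNilpotent ↥R := hR.isNilpotent
    have h1 : (H.subgroupOf R).IsSubnormal := isSubnormal_of_nilp _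
    exact relSubn_of_le hKL (relSubn_trans hHR hRL h1 h2)

/-- `X` is a maximal `p`-subgroup of `N`. -/
def IsSyl (X N : Subgroup G) : Prop :=
  IsPGroup p X ∧ X ≤ N ∧ ∀ Y : Subgroup G, IsPGroup p Y → X ≤ Y → Y ≤ N → Y = X

variable {p}

theorem IsSyl.of_le {X N M : Subgroup G} (h : IsSyl p X N) (hXM : X ≤ M) (hMN : M ≤ N) :
    IsSyl p X M :=
  ⟨h.1, hXM, fun Y hY hXY hYM => h.2.2 Y hY hXY (hYM.trans hMN)⟩

theorem isSyl_of_inf_normalizer {X M : Subgroup G}
    (h : IsSyl p X (M ⊓ Subgroup.normalizer (X : Set G))) : IsSyl p X M := by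
  obtain ⟨hX, hXM, hmax⟩ := h
  refine ⟨hX, hXM.trans inf_le_left, fun Y hY hXY hYM => ?_⟩
  by_contra hne
  have : Group.IsNilpotent ↥Y := hY.isNilpotent
  have hlt : X.subgroupOf Y < ⊤ := by
    rw [lt_top_iff_ne_top]
    intro h
    apply hne
    apply le_antisymm _ hXY
    intro y hy
    have : (⟨y, hy⟩ : ↥Y) ∈ X.subgroupOf Y := by rw [h]; exact Subgroup.mem_top _
    exact this
  have hnc := Group.normalizerCondition_of_isNilpotent (X.subgroupOf Y) hlt
  rw [← Subgroup.subgroupOf_normalizer_eq hXY] at hnc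
  obtain ⟨y, hy1, hy2⟩ := SetLike.exists_of_lt hnc
  rw [Subgroup.mem_subgroupOf] at hy1 hy2
  apply hy2
  have hZ : Y ⊓ Subgroup.normalizer (X : Set G) = X := by
    apply hmax
    · exact hY.to_le inf_le_left
    · exact le_inf hXY Subgroup.le_normalizer
    · exact inf_le_inf_right _ hYM
  rw [← hZ]
  exact ⟨y.2, hy1⟩

theorem IsSyl.unique_of_le_normalizer {X Y N : Subgroup G} (hX : IsSyl p X N)
    (hN : N ≤ Subgroup.normalizer (X : Set G)) (hY : IsSyl p Y N) : Y = X := by
  have h1 : IsPGroup p (X ⊔ Y : Subgroup G) :=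
    IsPGroup.to_sup_of_normal_left' hX.1 hY.1 (hY.2.1.trans hN)
  have h2 : X ⊔ Y = Y := hY.2.2 _ h1 le_sup_right (sup_le hX.2.1 hY.2.1)
  have h3 : X ≤ Y := by rw [← h2]; exact le_sup_left
  exact hX.2.2 Y hY.1 h3 hY.2.1

theorem IsSyl.le_of_normal {I X N : Subgroup G} (hX : IsSyl p X N) (hI : IsPGroup p I)
    (hIN : I ≤ N) (hN : N ≤ Subgroup.normalizer (I : Set G)) : I ≤ X := by
  have h1 : IsPGroup p (X ⊔ I : Subgroup G) :=
    IsPGroup.to_sup_of_normal_right' hX.1 hI (hX.2.1.trans hN)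
  have h2 : X ⊔ I = X := hX.2.2 _ h1 le_sup_left (sup_le hX.2.1 hIN)
  rw [← h2]; exact le_sup_right

end Cfsg.Agent.Lib.Helper23.SubnA
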