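import Mathlib
import Cfsg.Agent.Lib.Helper23.SubnA

/-!
# Casolo's subnormalizer count: the combinatorial core

Inclusion-exclusion over finite sets of `p`-subgroups containing `H`, with a
Sylow-extension cancellation.
-/

set_option autoImplicit false
set_option linter.unusedSectionVars false

namespace Cfsg.Agent.Lib.Helper23.SubnB

open Cfsg.Agent.Lib.Helper23.SubnA Finset

variable {G : Type*} [Group G] [Finite G] {p : ℕ} [Fact p.Prime]

theorem isSyl_map (N : Subgroup G) (P : Sylow p ↥N) :
    IsSyl p ((P : Subgroup ↥N).map N.subtype) N := by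
  refine ⟨P.2.map _, Subgroup.map_subtype_le _, fun Y hY hXY hYN => ?_⟩
  have h1 : (P : Subgroup ↥N) ≤ Y.subgroupOf N := by
    intro x hx
    rw [Subgroup.mem_subgroupOf]
    exact hXY ⟨x, hx, rfl⟩
  have h2 : Y.subgroupOf N = P := P.is_maximal' hY.comap_subtype h1
  rw [← h2, Subgroup.map_subgroupOf_eq_of_le hYN]

/-- the Sylow subgroup of `↥N` attached to a maximal `p`-subgroup `X` of `N` -/
noncomputable def sylOf (N X : Subgroup G) (h : IsSyl p X N) : Sylow p ↥N :=
  { toSubgroup := X.subgroupOf N
    isPGroup' := h.1.comap_subtype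
    is_maximal' := by
      intro Q hQ hle
      have h1 : X ≤ Q.map N.subtype := by
        intro x hx
        exact ⟨⟨x, h.2.1 hx⟩, hle (by rw [Subgroup.mem_subgroupOf]; exact hx), rfl⟩
      have h2 := h.2.2 _ (hQ.map _) h1 (Subgroup.map_subtype_le _)
      rw [← h2]
      exact (Subgroup.comap_map_eq_self_of_injective N.subtype_injective Q).symm }

theorem card_inf_normalizer (N X : Subgroup G) (h : IsSyl p X N) :
    Nat.card ↥(N ⊓ Subgroup.normalizer (X : Set G)) * Nat.card (Sylow p ↥N) = Nat.card ↥N := by
  have h1 := (sylOf N X h).card_eq_index_normalizer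
  have h2 := Subgroup.card_mul_index (Subgroup.normalizer ((sylOf N X h : Sylow p ↥N) : Set ↥N))
  rw [← h1] at h2
  rw [← h2]
  congr 1
  have h3 : Subgroup.normalizer ((sylOf N X h : Sylow p ↥N) : Set ↥N) =
      (N ⊓ Subgroup.normalizer (X : Set G)).subgroupOf N := by
    rw [inf_comm, Subgroup.inf_subgroupOf_right, Subgroup.subgroupOf_normalizer_eq h.2.1]
    rfl
  rw [h3]
  exact Nat.card_congr (Subgroup.subgroupOfEquivOfLe inf_le_left).toEquiv.symm

open Classical in
theorem sum_card_isSyl [Fintype (Subgroup G)] (N : Subgroup G) :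
    ∑ X ∈ (univ : Finset (Subgroup G)).filter (fun X : Subgroup G => IsSyl p X N),
      Nat.card ↥(N ⊓ Subgroup.normalizer (X : Set G)) = Nat.card ↥N := by
  letI : Fintype (Sylow p ↥N) := Fintype.ofFinite _
  have himg : (univ : Finset (Subgroup G)).filter (fun X : Subgroup G => IsSyl p X N) =
      (univ : Finset (Sylow p ↥N)).image (fun P : Sylow p ↥N => (P : Subgroup ↥N).map N.subtype) := by
    ext X
    simp only [mem_filter, mem_univ, true_and, mem_image]
    constructor
    · intro h
      refine ⟨sylOf N X h, ?_⟩
      show (X.subgroupOf N).map N.subtype = X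
      exact Subgroup.map_subgroupOf_eq_of_le h.2.1
    · rintro ⟨P, rfl⟩
      exact isSyl_map N P
  have hinj : Function.Injective (fun P : Sylow p ↥N => (P : Subgroup ↥N).map N.subtype) := by
    intro P Q hPQ
    exact Sylow.ext (Subgroup.map_injective N.subtype_injective hPQ)
  rw [himg, sum_image (fun a _ b _ h => hinj h)]
  have hs : 0 < Nat.card (Sylow p ↥N) := Nat.card_pos
  apply Nat.eq_of_mul_eq_mul_right hs
  rw [sum_mul]
  rw [sum_congr rfl (fun P _ => card_inf_normalizer N _ (isSyl_map N P))]
  rw [sum_const, card_univ, smul_eq_mul, Nat.card_eq_fintype_card (α := Sylow p ↥N), mul_comm]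

/-- intersection of the normalizers of the members of `t` -/
noncomputable def Nt (t : Finset (Subgroup G)) : Subgroup G :=
  t.inf (fun R => Subgroup.normalizer (R : Set G))

theorem Nt_empty : Nt (∅ : Finset (Subgroup G)) = ⊤ := Finset.inf_empty

theorem Nt_singleton (X : Subgroup G) : Nt {X} = Subgroup.normalizer (X : Set G) :=
  Finset.inf_singleton

theorem Nt_le {t : Finset (Subgroup G)} {R : Subgroup G} (h : R ∈ t) :
    Nt t ≤ Subgroup.normalizer (R : Set G) := Finset.inf_le h

theorem mem_Nt {t : Finset (Subgroup G)} {g : G} :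
    g ∈ Nt t ↔ ∀ R ∈ t, g ∈ Subgroup.normalizer (R : Set G) := by
  constructor
  · intro h R hR
    exact Nt_le hR h
  · intro h
    have : Subgroup.zpowers g ≤ Nt t := by
      apply Finset.le_inf
      intro R hR
      exact (Subgroup.zpowers_le).mpr (h R hR)
    exact this (Subgroup.mem_zpowers g)

section core

open Classical

theorem Nt_insert (X : Subgroup G) (t : Finset (Subgroup G)) :
    Nt (insert X t) = Subgroup.normalizer (X : Set G) ⊓ Nt t := Finset.inf_insert

variable (p)

/-- `t` has a member that is a maximal `p`-subgroup of `Nt t` -/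
def HasTop (t : Finset (Subgroup G)) : Prop := ∃ X, X ∈ t ∧ IsSyl p X (Nt t)

/-- remove the top member, if any -/
noncomputable def red (t : Finset (Subgroup G)) : Finset (Subgroup G) :=
  if h : HasTop p t then t.erase h.choose else t

variable {p}

theorem top_unique {t : Finset (Subgroup G)} {X Y : Subgroup G} (hX : X ∈ t)
    (hXs : IsSyl p X (Nt t)) (hYs : IsSyl p Y (Nt t)) : Y = X :=
  hXs.unique_of_le_normalizer (Nt_le hX) hYs

theorem red_of_top {t : Finset (Subgroup G)} {X : Subgroup G} (hX : X ∈ t)
    (hXs : IsSyl p X (Nt t)) : red p t = t.erase X := by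
  have h : HasTop p t := ⟨X, hX, hXs⟩
  have h2 : h.choose = X := top_unique hX hXs h.choose_spec.2
  unfold red
  rw [dif_pos h, h2]

theorem red_of_not {t : Finset (Subgroup G)} (h : ¬ HasTop p t) : red p t = t := by
  unfold red
  rw [dif_neg h]

theorem isSyl_erase {t : Finset (Subgroup G)} {X : Subgroup G} (hX : X ∈ t)
    (hXs : IsSyl p X (Nt t)) : IsSyl p X (Nt (t.erase X)) := by
  apply isSyl_of_inf_normalizer
  have : Nt t = Nt (t.erase X) ⊓ Subgroup.normalizer (X : Set G) := by
    conv_lhs => rw [← Finset.insert_erase hX]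
    rw [Nt_insert, inf_comm]
  rw [← this]
  exact hXs

theorem isSyl_insert {s : Finset (Subgroup G)} {X : Subgroup G}
    (hXs : IsSyl p X (Nt s)) : IsSyl p X (Nt (insert X s)) := by
  rw [Nt_insert]
  exact hXs.of_le (le_inf Subgroup.le_normalizer hXs.2.1) inf_le_right

theorem red_subset (t : Finset (Subgroup G)) : red p t ⊆ t := by
  unfold red
  split_ifs
  · exact Finset.erase_subset _ _
  · exact subset_rfl

/-- members of `s` all contain `H`, `s` nonempty: any maximal `p`-subgroup of `Nt s`
contains `H` -/
theorem le_of_isSyl_Nt {s : Finset (Subgroup G)} {H X : Subgroup G} (hs : s.Nonempty)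
    (hsP : ∀ R ∈ s, IsPGroup p R ∧ H ≤ R) (hX : IsSyl p X (Nt s)) : H ≤ X := by
  have hI : IsPGroup p (s.inf id : Subgroup G) := by
    obtain ⟨R, hR⟩ := hs
    exact (hsP R hR).1.to_le (Finset.inf_le (f := id) hR)
  have hHI : H ≤ s.inf id := Finset.le_inf (fun R hR => (hsP R hR).2)
  have hIN : (s.inf id : Subgroup G) ≤ Nt s := by
    apply Finset.le_inf
    intro R hR
    exact (Finset.inf_le (f := id) hR).trans Subgroup.le_normalizer
  have hmemI : ∀ x : G, x ∈ (s.inf id : Subgroup G) ↔ ∀ R ∈ s, x ∈ R := by
    intro x
    constructor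
    · intro hx R hR
      exact (Finset.inf_le (f := id) hR) hx
    · intro hx
      have : Subgroup.zpowers x ≤ s.inf id := by
        apply Finset.le_inf
        intro R hR
        exact (Subgroup.zpowers_le).mpr (hx R hR)
      exact this (Subgroup.mem_zpowers x)
  have hNI : Nt s ≤ Subgroup.normalizer ((s.inf id : Subgroup G) : Set G) := by
    intro g hg
    rw [mem_Nt] at hg
    rw [Subgroup.mem_normalizer_iff]
    intro x
    rw [hmemI, hmemI]
    constructor
    · intro hx R hR
      exact (Subgroup.mem_normalizer_iff.mp (hg R hR) x).mp (hx R hR)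
    · intro hx R hR
      exact (Subgroup.mem_normalizer_iff.mp (hg R hR) x).mpr (hx R hR)
  exact hHI.trans (hX.le_of_normal hI hIN hNI)

variable [Fintype (Subgroup G)]

/-- the fibre of `red` over a nonempty `s` without top -/
theorem fibre_A (H : Subgroup G) {s : Finset (Subgroup G)} (hs : s.Nonempty)
    (hsP : s ∈ ((univ : Finset (Subgroup G)).filter (fun R : Subgroup G => IsPGroup p R ∧ H ≤ R)).powerset)
    (hnt : ¬ HasTop p s) :
    (((univ : Finset (Subgroup G)).filter (fun R : Subgroup G => IsPGroup p R ∧ H ≤ R)).powerset).filter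
        (fun t => red p t = s) =
      insert s (((univ : Finset (Subgroup G)).filter (fun X : Subgroup G => IsSyl p X (Nt s))).image
        (fun X => insert X s)) := by
  have hsP' : ∀ R ∈ s, IsPGroup p R ∧ H ≤ R := by
    intro R hR
    have := (Finset.mem_powerset.mp hsP) hR
    simpa using this
  ext t
  simp only [mem_filter, mem_powerset, mem_insert, mem_image, mem_univ, true_and]
  constructor
  · rintro ⟨htP, hrt⟩
    by_cases ht : HasTop p t
    · right
      obtain ⟨X, hX, hXs⟩ := ht
      rw [red_of_top hX hXs] at hrt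
      refine ⟨X, ?_, ?_⟩
      · rw [← hrt]; exact isSyl_erase hX hXs
      · rw [← hrt]; exact Finset.insert_erase hX
    · left
      rw [red_of_not ht] at hrt
      exact hrt
  · rintro (rfl | ⟨X, hXs, rfl⟩)
    · exact ⟨Finset.mem_powerset.mp hsP, red_of_not hnt⟩
    · have hXns : X ∉ s := fun hXs' => hnt ⟨X, hXs', hXs⟩
      refine ⟨?_, ?_⟩
      · intro R hR
        rw [Finset.mem_insert] at hR
        rcases hR with rfl | hR
        · simp only [mem_filter, mem_univ, true_and]
          exact ⟨hXs.1, le_of_isSyl_Nt hs hsP' hXs⟩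
        · exact (Finset.mem_powerset.mp hsP) hR
      · rw [red_of_top (Finset.mem_insert_self X s) (isSyl_insert hXs),
          Finset.erase_insert hXns]

/-- the fibre of `red` over a set with a top is empty -/
theorem fibre_B {s t : Finset (Subgroup G)} (hs : HasTop p s) (h : red p t = s) : False := by
  by_cases ht : HasTop p t
  · obtain ⟨X, hX, hXs⟩ := ht
    rw [red_of_top hX hXs] at h
    have h1 : IsSyl p X (Nt s) := by rw [← h]; exact isSyl_erase hX hXs
    obtain ⟨R, hR, hRs⟩ := hs
    have h2 : X = R := top_unique hR hRs h1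
    subst h2
    rw [← h] at hR
    exact Finset.notMem_erase X t hR
  · rw [red_of_not ht] at h
    rw [h] at ht
    exact ht hs

/-- the fibre of `red` over `∅` -/
theorem fibre_empty (H : Subgroup G) :
    (((univ : Finset (Subgroup G)).filter (fun R : Subgroup G => IsPGroup p R ∧ H ≤ R)).powerset).filter
        (fun t => red p t = ∅) =
      insert ∅ (((univ : Finset (Subgroup G)).filter (fun Q : Subgroup G => H ≤ Q ∧ IsSyl p Q ⊤)).image
        (fun Q => ({Q} : Finset (Subgroup G)))) := by
  ext t
  simp only [mem_filter, mem_powerset, mem_insert, mem_image, mem_univ, true_and]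
  constructor
  · rintro ⟨htP, hrt⟩
    by_cases ht : HasTop p t
    · right
      obtain ⟨X, hX, hXs⟩ := ht
      rw [red_of_top hX hXs] at hrt
      have ht1 : t = {X} := by
        rw [← Finset.insert_erase hX, hrt]
        rfl
      refine ⟨X, ⟨?_, ?_⟩, ht1.symm⟩
      · have := htP hX
        simp only [mem_filter, mem_univ, true_and] at this
        exact this.2
      · rw [ht1, Nt_singleton] at hXs
        apply isSyl_of_inf_normalizer
        rw [top_inf_eq]
        exact hXs
    · left
      rw [red_of_not ht] at hrt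
      exact hrt
  · rintro (rfl | ⟨Q, ⟨hHQ, hQ⟩, rfl⟩)
    · refine ⟨Finset.empty_subset _, ?_⟩
      apply red_of_not
      rintro ⟨X, hX, -⟩
      simp at hX
    · refine ⟨?_, ?_⟩
      · intro R hR
        rw [Finset.mem_singleton] at hR
        subst hR
        simp only [mem_filter, mem_univ, true_and]
        exact ⟨hQ.1, hHQ⟩
      · have hQs : IsSyl p Q (Nt {Q}) := by
          rw [Nt_singleton]
          exact hQ.of_le Subgroup.le_normalizer le_top
        rw [red_of_top (Finset.mem_singleton_self Q) hQs]
        simp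

theorem core_sum (H : Subgroup G) :
    ∑ t ∈ ((univ : Finset (Subgroup G)).filter (fun R : Subgroup G => IsPGroup p R ∧ H ≤ R)).powerset,
        (-1 : ℤ) ^ t.card * (Nat.card ↥(Nt t) : ℤ) =
      (Nat.card G : ℤ) -
        ∑ Q ∈ (univ : Finset (Subgroup G)).filter (fun Q : Subgroup G => H ≤ Q ∧ IsSyl p Q ⊤),
          (Nat.card ↥(Subgroup.normalizer (Q : Set G)) : ℤ) := by
  rw [← Finset.sum_fiberwise_of_maps_to (g := red p)
    (t := ((univ : Finset (Subgroup G)).filter (fun R : Subgroup G => IsPGroup p R ∧ H ≤ R)).powerset)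
    (fun t ht => Finset.mem_powerset.mpr ((red_subset t).trans (Finset.mem_powerset.mp ht)))]
  rw [Finset.sum_eq_single (∅ : Finset (Subgroup G))]
  · rw [fibre_empty H, Finset.sum_insert, Finset.sum_image]
    · simp only [Finset.card_empty, pow_zero, one_mul, Nt_empty, Finset.card_singleton, pow_one,
        Nt_singleton, Subgroup.card_top, neg_mul, one_mul, Finset.sum_neg_distrib]
      ring
    · intro a _ b _ hab
      exact Finset.singleton_injective hab
    · simp only [mem_image, mem_filter, mem_univ, true_and, not_exists, not_and]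
      intro Q _ hQ
      exact Finset.singleton_ne_empty Q hQ
  · intro s hsP hne
    have hs : s.Nonempty := Finset.nonempty_iff_ne_empty.mpr hne
    by_cases hnt : HasTop p s
    · apply Finset.sum_eq_zero
      intro t ht
      exact (fibre_B hnt (Finset.mem_filter.mp ht).2).elim
    · rw [fibre_A H hs hsP hnt, Finset.sum_insert, Finset.sum_image]
      · have h1 : ∀ X ∈ (univ : Finset (Subgroup G)).filter (fun X : Subgroup G => IsSyl p X (Nt s)),
            (-1 : ℤ) ^ (insert X s).card * (Nat.card ↥(Nt (insert X s)) : ℤ) =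
            - ((-1 : ℤ) ^ s.card *
              (Nat.card ↥(Nt s ⊓ Subgroup.normalizer (X : Set G)) : ℤ)) := by
          intro X hX
          have hXs : IsSyl p X (Nt s) := (Finset.mem_filter.mp hX).2
          have hXns : X ∉ s := fun hXs' => hnt ⟨X, hXs', hXs⟩
          rw [Finset.card_insert_of_notMem hXns, Nt_insert, inf_comm, pow_succ]
          ring
        rw [Finset.sum_congr rfl h1, Finset.sum_neg_distrib, ← Finset.mul_sum]
        have h2 := sum_card_isSyl (p := p) (Nt s)
        have h3 : (∑ X ∈ (univ : Finset (Subgroup G)).filter (fun X : Subgroup G => IsSyl p X (Nt s)),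
            (Nat.card ↥(Nt s ⊓ Subgroup.normalizer (X : Set G)) : ℤ)) = (Nat.card ↥(Nt s) : ℤ) := by
          rw [← h2]
          push_cast
          rfl
        rw [h3]
        ring
      · intro a ha b hb hab
        have haS : IsSyl p a (Nt s) := (Finset.mem_filter.mp ha).2
        have hbS : IsSyl p b (Nt s) := (Finset.mem_filter.mp hb).2
        have hans : a ∉ s := fun h' => hnt ⟨a, h', haS⟩
        have hbns : b ∉ s := fun h' => hnt ⟨b, h', hbS⟩
        have hab' : insert a s = insert b s := hab
        have : a ∈ insert b s := by rw [← hab']; exact Finset.mem_insert_self a s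
        rcases Finset.mem_insert.mp this with h | h
        · exact h
        · exact (hans h).elim
      · simp only [mem_image, mem_filter, mem_univ, true_and, not_exists, not_and]
        intro X hXs hX
        have hXns : X ∉ s := fun hXs' => hnt ⟨X, hXs', hXs⟩
        apply hXns
        rw [← hX]
        exact Finset.mem_insert_self X s
  · intro h
    exact (h (Finset.empty_mem_powerset _)).elim

end core

end Cfsg.Agent.Lib.Helper23.SubnB
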