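import Mathlib
import Cfsg.Agent.Lib.Helper23.SubnB

/-!
# Casolo's subnormalizer count: assembly
-/

set_option autoImplicit false
set_option linter.unusedSectionVars false
set_option linter.style.haveILetI false

namespace Cfsg.Agent.Lib.Helper23.SubnC

open Cfsg.Agent.Lib.Helper23.SubnA Cfsg.Agent.Lib.Helper23.SubnB Finset
open scoped Pointwise

variable {G : Type*} [Group G] [Finite G] {p : ℕ} [Fact p.Prime]

theorem isSyl_top (Q : Sylow p G) : IsSyl p (Q : Subgroup G) ⊤ :=
  ⟨Q.2, le_top, fun _ hY hle _ => Q.is_maximal' hY hle⟩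

/-- a maximal `p`-subgroup of `G`, as a Sylow subgroup -/
def sylTop (X : Subgroup G) (h : IsSyl p X ⊤) : Sylow p G :=
  { toSubgroup := X
    isPGroup' := h.1
    is_maximal' := fun hQ hle => h.2.2 _ hQ hle le_top }

theorem card_normalizer_sylow (Q : Sylow p G) :
    Nat.card ↥(Subgroup.normalizer ((Q : Subgroup G) : Set G)) * Nat.card (Sylow p G) =
      Nat.card G := by
  have h1 := Q.card_eq_index_normalizer
  have h2 := Subgroup.card_mul_index (Subgroup.normalizer ((Q : Sylow p G) : Set G))
  rw [← h1] at h2
  exact h2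

theorem card_normalizer_eq (Q P : Sylow p G) :
    Nat.card ↥(Subgroup.normalizer ((Q : Subgroup G) : Set G)) =
      Nat.card ↥(Subgroup.normalizer ((P : Subgroup G) : Set G)) := by
  have hs : 0 < Nat.card (Sylow p G) := Nat.card_pos
  apply Nat.eq_of_mul_eq_mul_right hs
  rw [card_normalizer_sylow, card_normalizer_sylow]

open Classical in
theorem card_subnormalizer (H : Subgroup G) (P : Sylow p G) :
    Nat.card {g : G // ∃ R : Subgroup G, IsPGroup p R ∧ H ≤ R ∧
        g ∈ Subgroup.normalizer (R : Set G)} =
      Nat.card {Q : Sylow p G // H ≤ (Q : Subgroup G)} *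
        Nat.card ↥(Subgroup.normalizer ((P : Subgroup G) : Set G)) := by
  letI : Fintype G := Fintype.ofFinite G
  letI : Fintype (Subgroup G) := Fintype.ofFinite _
  have hIE := Finset.inclusion_exclusion_card_inf_compl
    ((univ : Finset (Subgroup G)).filter (fun R : Subgroup G => IsPGroup p R ∧ H ≤ R))
    (fun R : Subgroup G => (univ : Finset G).filter
      (fun g => g ∈ Subgroup.normalizer (R : Set G)))
  have hterm : ∀ t : Finset (Subgroup G),
      ((t.inf (fun R : Subgroup G => (univ : Finset G).filter
        (fun g => g ∈ Subgroup.normalizer (R : Set G)))).card : ℤ) = (Nat.card ↥(Nt t) : ℤ) := by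
    intro t
    congr 1
    rw [Nat.card_eq_fintype_card]
    refine (Fintype.card_of_subtype _ (fun g => ?_)).symm
    simp only [Finset.mem_inf, mem_filter, mem_univ, true_and]
    exact (mem_Nt).symm
  rw [Finset.sum_congr rfl (fun t _ => by rw [hterm t])] at hIE
  rw [core_sum H] at hIE
  -- the left side
  have hS : Nat.card {g : G // ∃ R : Subgroup G, IsPGroup p R ∧ H ≤ R ∧
        g ∈ Subgroup.normalizer (R : Set G)} =
      ((univ : Finset G).filter (fun g => ∃ R : Subgroup G, IsPGroup p R ∧ H ≤ R ∧
        g ∈ Subgroup.normalizer (R : Set G))).card := by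
    rw [Nat.card_eq_fintype_card]
    exact Fintype.card_of_subtype _ (fun g => by simp)
  have hcompl : ((univ : Finset (Subgroup G)).filter
      (fun R : Subgroup G => IsPGroup p R ∧ H ≤ R)).inf
      (fun R : Subgroup G => ((univ : Finset G).filter
        (fun g => g ∈ Subgroup.normalizer (R : Set G)))ᶜ) =
      ((univ : Finset G).filter (fun g => ∃ R : Subgroup G, IsPGroup p R ∧ H ≤ R ∧
        g ∈ Subgroup.normalizer (R : Set G)))ᶜ := by
    ext g
    simp only [Finset.mem_inf, mem_filter, mem_univ, true_and, mem_compl, not_exists, not_and,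
      and_imp]
  rw [hcompl, Finset.card_compl, Nat.cast_sub (Finset.card_le_univ _)] at hIE
  rw [← Nat.card_eq_fintype_card] at hIE
  have hsum : (((univ : Finset G).filter (fun g => ∃ R : Subgroup G, IsPGroup p R ∧ H ≤ R ∧
        g ∈ Subgroup.normalizer (R : Set G))).card : ℤ) =
      ∑ Q ∈ (univ : Finset (Subgroup G)).filter (fun Q : Subgroup G => H ≤ Q ∧ IsSyl p Q ⊤),
          (Nat.card ↥(Subgroup.normalizer (Q : Set G)) : ℤ) := by
    linarith
  have hsum' : ((univ : Finset G).filter (fun g => ∃ R : Subgroup G, IsPGroup p R ∧ H ≤ R ∧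
        g ∈ Subgroup.normalizer (R : Set G))).card =
      ∑ Q ∈ (univ : Finset (Subgroup G)).filter (fun Q : Subgroup G => H ≤ Q ∧ IsSyl p Q ⊤),
          Nat.card ↥(Subgroup.normalizer (Q : Set G)) := by
    exact_mod_cast hsum
  rw [hS, hsum']
  rw [Finset.sum_const_nat (m := Nat.card ↥(Subgroup.normalizer ((P : Subgroup G) : Set G)))]
  · congr 1
    have e : {Q : Sylow p G // H ≤ (Q : Subgroup G)} ≃
        {X : Subgroup G // H ≤ X ∧ IsSyl p X ⊤} :=
      { toFun := fun Q => ⟨(Q.1 : Subgroup G), Q.2, isSyl_top Q.1⟩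
        invFun := fun X => ⟨sylTop X.1 X.2.2, X.2.1⟩
        left_inv := fun Q => Subtype.ext (Sylow.ext rfl)
        right_inv := fun X => rfl }
    rw [Nat.card_congr e, Nat.card_eq_fintype_card]
    exact (Fintype.card_of_subtype _ (fun X => by simp)).symm
  · intro Q hQ
    have hQs : IsSyl p Q ⊤ := (Finset.mem_filter.mp hQ).2.2
    exact card_normalizer_eq (sylTop Q hQs) P

theorem mem_map_conj (H : Subgroup G) (x z : G) :
    z ∈ H.map (MulAut.conj x).toMonoidHom ↔ x⁻¹ * z * x ∈ H := by
  constructor
  · rintro ⟨h, hh, rfl⟩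
    simpa [MulAut.conj_apply, mul_assoc] using hh
  · intro hz
    exact ⟨x⁻¹ * z * x, hz, by simp [MulAut.conj_apply, mul_assoc]⟩

theorem conj_map_eq_iff (H : Subgroup G) (x g : G) :
    H.map (MulAut.conj x).toMonoidHom = H.map (MulAut.conj g).toMonoidHom ↔
      g⁻¹ * x ∈ Subgroup.normalizer (H : Set G) := by
  rw [Subgroup.mem_normalizer_iff, SetLike.ext_iff]
  constructor
  · intro heq h
    have := heq (x * h * x⁻¹)
    rw [mem_map_conj, mem_map_conj] at this
    have e1 : x⁻¹ * (x * h * x⁻¹) * x = h := by group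
    have e2 : g⁻¹ * (x * h * x⁻¹) * g = g⁻¹ * x * h * (g⁻¹ * x)⁻¹ := by group
    rw [e1, e2] at this
    exact this
  · intro hn z
    rw [mem_map_conj, mem_map_conj]
    have := hn (x⁻¹ * z * x)
    have e2 : g⁻¹ * x * (x⁻¹ * z * x) * (g⁻¹ * x)⁻¹ = g⁻¹ * z * g := by group
    rw [e2] at this
    exact this

theorem mem_smul_sylow (P : Sylow p G) (y z : G) :
    z ∈ ((y • P : Sylow p G) : Subgroup G) ↔ y⁻¹ * z * y ∈ (P : Subgroup G) := by
  rw [Sylow.coe_subgroup_smul, Subgroup.mem_pointwise_smul_iff_inv_smul_mem]
  simp [MulAut.smul_def, mul_assoc]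

theorem le_inv_smul_iff (H : Subgroup G) (P : Sylow p G) (x : G) :
    H ≤ ((x⁻¹ • P : Sylow p G) : Subgroup G) ↔
      H.map (MulAut.conj x).toMonoidHom ≤ (P : Subgroup G) := by
  constructor
  · intro h z hz
    rw [mem_map_conj] at hz
    have := h hz
    rw [mem_smul_sylow] at this
    have e : x⁻¹⁻¹ * (x⁻¹ * z * x) * x⁻¹ = z := by group
    rw [e] at this
    exact this
  · intro h z hz
    rw [mem_smul_sylow]
    apply h
    rw [mem_map_conj]
    have e : x⁻¹ * (x⁻¹⁻¹ * z * x⁻¹) * x = z := by group
    rw [e]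
    exact hz

theorem inv_smul_eq_smul_iff (P : Sylow p G) (x y : G) :
    x⁻¹ • P = y • P ↔ x * y ∈ Subgroup.normalizer ((P : Subgroup G) : Set G) := by
  have h1 : x⁻¹ • P = y • P ↔ (x * y) • P = P := by
    rw [mul_smul]
    constructor
    · intro h; rw [← h, smul_inv_smul]
    · intro h
      have h' := congrArg (fun Q : Sylow p G => x⁻¹ • Q) h
      simp only [inv_smul_smul] at h'
      exact h'.symm
  rw [h1]
  exact Sylow.smul_eq_iff_mem_normalizer

open Classical in
theorem card_subgroup_filter [Fintype G] (N : Subgroup G) :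
    ((univ : Finset G).filter (fun g => g ∈ N)).card = Nat.card ↥N := by
  rw [Nat.card_eq_fintype_card]
  exact (Fintype.card_of_subtype _ (fun g => by simp)).symm

open Classical in
theorem double_count (H : Subgroup G) (P : Sylow p G) :
    Nat.card {Q : Sylow p G // H ≤ (Q : Subgroup G)} *
        Nat.card ↥(Subgroup.normalizer ((P : Subgroup G) : Set G)) =
      Nat.card {K : Subgroup G // K ≤ (P : Subgroup G) ∧
          ∃ g : G, K = H.map (MulAut.conj g).toMonoidHom} *
        Nat.card ↥(Subgroup.normalizer (H : Set G)) := by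
  letI : Fintype G := Fintype.ofFinite G
  letI : Fintype (Subgroup G) := Fintype.ofFinite _
  letI : Fintype (Sylow p G) := Fintype.ofFinite _
  have hT1 : ((univ : Finset G).filter
      (fun x : G => H.map (MulAut.conj x).toMonoidHom ≤ (P : Subgroup G))).card =
      ((univ : Finset (Sylow p G)).filter (fun Q : Sylow p G => H ≤ (Q : Subgroup G))).card *
        Nat.card ↥(Subgroup.normalizer ((P : Subgroup G) : Set G)) := by
    rw [Finset.card_eq_sum_card_fiberwise (f := fun x : G => x⁻¹ • P)
      (t := (univ : Finset (Sylow p G)).filter (fun Q : Sylow p G => H ≤ (Q : Subgroup G)))]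
    · apply Finset.sum_const_nat
      intro Q hQ
      have hHQ : H ≤ (Q : Subgroup G) := (Finset.mem_filter.mp hQ).2
      obtain ⟨y, hy⟩ := MulAction.exists_smul_eq G P Q
      have hfib : ((univ : Finset G).filter
          (fun x : G => H.map (MulAut.conj x).toMonoidHom ≤ (P : Subgroup G))).filter
          (fun x => x⁻¹ • P = Q) =
          ((univ : Finset G).filter
            (fun n => n ∈ Subgroup.normalizer ((P : Subgroup G) : Set G))).image
            (fun n => n * y⁻¹) := by
        ext x
        simp only [mem_filter, mem_univ, true_and, mem_image]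
        constructor
        · rintro ⟨_, hx⟩
          refine ⟨x * y, ?_, by group⟩
          rw [← inv_smul_eq_smul_iff, hx, hy]
        · rintro ⟨n, hn, rfl⟩
          have h1 : (n * y⁻¹)⁻¹ • P = Q := by
            rw [← hy, inv_smul_eq_smul_iff]
            have e : n * y⁻¹ * y = n := by group
            rw [e]; exact hn
          refine ⟨?_, h1⟩
          rw [← le_inv_smul_iff, h1]
          exact hHQ
      rw [hfib, Finset.card_image_of_injective _ (mul_left_injective y⁻¹), card_subgroup_filter]
    · intro x hx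
      rw [Finset.mem_coe, mem_filter] at hx ⊢
      refine ⟨mem_univ _, ?_⟩
      rw [le_inv_smul_iff]
      exact hx.2
  have hT2 : ((univ : Finset G).filter
      (fun x : G => H.map (MulAut.conj x).toMonoidHom ≤ (P : Subgroup G))).card =
      ((univ : Finset (Subgroup G)).filter (fun K : Subgroup G => K ≤ (P : Subgroup G) ∧
          ∃ g : G, K = H.map (MulAut.conj g).toMonoidHom)).card *
        Nat.card ↥(Subgroup.normalizer (H : Set G)) := by
    rw [Finset.card_eq_sum_card_fiberwise (f := fun x : G => H.map (MulAut.conj x).toMonoidHom)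
      (t := (univ : Finset (Subgroup G)).filter (fun K : Subgroup G => K ≤ (P : Subgroup G) ∧
          ∃ g : G, K = H.map (MulAut.conj g).toMonoidHom))]
    · apply Finset.sum_const_nat
      intro K hK
      obtain ⟨hKP, g, rfl⟩ := (Finset.mem_filter.mp hK).2
      have hfib : ((univ : Finset G).filter
          (fun x : G => H.map (MulAut.conj x).toMonoidHom ≤ (P : Subgroup G))).filter
          (fun x => H.map (MulAut.conj x).toMonoidHom = H.map (MulAut.conj g).toMonoidHom) =
          ((univ : Finset G).filter
            (fun n => n ∈ Subgroup.normalizer (H : Set G))).image (fun n => g * n) := by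
        ext x
        simp only [mem_filter, mem_univ, true_and, mem_image]
        constructor
        · rintro ⟨_, hx⟩
          refine ⟨g⁻¹ * x, (conj_map_eq_iff H x g).mp hx, by group⟩
        · rintro ⟨n, hn, rfl⟩
          have h1 : H.map (MulAut.conj (g * n)).toMonoidHom =
              H.map (MulAut.conj g).toMonoidHom := by
            rw [conj_map_eq_iff]
            have e : g⁻¹ * (g * n) = n := by group
            rw [e]; exact hn
          exact ⟨h1 ▸ hKP, h1⟩
      rw [hfib, Finset.card_image_of_injective _ (mul_right_injective g), card_subgroup_filter]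
    · intro x hx
      rw [Finset.mem_coe, mem_filter] at hx ⊢
      exact ⟨mem_univ _, hx.2, x, rfl⟩
  have hc1 : Nat.card {Q : Sylow p G // H ≤ (Q : Subgroup G)} =
      ((univ : Finset (Sylow p G)).filter (fun Q : Sylow p G => H ≤ (Q : Subgroup G))).card := by
    rw [Nat.card_eq_fintype_card]
    exact Fintype.card_of_subtype _ (fun Q => by simp)
  have hc2 : Nat.card {K : Subgroup G // K ≤ (P : Subgroup G) ∧
          ∃ g : G, K = H.map (MulAut.conj g).toMonoidHom} =
      ((univ : Finset (Subgroup G)).filter (fun K : Subgroup G => K ≤ (P : Subgroup G) ∧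
          ∃ g : G, K = H.map (MulAut.conj g).toMonoidHom)).card := by
    rw [Nat.card_eq_fintype_card]
    exact Fintype.card_of_subtype _
      (fun K => ⟨fun h => (mem_filter.mp h).2, fun h => mem_filter.mpr ⟨mem_univ _, h⟩⟩)
  rw [hc1, hc2, ← hT1, ← hT2]

end Cfsg.Agent.Lib.Helper23.SubnC
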