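import Mathlib
import Cfsg.Agent.Lib.Helper23.SubnC
import Cfsg.Agent.Lib.Helper16.PCore

/-!
# Subnormalizer count in p-solvable groups: step lemmas
-/

set_option autoImplicit false
set_option linter.unusedSectionVars false
set_option linter.style.haveILetI false

namespace Cfsg.Agent.Lib.Helper23.SubnD

open Cfsg.Agent.Lib.Helper23.SubnA Cfsg.Agent.Lib.Helper23.SubnB Cfsg.Agent.Lib.Helper23.SubnC Finset
open scoped Pointwise

variable {G : Type*} [Group G] [Finite G] {p : ℕ} [Fact p.Prime]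

theorem pow_relIndex_mem (M M' : Subgroup G) [M.Normal] {x : G} (hx : x ∈ M') :
    x ^ (M.relIndex M') ∈ M := by
  have h := Subgroup.pow_index_mem (M.subgroupOf M') (⟨x, hx⟩ : ↥M')
  rw [Subgroup.mem_subgroupOf] at h
  simpa [Subgroup.relIndex] using h

theorem mem_of_ppow_of_coprime (M M' : Subgroup G) [M.Normal] {x : G} (hx : x ∈ M')
    (k : ℕ) (hk : x ^ (p ^ k) = 1) (hcop : (M.relIndex M').Coprime p) : x ∈ M := by
  have h1 := pow_relIndex_mem M M' hx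
  have hc : Nat.Coprime (M.relIndex M') (p ^ k) := hcop.pow_right k
  have h2 := Nat.gcd_eq_gcd_ab (M.relIndex M') (p ^ k)
  rw [hc.gcd_eq_one] at h2
  have h3 : x = (x ^ (M.relIndex M')) ^ (Nat.gcdA (M.relIndex M') (p ^ k)) *
      (x ^ (p ^ k)) ^ (Nat.gcdB (M.relIndex M') (p ^ k)) := by
    rw [← zpow_natCast, ← zpow_natCast, ← zpow_mul, ← zpow_mul, ← zpow_add]
    rw [← h2]
    simp
  rw [h3, hk, one_zpow, mul_one]
  exact Subgroup.zpow_mem _ h1 _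

/-- p-power step -/
theorem le_sup_of_ppow_step (P : Sylow p G) (M M' : Subgroup G) [M.Normal] [M'.Normal] (m : ℕ)
    (hrel : M.relIndex M' = p ^ m) : M' ≤ (P : Subgroup G) ⊔ M := by
  have hsurj := QuotientGroup.mk'_surjective M
  have hN : (M'.map (QuotientGroup.mk' M)).Normal :=
    Subgroup.Normal.map inferInstance _ hsurj
  have hp : IsPGroup p (M'.map (QuotientGroup.mk' M)) := by
    rintro ⟨y, x, hx, rfl⟩
    refine ⟨m, ?_⟩
    apply Subtype.ext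
    have := pow_relIndex_mem M M' hx
    rw [hrel] at this
    show (QuotientGroup.mk' M x) ^ (p ^ m) = 1
    rw [← map_pow]
    exact (QuotientGroup.eq_one_iff _).mpr this
  have hle := Cfsg.Agent.Lib.Helper16.normal_pgroup_le_sylow hN hp (P.mapSurjective hsurj)
  intro x hx
  have hx1 : QuotientGroup.mk' M x ∈
      ((P.mapSurjective hsurj : Sylow p (G ⧸ M)) : Subgroup (G ⧸ M)) := hle ⟨x, hx, rfl⟩
  rw [Sylow.coe_mapSurjective] at hx1
  obtain ⟨y, hy, hyx⟩ := hx1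
  have h1 : y⁻¹ * x ∈ M := by
    rw [← QuotientGroup.eq]
    exact hyx
  have h2 : x = y * (y⁻¹ * x) := by group
  rw [h2]
  exact Subgroup.mul_mem_sup hy h1

/-- key lemma for the p'-step -/
theorem mem_of_mem_sup_of_coprime (P' M M' : Subgroup G) [M.Normal] (hP' : IsPGroup p P')
    (hMM' : M ≤ M') (hcop : (M.relIndex M').Coprime p) {z : G} (hz' : z ∈ M')
    (hz : z ∈ P' ⊔ M) : z ∈ M := by
  have hz2 : z ∈ ((P' ⊔ M : Subgroup G) : Set G) := hz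
  rw [Subgroup.mul_normal] at hz2
  obtain ⟨u, hu, w, hw, rfl⟩ := Set.mem_mul.mp hz2
  have huM' : u ∈ M' := by
    have : u = u * w * w⁻¹ := by group
    rw [this]
    exact M'.mul_mem hz' (M'.inv_mem (hMM' hw))
  obtain ⟨k, hk⟩ := hP' ⟨u, hu⟩
  have hk' : u ^ (p ^ k) = 1 := by
    have := congrArg Subtype.val hk
    simpa using this
  exact M.mul_mem (mem_of_ppow_of_coprime M M' huM' k hk' hcop) hw

variable (H : Subgroup G) (P : Sylow p G)

/-- the set of `x` conjugating `H` into `P M` -/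
def TT (M : Subgroup G) : Set G := {x | ∀ h ∈ H, x * h * x⁻¹ ∈ (P : Subgroup G) ⊔ M}

theorem TT_mono {M M' : Subgroup G} (h : M ≤ M') : TT H P M ⊆ TT H P M' :=
  fun _ hx h' hh' => (sup_le_sup_left h _) (hx h' hh')

theorem TT_mul_right {M' : Subgroup G} [M'.Normal] {x m : G} (hx : x ∈ TT H P M') (hm : m ∈ M') :
    x * m ∈ TT H P M' := by
  intro h hh
  have e : x * m * h * (x * m)⁻¹ = (x * (m * (h * m⁻¹ * h⁻¹)) * x⁻¹) * (x * h * x⁻¹) := by group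
  rw [e]
  refine Subgroup.mul_mem _ ?_ (hx h hh)
  apply (le_sup_right : M' ≤ (P : Subgroup G) ⊔ M')
  apply ‹M'.Normal›.conj_mem
  exact M'.mul_mem hm (‹M'.Normal›.conj_mem _ (M'.inv_mem hm) h)

/-- Step 1: any `x ∈ TT M'` can be corrected by an element of `M'` into `TT ⊥`. -/
theorem exists_correct (hH : IsPGroup p H) {M' : Subgroup G} [M'.Normal] {x : G}
    (hx : x ∈ TT H P M') : ∃ m₀ ∈ M', x * m₀ ∈ TT H P ⊥ := by
  have hPL : (P : Subgroup G) ≤ (P : Subgroup G) ⊔ M' := le_sup_left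
  have hH'L : H.map (MulAut.conj x).toMonoidHom ≤ (P : Subgroup G) ⊔ M' := by
    rintro z ⟨h, hh, rfl⟩
    simpa [MulAut.conj_apply] using hx h hh
  have hH'p : IsPGroup p ((H.map (MulAut.conj x).toMonoidHom).subgroupOf
      ((P : Subgroup G) ⊔ M')) := (hH.map _).comap_subtype
  obtain ⟨Q, hQ⟩ := hH'p.exists_le_sylow
  obtain ⟨l, hl⟩ := MulAction.exists_smul_eq ↥((P : Subgroup G) ⊔ M') (P.subtype hPL) Q
  have hl2 : (l : G) ∈ ((M' ⊔ (P : Subgroup G) : Subgroup G) : Set G) := by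
    show (l : G) ∈ M' ⊔ (P : Subgroup G)
    rw [sup_comm M' (P : Subgroup G)]
    exact l.2
  rw [Subgroup.normal_mul] at hl2
  obtain ⟨m', hm', u, hu, hmu⟩ := Set.mem_mul.mp hl2
  have key : ∀ z ∈ H.map (MulAut.conj x).toMonoidHom, m'⁻¹ * z * m' ∈ (P : Subgroup G) := by
    intro z hz
    have hzL : z ∈ (P : Subgroup G) ⊔ M' := hH'L hz
    have h1 : (⟨z, hzL⟩ : ↥((P : Subgroup G) ⊔ M')) ∈ (Q : Subgroup _) := by
      apply hQ
      rw [Subgroup.mem_subgroupOf]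
      exact hz
    rw [← hl, mem_smul_sylow] at h1
    have h2 : ((l⁻¹ * ⟨z, hzL⟩ * l : ↥((P : Subgroup G) ⊔ M')) : G) ∈ (P : Subgroup G) := by
      have := h1
      rw [Sylow.coe_subtype, Subgroup.mem_subgroupOf] at this
      exact this
    have h3 : ((l⁻¹ * ⟨z, hzL⟩ * l : ↥((P : Subgroup G) ⊔ M')) : G) = (l : G)⁻¹ * z * (l : G) := by
      simp
    rw [h3, ← hmu] at h2
    have e : m'⁻¹ * z * m' = u * ((m' * u)⁻¹ * z * (m' * u)) * u⁻¹ := by group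
    rw [e]
    exact Subgroup.mul_mem _ (Subgroup.mul_mem _ hu h2) (Subgroup.inv_mem _ hu)
  refine ⟨x⁻¹ * m'⁻¹ * x, ?_, ?_⟩
  · have := ‹M'.Normal›.conj_mem _ (M'.inv_mem hm') x⁻¹
    simpa [mul_assoc] using this
  · intro h hh
    have hz : x * h * x⁻¹ ∈ H.map (MulAut.conj x).toMonoidHom := ⟨h, hh, by simp [MulAut.conj_apply]⟩
    have := key _ hz
    have e : x * (x⁻¹ * m'⁻¹ * x) * h * (x * (x⁻¹ * m'⁻¹ * x))⁻¹ = m'⁻¹ * (x * h * x⁻¹) * m' := by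
      group
    rw [e]
    exact (le_sup_left : (P : Subgroup G) ≤ (P : Subgroup G) ⊔ ⊥) this

/-- Step 2 -/
theorem mul_mem_TT_iff {M M' : Subgroup G} [M.Normal] [M'.Normal] (hMM' : M ≤ M')
    (hcop : (M.relIndex M').Coprime p) {x₀ m : G} (hx₀ : x₀ ∈ TT H P M) (hm : m ∈ M') :
    x₀ * m ∈ TT H P M ↔ ∀ h ∈ H, h * m * h⁻¹ * m⁻¹ ∈ M := by
  constructor
  · intro hxm h hh
    have ha := hxm h hh
    have hb := hx₀ h hh
    have hab : x₀ * (m * h * m⁻¹ * h⁻¹) * x₀⁻¹ ∈ (P : Subgroup G) ⊔ M := by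
      have e : x₀ * (m * h * m⁻¹ * h⁻¹) * x₀⁻¹ = (x₀ * m * h * (x₀ * m)⁻¹) * (x₀ * h * x₀⁻¹)⁻¹ := by
        group
      rw [e]
      exact Subgroup.mul_mem _ ha (Subgroup.inv_mem _ hb)
    have hzM' : m * h * m⁻¹ * h⁻¹ ∈ M' := by
      have e : m * h * m⁻¹ * h⁻¹ = m * (h * m⁻¹ * h⁻¹) := by group
      rw [e]
      exact M'.mul_mem hm (‹M'.Normal›.conj_mem _ (M'.inv_mem hm) h)
    have hczM' : x₀ * (m * h * m⁻¹ * h⁻¹) * x₀⁻¹ ∈ M' := ‹M'.Normal›.conj_mem _ hzM' x₀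
    have h1 := mem_of_mem_sup_of_coprime (P : Subgroup G) M M' P.2 hMM' hcop hczM' hab
    have h2 := ‹M.Normal›.conj_mem _ h1 x₀⁻¹
    have e : x₀⁻¹ * (x₀ * (m * h * m⁻¹ * h⁻¹) * x₀⁻¹) * x₀⁻¹⁻¹ = (h * m * h⁻¹ * m⁻¹)⁻¹ := by group
    rw [e] at h2
    exact (M.inv_mem_iff).mp h2
  · intro hall h hh
    have h1 : (h * m * h⁻¹ * m⁻¹)⁻¹ ∈ M := M.inv_mem (hall h hh)
    have h2 := ‹M.Normal›.conj_mem _ h1 x₀
    have e : x₀ * m * h * (x₀ * m)⁻¹ = (x₀ * (h * m * h⁻¹ * m⁻¹)⁻¹ * x₀⁻¹) * (x₀ * h * x₀⁻¹) := by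
      group
    rw [e]
    exact Subgroup.mul_mem _ ((le_sup_right : M ≤ (P : Subgroup G) ⊔ M) h2) (hx₀ h hh)

end Cfsg.Agent.Lib.Helper23.SubnD
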