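import Mathlib
import Cfsg.Agent.Lib.Helper23.SubnD

/-!
# Subnormalizer count in p-solvable groups: counting and bookkeeping
-/

set_option autoImplicit false
set_option linter.unusedSectionVars false
set_option linter.style.haveILetI false

namespace Cfsg.Agent.Lib.Helper23.SubnE

open Cfsg.Agent.Lib.Helper23.SubnA Cfsg.Agent.Lib.Helper23.SubnB Cfsg.Agent.Lib.Helper23.SubnC
  Cfsg.Agent.Lib.Helper23.SubnD Finset
open scoped Pointwise

variable {G : Type*} [Group G] [Finite G] {p : ℕ} [Fact p.Prime]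

theorem card_mul_relIndex' {M K : Subgroup G} (h : M ≤ K) :
    Nat.card ↥M * M.relIndex K = Nat.card ↥K := by
  have := Subgroup.card_mul_index (M.subgroupOf K)
  rw [← this, Subgroup.relIndex]
  congr 1
  exact Nat.card_congr (Subgroup.subgroupOfEquivOfLe h).toEquiv.symm

variable (H : Subgroup G) (P : Sylow p G)

/-- number of `x` conjugating `H` into `P M` -/
noncomputable def tN (M : Subgroup G) : ℕ := Nat.card {x : G // x ∈ TT H P M}

/-- number of elements of `M'` centralizing `H` modulo `M` -/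
noncomputable def cHat (M M' : Subgroup G) : ℕ :=
  Nat.card {u : G // u ∈ M' ∧ ∀ h ∈ H, h * u * h⁻¹ * u⁻¹ ∈ M}

/-- the centralizer of `H` in `M'` modulo `M`, as a subgroup -/
def cSub (M M' : Subgroup G) [M.Normal] : Subgroup G where
  carrier := {u | u ∈ M' ∧ ∀ h ∈ H, h * u * h⁻¹ * u⁻¹ ∈ M}
  one_mem' := ⟨M'.one_mem, fun h _ => by simp [M.one_mem]⟩
  mul_mem' := by
    rintro u v ⟨hu, hu'⟩ ⟨hv, hv'⟩
    refine ⟨M'.mul_mem hu hv, fun h hh => ?_⟩
    have e : h * (u * v) * h⁻¹ * (u * v)⁻¹ =
        (h * u * h⁻¹ * u⁻¹) * (u * (h * v * h⁻¹ * v⁻¹) * u⁻¹) := by group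
    rw [e]
    exact M.mul_mem (hu' h hh) (‹M.Normal›.conj_mem _ (hv' h hh) u)
  inv_mem' := by
    rintro u ⟨hu, hu'⟩
    refine ⟨M'.inv_mem hu, fun h hh => ?_⟩
    have e : h * u⁻¹ * h⁻¹ * u⁻¹⁻¹ = u⁻¹ * (h * u * h⁻¹ * u⁻¹)⁻¹ * u⁻¹⁻¹ := by group
    rw [e]
    exact ‹M.Normal›.conj_mem _ (M.inv_mem (hu' h hh)) u⁻¹

theorem card_cSub (M M' : Subgroup G) [M.Normal] : Nat.card ↥(cSub H M M') = cHat H M M' := rfl

theorem le_cSub {M M' : Subgroup G} [M.Normal] (hMM' : M ≤ M') : M ≤ cSub H M M' := by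
  intro u hu
  refine ⟨hMM' hu, fun h _ => ?_⟩
  have e : h * u * h⁻¹ * u⁻¹ = (h * u * h⁻¹) * u⁻¹ := by group
  rw [e]
  exact M.mul_mem (‹M.Normal›.conj_mem _ hu h) (M.inv_mem hu)

theorem card_dvd_cHat {M M' : Subgroup G} [M.Normal] (hMM' : M ≤ M') :
    Nat.card ↥M ∣ cHat H M M' := by
  rw [← card_cSub]
  exact Subgroup.card_dvd_of_le (le_cSub H hMM')

theorem tN_top : tN H P ⊤ = Nat.card G := by
  unfold tN
  have : ∀ x : G, x ∈ TT H P ⊤ := by
    intro x h _
    rw [sup_top_eq]
    exact Subgroup.mem_top _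
  exact Nat.card_congr (Equiv.subtypeUnivEquiv this)

/-- p-power step -/
theorem tN_step_p {M M' : Subgroup G} [M.Normal] [M'.Normal] (hMM' : M ≤ M') (m : ℕ)
    (hrel : M.relIndex M' = p ^ m) :
    (P : Subgroup G) ⊔ M = (P : Subgroup G) ⊔ M' :=
  le_antisymm (sup_le_sup_left hMM' _)
    (sup_le le_sup_left (le_sup_of_ppow_step P M M' m hrel))

open Classical in
/-- p'-step -/
theorem tN_step_p' (hH : IsPGroup p H) {M M' : Subgroup G} [M.Normal] [M'.Normal] (hMM' : M ≤ M')
    (hcop : (M.relIndex M').Coprime p) :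
    tN H P M' * cHat H M M' = Nat.card ↥M' * tN H P M := by
  letI : Fintype G := Fintype.ofFinite G
  have hA : tN H P M' = ((univ : Finset G).filter (fun x => x ∈ TT H P M')).card := by
    unfold tN
    rw [Nat.card_eq_fintype_card]
    exact Fintype.card_of_subtype _ (fun x => by simp)
  have hC : tN H P M = ((univ : Finset G).filter (fun x => x ∈ TT H P M)).card := by
    unfold tN
    rw [Nat.card_eq_fintype_card]
    exact Fintype.card_of_subtype _ (fun x => by simp)
  have hB : Nat.card ↥M' = ((univ : Finset G).filter (fun x => x ∈ M')).card :=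
    (card_subgroup_filter M').symm
  have hD : cHat H M M' = ((univ : Finset G).filter
      (fun u => u ∈ M' ∧ ∀ h ∈ H, h * u * h⁻¹ * u⁻¹ ∈ M)).card := by
    unfold cHat
    rw [Nat.card_eq_fintype_card]
    exact Fintype.card_of_subtype _ (fun x => by simp)
  have hdc := Finset.sum_card_bipartiteAbove_eq_sum_card_bipartiteBelow
    (r := fun x m : G => x * m ∈ TT H P M)
    (s := (univ : Finset G).filter (fun x => x ∈ TT H P M'))
    (t := (univ : Finset G).filter (fun x => x ∈ M'))
  have h1 : ∀ x ∈ (univ : Finset G).filter (fun x => x ∈ TT H P M'),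
      (((univ : Finset G).filter (fun x => x ∈ M')).bipartiteAbove
        (fun x m : G => x * m ∈ TT H P M) x).card = cHat H M M' := by
    intro x hx
    have hx' : x ∈ TT H P M' := (Finset.mem_filter.mp hx).2
    obtain ⟨m₀, hm₀, hxm₀⟩ := exists_correct H P hH hx'
    have hx₀ : x * m₀ ∈ TT H P M := TT_mono H P bot_le hxm₀
    rw [hD]
    have himg : ((univ : Finset G).filter (fun x => x ∈ M')).bipartiteAbove
        (fun x m : G => x * m ∈ TT H P M) x =
        ((univ : Finset G).filter
          (fun u => u ∈ M' ∧ ∀ h ∈ H, h * u * h⁻¹ * u⁻¹ ∈ M)).image (fun u => m₀ * u) := by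
      ext m
      simp only [Finset.mem_bipartiteAbove, mem_filter, mem_univ, true_and, mem_image]
      constructor
      · rintro ⟨hm, hxm⟩
        refine ⟨m₀⁻¹ * m, ⟨M'.mul_mem (M'.inv_mem hm₀) hm, ?_⟩, by group⟩
        rw [← mul_mem_TT_iff H P hMM' hcop hx₀ (M'.mul_mem (M'.inv_mem hm₀) hm)]
        have e : x * m₀ * (m₀⁻¹ * m) = x * m := by group
        rw [e]
        exact hxm
      · rintro ⟨u, ⟨hu, hu'⟩, rfl⟩
        refine ⟨M'.mul_mem hm₀ hu, ?_⟩
        have e : x * (m₀ * u) = x * m₀ * u := by group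
        rw [e, mul_mem_TT_iff H P hMM' hcop hx₀ hu]
        exact hu'
    rw [himg, Finset.card_image_of_injective _ (mul_right_injective m₀)]
  have h2 : ∀ m ∈ (univ : Finset G).filter (fun x => x ∈ M'),
      (((univ : Finset G).filter (fun x => x ∈ TT H P M')).bipartiteBelow
        (fun x m : G => x * m ∈ TT H P M) m).card = tN H P M := by
    intro m hm
    have hm' : m ∈ M' := (Finset.mem_filter.mp hm).2
    rw [hC]
    have himg : ((univ : Finset G).filter (fun x => x ∈ TT H P M')).bipartiteBelow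
        (fun x m : G => x * m ∈ TT H P M) m =
        ((univ : Finset G).filter (fun x => x ∈ TT H P M)).image (fun y => y * m⁻¹) := by
      ext x
      simp only [Finset.mem_bipartiteBelow, mem_filter, mem_univ, true_and, mem_image]
      constructor
      · rintro ⟨_, hxm⟩
        exact ⟨x * m, hxm, by group⟩
      · rintro ⟨y, hy, rfl⟩
        refine ⟨TT_mul_right H P (TT_mono H P hMM' hy) (M'.inv_mem hm'), ?_⟩
        have e : y * m⁻¹ * m = y := by group
        rw [e]
        exact hy
    rw [himg, Finset.card_image_of_injective _ (mul_left_injective m⁻¹)]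
  rw [Finset.sum_congr rfl h1, Finset.sum_congr rfl h2, Finset.sum_const, Finset.sum_const,
    smul_eq_mul, smul_eq_mul, ← hA, ← hB] at hdc
  exact hdc

/-- `|P M|` -/
noncomputable def sz (M : Subgroup G) : ℕ := Nat.card ↥((P : Subgroup G) ⊔ M)

theorem sz_eq (M : Subgroup G) [M.Normal] :
    sz P M = Nat.card ↥M * M.relIndex (P : Subgroup G) := by
  unfold sz
  rw [← card_mul_relIndex' (le_sup_right : M ≤ (P : Subgroup G) ⊔ M), Subgroup.relIndex_sup_right]

theorem inf_eq_of_coprime {M M' : Subgroup G} [M.Normal] (hMM' : M ≤ M')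
    (hcop : (M.relIndex M').Coprime p) : M ⊓ (P : Subgroup G) = M' ⊓ (P : Subgroup G) := by
  apply le_antisymm (inf_le_inf_right _ hMM')
  rintro z ⟨hz1, hz2⟩
  refine ⟨?_, hz2⟩
  obtain ⟨k, hk⟩ := P.2 ⟨z, hz2⟩
  have hk' : z ^ (p ^ k) = 1 := by
    have := congrArg Subtype.val hk
    simpa using this
  exact mem_of_ppow_of_coprime M M' hz1 k hk' hcop

theorem sz_step_p' {M M' : Subgroup G} [M.Normal] [M'.Normal] (hMM' : M ≤ M')
    (hcop : (M.relIndex M').Coprime p) :
    sz P M' * Nat.card ↥M = sz P M * Nat.card ↥M' := by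
  rw [sz_eq, sz_eq]
  have h1 : M.relIndex (P : Subgroup G) = M'.relIndex (P : Subgroup G) := by
    rw [← Subgroup.inf_relIndex_right M, ← Subgroup.inf_relIndex_right M',
      inf_eq_of_coprime P hMM' hcop]
  rw [h1]
  ring

/-- the factor attached to a step of the series -/
noncomputable def fac (M M' : Subgroup G) : ℕ :=
  if (M.relIndex M').Coprime p then cHat H M M' / Nat.card ↥M else 1

theorem chain_claim (hH : IsPGroup p H) (M : ℕ → Subgroup G) (n : ℕ) (hn : M n = ⊤)
    (hmono : ∀ i < n, M i ≤ M (i + 1)) (hnormal : ∀ i ≤ n, (M i).Normal)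
    (hfac : ∀ i < n, (∃ m : ℕ, (M i).relIndex (M (i + 1)) = p ^ m) ∨
      ((M i).relIndex (M (i + 1))).Coprime p) :
    ∀ d ≤ n, tN H P (M (n - d)) =
      sz P (M (n - d)) * ∏ j ∈ Finset.Ico (n - d) n, fac (p := p) H (M j) (M (j + 1)) := by
  intro d
  induction d with
  | zero =>
    intro _
    simp only [Nat.sub_zero, Finset.Ico_self, Finset.prod_empty, mul_one]
    rw [hn, tN_top]
    unfold sz
    rw [sup_top_eq, Subgroup.card_top]
  | succ d ih =>
    intro hd
    have hd' : d ≤ n := Nat.le_of_succ_le hd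
    have ih' := ih hd'
    obtain ⟨k, hk⟩ : ∃ k, n - (d + 1) = k := ⟨_, rfl⟩
    have hk1 : n - d = k + 1 := by omega
    have hkn : k < n := by omega
    rw [hk]
    rw [hk1] at ih'
    haveI : (M k).Normal := hnormal k hkn.le
    haveI : (M (k + 1)).Normal := hnormal (k + 1) hkn
    have hle := hmono k hkn
    rw [Finset.prod_eq_prod_Ico_succ_bot hkn]
    by_cases hcop : ((M k).relIndex (M (k + 1))).Coprime p
    · have h1 := tN_step_p' H P hH hle hcop
      have h2 := sz_step_p' P hle hcop
      obtain ⟨q, hq⟩ := card_dvd_cHat H hle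
      have hfk : fac (p := p) H (M k) (M (k + 1)) = q := by
        unfold fac
        rw [if_pos hcop, hq, Nat.mul_div_cancel_left _ Nat.card_pos]
      rw [hfk]
      have hpos : 0 < Nat.card ↥(M (k + 1)) := Nat.card_pos
      apply Nat.eq_of_mul_eq_mul_left hpos
      obtain ⟨F, hF⟩ : ∃ F, F = ∏ j ∈ Finset.Ico (k + 1) n, fac (p := p) H (M j) (M (j + 1)) :=
        ⟨_, rfl⟩
      rw [← hF] at ih' ⊢
      rw [← h1, ih', hq]
      calc sz P (M (k + 1)) * F * (Nat.card ↥(M k) * q)
          = (sz P (M (k + 1)) * Nat.card ↥(M k)) * (q * F) := by ring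
        _ = (sz P (M k) * Nat.card ↥(M (k + 1))) * (q * F) := by rw [h2]
        _ = _ := by ring
    · have hfk : fac (p := p) H (M k) (M (k + 1)) = 1 := by
        unfold fac
        rw [if_neg hcop]
      rw [hfk, one_mul]
      rcases hfac k hkn with ⟨m, hm⟩ | h
      · have heq := tN_step_p P hle m hm
        have h1 : tN H P (M k) = tN H P (M (k + 1)) := by
          unfold tN TT
          rw [heq]
        have h2 : sz P (M k) = sz P (M (k + 1)) := by
          unfold sz
          rw [heq]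
        rw [h1, h2, ih']
      · exact absurd h hcop

open Classical in
theorem card_TT_bot :
    tN H P ⊥ = Nat.card {Q : Sylow p G // H ≤ (Q : Subgroup G)} *
        Nat.card ↥(Subgroup.normalizer ((P : Subgroup G) : Set G)) := by
  letI : Fintype G := Fintype.ofFinite G
  letI : Fintype (Sylow p G) := Fintype.ofFinite _
  have hmem : ∀ x : G, x ∈ TT H P ⊥ ↔ H.map (MulAut.conj x).toMonoidHom ≤ (P : Subgroup G) := by
    intro x
    constructor
    · rintro hx z ⟨h, hh, rfl⟩
      have := hx h hh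
      rw [sup_bot_eq] at this
      simpa [MulAut.conj_apply] using this
    · intro hx h hh
      rw [sup_bot_eq]
      have : x * h * x⁻¹ ∈ H.map (MulAut.conj x).toMonoidHom :=
        ⟨h, hh, by simp [MulAut.conj_apply]⟩
      exact hx this
  have hA : tN H P ⊥ = ((univ : Finset G).filter
      (fun x : G => H.map (MulAut.conj x).toMonoidHom ≤ (P : Subgroup G))).card := by
    unfold tN
    rw [Nat.card_eq_fintype_card]
    exact Fintype.card_of_subtype _ (fun x => by
      rw [mem_filter]
      simp only [mem_univ, true_and]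
      exact (hmem x).symm)
  have hc1 : Nat.card {Q : Sylow p G // H ≤ (Q : Subgroup G)} =
      ((univ : Finset (Sylow p G)).filter (fun Q : Sylow p G => H ≤ (Q : Subgroup G))).card := by
    rw [Nat.card_eq_fintype_card]
    exact Fintype.card_of_subtype _ (fun Q => by simp)
  rw [hA, hc1]
  rw [Finset.card_eq_sum_card_fiberwise (f := fun x : G => x⁻¹ • P)
    (t := (univ : Finset (Sylow p G)).filter (fun Q : Sylow p G => H ≤ (Q : Subgroup G)))]
  · apply Finset.sum_const_nat
    intro Q hQ
    have hHQ : H ≤ (Q : Subgroup G) := (Finset.mem_filter.mp hQ).2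
    obtain ⟨y, hy⟩ := MulAction.exists_smul_eq G P Q
    have hfib : ((univ : Finset G).filter
        (fun x : G => H.map (MulAut.conj x).toMonoidHom ≤ (P : Subgroup G))).filter
        (fun x => x⁻¹ • P = Q) =
        ((univ : Finset G).filter
          (fun n => n ∈ Subgroup.normalizer ((P : Subgroup G) : Set G))).image
          (fun n => n * y⁻¹) := by
      ext x
      simp only [mem_filter, mem_univ, true_and, mem_image]
      constructor
      · rintro ⟨_, hx⟩
        refine ⟨x * y, ?_, by group⟩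
        rw [← inv_smul_eq_smul_iff, hx, hy]
      · rintro ⟨n, hn, rfl⟩
        have h1 : (n * y⁻¹)⁻¹ • P = Q := by
          rw [← hy, inv_smul_eq_smul_iff]
          have e : n * y⁻¹ * y = n := by group
          rw [e]; exact hn
        refine ⟨?_, h1⟩
        rw [← le_inv_smul_iff, h1]
        exact hHQ
    rw [hfib, Finset.card_image_of_injective _ (mul_left_injective y⁻¹), card_subgroup_filter]
  · intro x hx
    rw [Finset.mem_coe, mem_filter] at hx ⊢
    refine ⟨mem_univ _, ?_⟩
    rw [le_inv_smul_iff]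
    exact hx.2

/-- Casolo's formula in `p`-solvable groups, for a chain indexed by `ℕ`. -/
theorem pSolvable_count (hH : IsPGroup p H) (M : ℕ → Subgroup G) (n : ℕ) (h0 : M 0 = ⊥)
    (hn : M n = ⊤) (hmono : ∀ i < n, M i ≤ M (i + 1)) (hnormal : ∀ i ≤ n, (M i).Normal)
    (hfac : ∀ i < n, (∃ m : ℕ, (M i).relIndex (M (i + 1)) = p ^ m) ∨
      ((M i).relIndex (M (i + 1))).Coprime p) :
    Nat.card {g : G // ∃ R : Subgroup G, IsPGroup p R ∧ H ≤ R ∧
        g ∈ Subgroup.normalizer (R : Set G)} =
      Nat.card ↥(P : Subgroup G) *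
        ∏ j ∈ Finset.range n, fac (p := p) H (M j) (M (j + 1)) := by
  rw [card_subnormalizer H P, ← card_TT_bot H P]
  have h := chain_claim H P hH M n hn hmono hnormal hfac n le_rfl
  rw [Nat.sub_self, h0] at h
  rw [h, Finset.range_eq_Ico]
  unfold sz
  rw [sup_bot_eq]

end Cfsg.Agent.Lib.Helper23.SubnE
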