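import Mathlib
import Cfsg.Prelude.Def_PLocal

/-!
# Thompson's replacement theorem for abelian subgroups of maximal order (helper23)
-/

set_option autoImplicit false

namespace Cfsg.Agent.Lib.Helper23

open scoped Pointwise commutatorElement

variable {G : Type*} [Group G]

/-- Product formula `|X| |Y| = |XY| |X ∩ Y|` for arbitrary subgroups. -/
theorem card_mul_card_eq_card_setMul (X Y : Subgroup G) :
    Nat.card X * Nat.card Y =
      Nat.card ((X : Set G) * (Y : Set G) : Set G) * Nat.card (X ⊓ Y : Subgroup G) := by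
  classical
  have hch : ∀ g : ((X : Set G) * (Y : Set G) : Set G), ∃ x ∈ X, ∃ y ∈ Y, x * y = (g : G) := by
    rintro ⟨g, hg⟩
    obtain ⟨x, hx, y, hy, h⟩ := Set.mem_mul.1 hg
    exact ⟨x, hx, y, hy, h⟩
  choose fx hfx fy hfy hfxy using hch
  rw [← Nat.card_prod, ← Nat.card_prod]
  apply Nat.card_congr
  have hmem : ∀ p : X × Y,
      (fx ⟨(p.1 : G) * p.2, Set.mul_mem_mul p.1.2 p.2.2⟩)⁻¹ * (p.1 : G) ∈ X ⊓ Y := by
    intro p
    constructor
    · exact X.mul_mem (X.inv_mem (hfx _)) p.1.2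
    · have h := hfxy ⟨(p.1 : G) * p.2, Set.mul_mem_mul p.1.2 p.2.2⟩
      have e : (fx ⟨(p.1 : G) * p.2, Set.mul_mem_mul p.1.2 p.2.2⟩)⁻¹ * (p.1 : G) =
          fy ⟨(p.1 : G) * p.2, Set.mul_mem_mul p.1.2 p.2.2⟩ * (p.2 : G)⁻¹ := by
        rw [inv_mul_eq_iff_eq_mul, ← mul_assoc, h]; simp
      rw [e]
      exact Y.mul_mem (hfy _) (Y.inv_mem p.2.2)
  refine
    { toFun := fun p => (⟨(p.1 : G) * (p.2 : G), Set.mul_mem_mul p.1.2 p.2.2⟩, ⟨_, hmem p⟩)
      invFun := fun q => (⟨fx q.1 * q.2, X.mul_mem (hfx q.1) q.2.2.1⟩,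
        ⟨(q.2 : G)⁻¹ * fy q.1, Y.mul_mem (Y.inv_mem q.2.2.2) (hfy q.1)⟩)
      left_inv := ?_
      right_inv := ?_ }
  · rintro ⟨⟨x, hx⟩, ⟨y, hy⟩⟩
    have h := hfxy ⟨x * y, Set.mul_mem_mul hx hy⟩
    apply Prod.ext
    · apply Subtype.ext
      simp
    · apply Subtype.ext
      simp only [mul_inv_rev, inv_inv]
      rw [mul_assoc, h]; simp
  · rintro ⟨g, ⟨d, hd⟩⟩
    have h := hfxy g
    have hg : (⟨(fx g * d) * (d⁻¹ * fy g), Set.mul_mem_mul (X.mul_mem (hfx g) hd.1)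
        (Y.mul_mem (Y.inv_mem hd.2) (hfy g))⟩ : ((X : Set G) * (Y : Set G) : Set G)) = g := by
      apply Subtype.ext
      simp only
      rw [mul_assoc, mul_inv_cancel_left, h]
    apply Prod.ext
    · exact hg
    · apply Subtype.ext
      simp only
      rw [hg]; simp

/-- membership in a conjugate -/
theorem mem_map_conj_iff (A : Subgroup G) (x y : G) :
    y ∈ A.map (MulAut.conj x).toMonoidHom ↔ x⁻¹ * y * x ∈ A := by
  constructor
  · rintro ⟨a, ha, rfl⟩
    simpa [mul_assoc] using ha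
  · intro h
    exact ⟨x⁻¹ * y * x, h, by simp [mul_assoc]⟩

/-- If `X` and `Y` commute elementwise, every element of `X ⊔ Y` is a product. -/
theorem exists_mul_of_mem_sup_of_commute {X Y : Subgroup G} (h : ∀ a ∈ X, ∀ c ∈ Y, a * c = c * a)
    {g : G} (hg : g ∈ X ⊔ Y) : ∃ a ∈ X, ∃ c ∈ Y, g = a * c := by
  rw [Subgroup.sup_eq_closure] at hg
  induction hg using Subgroup.closure_induction with
  | mem x hx =>
    rcases hx with hx | hx
    · exact ⟨x, hx, 1, Y.one_mem, (mul_one x).symm⟩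
    · exact ⟨1, X.one_mem, x, hx, (one_mul x).symm⟩
  | one => exact ⟨1, X.one_mem, 1, Y.one_mem, (mul_one 1).symm⟩
  | mul x y _ _ hx hy =>
    obtain ⟨a₁, ha₁, c₁, hc₁, rfl⟩ := hx
    obtain ⟨a₂, ha₂, c₂, hc₂, rfl⟩ := hy
    refine ⟨a₁ * a₂, X.mul_mem ha₁ ha₂, c₁ * c₂, Y.mul_mem hc₁ hc₂, ?_⟩
    have := h a₂ ha₂ c₁ hc₁
    calc a₁ * c₁ * (a₂ * c₂) = a₁ * (c₁ * a₂) * c₂ := by group
      _ = a₁ * (a₂ * c₁) * c₂ := by rw [this]
      _ = a₁ * a₂ * (c₁ * c₂) := by group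
  | inv x _ hx =>
    obtain ⟨a₁, ha₁, c₁, hc₁, rfl⟩ := hx
    refine ⟨a₁⁻¹, X.inv_mem ha₁, c₁⁻¹, Y.inv_mem hc₁, ?_⟩
    have := h a₁ ha₁ c₁ hc₁
    rw [this]; group

end Cfsg.Agent.Lib.Helper23

namespace Cfsg.Agent.Lib.Helper23

open scoped Pointwise commutatorElement

/-- **Thompson's replacement theorem** (abelian version): let `A` be an abelian subgroup of maximal
order of the finite nilpotent group `S` and `B` a normal abelian subgroup not normalizing `A`. Then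
some abelian subgroup `A'` of maximal order normalizes `A` and has `A ⊓ B < A' ⊓ B`. -/
theorem thompson_replacement {S : Type*} [Group S] [Finite S] [hnil : Group.IsNilpotent S]
    (A B : Subgroup S) (hA : A ∈ Cfsg.maxAbelianSubgroups S) [hBn : B.Normal]
    (hBc : ∀ b ∈ B, ∀ b' ∈ B, b * b' = b' * b)
    (hBA : ¬ B ≤ Subgroup.normalizer (A : Set S)) :
    ∃ A' ∈ Cfsg.maxAbelianSubgroups S, A ⊓ B < A' ⊓ B ∧ A' ≤ Subgroup.normalizer (A : Set S) := by
  classical
  obtain ⟨hAcomm, hAmax⟩ := hA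
  have hAc : ∀ a ∈ A, ∀ b ∈ A, a * b = b * a := by
    intro a ha b hb
    exact congrArg Subtype.val (hAcomm.is_comm.comm ⟨a, ha⟩ ⟨b, hb⟩)
  obtain ⟨NA, hNA⟩ : ∃ NA, NA = Subgroup.normalizer (A : Set S) := ⟨_, rfl⟩
  rw [← hNA] at hBA ⊢
  have hANA : A ≤ NA := hNA ▸ Subgroup.le_normalizer
  -- Step 1: a suitable element x
  obtain ⟨x, hxB, hxN, hx1, hx2⟩ : ∃ x ∈ B, x ∉ NA ∧ (∀ s : S, ⁅x, s⁆ ∈ NA) ∧
      (∀ s : S, ⁅x⁻¹, s⁆ ∈ NA) := by
    obtain ⟨n, hn⟩ := hnil.nilpotent'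
    have hex : ∃ i, ¬ (B ⊓ Subgroup.upperCentralSeries S i ≤ NA) :=
      ⟨n, by rw [hn, inf_top_eq]; exact hBA⟩
    have hspec := Nat.find_spec hex
    have hmin : ∀ m, m < Nat.find hex → B ⊓ Subgroup.upperCentralSeries S m ≤ NA :=
      fun m hm => not_not.1 (Nat.find_min hex hm)
    rcases Nat.eq_zero_or_pos (Nat.find hex) with h0 | hpos
    · exfalso
      rw [h0, Subgroup.upperCentralSeries_zero, inf_bot_eq] at hspec
      exact hspec bot_le
    · obtain ⟨j, hj⟩ : ∃ j, Nat.find hex = j + 1 := ⟨Nat.find hex - 1, by omega⟩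
      rw [hj] at hspec
      have hjle := hmin j (by omega)
      obtain ⟨x, hx, hxN⟩ := SetLike.not_le_iff_exists.1 hspec
      have key : ∀ y ∈ B ⊓ Subgroup.upperCentralSeries S (j + 1), ∀ s, ⁅y, s⁆ ∈ NA := by
        intro y hy s
        apply hjle
        refine ⟨?_, Subgroup.mem_upperCentralSeries_succ_iff.1 hy.2 s⟩
        rw [commutatorElement_def]
        have : y * s * y⁻¹ * s⁻¹ = y * (s * y⁻¹ * s⁻¹) := by group
        rw [this]
        exact B.mul_mem hy.1 (hBn.conj_mem _ (B.inv_mem hy.1) s)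
      exact ⟨x, hx.1, hxN, key x hx, key x⁻¹ (Subgroup.inv_mem _ hx)⟩
  -- Step 2: the conjugate A' = x A x⁻¹
  obtain ⟨A', hA'⟩ : ∃ A' : Subgroup S, A' = A.map (MulAut.conj x).toMonoidHom := ⟨_, rfl⟩
  have hmemA' : ∀ y, y ∈ A' ↔ x⁻¹ * y * x ∈ A := by
    intro y; rw [hA']; exact mem_map_conj_iff A x y
  have hconjA' : ∀ a ∈ A, x * a * x⁻¹ ∈ A' := by
    intro a ha
    rw [hmemA']
    have : x⁻¹ * (x * a * x⁻¹) * x = a := by group
    rw [this]; exact ha
  have hA'N : A' ≤ NA := by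
    intro y hy
    rw [hmemA'] at hy
    have e : y = ⁅x, x⁻¹ * y * x⁆ * (x⁻¹ * y * x) := by rw [commutatorElement_def]; group
    rw [e]
    exact NA.mul_mem (hx1 _) (hANA hy)
  have hAN' : A ≤ Subgroup.normalizer (A' : Set S) := by
    intro a ha
    have h1 : x⁻¹ * a * x ∈ Subgroup.normalizer (A : Set S) := by
      rw [← hNA]
      have e : x⁻¹ * a * x = ⁅x⁻¹, a⁆ * a := by rw [commutatorElement_def]; group
      rw [e]
      exact NA.mul_mem (hx2 a) (hANA ha)
    rw [Subgroup.mem_normalizer_iff]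
    intro h
    rw [hmemA', hmemA']
    have := (Subgroup.mem_normalizer_iff.1 h1) (x⁻¹ * h * x)
    rw [this]
    have e : x⁻¹ * a * x * (x⁻¹ * h * x) * (x⁻¹ * a * x)⁻¹ = x⁻¹ * (a * h * a⁻¹) * x := by group
    rw [e]
  have hA'c : ∀ u ∈ A', ∀ v ∈ A', u * v = v * u := by
    intro u hu v hv
    rw [hmemA'] at hu hv
    have := hAc _ hu _ hv
    have e1 : u * v = x * ((x⁻¹ * u * x) * (x⁻¹ * v * x)) * x⁻¹ := by group
    have e2 : v * u = x * ((x⁻¹ * v * x) * (x⁻¹ * u * x)) * x⁻¹ := by group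
    rw [e1, e2, this]
  have hcardA' : Nat.card A' = Nat.card A := by
    rw [hA']
    exact Subgroup.card_map_of_injective (MulAut.conj x).injective
  -- Step 3
  obtain ⟨H, hH⟩ : ∃ H : Subgroup S, H = A ⊔ A' := ⟨_, rfl⟩
  obtain ⟨Z, hZ⟩ : ∃ Z : Subgroup S, Z = A ⊓ A' := ⟨_, rfl⟩
  obtain ⟨K, hK⟩ : ∃ K : Subgroup S, K = B ⊓ H := ⟨_, rfl⟩
  have hAH : A ≤ H := hH ▸ le_sup_left
  have hA'H : A' ≤ H := hH ▸ le_sup_right
  have hHN : H ≤ NA := hH ▸ sup_le hANA hA'N
  have hZA : Z ≤ A := hZ ▸ inf_le_left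
  have hZA' : Z ≤ A' := hZ ▸ inf_le_right
  have hKB : K ≤ B := hK ▸ inf_le_left
  have hKH : K ≤ H := hK ▸ inf_le_right
  have hZH : ∀ z ∈ Z, ∀ h ∈ H, z * h = h * z := by
    intro z hz h hh
    have hle : H ≤ Subgroup.centralizer ({z} : Set S) := by
      rw [hH]
      apply sup_le
      · intro a ha
        rw [Subgroup.mem_centralizer_iff]
        intro w hw
        rw [Set.mem_singleton_iff] at hw
        subst hw
        exact hAc w (hZA hz) a ha
      · intro a ha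
        rw [Subgroup.mem_centralizer_iff]
        intro w hw
        rw [Set.mem_singleton_iff] at hw
        subst hw
        exact hA'c w (hZA' hz) a ha
    have := hle hh
    rw [Subgroup.mem_centralizer_iff] at this
    exact this z rfl
  have hZK : ∀ z ∈ Z, ∀ k ∈ K, z * k = k * z := fun z hz k hk => hZH z hz k (hKH hk)
  have hstarH : Z ⊔ K ≤ H := sup_le (hZA.trans hAH) hKH
  have hstarc : IsMulCommutative ↥(Z ⊔ K) := by
    refine ⟨⟨?_⟩⟩
    rintro ⟨u, hu⟩ ⟨v, hv⟩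
    apply Subtype.ext
    show u * v = v * u
    obtain ⟨z₁, hz₁, k₁, hk₁, rfl⟩ := exists_mul_of_mem_sup_of_commute hZK hu
    obtain ⟨z₂, hz₂, k₂, hk₂, rfl⟩ := exists_mul_of_mem_sup_of_commute hZK hv
    have e1 := hZK z₂ hz₂ k₁ hk₁
    have e2 := hAc z₁ (hZA hz₁) z₂ (hZA hz₂)
    have e3 := hBc k₁ (hKB hk₁) k₂ (hKB hk₂)
    have e4 := hZK z₁ hz₁ k₂ hk₂
    calc z₁ * k₁ * (z₂ * k₂) = z₁ * (k₁ * z₂) * k₂ := by group
      _ = z₁ * (z₂ * k₁) * k₂ := by rw [e1]
      _ = (z₁ * z₂) * (k₁ * k₂) := by group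
      _ = (z₂ * z₁) * (k₂ * k₁) := by rw [e2, e3]
      _ = z₂ * (z₁ * k₂) * k₁ := by group
      _ = z₂ * (k₂ * z₁) * k₁ := by rw [e4]
      _ = z₂ * k₂ * (z₁ * k₁) := by group
  have hcommK : ∀ a ∈ A, ⁅x, a⁆ ∈ K := by
    intro a ha
    rw [hK]
    constructor
    · rw [commutatorElement_def]
      have : x * a * x⁻¹ * a⁻¹ = x * (a * x⁻¹ * a⁻¹) := by group
      rw [this]
      exact B.mul_mem hxB (hBn.conj_mem _ (B.inv_mem hxB) a)
    · rw [commutatorElement_def]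
      exact H.mul_mem (hA'H (hconjA' a ha)) (H.inv_mem (hAH ha))
  refine ⟨Z ⊔ K, ⟨hstarc, ?_⟩, ⟨?_, ?_⟩, hstarH.trans hHN⟩
  · -- cardinality
    intro B' hB'
    refine (hAmax B' hB').trans ?_
    -- the three product formulas
    have hset1 : ((A : Set S) * (A' : Set S) : Set S) = (H : Set S) := by
      rw [hH]; exact (Subgroup.coe_mul_of_left_le_normalizer_right A A' hAN').symm
    have hset2 : ((A : Set S) * (K : Set S) : Set S) = (H : Set S) := by
      apply Set.Subset.antisymm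
      · rintro _ ⟨a, ha, k, hk, rfl⟩
        exact H.mul_mem (hAH ha) (hKH hk)
      · intro h hh
        rw [← hset1] at hh
        obtain ⟨a, ha, a'', ha'', rfl⟩ := hh
        have ha₁ : x⁻¹ * a'' * x ∈ A := (hmemA' a'').1 ha''
        obtain ⟨a₁, ha₁e⟩ : ∃ a₁, a₁ = x⁻¹ * a'' * x := ⟨_, rfl⟩
        rw [← ha₁e] at ha₁
        have hk : a₁⁻¹ * ⁅x, a₁⁆ * a₁ ∈ K := by
          have h1 := hcommK a₁ ha₁
          rw [hK] at h1 ⊢
          constructor
          · have := hBn.conj_mem _ h1.1 a₁⁻¹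
            simpa using this
          · exact H.mul_mem (H.mul_mem (H.inv_mem (hAH ha₁)) h1.2) (hAH ha₁)
        refine ⟨a * a₁, A.mul_mem ha ha₁, _, hk, ?_⟩
        simp only
        rw [ha₁e, commutatorElement_def]; group
    have hsub3 : ((Z : Set S) * (K : Set S) : Set S) ⊆ ((Z ⊔ K : Subgroup S) : Set S) := by
      rintro _ ⟨z, hz, k, hk, rfl⟩
      exact Subgroup.mul_mem _ (Subgroup.mem_sup_left hz) (Subgroup.mem_sup_right hk)
    have P1 := card_mul_card_eq_card_setMul A A'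
    have P2 := card_mul_card_eq_card_setMul A K
    have P3 := card_mul_card_eq_card_setMul Z K
    rw [hset1, ← hZ, hcardA'] at P1
    rw [hset2] at P2
    have hle3 : Nat.card ((Z : Set S) * (K : Set S) : Set S) ≤ Nat.card ↥(Z ⊔ K) :=
      Nat.card_le_card_of_injective (Set.inclusion hsub3) (Set.inclusion_injective hsub3)
    have hle4 : Nat.card ↥(Z ⊓ K) ≤ Nat.card ↥(A ⊓ K) :=
      Subgroup.card_le_of_le (inf_le_inf_right K hZA)
    have hHcard : Nat.card (H : Set S) = Nat.card H := rfl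
    rw [hHcard] at P1 P2
    have hpos1 : 0 < Nat.card H := Nat.card_pos
    have hpos2 : 0 < Nat.card ↥(A ⊓ K) := Nat.card_pos
    -- arithmetic
    generalize Nat.card A = a at *
    generalize Nat.card H = h at *
    generalize Nat.card Z = z at *
    generalize Nat.card K = k at *
    generalize Nat.card ↥(A ⊓ K) = m at *
    generalize Nat.card ↥(Z ⊓ K) = n at *
    generalize Nat.card ((Z : Set S) * (K : Set S) : Set S) = w at *
    generalize Nat.card ↥(Z ⊔ K) = s at *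
    -- P1 : a * a = h * z, P2 : a * k = h * m, P3 : z * k = w * n
    have h5 : h * (a * m) = h * (z * k) := by
      calc h * (a * m) = a * (h * m) := by ring
        _ = a * (a * k) := by rw [P2]
        _ = (a * a) * k := by ring
        _ = (h * z) * k := by rw [P1]
        _ = h * (z * k) := by ring
    have h6 : a * m = z * k := Nat.eq_of_mul_eq_mul_left hpos1 h5
    have h7 : a * m ≤ w * m := by
      rw [h6, P3]; exact Nat.mul_le_mul_left w hle4
    have h8 : a ≤ w := Nat.le_of_mul_le_mul_right h7 hpos2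
    exact h8.trans hle3
  · -- A ⊓ B ≤ (Z ⊔ K) ⊓ B
    apply le_inf _ inf_le_right
    intro y hy
    apply Subgroup.mem_sup_right
    rw [hK]
    exact ⟨hy.2, hAH hy.1⟩
  · -- strictness
    intro hle
    apply hxN
    have hA'A : A' ≤ A := by
      intro y hy
      have ha := (hmemA' y).1 hy
      have h1 : ⁅x, x⁻¹ * y * x⁆ ∈ A := by
        have h2 := hcommK _ ha
        have h3 : ⁅x, x⁻¹ * y * x⁆ ∈ (Z ⊔ K) ⊓ B := ⟨Subgroup.mem_sup_right h2, hKB h2⟩
        exact (hle h3).1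
      have e : y = ⁅x, x⁻¹ * y * x⁆ * (x⁻¹ * y * x) := by rw [commutatorElement_def]; group
      rw [e]
      exact A.mul_mem h1 ha
    have hAA' : A' = A := Subgroup.eq_of_le_of_card_ge hA'A (le_of_eq hcardA'.symm)
    rw [hNA, Subgroup.mem_normalizer_iff]
    intro h
    constructor
    · intro hh
      rw [← hAA']
      exact hconjA' h hh
    · intro hh
      rw [← hAA', hmemA'] at hh
      have : x⁻¹ * (x * h * x⁻¹) * x = h := by group
      rw [this] at hh
      exact hh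

end Cfsg.Agent.Lib.Helper23
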