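import Mathlib
import Cfsg.Agent.Lib.Helper23.FrobB

/-!
# A lower bound for the commutant of a fixed-point-free operator of finite order (helper23)
-/

set_option autoImplicit false
set_option linter.style.haveILetI false

namespace Cfsg.Agent.Lib.Helper23.XSa

open Module

variable {K : Type*} [Field K] {V : Type*} [AddCommGroup V] [Module K V]

/-- the commutant of `T` -/
def comm (T : Module.End K V) : Submodule K (Module.End K V) where
  carrier := {S | T * S = S * T}
  add_mem' := by
    intro a b ha hb
    change T * (a + b) = (a + b) * T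
    rw [mul_add, add_mul, ha, hb]
  zero_mem' := by
    change T * 0 = 0 * T
    simp
  smul_mem' := by
    intro c a ha
    change T * (c • a) = (c • a) * T
    rw [mul_smul_comm, smul_mul_assoc, ha]

theorem mem_comm {T S : Module.End K V} : S ∈ comm T ↔ T * S = S * T := Iff.rfl

variable [IsAlgClosed K] [FiniteDimensional K V]

theorem commutant_bound (T : Module.End K V) (r : ℕ) (hr : 0 < r) (hrK : (r : K) ≠ 0)
    (hT : T ^ r = 1) (hfix : ∀ v, T v = v → v = 0) :
    (finrank K V) ^ 2 ≤ (r - 1) * finrank K (comm T) := by
  classical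
  have hss := Cfsg.Agent.Lib.Helper23.FrobB.semisimple_of_pow T r hrK hT
  let eigenDecomp := DirectSum.isInternal_submodule_of_iSupIndep_of_iSup_eq_top
    T.eigenspaces_iSupIndep hss.iSup_eigenspace_eq_top
  let I := (ν : K) × Fin (finrank K (T.eigenspace ν))
  let b : Basis I K V := eigenDecomp.collectedBasis fun μ ↦ finBasis K (T.eigenspace μ)
  haveI : Fintype I := FiniteDimensional.fintypeBasisIndex b
  let μ : I → K := Sigma.fst
  have hTb (i : I) : T (b i) = μ i • b i :=
    Module.End.mem_eigenspace_iff.mp (eigenDecomp.collectedBasis_mem _ i)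
  have hpow : ∀ (n : ℕ) (i : I), (T ^ n) (b i) = μ i ^ n • b i := by
    intro n
    induction n with
    | zero => intro i; simp
    | succ n ih =>
      intro i
      rw [pow_succ, Module.End.mul_apply, hTb, map_smul, ih, smul_smul, pow_succ, mul_comm]
  have hμr : ∀ i, μ i ^ r = 1 := by
    intro i
    have h1 := hpow r i
    rw [hT, Module.End.one_apply] at h1
    have h2 : (1 - μ i ^ r) • b i = 0 := by
      rw [sub_smul, one_smul, ← h1, sub_self]
    rcases smul_eq_zero.1 h2 with h3 | h3
    · exact (sub_eq_zero.1 h3).symm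
    · exact absurd h3 (b.ne_zero i)
  have hμ1 : ∀ i, μ i ≠ 1 := by
    intro i h
    have := hfix (b i) (by rw [hTb, h, one_smul])
    exact b.ne_zero i this
  -- matrix units
  let B : Basis (I × I) K (Module.End K V) := (Matrix.stdBasis K I I).map (Matrix.toLin b b)
  have hB : ∀ a c j, B (a, c) (b j) = if j = c then b a else 0 := by
    intro a c j
    have h1 : B (a, c) = Matrix.toLin b b (Matrix.single a c (1 : K)) := by
      simp only [B, Basis.map_apply, Matrix.stdBasis_eq_single]
    rw [h1, Matrix.toLin_self]
    by_cases hjc : j = c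
    · subst hjc
      rw [if_pos rfl, Finset.sum_eq_single a]
      · simp
      · intro i _ hia
        simp [Matrix.single_apply, Ne.symm hia]
      · intro h; exact absurd (Finset.mem_univ a) h
    · rw [if_neg hjc]
      apply Finset.sum_eq_zero
      intro i _
      simp [Matrix.single_apply, Ne.symm hjc]
  let P : Finset (I × I) := Finset.univ.filter (fun p => μ p.1 = μ p.2)
  have hBcomm : ∀ p ∈ P, B p ∈ comm T := by
    rintro ⟨a, c⟩ hp
    have hac : μ a = μ c := (Finset.mem_filter.1 hp).2
    rw [mem_comm]
    apply b.ext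
    intro j
    rw [Module.End.mul_apply, Module.End.mul_apply, hB, hTb, map_smul, hB]
    by_cases hjc : j = c
    · subst hjc
      rw [if_pos rfl, hTb, hac]
    · rw [if_neg hjc, map_zero, smul_zero]
  have hcard : P.card ≤ finrank K (comm T) := by
    let G : {p // p ∈ P} → comm T := fun p => ⟨B p.1, hBcomm p.1 p.2⟩
    have hG : LinearIndependent K G := by
      apply LinearIndependent.of_comp (comm T).subtype
      have : (comm T).subtype ∘ G = fun p : {p // p ∈ P} => B p.1 := rfl
      rw [this]
      exact B.linearIndependent.comp Subtype.val Subtype.val_injective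
    have := hG.fintype_card_le_finrank
    simpa using this
  -- counting
  let s : Finset K := Finset.univ.image μ
  let f : K → ℕ := fun ω => (Finset.univ.filter (fun a : I => μ a = ω)).card
  have hD : finrank K V = ∑ ω ∈ s, f ω := by
    rw [finrank_eq_card_basis b, ← Finset.card_univ]
    exact Finset.card_eq_sum_card_image μ Finset.univ
  have hP : P.card = ∑ ω ∈ s, f ω ^ 2 := by
    rw [Finset.card_eq_sum_card_fiberwise (f := fun p : I × I => μ p.1) (t := s)
      (fun p _ => Finset.mem_image_of_mem μ (Finset.mem_univ p.1))]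
    apply Finset.sum_congr rfl
    intro ω _
    have : (P.filter (fun p => μ p.1 = ω)) =
        (Finset.univ.filter (fun a : I => μ a = ω)) ×ˢ (Finset.univ.filter (fun a : I => μ a = ω)) := by
      ext ⟨a, c⟩
      simp only [P, Finset.mem_filter, Finset.mem_univ, true_and, Finset.mem_product]
      constructor
      · rintro ⟨h1, h2⟩
        exact ⟨h2, h1 ▸ h2⟩
      · rintro ⟨h1, h2⟩
        exact ⟨h1.trans h2.symm, h1⟩
    rw [this, Finset.card_product, sq]
  have hs : s.card ≤ r - 1 := by
    have hsub : s ⊆ ((Polynomial.nthRoots r (1 : K)).toFinset).erase 1 := by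
      intro ω hω
      obtain ⟨a, _, rfl⟩ := Finset.mem_image.1 hω
      rw [Finset.mem_erase, Multiset.mem_toFinset, Polynomial.mem_nthRoots hr]
      exact ⟨hμ1 a, hμr a⟩
    have h1 : (1 : K) ∈ (Polynomial.nthRoots r (1 : K)).toFinset := by
      rw [Multiset.mem_toFinset, Polynomial.mem_nthRoots hr, one_pow]
    have h2 := Finset.card_le_card hsub
    rw [Finset.card_erase_of_mem h1] at h2
    have h3 : (Polynomial.nthRoots r (1 : K)).toFinset.card ≤ r :=
      (Multiset.toFinset_card_le _).trans (Polynomial.card_nthRoots r 1)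
    omega
  calc (finrank K V) ^ 2 = (∑ ω ∈ s, f ω) ^ 2 := by rw [hD]
    _ ≤ s.card * ∑ ω ∈ s, f ω ^ 2 := sq_sum_le_card_mul_sum_sq
    _ = s.card * P.card := by rw [hP]
    _ ≤ (r - 1) * finrank K (comm T) := Nat.mul_le_mul hs hcard

end Cfsg.Agent.Lib.Helper23.XSa
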