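import Mathlib

/-!
# Operators of a group with scalar commutators: `End V` has dimension `|Q : S|` (helper23)
-/

set_option autoImplicit false
set_option linter.style.haveILetI false

namespace Cfsg.Agent.Lib.Helper23.XSb

open Module

variable {K : Type*} [Field K] {V : Type*} [AddCommGroup V] [Module K V]
  {Γ : Type*} [Group Γ] (ρ : Γ →* (V →ₗ[K] V))

theorem rho_mul_inv (g : Γ) : ρ g * ρ g⁻¹ = 1 := by
  rw [← map_mul, mul_inv_cancel, map_one]

theorem rho_inv_mul (g : Γ) : ρ g⁻¹ * ρ g = 1 := by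
  rw [← map_mul, inv_mul_cancel, map_one]

theorem rho_ne_zero [Nontrivial V] (g : Γ) : ρ g ≠ 0 := by
  intro h
  have := rho_mul_inv ρ g
  rw [h, zero_mul] at this
  exact zero_ne_one this

variable (Q S : Subgroup Γ)

/-- the conjugation character attached to `g` -/
theorem exists_hom [Nontrivial V]
    (hex : ∀ t ∈ Q, ∀ g ∈ Q, ∃ c : K, ρ t * ρ g * ρ t⁻¹ = c • ρ g) (g : Γ) (hg : g ∈ Q) :
    ∃ f : Q →* K, ∀ t : Q, ρ (t : Γ) * ρ g * ρ (t : Γ)⁻¹ = f t • ρ g := by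
  have hinj : ∀ c c' : K, c • ρ g = c' • ρ g → c = c' := by
    intro c c' h
    have h2 : (c - c') • ρ g = 0 := by rw [sub_smul, h, sub_self]
    rcases smul_eq_zero.1 h2 with h3 | h3
    · exact sub_eq_zero.1 h3
    · exact absurd h3 (rho_ne_zero ρ g)
  choose c hc using fun t : Q => hex t t.2 g hg
  refine ⟨{ toFun := c, map_one' := ?_, map_mul' := ?_ }, hc⟩
  · apply hinj
    rw [← hc 1, Subgroup.coe_one, inv_one, map_one, one_mul, mul_one, one_smul]
  · intro t t'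
    apply hinj
    rw [← hc (t * t'), Subgroup.coe_mul, mul_inv_rev, map_mul, map_mul]
    calc ρ (t : Γ) * ρ (t' : Γ) * ρ g * (ρ (t' : Γ)⁻¹ * ρ (t : Γ)⁻¹)
        = ρ (t : Γ) * (ρ (t' : Γ) * ρ g * ρ (t' : Γ)⁻¹) * ρ (t : Γ)⁻¹ := by simp only [mul_assoc]
      _ = c t' • (ρ (t : Γ) * ρ g * ρ (t : Γ)⁻¹) := by
          rw [hc t', mul_smul_comm, smul_mul_assoc]
      _ = (c t * c t') • ρ g := by rw [hc t, smul_smul, mul_comm]

variable [Finite Q]

open Classical in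
/-- sum of the conjugates of `ρ g` -/
theorem sum_conj [Nontrivial V] [Fintype Q]
    (hex : ∀ t ∈ Q, ∀ g ∈ Q, ∃ c : K, ρ t * ρ g * ρ t⁻¹ = c • ρ g)
    (hS : ∀ g ∈ S, ∀ t ∈ Q, ρ t * ρ g * ρ t⁻¹ = ρ g)
    (hnd : ∀ g ∈ Q, g ∉ S → ∃ t ∈ Q, ρ t * ρ g * ρ t⁻¹ ≠ ρ g) (g : Γ) (hg : g ∈ Q) :
    ∑ t : Q, ρ (t : Γ) * ρ g * ρ (t : Γ)⁻¹ = if g ∈ S then (Nat.card Q : K) • ρ g else 0 := by
  classical
  by_cases hgS : g ∈ S
  · rw [if_pos hgS]
    rw [Finset.sum_congr rfl (fun (t : Q) _ => hS g hgS (t : Γ) t.2)]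
    rw [Finset.sum_const, Finset.card_univ, Nat.card_eq_fintype_card, Nat.cast_smul_eq_nsmul]
  · rw [if_neg hgS]
    obtain ⟨f, hf⟩ := exists_hom ρ Q hex g hg
    rw [Finset.sum_congr rfl (fun t _ => hf t), ← Finset.sum_smul]
    have hf1 : f ≠ 1 := by
      intro h1
      obtain ⟨t, ht, hne⟩ := hnd g hg hgS
      apply hne
      have := hf ⟨t, ht⟩
      rw [h1, MonoidHom.one_apply, one_smul] at this
      exact this
    rw [sum_hom_units_eq_zero f hf1, zero_smul]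

theorem dim_formula [FiniteDimensional K V] [Nontrivial V] (hSQ : S ≤ Q)
    (hex : ∀ t ∈ Q, ∀ g ∈ Q, ∃ c : K, ρ t * ρ g * ρ t⁻¹ = c • ρ g)
    (hS : ∀ g ∈ S, ∀ t ∈ Q, ρ t * ρ g * ρ t⁻¹ = ρ g)
    (hnd : ∀ g ∈ Q, g ∉ S → ∃ t ∈ Q, ρ t * ρ g * ρ t⁻¹ ≠ ρ g)
    (hC : ∀ T : Module.End K V, (∀ g ∈ Q, ρ g * T = T * ρ g) → ∃ c : K, T = c • 1)
    (hchar : (Nat.card Q : K) ≠ 0) :
    finrank K V ^ 2 * Nat.card S = Nat.card Q := by
  classical
  haveI := Fintype.ofFinite Q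
  -- scalars
  have hscal : ∀ g ∈ S, ∃ c : K, ρ g = c • 1 := by
    intro g hg
    apply hC
    intro t ht
    have h1 := hS g hg t ht
    calc ρ t * ρ g = ρ t * ρ g * (ρ t⁻¹ * ρ t) := by rw [rho_inv_mul, mul_one]
      _ = (ρ t * ρ g * ρ t⁻¹) * ρ t := by simp only [mul_assoc]
      _ = ρ g * ρ t := by rw [h1]
  -- the averaging operator
  let P : Module.End K V →ₗ[K] Module.End K V :=
    ∑ g : Q, (LinearMap.mulLeft K (ρ (g : Γ))).comp (LinearMap.mulRight K (ρ (g : Γ)⁻¹))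
  have hP : ∀ T, P T = ∑ g : Q, ρ (g : Γ) * T * ρ (g : Γ)⁻¹ := by
    intro T
    simp only [P, LinearMap.sum_apply, LinearMap.comp_apply, LinearMap.mulLeft_apply,
      LinearMap.mulRight_apply, mul_assoc]
  have hPcomm : ∀ T, ∀ h ∈ Q, ρ h * P T = P T * ρ h := by
    intro T h hh
    rw [hP, Finset.mul_sum, Finset.sum_mul]
    apply Fintype.sum_equiv (Equiv.mulLeft (⟨h, hh⟩ : Q))
    intro g
    change ρ h * (ρ (g : Γ) * T * ρ (g : Γ)⁻¹) =
      ρ ((⟨h, hh⟩ * g : Q) : Γ) * T * ρ ((⟨h, hh⟩ * g : Q) : Γ)⁻¹ * ρ h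
    rw [Subgroup.coe_mul, mul_inv_rev, map_mul, map_mul]
    change ρ h * (ρ (g : Γ) * T * ρ (g : Γ)⁻¹) = ρ h * ρ (g : Γ) * T * (ρ (g : Γ)⁻¹ * ρ h⁻¹) * ρ h
    have : ρ h⁻¹ * ρ h = 1 := rho_inv_mul ρ h
    calc ρ h * (ρ (g : Γ) * T * ρ (g : Γ)⁻¹) = ρ h * ρ (g : Γ) * T * (ρ (g : Γ)⁻¹ * 1) := by
          simp only [mul_assoc, mul_one]
      _ = ρ h * ρ (g : Γ) * T * (ρ (g : Γ)⁻¹ * ρ h⁻¹) * ρ h := by
          rw [← this]; simp only [mul_assoc]
  have hPscal : ∀ T, ∃ c : K, P T = c • 1 := fun T => hC _ (hPcomm T)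
  have hPrho : ∀ u ∈ Q, P (ρ u) = if u ∈ S then (Nat.card Q : K) • ρ u else 0 := by
    intro u hu
    rw [hP]
    exact sum_conj ρ Q S hex hS hnd u hu
  -- cardinalities
  have hcardS : Nat.card (S.subgroupOf Q) = Nat.card S :=
    Nat.card_congr (Subgroup.subgroupOfEquivOfLe hSQ).toEquiv
  have hcardQ : Nat.card Q = Nat.card (Q ⧸ S.subgroupOf Q) * Nat.card S := by
    rw [← hcardS]
    exact Subgroup.card_eq_card_quotient_mul_card_subgroup _
  have hScharK : (Nat.card S : K) ≠ 0 := by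
    intro h
    apply hchar
    rw [hcardQ, Nat.cast_mul, h, mul_zero]
  -- spanning
  have hspan : ∀ T : Module.End K V, T ∈ Submodule.span K (Set.range (fun t : Q => ρ (t : Γ))) := by
    intro T
    have h1 : ∑ t : Q, ρ (t : Γ) * P (ρ (t : Γ)⁻¹ * T) =
        ((Nat.card Q : K) * (Nat.card S : K)) • T := by
      have h2 : ∀ t : Q, ρ (t : Γ) * P (ρ (t : Γ)⁻¹ * T) =
          ∑ g : Q, (ρ (t : Γ) * ρ (g : Γ) * ρ (t : Γ)⁻¹) * T * ρ (g : Γ)⁻¹ := by
        intro t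
        rw [hP, Finset.mul_sum]
        apply Finset.sum_congr rfl
        intro g _
        simp only [mul_assoc]
      rw [Finset.sum_congr rfl (fun t _ => h2 t), Finset.sum_comm]
      have h3 : ∀ g : Q, ∑ t : Q, (ρ (t : Γ) * ρ (g : Γ) * ρ (t : Γ)⁻¹) * T * ρ (g : Γ)⁻¹ =
          if (g : Γ) ∈ S then (Nat.card Q : K) • T else 0 := by
        intro g
        rw [← Finset.sum_mul, ← Finset.sum_mul, sum_conj ρ Q S hex hS hnd g g.2]
        by_cases hgS : (g : Γ) ∈ S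
        · rw [if_pos hgS, if_pos hgS]
          obtain ⟨c, hc⟩ := hscal g hgS
          have hcm : ρ (g : Γ) * T = T * ρ (g : Γ) := by
            rw [hc, smul_mul_assoc, one_mul, mul_smul_comm, mul_one]
          have h4 : ρ (g : Γ) * T * ρ (g : Γ)⁻¹ = T := by
            rw [hcm, mul_assoc, rho_mul_inv, mul_one]
          rw [smul_mul_assoc, smul_mul_assoc, h4]
        · rw [if_neg hgS, if_neg hgS, zero_mul, zero_mul]
      rw [Finset.sum_congr rfl (fun g _ => h3 g), Finset.sum_ite, Finset.sum_const_zero, add_zero,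
        Finset.sum_const, ← Nat.cast_smul_eq_nsmul K, smul_smul]
      congr 1
      rw [mul_comm]
      congr 1
      rw [← hcardS, Nat.card_eq_fintype_card, Fintype.card_subtype]
      congr 1
    have h5 : ∑ t : Q, ρ (t : Γ) * P (ρ (t : Γ)⁻¹ * T) ∈
        Submodule.span K (Set.range (fun t : Q => ρ (t : Γ))) := by
      apply Submodule.sum_mem
      intro t _
      obtain ⟨c, hc⟩ := hPscal (ρ (t : Γ)⁻¹ * T)
      rw [hc, mul_smul_comm, mul_one]
      exact Submodule.smul_mem _ _ (Submodule.subset_span ⟨t, rfl⟩)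
    rw [h1] at h5
    have h6 : ((Nat.card Q : K) * (Nat.card S : K)) ≠ 0 := mul_ne_zero hchar hScharK
    have := Submodule.smul_mem _ ((Nat.card Q : K) * (Nat.card S : K))⁻¹ h5
    rwa [smul_smul, inv_mul_cancel₀ h6, one_smul] at this
  -- transversal
  let tr : Q ⧸ S.subgroupOf Q → Q := fun j => j.out
  have htr : ∀ t : Q, ∃ c : K, ρ (t : Γ) = c • ρ ((tr (QuotientGroup.mk t) : Q) : Γ) := by
    intro t
    have h1 : (QuotientGroup.mk (tr (QuotientGroup.mk t)) : Q ⧸ S.subgroupOf Q) = QuotientGroup.mk t :=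
      QuotientGroup.out_eq' _
    have h2 : (tr (QuotientGroup.mk t))⁻¹ * t ∈ S.subgroupOf Q := QuotientGroup.eq.1 h1
    have h3 : ((tr (QuotientGroup.mk t) : Q) : Γ)⁻¹ * (t : Γ) ∈ S := h2
    obtain ⟨c, hc⟩ := hscal _ h3
    refine ⟨c, ?_⟩
    have h4 : ρ (t : Γ) = ρ ((tr (QuotientGroup.mk t) : Q) : Γ) *
        ρ (((tr (QuotientGroup.mk t) : Q) : Γ)⁻¹ * (t : Γ)) := by
      rw [← map_mul]
      congr 1
      group
    rw [h4, hc, mul_smul_comm, mul_one]
  have hspan' : Submodule.span K (Set.range (fun j : Q ⧸ S.subgroupOf Q => ρ ((tr j : Q) : Γ))) = ⊤ := by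
    rw [eq_top_iff]
    intro T _
    have h1 := hspan T
    refine Submodule.span_le.2 ?_ h1
    rintro _ ⟨t, rfl⟩
    obtain ⟨c, hc⟩ := htr t
    change ρ (t : Γ) ∈ _
    rw [hc]
    exact Submodule.smul_mem _ _ (Submodule.subset_span ⟨_, rfl⟩)
  haveI : Fintype (Q ⧸ S.subgroupOf Q) := Fintype.ofFinite _
  have hle : finrank K (Module.End K V) ≤ Fintype.card (Q ⧸ S.subgroupOf Q) := by
    have h1 := finrank_range_le_card (R := K) (fun j : Q ⧸ S.subgroupOf Q => ρ ((tr j : Q) : Γ))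
    unfold Set.finrank at h1
    rw [hspan', finrank_top] at h1
    exact h1
  -- independence
  have hind : LinearIndependent K (fun j : Q ⧸ S.subgroupOf Q => ρ ((tr j : Q) : Γ)) := by
    rw [Fintype.linearIndependent_iff]
    intro c hc j₀
    have h1 : ∑ j, c j • ρ (((tr j₀ : Q) : Γ)⁻¹ * ((tr j : Q) : Γ)) = 0 := by
      have := congrArg (fun T => ρ ((tr j₀ : Q) : Γ)⁻¹ * T) hc
      simp only [Finset.mul_sum, mul_smul_comm, mul_zero, ← map_mul] at this
      exact this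
    have h2 := congrArg P h1
    rw [map_sum, map_zero] at h2
    have h3 : ∀ j, P (c j • ρ (((tr j₀ : Q) : Γ)⁻¹ * ((tr j : Q) : Γ))) =
        if j = j₀ then (c j * (Nat.card Q : K)) • 1 else 0 := by
      intro j
      rw [map_smul, hPrho _ (Q.mul_mem (Q.inv_mem (tr j₀).2) (tr j).2)]
      by_cases hj : j = j₀
      · subst hj
        rw [if_pos rfl, inv_mul_cancel, if_pos S.one_mem, map_one, smul_smul]
      · rw [if_neg hj, if_neg, smul_zero]
        intro hmem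
        apply hj
        have h4 : (tr j₀)⁻¹ * tr j ∈ S.subgroupOf Q := hmem
        have h5 : (QuotientGroup.mk (tr j₀) : Q ⧸ S.subgroupOf Q) = QuotientGroup.mk (tr j) :=
          QuotientGroup.eq.2 h4
        have e1 : (QuotientGroup.mk (tr j₀) : Q ⧸ S.subgroupOf Q) = j₀ := QuotientGroup.out_eq' _
        have e2 : (QuotientGroup.mk (tr j) : Q ⧸ S.subgroupOf Q) = j := QuotientGroup.out_eq' _
        rw [e1, e2] at h5
        exact h5.symm
    rw [Finset.sum_congr rfl (fun j _ => h3 j), Finset.sum_ite_eq' Finset.univ j₀] at h2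
    simp only [Finset.mem_univ, if_true] at h2
    rcases smul_eq_zero.1 h2 with h4 | h4
    · rcases mul_eq_zero.1 h4 with h5 | h5
      · exact h5
      · exact absurd h5 hchar
    · exact absurd h4 one_ne_zero
  have hge : Fintype.card (Q ⧸ S.subgroupOf Q) ≤ finrank K (Module.End K V) :=
    hind.fintype_card_le_finrank
  have hEq : finrank K (Module.End K V) = Fintype.card (Q ⧸ S.subgroupOf Q) := le_antisymm hle hge
  have hfr : finrank K (Module.End K V) = finrank K V ^ 2 := by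
    rw [Module.finrank_linearMap, sq]
  rw [hcardQ, ← hfr, hEq, Nat.card_eq_fintype_card (α := Q ⧸ S.subgroupOf Q)]

end Cfsg.Agent.Lib.Helper23.XSb
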