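import Mathlib
import Cfsg.Agent.Lib.Helper23.FrobB
import Cfsg.Agent.Lib.Helper23.XSb

/-!
# Schur-type lemmas: the commutant of `Q` is trivial when a prime-order operator acts freely (helper23)
-/

set_option autoImplicit false
set_option linter.style.haveILetI false

namespace Cfsg.Agent.Lib.Helper23.XSc

open Module Cfsg.Agent.Lib.Helper23.XSb

variable {K : Type*} [Field K] [IsAlgClosed K] {V : Type*} [AddCommGroup V] [Module K V]
  [FiniteDimensional K V] [Nontrivial V] {Γ : Type*} [Group Γ] (ρ : Γ →* (V →ₗ[K] V))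

/-- Schur's lemma for a set of operators -/
theorem schur (𝒪 : Set (Module.End K V))
    (hirr : ∀ W : Submodule K V, (∀ f ∈ 𝒪, ∀ w ∈ W, f w ∈ W) → W = ⊥ ∨ W = ⊤)
    (T : Module.End K V) (hT : ∀ f ∈ 𝒪, f * T = T * f) : ∃ c : K, T = c • 1 := by
  obtain ⟨c, hc⟩ := Module.End.exists_eigenvalue T
  refine ⟨c, ?_⟩
  have h1 := hirr (Module.End.eigenspace T c) (by
    intro f hf w hw
    rw [Module.End.mem_eigenspace_iff] at hw ⊢
    have h2 := congrArg (fun F : Module.End K V => F w) (hT f hf)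
    change f (T w) = T (f w) at h2
    rw [← h2, hw, map_smul])
  rcases h1 with h1 | h1
  · exact absurd h1 (Module.End.hasEigenvalue_iff.1 hc)
  · ext v
    have h2 : v ∈ Module.End.eigenspace T c := h1 ▸ Submodule.mem_top
    rw [Module.End.mem_eigenspace_iff] at h2
    rw [h2]
    simp

/-- the commutant of `Q` -/
def cent (Q : Subgroup Γ) : Submodule K (Module.End K V) where
  carrier := {T | ∀ g ∈ Q, ρ g * T = T * ρ g}
  add_mem' := by
    intro a b ha hb g hg
    rw [mul_add, add_mul, ha g hg, hb g hg]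
  zero_mem' := by
    intro g _
    simp
  smul_mem' := by
    intro c a ha g hg
    rw [mul_smul_comm, smul_mul_assoc, ha g hg]

theorem mem_cent {Q : Subgroup Γ} {T : Module.End K V} :
    T ∈ cent ρ Q ↔ ∀ g ∈ Q, ρ g * T = T * ρ g := Iff.rfl

/-- an invertible twisted-commuting operator forces a fixed vector -/
theorem no_twisted (x : Γ) (r : ℕ) (hr : r.Prime) (hxr : x ^ r = 1)
    (hfix : ∀ v, ρ x v = v → v = 0) (S : Module.End K V) (hSinj : Function.Injective S)
    (ω : K) (hω1 : ω ≠ 1) (hωr : ω ^ r = 1) (hS : ρ x * S = ω • (S * ρ x)) : False := by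
  classical
  have hω0 : ω ≠ 0 := by
    intro h
    rw [h, zero_pow hr.ne_zero] at hωr
    exact zero_ne_one hωr
  obtain ⟨μ, hμ⟩ := Module.End.exists_eigenvalue S
  obtain ⟨v, hv⟩ := hμ.exists_hasEigenvector
  have hv0 : v ≠ 0 := hv.2
  have hSv : S v = μ • v := Module.End.mem_eigenspace_iff.1 hv.1
  have hμ0 : μ ≠ 0 := by
    intro h
    rw [h, zero_smul] at hSv
    exact hv0 (hSinj (by rw [hSv, map_zero]))
  -- S ρ x = ω⁻¹ ρ x S
  have hS' : ∀ w, S (ρ x w) = ω⁻¹ • ρ x (S w) := by
    intro w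
    have h1 := congrArg (fun F : Module.End K V => F w) hS
    change ρ x (S w) = ω • S (ρ x w) at h1
    rw [h1, smul_smul, inv_mul_cancel₀ hω0, one_smul]
  have hpow : ∀ n : ℕ, S ((ρ x ^ n) v) = ((ω⁻¹) ^ n * μ) • (ρ x ^ n) v := by
    intro n
    induction n with
    | zero => simp [hSv]
    | succ n ih =>
      rw [pow_succ', Module.End.mul_apply, hS', ih, map_smul, smul_smul, pow_succ']
      congr 1
      ring
  have hxpow : ρ x ^ r = 1 := by rw [← map_pow, hxr, map_one]
  have hne : ∀ n : ℕ, (ρ x ^ n) v ≠ 0 := by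
    intro n h
    have h1 : (ρ x ^ n) * (ρ x⁻¹ ^ n) = 1 := by
      rw [← map_pow, ← map_pow, ← map_mul, inv_pow, mul_inv_cancel, map_one]
    have h2 : (ρ x⁻¹ ^ n) * (ρ x ^ n) = 1 := by
      rw [← map_pow, ← map_pow, ← map_mul, inv_pow, inv_mul_cancel, map_one]
    have h3 := congrArg (fun F : Module.End K V => F v) h2
    change (ρ x⁻¹ ^ n) ((ρ x ^ n) v) = v at h3
    rw [h, map_zero] at h3
    exact hv0 h3.symm
  haveI : Fact r.Prime := ⟨hr⟩
  let u : Kˣ := Units.mk0 ω⁻¹ (inv_ne_zero hω0)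
  have hord : orderOf u = r := orderOf_eq_prime (by
      apply Units.ext
      change (ω⁻¹) ^ r = 1
      rw [inv_pow, hωr, inv_one])
    (by
      intro h
      have h1 : ω⁻¹ = 1 := congrArg Units.val h
      exact hω1 (inv_eq_one.1 h1))
  have hinj : Function.Injective (fun i : Fin r => (ω⁻¹) ^ (i : ℕ) * μ) := by
    intro i j hij
    have h1 : (ω⁻¹) ^ (i : ℕ) = (ω⁻¹) ^ (j : ℕ) := mul_right_cancel₀ hμ0 hij
    have h1' : u ^ (i : ℕ) = u ^ (j : ℕ) := Units.ext h1
    have h2 := pow_eq_pow_iff_modEq.1 h1'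
    rw [hord] at h2
    apply Fin.ext
    have h3 := Nat.ModEq.eq_of_lt_of_lt h2 i.2 j.2
    exact h3
  have hli : LinearIndependent K (fun i : Fin r => (ρ x ^ (i : ℕ)) v) := by
    apply Module.End.eigenvectors_linearIndependent' S _ hinj
    intro i
    exact ⟨Module.End.mem_eigenspace_iff.2 (hpow i), hne i⟩
  have hw : ρ x (∑ i : Fin r, (ρ x ^ (i : ℕ)) v) = ∑ i : Fin r, (ρ x ^ (i : ℕ)) v := by
    rw [Fin.sum_univ_eq_sum_range (fun i => (ρ x ^ i) v) r, map_sum]
    have h1 : ∀ i ∈ Finset.range r, ρ x ((ρ x ^ i) v) = (ρ x ^ (i + 1)) v := by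
      intro i _
      rw [pow_succ', Module.End.mul_apply]
    rw [Finset.sum_congr rfl h1]
    have h2 := Finset.sum_range_succ' (fun i => (ρ x ^ i) v) r
    have h3 := Finset.sum_range_succ (fun i => (ρ x ^ i) v) r
    rw [h3] at h2
    simp only [hxpow, pow_zero] at h2
    exact (add_right_cancel h2).symm
  have hw0 := hfix _ hw
  have h4 := Fintype.linearIndependent_iff.1 hli (fun _ => 1) (by simpa using hw0) ⟨0, hr.pos⟩
  exact one_ne_zero h4

/-- the commutant of `Q` consists of scalars -/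
theorem cent_scalar (Q : Subgroup Γ) (x : Γ) (r : ℕ) (hr : r.Prime) (hrK : (r : K) ≠ 0)
    (hxr : x ^ r = 1)
    (hirr : ∀ W : Submodule K V, (∀ g ∈ Q, ∀ w ∈ W, ρ g w ∈ W) → (∀ w ∈ W, ρ x w ∈ W) →
      W = ⊥ ∨ W = ⊤)
    (hQx : ∀ g ∈ Q, x⁻¹ * g * x ∈ Q)
    (hfix : ∀ v, ρ x v = v → v = 0)
    (T : Module.End K V) (hT : T ∈ cent ρ Q) : ∃ c : K, T = c • 1 := by
  classical
  -- Ad x on the commutant
  have hinv : ∀ S ∈ cent ρ Q, ρ x * S * ρ x⁻¹ ∈ cent ρ Q := by
    intro S hS g hg
    have h1 := hS _ (hQx g hg)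
    have e1 : ρ g * ρ x = ρ x * ρ (x⁻¹ * g * x) := by
      rw [← map_mul, ← map_mul]; congr 1; group
    have e2 : ρ x⁻¹ * ρ g = ρ (x⁻¹ * g * x) * ρ x⁻¹ := by
      rw [← map_mul, ← map_mul]; congr 1; group
    calc ρ g * (ρ x * S * ρ x⁻¹) = (ρ g * ρ x) * S * ρ x⁻¹ := by simp only [mul_assoc]
      _ = ρ x * (ρ (x⁻¹ * g * x) * S) * ρ x⁻¹ := by rw [e1]; simp only [mul_assoc]
      _ = ρ x * S * (ρ (x⁻¹ * g * x) * ρ x⁻¹) := by rw [h1]; simp only [mul_assoc]
      _ = ρ x * S * ρ x⁻¹ * ρ g := by rw [← e2]; simp only [mul_assoc]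
  let Ad : Module.End K V →ₗ[K] Module.End K V :=
    (LinearMap.mulLeft K (ρ x)).comp (LinearMap.mulRight K (ρ x⁻¹))
  have hAd : ∀ S, Ad S = ρ x * S * ρ x⁻¹ := by
    intro S
    simp only [Ad, LinearMap.comp_apply, LinearMap.mulLeft_apply, LinearMap.mulRight_apply, mul_assoc]
  let A : Module.End K (cent ρ Q) := Ad.restrict (fun S hS => by rw [hAd]; exact hinv S hS)
  have hA : ∀ S : cent ρ Q, ((A S : cent ρ Q) : Module.End K V) = ρ x * S * ρ x⁻¹ := by
    intro S
    change Ad S = _
    exact hAd _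
  have hApow : ∀ (n : ℕ) (S : cent ρ Q),
      (((A ^ n) S : cent ρ Q) : Module.End K V) = ρ (x ^ n) * S * ρ (x ^ n)⁻¹ := by
    intro n
    induction n with
    | zero => intro S; simp
    | succ n ih =>
      intro S
      rw [pow_succ', Module.End.mul_apply, hA, ih, pow_succ', mul_inv_rev, map_mul, map_mul]
      simp only [mul_assoc]
  have hAr : A ^ r = 1 := by
    ext S
    rw [hApow, hxr]
    simp
  have hss := Cfsg.Agent.Lib.Helper23.FrobB.semisimple_of_pow A r hrK hAr
  have htop := hss.iSup_eigenspace_eq_top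
  -- eigenspaces for ω ≠ 1 vanish
  have hbot : ∀ ω : K, ω ≠ 1 → Module.End.eigenspace A ω = ⊥ := by
    intro ω hω1
    rw [eq_bot_iff]
    intro S hS
    rw [Submodule.mem_bot]
    by_contra hS0
    rw [Module.End.mem_eigenspace_iff] at hS
    have hS1 : ρ x * (S : Module.End K V) * ρ x⁻¹ = ω • (S : Module.End K V) := by
      rw [← hA, hS]; rfl
    have hS2 : ρ x * (S : Module.End K V) = ω • ((S : Module.End K V) * ρ x) := by
      calc ρ x * (S : Module.End K V) = ρ x * (S : Module.End K V) * (ρ x⁻¹ * ρ x) := by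
            rw [rho_inv_mul, mul_one]
        _ = (ρ x * (S : Module.End K V) * ρ x⁻¹) * ρ x := by simp only [mul_assoc]
        _ = ω • ((S : Module.End K V) * ρ x) := by rw [hS1, smul_mul_assoc]
    have hSne : (S : Module.End K V) ≠ 0 := fun h => hS0 (Subtype.ext h)
    have hωr : ω ^ r = 1 := by
      have h1 : (A ^ r) S = ω ^ r • S := by
        have : ∀ n : ℕ, (A ^ n) S = ω ^ n • S := by
          intro n
          induction n with
          | zero => simp
          | succ n ih => rw [pow_succ', Module.End.mul_apply, ih, map_smul, hS, smul_smul, pow_succ]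
        exact this r
      rw [hAr, Module.End.one_apply] at h1
      have h1' : (S : Module.End K V) = ω ^ r • (S : Module.End K V) := by
        have := congrArg Subtype.val h1
        exact this
      have h2 : ((1 : K) - ω ^ r) • (S : Module.End K V) = 0 := by
        rw [sub_smul, one_smul, ← h1', sub_self]
      rcases smul_eq_zero.1 h2 with h3 | h3
      · exact (sub_eq_zero.1 h3).symm
      · exact absurd h3 hSne
    have hω0 : ω ≠ 0 := by
      intro h
      rw [h, zero_pow hr.ne_zero] at hωr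
      exact zero_ne_one hωr
    -- kernel invariant
    have hker := hirr (LinearMap.ker (S : Module.End K V)) (by
      intro g hg w hw
      rw [LinearMap.mem_ker] at hw ⊢
      have h1 := congrArg (fun F : Module.End K V => F w) (S.2 g hg)
      change ρ g ((S : Module.End K V) w) = (S : Module.End K V) (ρ g w) at h1
      rw [← h1, hw, map_zero]) (by
      intro w hw
      rw [LinearMap.mem_ker] at hw ⊢
      have h1 := congrArg (fun F : Module.End K V => F w) hS2
      change ρ x ((S : Module.End K V) w) = ω • (S : Module.End K V) (ρ x w) at h1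
      rw [hw, map_zero] at h1
      rcases smul_eq_zero.1 h1.symm with h2 | h2
      · exact absurd h2 hω0
      · exact h2)
    rcases hker with hk | hk
    · exact no_twisted ρ x r hr hxr hfix S (LinearMap.ker_eq_bot.1 hk) ω hω1 hωr hS2
    · apply hSne
      ext v
      have : v ∈ LinearMap.ker (S : Module.End K V) := hk ▸ Submodule.mem_top
      simpa using this
  have hone : Module.End.eigenspace A 1 = ⊤ := by
    rw [← htop]
    apply le_antisymm
    · exact le_iSup (fun ω => Module.End.eigenspace A ω) 1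
    · apply iSup_le
      intro ω
      by_cases hω : ω = 1
      · rw [hω]
      · rw [hbot ω hω]; exact bot_le
  have hTx : ρ x * T = T * ρ x := by
    have h1 : (⟨T, hT⟩ : cent ρ Q) ∈ Module.End.eigenspace A 1 := hone ▸ Submodule.mem_top
    rw [Module.End.mem_eigenspace_iff, one_smul] at h1
    have h2 := congrArg Subtype.val h1
    rw [hA] at h2
    change ρ x * T * ρ x⁻¹ = T at h2
    calc ρ x * T = ρ x * T * (ρ x⁻¹ * ρ x) := by rw [rho_inv_mul, mul_one]
      _ = (ρ x * T * ρ x⁻¹) * ρ x := by simp only [mul_assoc]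
      _ = T * ρ x := by rw [h2]
  apply schur ({f | ∃ g ∈ Q, f = ρ g} ∪ {ρ x})
  · intro W hW
    apply hirr W
    · intro g hg w hw
      exact hW _ (Or.inl ⟨g, hg, rfl⟩) w hw
    · intro w hw
      exact hW _ (Or.inr rfl) w hw
  · rintro f (⟨g, hg, rfl⟩ | rfl)
    · exact hT g hg
    · exact hTx

end Cfsg.Agent.Lib.Helper23.XSc
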