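import Mathlib
import Cfsg.Agent.Lib.Helper23.FrobD
import Cfsg.Agent.Lib.Helper23.XSa
import Cfsg.Agent.Lib.Helper23.XSc

/-!
# Counting the commutant of the prime-order operator via the Frobenius action on `End V` (helper23)
-/

set_option autoImplicit false
set_option linter.style.haveILetI false

namespace Cfsg.Agent.Lib.Helper23.XSd

open Module Cfsg.Agent.Lib.Helper23.XSb Cfsg.Agent.Lib.Helper23.XSc Cfsg.Agent.Lib.Helper23.FrobA

variable {K : Type*} [Field K] {V : Type*} [AddCommGroup V] [Module K V]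
  {Γ : Type*} [Group Γ] (ρ : Γ →* (V →ₗ[K] V))

/-- the adjoint action on `End V` -/
def Ad : Γ →* (Module.End K V →ₗ[K] Module.End K V) where
  toFun g := (LinearMap.mulLeft K (ρ g)).comp (LinearMap.mulRight K (ρ g⁻¹))
  map_one' := by
    ext T
    simp
  map_mul' := by
    intro g h
    apply LinearMap.ext
    intro T
    simp only [LinearMap.comp_apply, LinearMap.mulLeft_apply, LinearMap.mulRight_apply,
      Module.End.mul_apply, mul_inv_rev, map_mul, mul_assoc]

theorem Ad_apply (g : Γ) (T : Module.End K V) : Ad ρ g T = ρ g * T * ρ g⁻¹ := by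
  simp only [Ad, MonoidHom.coe_mk, OneHom.coe_mk, LinearMap.comp_apply, LinearMap.mulLeft_apply,
    LinearMap.mulRight_apply, mul_assoc]

theorem Ad_eq_self_iff (g : Γ) (T : Module.End K V) : Ad ρ g T = T ↔ ρ g * T = T * ρ g := by
  rw [Ad_apply]
  constructor
  · intro h
    calc ρ g * T = ρ g * T * (ρ g⁻¹ * ρ g) := by rw [rho_inv_mul, mul_one]
      _ = (ρ g * T * ρ g⁻¹) * ρ g := by simp only [mul_assoc]
      _ = T * ρ g := by rw [h]
  · intro h
    rw [h, mul_assoc, rho_mul_inv, mul_one]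

variable [IsAlgClosed K] [FiniteDimensional K V] [Nontrivial V] [Finite Γ]

theorem count_formula (Q S : Subgroup Γ) [hQn : Q.Normal] [hSn : S.Normal] (hSQ : S ≤ Q)
    (x : Γ) (r : ℕ) (hr : r.Prime) (hxr : x ^ r = 1) (hxS : x ∉ S)
    (hgen : Q ⊔ Subgroup.zpowers x = ⊤)
    (hscal : ∀ s ∈ S, ∃ c : K, ρ s = c • 1)
    (hab : ∀ g ∈ Q, ∀ t ∈ Q, g * t * g⁻¹ * t⁻¹ ∈ S)
    (hfpf : ∀ y ∈ Subgroup.zpowers x, y ∉ S → ∀ g ∈ Q, y * g * y⁻¹ * g⁻¹ ∈ S → g ∈ S)
    (hchar : (Nat.card Q : K) ≠ 0)
    (hC : ∀ T ∈ cent ρ Q, ∃ c : K, T = c • 1) :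
    finrank K V ^ 2 + r = r * finrank K (Cfsg.Agent.Lib.Helper23.XSa.comm (ρ x)) + 1 := by
  classical
  haveI := Fintype.ofFinite Q
  -- Ad is trivial on S
  have hAdS : ∀ s ∈ S, Ad ρ s = 1 := by
    intro s hs
    obtain ⟨c, hc⟩ := hscal s hs
    apply LinearMap.ext
    intro T
    rw [Module.End.one_apply, Ad_eq_self_iff, hc, smul_mul_assoc, one_mul, mul_smul_comm, mul_one]
  let Adq : Γ ⧸ S →* (Module.End K V →ₗ[K] Module.End K V) :=
    QuotientGroup.lift S (Ad ρ) (fun s hs => hAdS s hs)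
  have hAdq : ∀ g : Γ, Adq (QuotientGroup.mk g) = Ad ρ g := fun g => rfl
  let π : Γ →* Γ ⧸ S := QuotientGroup.mk' S
  have hπ : Function.Surjective π := QuotientGroup.mk'_surjective S
  let U : Subgroup (Γ ⧸ S) := Q.map π
  let E₀ : Subgroup (Γ ⧸ S) := Subgroup.zpowers (π x)
  haveI hUn : U.Normal := hQn.map π hπ
  -- U commutative
  have hUcomm : ∀ a ∈ U, ∀ b ∈ U, a * b = b * a := by
    rintro _ ⟨g, hg, rfl⟩ _ ⟨t, ht, rfl⟩
    rw [← map_mul, ← map_mul]
    apply (QuotientGroup.eq).2
    have h1 := hab t⁻¹ (Q.inv_mem ht) g⁻¹ (Q.inv_mem hg)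
    have e : (g * t)⁻¹ * (t * g) = t⁻¹ * g⁻¹ * t⁻¹⁻¹ * g⁻¹⁻¹ := by group
    rw [e]
    exact h1
  have hnil : Group.IsNilpotent U := by
    letI : CommGroup U :=
      { (inferInstance : Group U) with
        mul_comm := fun a b => Subtype.ext (hUcomm a a.2 b b.2) }
    exact CommGroup.isNilpotent
  -- E₀ = image of zpowers x
  have hE₀ : E₀ = (Subgroup.zpowers x).map π := (MonoidHom.map_zpowers π x).symm
  have hgen' : U ⊔ E₀ = ⊤ := by
    rw [hE₀, ← Subgroup.map_sup, hgen, Subgroup.map_top_of_surjective π hπ]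
  have hfpf' : ∀ e ∈ E₀, e ≠ 1 → ∀ u ∈ U, e * u = u * e → u = 1 := by
    intro e he he1 u hu hcomm
    rw [hE₀] at he
    obtain ⟨y, hy, rfl⟩ := he
    obtain ⟨g, hg, rfl⟩ := hu
    have hyS : y ∉ S := by
      intro h
      apply he1
      exact (QuotientGroup.eq_one_iff y).2 h
    rw [← map_mul, ← map_mul] at hcomm
    have h1 : (y * g)⁻¹ * (g * y) ∈ S := (QuotientGroup.eq).1 hcomm
    have h2 : y * g * y⁻¹ * g⁻¹ ∈ S := by
      have h3 := hSn.conj_mem _ (S.inv_mem h1) (g * y)
      have e : g * y * ((y * g)⁻¹ * (g * y))⁻¹ * (g * y)⁻¹ = y * g * y⁻¹ * g⁻¹ := by group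
      rwa [e] at h3
    have h4 := hfpf y hy hyS g hg h2
    exact (QuotientGroup.eq_one_iff g).2 h4
  have D := Cfsg.Agent.Lib.Helper23.FrobD.frobData_of_nilpotent U E₀ hfpf' hgen' hnil
  -- cardinalities
  have hcardU : (Nat.card U : K) ≠ 0 := by
    obtain ⟨k, hk⟩ := Subgroup.card_map_dvd (H := Q) π
    intro h
    apply hchar
    rw [hk, Nat.cast_mul]
    change (Nat.card U : K) * _ = 0
    rw [h, zero_mul]
  have hcardE : Nat.card E₀ = r := by
    rw [Nat.card_zpowers]
    haveI : Fact r.Prime := ⟨hr⟩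
    apply orderOf_eq_prime
    · rw [← map_pow, hxr, map_one]
    · intro h
      exact hxS ((QuotientGroup.eq_one_iff x).1 h)
  -- the fixed spaces
  have hfixU : fix Adq U = cent ρ Q := by
    ext T
    constructor
    · intro hT g hg
      have := hT (π g) ⟨g, hg, rfl⟩
      exact (Ad_eq_self_iff ρ g T).1 this
    · rintro hT _ ⟨g, hg, rfl⟩
      exact (Ad_eq_self_iff ρ g T).2 (hT g hg)
  have hfixE : fix Adq E₀ = Cfsg.Agent.Lib.Helper23.XSa.comm (ρ x) := by
    ext T
    constructor
    · intro hT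
      have := hT (π x) (Subgroup.mem_zpowers _)
      exact (Ad_eq_self_iff ρ x T).1 this
    · intro hT e he
      have h1 : Adq (π x) T = T := (Ad_eq_self_iff ρ x T).2 hT
      let St : Subgroup (Γ ⧸ S) :=
        { carrier := {e | Adq e T = T}
          mul_mem' := by
            intro a b ha hb
            change Adq (a * b) T = T
            rw [map_mul, Module.End.mul_apply, hb, ha]
          one_mem' := by
            change Adq 1 T = T
            rw [map_one, Module.End.one_apply]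
          inv_mem' := by
            intro a ha
            change Adq a⁻¹ T = T
            have h3 : Adq a⁻¹ (Adq a T) = T := by
              rw [← Module.End.mul_apply, ← map_mul, inv_mul_cancel, map_one, Module.End.one_apply]
            rwa [ha] at h3 }
      have hle : E₀ ≤ St := Subgroup.zpowers_le.2 h1
      exact hle he
  -- the averaging operator
  let P : Module.End K V →ₗ[K] Module.End K V := ∑ g : Q, Ad ρ (g : Γ)
  have hP : ∀ T, P T = ∑ g : Q, Ad ρ (g : Γ) T := by
    intro T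
    simp only [P, LinearMap.sum_apply]
  have hPcent : ∀ T, P T ∈ cent ρ Q := by
    intro T h hh
    rw [← Ad_eq_self_iff, hP, map_sum]
    apply Fintype.sum_equiv (Equiv.mulLeft (⟨h, hh⟩ : Q))
    intro g
    rw [← Module.End.mul_apply, ← map_mul]
    rfl
  have hPfix : ∀ T ∈ cent ρ Q, P T = (Nat.card Q : K) • T := by
    intro T hT
    rw [hP, Finset.sum_congr rfl (fun (g : Q) _ => (Ad_eq_self_iff ρ (g : Γ) T).2 (hT g g.2)),
      Finset.sum_const, Finset.card_univ, Nat.card_eq_fintype_card, Nat.cast_smul_eq_nsmul]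
  have hPAd : ∀ (γ : Γ) (T : Module.End K V), P (Ad ρ γ T) = Ad ρ γ (P T) := by
    intro γ T
    rw [hP, hP, map_sum]
    let φ : Q ≃ Q :=
      { toFun := fun g => ⟨γ⁻¹ * g * γ, by
          have := hQn.conj_mem g g.2 γ⁻¹
          simpa using this⟩
        invFun := fun g => ⟨γ * g * γ⁻¹, hQn.conj_mem g g.2 γ⟩
        left_inv := by
          intro g
          apply Subtype.ext
          change γ * (γ⁻¹ * g * γ) * γ⁻¹ = g
          group
        right_inv := by
          intro g
          apply Subtype.ext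
          change γ⁻¹ * (γ * g * γ⁻¹) * γ = g
          group }
    apply Fintype.sum_equiv φ
    intro g
    rw [← Module.End.mul_apply, ← Module.End.mul_apply, ← map_mul, ← map_mul]
    congr 2
    change (g : Γ) * γ = γ * (γ⁻¹ * g * γ)
    group
  -- the complement
  have hdisj : Disjoint (cent ρ Q) (LinearMap.ker P) := by
    rw [Submodule.disjoint_def]
    intro T hT hTker
    rw [LinearMap.mem_ker, hPfix T hT] at hTker
    rcases smul_eq_zero.1 hTker with h | h
    · exact absurd h hchar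
    · exact h
  have hsup : cent ρ Q ⊔ LinearMap.ker P = ⊤ := by
    rw [eq_top_iff]
    intro T _
    have h1 : T = (Nat.card Q : K)⁻¹ • P T + (T - (Nat.card Q : K)⁻¹ • P T) := by abel
    rw [h1]
    apply Submodule.add_mem_sup
    · exact Submodule.smul_mem _ _ (hPcent T)
    · rw [LinearMap.mem_ker, map_sub, map_smul, hPfix _ (hPcent T), smul_smul,
        inv_mul_cancel₀ hchar, one_smul, sub_self]
  have hkerinv : Inv Adq (LinearMap.ker P) := by
    intro a T hT
    obtain ⟨γ, rfl⟩ := hπ a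
    rw [LinearMap.mem_ker] at hT ⊢
    change P (Ad ρ γ T) = 0
    rw [hPAd, hT, map_zero]
  have hcentinv : ∀ e ∈ E₀, ∀ T ∈ cent ρ Q, Adq e T ∈ cent ρ Q := by
    intro e _ T hT
    obtain ⟨c, hc⟩ := hC T hT
    obtain ⟨γ, rfl⟩ := hπ e
    change Ad ρ γ T ∈ _
    have : Ad ρ γ T = T := by
      rw [Ad_eq_self_iff, hc, smul_mul_assoc, one_mul, mul_smul_comm, mul_one]
    rw [this]
    exact hT
  -- count on the complement
  have hfix' : fix (subRep Adq (LinearMap.ker P) hkerinv) U = ⊥ := by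
    rw [eq_bot_iff]
    intro T hT
    rw [Submodule.mem_bot]
    apply Subtype.ext
    have h1 : (T : Module.End K V) ∈ fix Adq U := by
      intro u hu
      have := hT u hu
      exact congrArg Subtype.val this
    rw [hfixU] at h1
    have h2 : (T : Module.End K V) ∈ cent ρ Q ⊓ LinearMap.ker P := ⟨h1, T.2⟩
    rw [hdisj.eq_bot] at h2
    exact (Submodule.mem_bot K).1 h2
  have hcount := Cfsg.Agent.Lib.Helper23.FrobB.count D hcardU _ ↥(LinearMap.ker P)
    (subRep Adq (LinearMap.ker P) hkerinv) rfl hfix'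
  rw [hcardE, finrank_fix_subRep] at hcount
  -- dimension of cent
  have hcent1 : finrank K (cent ρ Q) = 1 := by
    have h1 : cent ρ Q = Submodule.span K {(1 : Module.End K V)} := by
      apply le_antisymm
      · intro T hT
        obtain ⟨c, hc⟩ := hC T hT
        rw [hc]
        exact Submodule.smul_mem _ _ (Submodule.subset_span rfl)
      · rw [Submodule.span_le]
        rintro _ rfl
        intro g _
        rw [mul_one, one_mul]
    rw [h1]
    exact finrank_span_singleton one_ne_zero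
  have hsplit := finrank_fix_split Adq E₀ (cent ρ Q) (LinearMap.ker P) hcentinv
    (fun e _ T hT => hkerinv e T hT) hdisj
  rw [hsup, top_inf_eq, hfixE] at hsplit
  have hcentfix : cent ρ Q ⊓ Cfsg.Agent.Lib.Helper23.XSa.comm (ρ x) = cent ρ Q := by
    apply inf_eq_left.2
    intro T hT
    obtain ⟨c, hc⟩ := hC T hT
    rw [Cfsg.Agent.Lib.Helper23.XSa.mem_comm, hc, smul_mul_assoc, one_mul, mul_smul_comm, mul_one]
  rw [hfixE] at hcount
  rw [hcentfix, hcent1] at hsplit
  have htot : finrank K (Module.End K V) = 1 + finrank K ↥(LinearMap.ker P) := by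
    have := finrank_sup_of_disjoint (cent ρ Q) (LinearMap.ker P) hdisj
    rw [hsup, finrank_top, hcent1] at this
    exact this
  have hfr : finrank K (Module.End K V) = finrank K V ^ 2 := by
    rw [Module.finrank_linearMap, sq]
  rw [hfr] at htot
  rw [htot, hcount, hsplit]
  ring

end Cfsg.Agent.Lib.Helper23.XSd
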