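import Mathlib
import Cfsg.Agent.Lib.Helper23.XSd
import Cfsg.Agent.Lib.Helper23.FrobK

/-!
# The extraspecial-type core: a prime-order operator acting freely forces `|Q : S| = (r-1)^2` (helper23)
-/

set_option autoImplicit false
set_option linter.style.haveILetI false

namespace Cfsg.Agent.Lib.Helper23.XSe

open Module Cfsg.Agent.Lib.Helper23.XSb Cfsg.Agent.Lib.Helper23.XSc Cfsg.Agent.Lib.Helper23.XSd

variable {K : Type*} [Field K] [IsAlgClosed K] {V : Type*} [AddCommGroup V] [Module K V]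
  [FiniteDimensional K V] [Nontrivial V] {Γ : Type*} [Group Γ] [Finite Γ] (ρ : Γ →* (V →ₗ[K] V))

theorem core (Q S : Subgroup Γ) [hQn : Q.Normal] [hSn : S.Normal] (hSQ : S ≤ Q)
    (x : Γ) (r : ℕ) (hr : r.Prime) (hxr : x ^ r = 1) (hxS : x ∉ S)
    (hgen : Q ⊔ Subgroup.zpowers x = ⊤)
    (hscal : ∀ s ∈ S, ∃ c : K, ρ s = c • 1)
    (hab : ∀ g ∈ Q, ∀ t ∈ Q, g * t * g⁻¹ * t⁻¹ ∈ S)
    (hfpf : ∀ y ∈ Subgroup.zpowers x, y ∉ S → ∀ g ∈ Q, y * g * y⁻¹ * g⁻¹ ∈ S → g ∈ S)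
    (hnd : ∀ g ∈ Q, g ∉ S → ∃ t ∈ Q, ρ t * ρ g ≠ ρ g * ρ t)
    (hQS : ∃ g ∈ Q, g ∉ S)
    (hchar : (Nat.card Q : K) ≠ 0) (hrK : (r : K) ≠ 0)
    (hirr : ∀ W : Submodule K V, (∀ g : Γ, ∀ w ∈ W, ρ g w ∈ W) → W = ⊥ ∨ W = ⊤)
    (hfix : ∀ v, ρ x v = v → v = 0) :
    Nat.card Q = (r - 1) ^ 2 * Nat.card S := by
  classical
  -- irreducibility under Q and x
  have hirr' : ∀ W : Submodule K V, (∀ g ∈ Q, ∀ w ∈ W, ρ g w ∈ W) → (∀ w ∈ W, ρ x w ∈ W) →
      W = ⊥ ∨ W = ⊤ := by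
    intro W hWQ hWx
    apply hirr W
    have hpow : ∀ n : ℕ, ∀ w ∈ W, ρ (x ^ n) w ∈ W := by
      intro n
      induction n with
      | zero => intro w hw; simpa using hw
      | succ n ih =>
        intro w hw
        rw [pow_succ', map_mul, Module.End.mul_apply]
        exact hWx _ (ih w hw)
    have hfo : IsOfFinOrder x := isOfFinOrder_iff_pow_eq_one.2 ⟨r, hr.pos, hxr⟩
    exact Cfsg.Agent.Lib.Helper23.FrobK.inv_of_gen ρ W Q (Subgroup.zpowers x) hWQ (by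
      intro e he w hw
      obtain ⟨n, rfl⟩ := (hfo.mem_powers_iff_mem_zpowers).2 he
      exact hpow n w hw) hgen
  have hQx : ∀ g ∈ Q, x⁻¹ * g * x ∈ Q := by
    intro g hg
    have := hQn.conj_mem g hg x⁻¹
    simpa using this
  have hC : ∀ T ∈ cent ρ Q, ∃ c : K, T = c • 1 :=
    fun T hT => cent_scalar ρ Q x r hr hrK hxr hirr' hQx hfix T hT
  -- the dimension formula
  have hex : ∀ t ∈ Q, ∀ g ∈ Q, ∃ c : K, ρ t * ρ g * ρ t⁻¹ = c • ρ g := by
    intro t ht g hg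
    obtain ⟨c, hc⟩ := hscal _ (hab t ht g hg)
    refine ⟨c, ?_⟩
    have h1 : ρ t * ρ g * ρ t⁻¹ = ρ (t * g * t⁻¹ * g⁻¹) * ρ g := by
      rw [← map_mul, ← map_mul, ← map_mul]
      congr 1
      group
    rw [h1, hc, smul_mul_assoc, one_mul]
  have hS' : ∀ g ∈ S, ∀ t ∈ Q, ρ t * ρ g * ρ t⁻¹ = ρ g := by
    intro g hg t _
    obtain ⟨c, hc⟩ := hscal g hg
    rw [hc, mul_smul_comm, mul_one, smul_mul_assoc, rho_mul_inv]
  have hnd' : ∀ g ∈ Q, g ∉ S → ∃ t ∈ Q, ρ t * ρ g * ρ t⁻¹ ≠ ρ g := by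
    intro g hg hgS
    obtain ⟨t, ht, hne⟩ := hnd g hg hgS
    refine ⟨t, ht, ?_⟩
    intro h
    apply hne
    calc ρ t * ρ g = ρ t * ρ g * (ρ t⁻¹ * ρ t) := by rw [rho_inv_mul, mul_one]
      _ = (ρ t * ρ g * ρ t⁻¹) * ρ t := by simp only [mul_assoc]
      _ = ρ g * ρ t := by rw [h]
  have hdim := dim_formula ρ Q S hSQ hex hS' hnd' (fun T hT => hC T hT) hchar
  have hcount := count_formula ρ Q S hSQ x r hr hxr hxS hgen hscal hab hfpf hchar hC
  have hxpow : ρ x ^ r = 1 := by rw [← map_pow, hxr, map_one]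
  have hbound := Cfsg.Agent.Lib.Helper23.XSa.commutant_bound (ρ x) r hr.pos hrK hxpow hfix
  -- arithmetic
  set D := finrank K V with hD
  set c := finrank K (Cfsg.Agent.Lib.Helper23.XSa.comm (ρ x)) with hc
  have hDpos : 0 < D := Module.finrank_pos
  have hr2 : 2 ≤ r := hr.two_le
  have hSpos : 0 < Nat.card S := Nat.card_pos
  -- D ≠ 1
  have hD1 : D ≠ 1 := by
    intro h1
    rw [h1, one_pow, one_mul] at hdim
    obtain ⟨g, hg, hgS⟩ := hQS
    have h2 : S = Q := by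
      apply Subgroup.eq_of_le_of_card_ge hSQ
      rw [hdim]
    exact hgS (h2 ▸ hg)
  -- D ≤ r - 1
  have hle : D ≤ r - 1 := by
    have h1 : r * D ^ 2 ≤ (r - 1) * (D ^ 2 + r - 1) := by
      have h2 : r * D ^ 2 ≤ r * ((r - 1) * c) := Nat.mul_le_mul_left r hbound
      have h3 : r * ((r - 1) * c) = (r - 1) * (r * c) := by ring
      have h4 : r * c = D ^ 2 + r - 1 := by omega
      rw [h3, h4] at h2
      exact h2
    by_contra hcon
    push Not at hcon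
    have h5 : r ≤ D := by omega
    have h6 : r * r ≤ D ^ 2 := by
      rw [sq]
      exact Nat.mul_le_mul h5 h5
    obtain ⟨k, hk⟩ : ∃ k, r = k + 1 := ⟨r - 1, by omega⟩
    subst hk
    have h7 : D ^ 2 + (k + 1) - 1 = D ^ 2 + k := by omega
    have h8 : k + 1 - 1 = k := by omega
    rw [h7, h8] at h1
    nlinarith [h1, h6]
  -- r ∣ D^2 - 1
  have hdvd : r ∣ (D - 1) * (D + 1) := by
    have h1 : (D - 1) * (D + 1) = D ^ 2 - 1 := by
      obtain ⟨k, hk⟩ : ∃ k, D = k + 1 := ⟨D - 1, by omega⟩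
      rw [hk]
      simp only [Nat.add_sub_cancel]
      have : (k + 1) ^ 2 = k * (k + 1 + 1) + 1 := by ring
      rw [this]
      simp
    rw [h1]
    have hc1 : 1 ≤ c := by
      by_contra h
      have : c = 0 := by omega
      rw [this] at hcount
      omega
    refine ⟨c - 1, ?_⟩
    have : r * (c - 1) = r * c - r := by
      rw [Nat.mul_sub, mul_one]
    rw [this]
    omega
  have hDr : D = r - 1 := by
    rcases (Nat.Prime.dvd_mul hr).1 hdvd with h | h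
    · have h1 : D - 1 = 0 := Nat.eq_zero_of_dvd_of_lt h (by omega)
      omega
    · have h1 := Nat.le_of_dvd (by omega) h
      omega
  rw [← hdim, hDr]

end Cfsg.Agent.Lib.Helper23.XSe
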