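import Mathlib
import Cfsg.Agent.Lib.Helper23.FrobD
import Cfsg.Agent.Lib.Helper23.FrobC
import Cfsg.Agent.Lib.Helper23.XSc

/-!
# From an action on an elementary abelian group to an irreducible module over an algebraically
closed field (helper23)
-/

set_option autoImplicit false
set_option linter.style.haveILetI false

namespace Cfsg.Agent.Lib.Helper23.XSf

open Module TensorProduct Cfsg.Agent.Lib.Helper23.FrobA

section Min

variable {K : Type*} [Field K] {A : Type*} [Group A] {M : Type*} [AddCommGroup M] [Module K M]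
  [FiniteDimensional K M]

theorem exists_min_inv (ρ : A →* (M →ₗ[K] M)) (M₁ : Submodule K M) (hM₁ : M₁ ≠ ⊥)
    (hinv : Inv ρ M₁) :
    ∃ V₁ : Submodule K M, V₁ ≤ M₁ ∧ V₁ ≠ ⊥ ∧ Inv ρ V₁ ∧
      ∀ W' : Submodule K M, W' ≤ V₁ → Inv ρ W' → W' = ⊥ ∨ W' = V₁ := by
  classical
  have hex : ∃ n, ∃ S : Submodule K M, S ≤ M₁ ∧ S ≠ ⊥ ∧ Inv ρ S ∧ finrank K S = n :=
    ⟨_, M₁, le_rfl, hM₁, hinv, rfl⟩
  obtain ⟨S, hSle, hS0, hSinv, hSn⟩ := Nat.find_spec hex
  refine ⟨S, hSle, hS0, hSinv, ?_⟩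
  intro W' hle hW'inv
  by_cases hW'0 : W' = ⊥
  · exact Or.inl hW'0
  · right
    have hmin := Nat.find_min' hex ⟨W', hle.trans hSle, hW'0, hW'inv, rfl⟩
    exact Submodule.eq_of_le_of_finrank_le hle (by rw [hSn]; exact hmin)

/-- irreducibility of the subrepresentation on a minimal invariant subspace -/
theorem subRep_irred (ρ : A →* (M →ₗ[K] M)) (V₁ : Submodule K M) (hinv : Inv ρ V₁)
    (hmin : ∀ W' : Submodule K M, W' ≤ V₁ → Inv ρ W' → W' = ⊥ ∨ W' = V₁) :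
    ∀ W : Submodule K ↥V₁, (∀ g : A, ∀ w ∈ W, subRep ρ V₁ hinv g w ∈ W) → W = ⊥ ∨ W = ⊤ := by
  intro W hW
  have h1 := hmin (W.map V₁.subtype) (by rintro _ ⟨w, _, rfl⟩; exact w.2) (by
    rintro g _ ⟨w, hw, rfl⟩
    exact ⟨subRep ρ V₁ hinv g w, hW g w hw, rfl⟩)
  rcases h1 with h1 | h1
  · left
    rw [eq_bot_iff]
    intro w hw
    have h2 : V₁.subtype w ∈ W.map V₁.subtype := ⟨w, hw, rfl⟩
    rw [h1] at h2
    rw [Submodule.mem_bot]
    exact Subtype.ext ((Submodule.mem_bot K).1 h2)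
  · right
    rw [eq_top_iff]
    intro w _
    have h2 : (w : M) ∈ W.map V₁.subtype := by rw [h1]; exact w.2
    obtain ⟨w', hw', hww'⟩ := h2
    have h3 : w' = w := Subtype.ext hww'
    rwa [← h3]

end Min

section Irred

variable {A : Type*} [Group A] [Finite A] {W : Type*} [CommGroup W] [Finite W]

/-- the algebraic closure of the prime field -/
abbrev KK (ℓ : ℕ) [Fact ℓ.Prime] := AlgebraicClosure (ZMod ℓ)

theorem natCast_ne_zero (ℓ : ℕ) [Fact ℓ.Prime] (n : ℕ) (h : ¬ ℓ ∣ n) : (n : KK ℓ) ≠ 0 := by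
  intro h0
  apply h
  rw [← ZMod.natCast_eq_zero_iff]
  apply (algebraMap (ZMod ℓ) (KK ℓ)).injective
  rw [map_natCast, map_zero]
  exact h0

/-- the representation over the algebraic closure -/
noncomputable def rhoK (ℓ : ℕ) [Fact ℓ.Prime] [Module (ZMod ℓ) (Additive W)] (θ : A →* MulAut W) :
    A →* ((KK ℓ ⊗[ZMod ℓ] Additive W) →ₗ[KK ℓ] (KK ℓ ⊗[ZMod ℓ] Additive W)) :=
  Cfsg.Agent.Lib.Helper23.FrobC.bc (KK ℓ) (Cfsg.Agent.Lib.Helper23.FrobD.lrep ℓ θ)

theorem exists_irred (ℓ : ℕ) [hℓ : Fact ℓ.Prime] [Module (ZMod ℓ) (Additive W)]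
    (θ : A →* MulAut W) (x : A) (hx : ∀ w : W, θ x w = w → w = 1)
    (z : A) (hzc : ∀ a : A, z * a = a * z) (q : ℕ) (hqℓ : ¬ ℓ ∣ q) (hzq : z ^ q = 1)
    (hz : ∃ w : W, θ z w ≠ w) :
    ∃ V₁ : Submodule (KK ℓ) (KK ℓ ⊗[ZMod ℓ] Additive W), V₁ ≠ ⊥ ∧ ∃ hinv : Inv (rhoK ℓ θ) V₁,
      (∀ W' : Submodule (KK ℓ) (KK ℓ ⊗[ZMod ℓ] Additive W), W' ≤ V₁ → Inv (rhoK ℓ θ) W' →
        W' = ⊥ ∨ W' = V₁) ∧
      (∀ v ∈ V₁, rhoK ℓ θ x v = v → v = 0) ∧
      (∃ c : KK ℓ, c ≠ 1 ∧ ∀ v ∈ V₁, rhoK ℓ θ z v = c • v) := by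
  classical
  haveI hfin : Finite (Additive W) := inferInstanceAs (Finite W)
  haveI hfd : FiniteDimensional (ZMod ℓ) (Additive W) := Module.Finite.of_finite
  set ρ := rhoK ℓ θ with hρ
  -- x has no fixed vectors
  have hfixG : Cfsg.Agent.Lib.Helper23.FrobD.fixG θ (Subgroup.zpowers x) = ⊥ := by
    rw [eq_bot_iff]
    intro w hw
    rw [Subgroup.mem_bot]
    exact hx w (hw x (Subgroup.mem_zpowers x))
  have hfix0 := Cfsg.Agent.Lib.Helper23.FrobD.fix_lrep_eq_bot ℓ θ (Subgroup.zpowers x) hfixG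
  have hfixK : fix ρ (Subgroup.zpowers x) = ⊥ :=
    Cfsg.Agent.Lib.Helper23.FrobC.fix_bc_eq_bot (KK ℓ) _ (Subgroup.zpowers x) hfix0
  have hxfree : ∀ v, ρ x v = v → v = 0 := by
    intro v hv
    have h1 : v ∈ fix ρ (Subgroup.zpowers x) := by
      let St : Subgroup A :=
        { carrier := {e | ρ e v = v}
          mul_mem' := by
            intro a b ha hb
            change ρ (a * b) v = v
            rw [rho_mul_apply, hb, ha]
          one_mem' := by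
            change ρ 1 v = v
            rw [map_one]; rfl
          inv_mem' := by
            intro a ha
            change ρ a⁻¹ v = v
            have h3 := rho_inv_apply ρ a v
            rwa [ha] at h3 }
      have hle : Subgroup.zpowers x ≤ St := Subgroup.zpowers_le.2 hv
      intro b hb
      exact hle hb
    rw [hfixK] at h1
    exact (Submodule.mem_bot _).1 h1
  -- the norm operator of z
  let N : Module.End (KK ℓ) (KK ℓ ⊗[ZMod ℓ] Additive W) := ∑ i ∈ Finset.range q, ρ z ^ i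
  have hzq' : ρ z ^ q = 1 := by rw [← map_pow, hzq, map_one]
  have hcomm : ∀ a : A, ρ a * N = N * ρ a := by
    intro a
    have h1 : ρ a * ρ z = ρ z * ρ a := by rw [← map_mul, ← map_mul, hzc a]
    have h2 : ∀ i : ℕ, ρ a * ρ z ^ i = ρ z ^ i * ρ a := by
      intro i
      induction i with
      | zero => simp
      | succ i ih => rw [pow_succ, ← mul_assoc, ih, mul_assoc, h1, ← mul_assoc]
    simp only [N, Finset.mul_sum, Finset.sum_mul, h2]
  have hM₁inv : Inv ρ (LinearMap.ker N) := by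
    intro a v hv
    rw [LinearMap.mem_ker] at hv ⊢
    have h1 := congrArg (fun F : Module.End (KK ℓ) (KK ℓ ⊗[ZMod ℓ] Additive W) => F v) (hcomm a)
    change ρ a (N v) = N (ρ a v) at h1
    rw [← h1, hv, map_zero]
  have hM₁0 : LinearMap.ker N ≠ ⊥ := by
    obtain ⟨w, hw⟩ := hz
    intro hbot
    have h1 : N * (ρ z - 1) = 0 := by
      have := geom_sum_mul (ρ z) q
      rw [hzq', sub_self] at this
      exact this
    have h2 : (ρ z - 1) ((1 : KK ℓ) ⊗ₜ[ZMod ℓ] Additive.ofMul w) ∈ LinearMap.ker N := by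
      rw [LinearMap.mem_ker, ← Module.End.mul_apply, h1]
      rfl
    rw [hbot, Submodule.mem_bot, LinearMap.sub_apply, Module.End.one_apply, sub_eq_zero] at h2
    have h3 : ρ z ((1 : KK ℓ) ⊗ₜ[ZMod ℓ] Additive.ofMul w) =
        (1 : KK ℓ) ⊗ₜ[ZMod ℓ] Additive.ofMul (θ z w) := rfl
    rw [h3] at h2
    have h4 := Cfsg.Agent.Lib.Helper23.FrobC.one_tmul_injective (k := ZMod ℓ) (KK ℓ) h2
    exact hw (congrArg Additive.toMul h4)
  have hqK : (q : KK ℓ) ≠ 0 := natCast_ne_zero ℓ q hqℓ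
  have hzfree : ∀ v ∈ LinearMap.ker N, ρ z v = v → v = 0 := by
    intro v hv hzv
    rw [LinearMap.mem_ker] at hv
    have h1 : ∀ i : ℕ, (ρ z ^ i) v = v := by
      intro i
      induction i with
      | zero => simp
      | succ i ih => rw [pow_succ, Module.End.mul_apply, hzv, ih]
    have h2 : N v = (q : KK ℓ) • v := by
      simp only [N, LinearMap.sum_apply, h1, Finset.sum_const, Finset.card_range,
        Nat.cast_smul_eq_nsmul]
    rw [h2] at hv
    rcases smul_eq_zero.1 hv with h | h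
    · exact absurd h hqK
    · exact h
  obtain ⟨V₁, hV₁le, hV₁0, hV₁inv, hmin⟩ := exists_min_inv ρ (LinearMap.ker N) hM₁0 hM₁inv
  refine ⟨V₁, hV₁0, hV₁inv, hmin, fun v _ hv => hxfree v hv, ?_⟩
  -- Schur
  haveI : Nontrivial ↥V₁ := Submodule.nontrivial_iff_ne_bot.2 hV₁0
  have hirr := subRep_irred ρ V₁ hV₁inv hmin
  obtain ⟨c, hc⟩ := Cfsg.Agent.Lib.Helper23.XSc.schur (Set.range (subRep ρ V₁ hV₁inv))
    (fun W' hW' => hirr W' (fun g w hw => hW' _ ⟨g, rfl⟩ w hw))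
    (subRep ρ V₁ hV₁inv z) (by
      rintro _ ⟨a, rfl⟩
      rw [← map_mul, ← map_mul, hzc a])
  have hcv : ∀ v ∈ V₁, ρ z v = c • v := by
    intro v hv
    have h1 := congrArg (fun F : Module.End (KK ℓ) ↥V₁ => ((F ⟨v, hv⟩ : V₁) : KK ℓ ⊗[ZMod ℓ] Additive W)) hc
    exact h1
  refine ⟨c, ?_, hcv⟩
  intro hc1
  apply hV₁0
  rw [eq_bot_iff]
  intro v hv
  rw [Submodule.mem_bot]
  apply hzfree v (hV₁le hv)
  rw [hcv v hv, hc1, one_smul]

end Irred

end Cfsg.Agent.Lib.Helper23.XSf
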