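import Mathlib
import Cfsg.Agent.Lib.Helper23.XSe
import Cfsg.Agent.Lib.Helper23.XSf
import Cfsg.Agent.Lib.Helper23.FrobF
import Cfsg.Prelude.Def_Transfer

/-!
# Prime-order operators on extraspecial groups with a fixed-point-free module (helper23)
-/

set_option autoImplicit false
set_option linter.style.haveILetI false

namespace Cfsg.Agent.Lib.Helper23.XSg

open Module Cfsg.Agent.Lib.Helper23.FrobA

section Prime

variable {G : Type*} [Group G]

/-- a nonidentity element of a subgroup of prime order generates it -/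
theorem zpowers_eq_of_prime (X : Subgroup G) [Finite X] (r : ℕ) [hr : Fact r.Prime]
    (hX : Nat.card X = r) (y : G) (hy : y ∈ X) (hy1 : y ≠ 1) : Subgroup.zpowers y = X := by
  haveI : Fact (Nat.card X).Prime := by rw [hX]; exact hr
  have h1 := (Subgroup.zpowers (⟨y, hy⟩ : X)).eq_bot_or_eq_top_of_prime_card
  rcases h1 with h1 | h1
  · exfalso
    apply hy1
    have h2 : (⟨y, hy⟩ : X) ∈ Subgroup.zpowers (⟨y, hy⟩ : X) := Subgroup.mem_zpowers _
    rw [h1, Subgroup.mem_bot] at h2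
    exact congrArg Subtype.val h2
  · apply le_antisymm
    · exact Subgroup.zpowers_le.2 hy
    · intro w hw
      have h2 : (⟨w, hw⟩ : X) ∈ Subgroup.zpowers (⟨y, hy⟩ : X) := h1 ▸ Subgroup.mem_top _
      obtain ⟨k, hk⟩ := Subgroup.mem_zpowers_iff.1 h2
      rw [Subgroup.mem_zpowers_iff]
      refine ⟨k, ?_⟩
      have := congrArg Subtype.val hk
      simpa using this

theorem exists_gen_of_prime (X : Subgroup G) [Finite X] (r : ℕ) [hr : Fact r.Prime]
    (hX : Nat.card X = r) : ∃ x ∈ X, x ≠ 1 ∧ Subgroup.zpowers x = X ∧ x ^ r = 1 := by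
  have h1 : X ≠ ⊥ := by
    intro h
    rw [h, Subgroup.card_bot] at hX
    exact hr.out.one_lt.ne hX
  obtain ⟨x, hx, hx1⟩ := X.bot_or_exists_ne_one.resolve_left h1
  refine ⟨x, hx, hx1, zpowers_eq_of_prime X r hX x hx hx1, ?_⟩
  have h2 := pow_card_eq_one' (G := X) (x := ⟨x, hx⟩)
  rw [hX] at h2
  exact congrArg Subtype.val h2

/-- an element commuting with generators of a join commutes with the join -/
theorem comm_sup (A B : Subgroup G) (z : G) (hA : ∀ a ∈ A, z * a = a * z) (hB : ∀ b ∈ B, z * b = b * z) :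
    ∀ c ∈ A ⊔ B, z * c = c * z := by
  have h1 : A ⊔ B ≤ Subgroup.centralizer ({z} : Set G) := by
    apply sup_le
    · intro a ha
      rw [Subgroup.mem_centralizer_iff]
      rintro _ rfl
      exact hA a ha
    · intro b hb
      rw [Subgroup.mem_centralizer_iff]
      rintro _ rfl
      exact hB b hb
  intro c hc
  have := Subgroup.mem_centralizer_iff.1 (h1 hc) z rfl
  exact this

/-- coprime torsion -/
theorem eq_one_of_pow_coprime (c : G) (m n : ℕ) (hmn : m.Coprime n) (hm : c ^ m = 1) (hn : c ^ n = 1) :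
    c = 1 := by
  have h1 : orderOf c ∣ m := orderOf_dvd_of_pow_eq_one hm
  have h2 : orderOf c ∣ n := orderOf_dvd_of_pow_eq_one hn
  have h3 : orderOf c ∣ 1 := by
    have := Nat.dvd_gcd h1 h2
    rwa [hmn] at this
  exact orderOf_eq_one_iff.1 (Nat.dvd_one.1 h3)

/-- if `y g y⁻¹ = c g` with `c` commuting with `y` then `y^n g y^-n = c^n g` -/
theorem conj_pow (y g c : G) (hyc : y * c = c * y) (h : y * g * y⁻¹ = c * g) (n : ℕ) :
    y ^ n * g * (y ^ n)⁻¹ = c ^ n * g := by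
  induction n with
  | zero => simp
  | succ n ih =>
    have hcy : y * c ^ n = c ^ n * y := by
      have : Commute y c := hyc
      exact (this.pow_right n)
    calc y ^ (n + 1) * g * (y ^ (n + 1))⁻¹ = y * (y ^ n * g * (y ^ n)⁻¹) * y⁻¹ := by
          rw [pow_succ']; group
      _ = y * (c ^ n * g) * y⁻¹ := by rw [ih]
      _ = (y * c ^ n) * g * y⁻¹ := by group
      _ = c ^ n * (y * g * y⁻¹) := by rw [hcy]; group
      _ = c ^ (n + 1) * g := by rw [h, pow_succ]; group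

end Prime

section Abstract

open TensorProduct

theorem eq_one_of_smul_eq_self {K M : Type*} [Field K] [AddCommGroup M] [Module K M] (a : K) (v : M)
    (hv : v ≠ 0) (h : a • v = v) : a = 1 := by
  by_contra hne
  have : (a - 1) • v = 0 := by rw [sub_smul, h, one_smul, sub_self]
  rcases smul_eq_zero.1 this with h | h
  · exact hne (sub_eq_zero.1 h)
  · exact hv h

variable {L : Type*} [Group L] [Finite L] {W : Type*} [CommGroup W] [Finite W]

theorem abstract_core (p q r : ℕ) [hp : Fact p.Prime] [hq : Fact q.Prime] (hr : r.Prime)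
    (hpr : p ≠ r) (hpq : p ≠ q)
    [Module (ZMod p) (Additive W)] (θ : L →* MulAut W)
    (Q' Z' : Subgroup L) [Q'.Normal] [Z'.Normal] (hZQ : Z' ≤ Q')
    (x : L) (hxr : x ^ r = 1) (hxZ : x ∉ Z') (hgen : Q' ⊔ Subgroup.zpowers x = ⊤)
    (z : L) (hzgen : Subgroup.zpowers z = Z') (hzc : ∀ a : L, z * a = a * z) (hzq : z ^ q = 1)
    (hab : ∀ g ∈ Q', ∀ t ∈ Q', g * t * g⁻¹ * t⁻¹ ∈ Z')
    (hfpf : ∀ y ∈ Subgroup.zpowers x, y ∉ Z' → ∀ g ∈ Q', y * g * y⁻¹ * g⁻¹ ∈ Z' → g ∈ Z')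
    (hnd : ∀ g ∈ Q', g ∉ Z' → ∃ t ∈ Q', t * g * t⁻¹ * g⁻¹ ≠ 1)
    (hQS : ∃ g ∈ Q', g ∉ Z')
    (hpQ : ¬ p ∣ Nat.card Q')
    (hx : ∀ w : W, θ x w = w → w = 1) (hz : ∃ w : W, θ z w ≠ w) :
    Nat.card Q' = (r - 1) ^ 2 * Nat.card Z' := by
  classical
  haveI hfin : Finite (Additive W) := inferInstanceAs (Finite W)
  haveI hfd : FiniteDimensional (ZMod p) (Additive W) := Module.Finite.of_finite
  have hqp : ¬ p ∣ q := by
    intro h
    exact hpq ((Nat.prime_dvd_prime_iff_eq hp.out hq.out).1 h)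
  obtain ⟨V₁, hV₁, hinv, hmin, hfree, c, hc1, hcz⟩ :=
    Cfsg.Agent.Lib.Helper23.XSf.exists_irred p θ x hx z hzc q hqp hzq hz
  haveI : Nontrivial ↥V₁ := Submodule.nontrivial_iff_ne_bot.2 hV₁
  set ρ₁ := subRep (Cfsg.Agent.Lib.Helper23.XSf.rhoK p θ) V₁ hinv with hρ₁
  have hρz : ρ₁ z = c • 1 := by
    ext v
    rw [hρ₁, subRep_apply, hcz v v.2]
    rfl
  have hscal1 : ∀ a : Cfsg.Agent.Lib.Helper23.XSf.KK p,
      a • (1 : Module.End (Cfsg.Agent.Lib.Helper23.XSf.KK p) ↥V₁) = 1 → a = 1 := by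
    intro a ha
    obtain ⟨v, hv⟩ := exists_ne (0 : ↥V₁)
    have h2 := LinearMap.congr_fun ha v
    rw [LinearMap.smul_apply, Module.End.one_apply] at h2
    exact eq_one_of_smul_eq_self (K := Cfsg.Agent.Lib.Helper23.XSf.KK p) (M := ↥V₁) a v hv h2
  have hcq : c ^ q = 1 := by
    have h1 : ρ₁ z ^ q = 1 := by rw [← map_pow, hzq, map_one]
    rw [hρz, smul_pow, one_pow] at h1
    exact hscal1 _ h1
  have hord : orderOf c = q := orderOf_eq_prime hcq hc1
  have hpow : ∀ n : ℕ, ρ₁ (z ^ n) = c ^ n • 1 := by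
    intro n
    rw [map_pow, hρz, smul_pow, one_pow]
  have hZmem : ∀ s ∈ Z', ∃ n : ℕ, s = z ^ n := by
    intro s hs
    rw [← hzgen] at hs
    have hfo : IsOfFinOrder z := isOfFinOrder_iff_pow_eq_one.2 ⟨q, hq.out.pos, hzq⟩
    obtain ⟨n, hn⟩ := (hfo.mem_powers_iff_mem_zpowers).2 hs
    exact ⟨n, hn.symm⟩
  apply Cfsg.Agent.Lib.Helper23.XSe.core (K := Cfsg.Agent.Lib.Helper23.XSf.KK p) (V := ↥V₁) ρ₁ Q' Z' hZQ x r hr hxr hxZ hgen
  · intro s hs
    obtain ⟨n, rfl⟩ := hZmem s hs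
    exact ⟨c ^ n, hpow n⟩
  · exact hab
  · exact hfpf
  · intro g hg hgZ
    obtain ⟨t, ht, hne⟩ := hnd g hg hgZ
    refine ⟨t, ht, ?_⟩
    intro hcomm
    obtain ⟨n, hn⟩ := hZmem _ (hab t ht g hg)
    have h1 : t * g = z ^ n * (g * t) := by rw [← hn]; group
    have h2 : ρ₁ t * ρ₁ g = c ^ n • (ρ₁ g * ρ₁ t) := by
      rw [← map_mul, h1, map_mul, hpow, map_mul, smul_mul_assoc, one_mul]
    rw [hcomm] at h2
    have h3 : ρ₁ g * ρ₁ t * ρ₁ (g * t)⁻¹ = 1 := by
      rw [← map_mul, ← map_mul, mul_inv_cancel, map_one]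
    have h4 : c ^ n • (1 : Module.End (Cfsg.Agent.Lib.Helper23.XSf.KK p) ↥V₁) = 1 := by
      have := congrArg (· * ρ₁ (g * t)⁻¹) h2
      rw [smul_mul_assoc, h3] at this
      exact this.symm
    have h5 : c ^ n = 1 := hscal1 _ h4
    have h6 : q ∣ n := by rw [← hord]; exact orderOf_dvd_of_pow_eq_one h5
    obtain ⟨m, rfl⟩ := h6
    apply hne
    rw [hn, pow_mul, hzq, one_pow]
  · exact hQS
  · exact Cfsg.Agent.Lib.Helper23.XSf.natCast_ne_zero p _ hpQ
  · apply Cfsg.Agent.Lib.Helper23.XSf.natCast_ne_zero p r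
    intro h
    exact hpr ((Nat.prime_dvd_prime_iff_eq hp.out hr).1 h)
  · exact Cfsg.Agent.Lib.Helper23.XSf.subRep_irred _ V₁ hinv hmin
  · intro v hv
    have h1 := hfree v v.2 (by
      have := congrArg Subtype.val hv
      rwa [hρ₁, subRep_apply] at this)
    exact Subtype.ext h1

end Abstract

section Ambient

variable {G : Type*} [Group G]

theorem zpowers_subgroupOf (L : Subgroup G) (x₀ : G) (h : x₀ ∈ L) :
    Subgroup.zpowers (⟨x₀, h⟩ : L) = (Subgroup.zpowers x₀).subgroupOf L := by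
  ext g
  rw [Subgroup.mem_subgroupOf, Subgroup.mem_zpowers_iff, Subgroup.mem_zpowers_iff]
  constructor
  · rintro ⟨k, hk⟩
    exact ⟨k, by rw [← hk]; simp⟩
  · rintro ⟨k, hk⟩
    exact ⟨k, Subtype.ext (by simpa using hk)⟩

/-- an element commuting with `y` commutes with `zpowers y` -/
theorem comm_zpowers (y g : G) (h : y * g = g * y) : ∀ y' ∈ Subgroup.zpowers y, y' * g = g * y' := by
  have h1 : Subgroup.zpowers y ≤ Subgroup.centralizer ({g} : Set G) := by
    apply Subgroup.zpowers_le.2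
    rw [Subgroup.mem_centralizer_iff]
    rintro _ rfl
    exact h.symm
  intro y' hy'
  exact (Subgroup.mem_centralizer_iff.1 (h1 hy') g rfl).symm

variable [Finite G]

theorem extraspecial_case {p q r : ℕ} (hp : p.Prime) (hq : q.Prime) (hr : r.Prime) (hpq : p ≠ q)
    (hpr : p ≠ r) (hqr : q ≠ r)
    (X Q V : Subgroup G) (hX : Nat.card X = r) (hQ : Cfsg.IsExtraspecial q ↥Q)
    (hXQ : X ≤ Subgroup.normalizer (Q : Set G))
    (hCQ : Q ⊓ Subgroup.centralizer (X : Set G) = (Subgroup.center ↥Q).map Q.subtype)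
    (hV : Cfsg.IsElementaryAbelian p V) (hXV : X ≤ Subgroup.normalizer (V : Set G))
    (hQV : Q ≤ Subgroup.normalizer (V : Set G))
    (hfaith : (X ⊔ Q) ⊓ Subgroup.centralizer (V : Set G) = ⊥)
    (hCV : V ⊓ Subgroup.centralizer (X : Set G) = ⊥) :
    Nat.card Q = (r - 1) ^ 2 * q := by
  classical
  haveI : Fact p.Prime := ⟨hp⟩
  haveI : Fact q.Prime := ⟨hq⟩
  haveI : Fact r.Prime := ⟨hr⟩
  obtain ⟨⟨hQp, -, hcomm⟩, hZcard⟩ := hQ
  set Z : Subgroup G := (Subgroup.center ↥Q).map Q.subtype with hZdef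
  have hZc : Nat.card Z = q := by
    rw [hZdef, Subgroup.card_map_of_injective Q.subtype_injective]
    exact hZcard
  have hZmem : ∀ g, g ∈ Z ↔ g ∈ Q ∧ ∀ t ∈ Q, t * g = g * t := by
    intro g
    constructor
    · rintro ⟨⟨g', hg'Q⟩, hg', rfl⟩
      refine ⟨hg'Q, fun t ht => ?_⟩
      have := Subgroup.mem_center_iff.1 hg' ⟨t, ht⟩
      exact congrArg Subtype.val this
    · rintro ⟨hgQ, hg⟩
      refine ⟨⟨g, hgQ⟩, ?_, rfl⟩
      rw [SetLike.mem_coe, Subgroup.mem_center_iff]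
      intro t
      exact Subtype.ext (hg t t.2)
  have hZQ : Z ≤ Q := fun g hg => ((hZmem g).1 hg).1
  have hZX : ∀ g ∈ Z, ∀ y ∈ X, y * g = g * y := by
    intro g hg y hy
    have h1 : g ∈ Q ⊓ Subgroup.centralizer (X : Set G) := by rw [hCQ]; exact hg
    exact Subgroup.mem_centralizer_iff.1 (Subgroup.mem_inf.1 h1).2 y hy
  have hQXZ : ∀ g ∈ Q, (∀ y ∈ X, y * g = g * y) → g ∈ Z := by
    intro g hg h
    have h1 : g ∈ Q ⊓ Subgroup.centralizer (X : Set G) :=
      Subgroup.mem_inf.2 ⟨hg, Subgroup.mem_centralizer_iff.2 h⟩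
    rwa [hCQ] at h1
  obtain ⟨x₀, hx₀X, hx₀1, hx₀gen, hx₀r⟩ := exists_gen_of_prime X r hX
  obtain ⟨z₀, hz₀Z, hz₀1, hz₀gen, hz₀q⟩ := exists_gen_of_prime Z q hZc
  have hconj : ∀ e ∈ X, ∀ u ∈ Q, e * u * e⁻¹ ∈ Q := fun e he u hu =>
    (Subgroup.mem_normalizer_iff.1 (hXQ he) u).1 hu
  -- X meets Q trivially
  have hXQ1 : ∀ y ∈ X, y ∈ Q → y = 1 := by
    intro y hyX hyQ
    obtain ⟨k, hk⟩ := hQp ⟨y, hyQ⟩
    have h1 : y ^ q ^ k = 1 := by
      have := congrArg Subtype.val hk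
      simpa using this
    have h2 : y ^ r = 1 := by
      have := pow_card_eq_one' (G := X) (x := ⟨y, hyX⟩)
      rw [hX] at this
      have := congrArg Subtype.val this
      simpa using this
    have hcop : Nat.Coprime r (q ^ k) :=
      Nat.Coprime.pow_right k ((Nat.coprime_primes hr hq).2 (Ne.symm hqr))
    exact eq_one_of_pow_coprime y r (q ^ k) hcop h2 h1
  have hab₀ : ∀ g ∈ Q, ∀ t ∈ Q, g * t * g⁻¹ * t⁻¹ ∈ Z := by
    intro g hg t ht
    have h1 : (⟨g, hg⟩ : Q) * ⟨t, ht⟩ * (⟨g, hg⟩ : Q)⁻¹ * (⟨t, ht⟩ : Q)⁻¹ ∈ Subgroup.center ↥Q := by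
      rw [← hcomm, commutator_def]
      exact Subgroup.commutator_mem_commutator (Subgroup.mem_top (⟨g, hg⟩ : Q))
        (Subgroup.mem_top (⟨t, ht⟩ : Q))
    exact ⟨_, h1, rfl⟩
  have hfpf₀ : ∀ y ∈ X, y ≠ 1 → ∀ g ∈ Q, y * g * y⁻¹ * g⁻¹ ∈ Z → g ∈ Z := by
    intro y hy hy1 g hg hc
    set c := y * g * y⁻¹ * g⁻¹ with hcdef
    have h1 : y * g * y⁻¹ = c * g := by rw [hcdef]; group
    have h2 : y * c = c * y := hZX c hc y hy
    have h3 := conj_pow y g c h2 h1 r
    have h4 : y ^ r = 1 := by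
      have := pow_card_eq_one' (G := X) (x := ⟨y, hy⟩)
      rw [hX] at this
      have := congrArg Subtype.val this
      simpa using this
    rw [h4] at h3
    have h5 : c ^ r = 1 := by
      have : g = c ^ r * g := by simpa using h3
      calc c ^ r = c ^ r * g * g⁻¹ := by group
        _ = g * g⁻¹ := by rw [← this]
        _ = 1 := by group
    have h6 : c ^ q = 1 := by
      have := pow_card_eq_one' (G := Z) (x := ⟨c, hc⟩)
      rw [hZc] at this
      have := congrArg Subtype.val this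
      simpa using this
    have hcop : Nat.Coprime r q := (Nat.coprime_primes hr hq).2 (Ne.symm hqr)
    have h7 : c = 1 := eq_one_of_pow_coprime c r q hcop h5 h6
    have h8 : y * g = g * y := by
      rw [h7, one_mul] at h1
      calc y * g = y * g * y⁻¹ * y := by group
        _ = g * y := by rw [h1]
    apply hQXZ g hg
    have h9 := zpowers_eq_of_prime X r hX y hy hy1
    intro y' hy'
    rw [← h9] at hy'
    exact comm_zpowers y g h8 y' hy'
  have hnd₀ : ∀ g ∈ Q, g ∉ Z → ∃ t ∈ Q, t * g * t⁻¹ * g⁻¹ ≠ 1 := by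
    intro g hg hgZ
    by_contra hcon
    push Not at hcon
    apply hgZ
    rw [hZmem]
    refine ⟨hg, fun t ht => ?_⟩
    have h1 := hcon t ht
    calc t * g = (t * g * t⁻¹ * g⁻¹) * g * t := by group
      _ = g * t := by rw [h1, one_mul]
  have hQS₀ : ∃ g ∈ Q, g ∉ Z := by
    by_contra hcon
    push Not at hcon
    have h1 : Subgroup.center ↥Q = ⊤ := by
      rw [eq_top_iff]
      intro g _
      rw [Subgroup.mem_center_iff]
      intro t
      exact Subtype.ext (((hZmem g).1 (hcon g g.2)).2 t t.2)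
    have h2 : commutator ↥Q = ⊥ := (commutator_eq_bot_iff_center_eq_top _).2 h1
    rw [hcomm] at h2
    rw [h2, Subgroup.card_bot] at hZcard
    exact hq.one_lt.ne hZcard
  set L : Subgroup G := Q ⊔ X with hL
  have hQL : Q ≤ L := le_sup_left
  have hXL : X ≤ L := le_sup_right
  haveI hQn : (Q.subgroupOf L).Normal :=
    Cfsg.Agent.Lib.Helper23.FrobF.normal_subgroupOf_sup Q X hconj
  have hZL : ∀ g ∈ Z, ∀ c ∈ L, g * c = c * g := by
    intro g hg
    exact comm_sup Q X g (fun a ha => (((hZmem g).1 hg).2 a ha).symm)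
      (fun b hb => (hZX g hg b hb).symm)
  haveI hZn : (Z.subgroupOf L).Normal := by
    constructor
    intro n hn g
    rw [Subgroup.mem_subgroupOf] at hn ⊢
    have h1 := hZL _ hn g g.2
    have h2 : ((g * n * g⁻¹ : L) : G) = (n : G) := by
      rw [Subgroup.coe_mul, Subgroup.coe_mul, Subgroup.coe_inv, ← h1]
      group
    rw [h2]; exact hn
  have hLV : L ≤ Subgroup.normalizer (V : Set G) := sup_le hQV hXV
  letI : CommGroup V :=
    { (inferInstance : Group V) with mul_comm := fun a b => hV.1.is_comm.comm a b }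
  have hexp : ∀ w : V, w ^ p = 1 := fun w => Subtype.ext (by simpa using hV.2 w w.2)
  letI : Module (ZMod p) (Additive V) := AddCommGroup.zmodModule (by
    intro x
    exact congrArg Additive.ofMul (hexp x.toMul))
  have hzpx : Subgroup.zpowers (⟨x₀, hXL hx₀X⟩ : L) = X.subgroupOf L := by
    rw [zpowers_subgroupOf, hx₀gen]
  have hzpz : Subgroup.zpowers (⟨z₀, hQL (hZQ hz₀Z)⟩ : L) = Z.subgroupOf L := by
    rw [zpowers_subgroupOf, hz₀gen]
  have hpQ : ¬ p ∣ Nat.card (Q.subgroupOf L) := by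
    rw [Nat.card_congr (Subgroup.subgroupOfEquivOfLe hQL).toEquiv]
    obtain ⟨k, hk⟩ := IsPGroup.iff_card.1 hQp
    rw [hk]
    intro h
    exact hpq ((Nat.prime_dvd_prime_iff_eq hp hq).1 (hp.dvd_of_dvd_pow h))
  have h := abstract_core p q r hr hpr hpq
    (Cfsg.Agent.Lib.Helper23.FrobF.theta L V hLV) (Q.subgroupOf L) (Z.subgroupOf L)
    (fun g hg => Subgroup.mem_subgroupOf.2 (hZQ (Subgroup.mem_subgroupOf.1 hg)))
    ⟨x₀, hXL hx₀X⟩
    (Subtype.ext (by rw [Subgroup.coe_pow]; exact hx₀r))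
    (by
      intro hcon
      exact hx₀1 (hXQ1 x₀ hx₀X (hZQ (Subgroup.mem_subgroupOf.1 hcon))))
    (by
      rw [hzpx, ← Subgroup.subgroupOf_sup hQL hXL, Subgroup.subgroupOf_self])
    ⟨z₀, hQL (hZQ hz₀Z)⟩ hzpz
    (fun a => Subtype.ext (hZL z₀ hz₀Z a a.2))
    (Subtype.ext (by rw [Subgroup.coe_pow]; exact hz₀q))
    (by
      intro g hg t ht
      exact Subgroup.mem_subgroupOf.2 (hab₀ g (Subgroup.mem_subgroupOf.1 hg) t
        (Subgroup.mem_subgroupOf.1 ht)))
    (by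
      intro y hy hyZ g hg hc
      rw [hzpx] at hy
      apply Subgroup.mem_subgroupOf.2
      apply hfpf₀ (y : G) (Subgroup.mem_subgroupOf.1 hy) _ (g : G) (Subgroup.mem_subgroupOf.1 hg)
        (Subgroup.mem_subgroupOf.1 hc)
      intro h1
      apply hyZ
      rw [Subgroup.mem_subgroupOf, h1]
      exact Z.one_mem)
    (by
      intro g hg hgZ
      obtain ⟨t, ht, hne⟩ := hnd₀ (g : G) (Subgroup.mem_subgroupOf.1 hg)
        (fun h => hgZ (Subgroup.mem_subgroupOf.2 h))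
      refine ⟨⟨t, hQL ht⟩, Subgroup.mem_subgroupOf.2 ht, ?_⟩
      intro h1
      exact hne (congrArg Subtype.val h1))
    (by
      obtain ⟨g, hg, hgZ⟩ := hQS₀
      exact ⟨⟨g, hQL hg⟩, Subgroup.mem_subgroupOf.2 hg, fun h => hgZ (Subgroup.mem_subgroupOf.1 h)⟩)
    hpQ
    (by
      intro w hw
      have h1 : x₀ * (w : G) * x₀⁻¹ = (w : G) := by
        have := congrArg Subtype.val hw
        rwa [Cfsg.Agent.Lib.Helper23.FrobF.theta_apply] at this
      have h2 : x₀ * (w : G) = (w : G) * x₀ := by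
        calc x₀ * (w : G) = x₀ * (w : G) * x₀⁻¹ * x₀ := by group
          _ = (w : G) * x₀ := by rw [h1]
      have h3 : (w : G) ∈ V ⊓ Subgroup.centralizer (X : Set G) := by
        refine Subgroup.mem_inf.2 ⟨w.2, ?_⟩
        rw [Subgroup.mem_centralizer_iff]
        intro y hy
        rw [← hx₀gen] at hy
        exact comm_zpowers x₀ (w : G) h2 y hy
      rw [hCV, Subgroup.mem_bot] at h3
      exact Subtype.ext h3)
    (by
      by_contra hcon
      push Not at hcon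
      apply hz₀1
      have h3 : z₀ ∈ (X ⊔ Q) ⊓ Subgroup.centralizer (V : Set G) := by
        refine Subgroup.mem_inf.2 ⟨(le_sup_right : Q ≤ X ⊔ Q) (hZQ hz₀Z), ?_⟩
        rw [Subgroup.mem_centralizer_iff]
        intro w hw
        have h1 : z₀ * w * z₀⁻¹ = w := by
          have := congrArg Subtype.val (hcon ⟨w, hw⟩)
          rwa [Cfsg.Agent.Lib.Helper23.FrobF.theta_apply] at this
        calc w * z₀ = z₀ * w * z₀⁻¹ * z₀ := by rw [h1]
          _ = z₀ * w := by group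
      rw [hfaith, Subgroup.mem_bot] at h3
      exact h3)
  rw [Nat.card_congr (Subgroup.subgroupOfEquivOfLe hQL).toEquiv,
    Nat.card_congr (Subgroup.subgroupOfEquivOfLe (hZQ.trans hQL)).toEquiv, hZc] at h
  exact h

end Ambient

end Cfsg.Agent.Lib.Helper23.XSg
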