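import Mathlib
import Cfsg.Agent.Lib.Helper23.XSg

/-!
# Prime-order operators acting freely on a module: minimal configurations (helper23)
-/

set_option autoImplicit false
set_option linter.style.haveILetI false

namespace Cfsg.Agent.Lib.Helper23.XSh

open Cfsg.Agent.Lib.Helper23.XSg Cfsg.Agent.Lib.Helper23.FrobA

open scoped commutatorElement

section Group

variable {L : Type*} [Group L]

/-- if `x` (of order dividing `r`) commutes with the `q`-element `[x,g]` then `x` commutes with `g` -/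
theorem comm_of_comm_commutator (q r : ℕ) (hqr : Nat.Coprime r q) (x g : L) (hxr : x ^ r = 1)
    (k : ℕ) (hc : (x * g * x⁻¹ * g⁻¹) ^ q ^ k = 1)
    (h : x * (x * g * x⁻¹ * g⁻¹) = (x * g * x⁻¹ * g⁻¹) * x) : x * g = g * x := by
  set c := x * g * x⁻¹ * g⁻¹ with hcdef
  have h1 : x * g * x⁻¹ = c * g := by rw [hcdef]; group
  have h3 := conj_pow x g c h h1 r
  rw [hxr] at h3
  have h5 : c ^ r = 1 := by
    have : g = c ^ r * g := by simpa using h3
    calc c ^ r = c ^ r * g * g⁻¹ := by group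
      _ = g * g⁻¹ := by rw [← this]
      _ = 1 := by group
  have h7 : c = 1 := eq_one_of_pow_coprime c r (q ^ k) (Nat.Coprime.pow_right k hqr) h5 hc
  rw [h7, one_mul] at h1
  calc x * g = x * g * x⁻¹ * x := by group
    _ = g * x := by rw [h1]

theorem conj_comm (x d k : L) (h2 : x * d = d * x) (h1 : d * k = k * d) :
    d * (x * k * x⁻¹) = (x * k * x⁻¹) * d := by
  have hx : Commute d x := h2.symm
  have hk : Commute d k := h1
  exact (hx.mul_right hk).mul_right hx.inv_right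

/-- a minimal configuration -/
structure MinConf (q r : ℕ) (Q : Subgroup L) (x : L) : Prop where
  pgroup : IsPGroup q Q
  pow : x ^ r = 1
  inv : ∀ g ∈ Q, x * g * x⁻¹ ∈ Q
  nc : ∃ g ∈ Q, x * g ≠ g * x
  min : ∀ K : Subgroup L, K ≤ Q → (∀ k ∈ K, x * k * x⁻¹ ∈ K) → K ≠ Q → ∀ k ∈ K, x * k = k * x

variable {q r : ℕ} {Q : Subgroup L} {x : L}

theorem MinConf.comm_of_fixed (C : MinConf q r Q x) (hqr : Nat.Coprime r q) (g : L) (hg : g ∈ Q)
    (h : x * (x * g * x⁻¹ * g⁻¹) = (x * g * x⁻¹ * g⁻¹) * x) : x * g = g * x := by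
  have hc : x * g * x⁻¹ * g⁻¹ ∈ Q := Q.mul_mem (C.inv g hg) (Q.inv_mem hg)
  obtain ⟨k, hk⟩ := C.pgroup ⟨_, hc⟩
  have hk' : (x * g * x⁻¹ * g⁻¹) ^ q ^ k = 1 := by
    have := congrArg Subtype.val hk
    simpa using this
  exact comm_of_comm_commutator q r hqr x g C.pow k hk' h

theorem MinConf.eq_of_contains (C : MinConf q r Q x) (hqr : Nat.Coprime r q) (K : Subgroup L)
    (hK : K ≤ Q) (hKinv : ∀ k ∈ K, x * k * x⁻¹ ∈ K) (hKc : ∀ t ∈ Q, x * t * x⁻¹ * t⁻¹ ∈ K) :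
    K = Q := by
  by_contra hne
  have h1 := C.min K hK hKinv hne
  obtain ⟨g, hg, hgx⟩ := C.nc
  exact hgx (C.comm_of_fixed hqr g hg (h1 _ (hKc g hg)))

theorem MinConf.commutator_central [Finite L] [Fact q.Prime] (C : MinConf q r Q x)
    (hqr : Nat.Coprime r q) :
    ∀ d ∈ ⁅Q, Q⁆, x * d = d * x ∧ ∀ t ∈ Q, t * d = d * t := by
  set D := ⁅Q, Q⁆ with hD
  have hDQ : D ≤ Q := Subgroup.commutator_le.2 (fun a ha b hb => by
    rw [commutatorElement_def]
    exact Q.mul_mem (Q.mul_mem (Q.mul_mem ha hb) (Q.inv_mem ha)) (Q.inv_mem hb))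
  have hDinv : ∀ d ∈ D, x * d * x⁻¹ ∈ D := by
    have h1 : D ≤ D.comap (MulAut.conj x).toMonoidHom := by
      rw [hD, Subgroup.commutator_le]
      intro a ha b hb
      rw [Subgroup.mem_comap]
      have : (MulAut.conj x).toMonoidHom ⁅a, b⁆ = ⁅x * a * x⁻¹, x * b * x⁻¹⁆ := by
        rw [map_commutatorElement]
        rfl
      rw [this]
      exact Subgroup.commutator_mem_commutator (C.inv a ha) (C.inv b hb)
    intro d hd
    exact h1 hd
  have hDne : D ≠ Q := by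
    intro h
    obtain ⟨g, hg, hgx⟩ := C.nc
    haveI : Nontrivial Q := ⟨⟨⟨g, hg⟩, 1, fun h1 => hgx (by
      have : g = 1 := congrArg Subtype.val h1
      rw [this]; simp)⟩⟩
    haveI : Group.IsNilpotent Q := C.pgroup.isNilpotent
    have h1 := Group.IsSolvable.commutator_lt_top_of_nontrivial Q
    have h2 : (commutator Q).map Q.subtype = ⁅Q, Q⁆ := Subgroup.map_subtype_commutator Q
    have h3 : commutator Q = ⊤ := by
      apply Subgroup.map_injective Q.subtype_injective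
      rw [h2, ← hD, h, ← MonoidHom.range_eq_map, Subgroup.range_subtype]
    exact h1.ne h3
  have hxD := C.min D hDQ hDinv hDne
  have hDnorm : ∀ d ∈ D, ∀ t ∈ Q, t⁻¹ * d * t ∈ D := by
    intro d hd t ht
    have h1 : ⁅t⁻¹, d⁆ ∈ D := Subgroup.commutator_mem_commutator (Q.inv_mem ht) (hDQ hd)
    have h2 : t⁻¹ * d * t = ⁅t⁻¹, d⁆ * d := by rw [commutatorElement_def]; group
    rw [h2]; exact D.mul_mem h1 hd
  set K := Q ⊓ Subgroup.centralizer (D : Set L) with hK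
  have hKQ : K = Q := by
    apply C.eq_of_contains hqr K inf_le_left
    · intro k hk
      obtain ⟨hkQ, hkD⟩ := Subgroup.mem_inf.1 hk
      refine Subgroup.mem_inf.2 ⟨C.inv k hkQ, ?_⟩
      rw [Subgroup.mem_centralizer_iff]
      intro d hd
      exact conj_comm x d k (hxD d hd) (Subgroup.mem_centralizer_iff.1 hkD d hd)
    · intro t ht
      refine Subgroup.mem_inf.2 ⟨Q.mul_mem (C.inv t ht) (Q.inv_mem ht), ?_⟩
      rw [Subgroup.mem_centralizer_iff]
      intro d hd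
      have hxd : x * d = d * x := hxD d hd
      have hd' := hDnorm d hd t ht
      have hxd' : x * (t⁻¹ * d * t) = (t⁻¹ * d * t) * x := hxD _ hd'
      have h1 : x⁻¹ * (t⁻¹ * d * t) * x = t⁻¹ * d * t := by
        calc x⁻¹ * (t⁻¹ * d * t) * x = x⁻¹ * ((t⁻¹ * d * t) * x) := by group
          _ = x⁻¹ * (x * (t⁻¹ * d * t)) := by rw [hxd']
          _ = t⁻¹ * d * t := by group
      have h2 : (x * t * x⁻¹ * t⁻¹) * d * (x * t * x⁻¹ * t⁻¹)⁻¹ = d := by
        calc (x * t * x⁻¹ * t⁻¹) * d * (x * t * x⁻¹ * t⁻¹)⁻¹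
            = x * t * (x⁻¹ * (t⁻¹ * d * t) * x) * t⁻¹ * x⁻¹ := by group
          _ = x * t * (t⁻¹ * d * t) * t⁻¹ * x⁻¹ := by rw [h1]
          _ = x * d * x⁻¹ := by group
          _ = d := by rw [hxd]; group
      calc d * (x * t * x⁻¹ * t⁻¹)
          = ((x * t * x⁻¹ * t⁻¹) * d * (x * t * x⁻¹ * t⁻¹)⁻¹) * (x * t * x⁻¹ * t⁻¹) := by rw [h2]
        _ = (x * t * x⁻¹ * t⁻¹) * d := by group
  intro d hd
  refine ⟨hxD d hd, fun t ht => ?_⟩
  have h1 : t ∈ K := by rw [hKQ]; exact ht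
  exact (Subgroup.mem_centralizer_iff.1 (Subgroup.mem_inf.1 h1).2 d hd).symm

theorem MinConf.fixed_central [Finite L] [Fact q.Prime] (C : MinConf q r Q x)
    (hqr : Nat.Coprime r q) (g : L) (hg : g ∈ Q) (hgx : x * g = g * x) :
    ∀ t ∈ Q, t * g = g * t := by
  have hD := C.commutator_central hqr
  set K := Q ⊓ Subgroup.centralizer ({g} : Set L) with hK
  have hKQ : K = Q := by
    apply C.eq_of_contains hqr K inf_le_left
    · intro k hk
      obtain ⟨hkQ, hkg⟩ := Subgroup.mem_inf.1 hk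
      refine Subgroup.mem_inf.2 ⟨C.inv k hkQ, ?_⟩
      rw [Subgroup.mem_centralizer_iff]
      intro h hh
      rw [Set.mem_singleton_iff.1 hh]
      exact conj_comm x g k hgx (Subgroup.mem_centralizer_iff.1 hkg g rfl)
    · intro t ht
      have hcQ : x * t * x⁻¹ * t⁻¹ ∈ Q := Q.mul_mem (C.inv t ht) (Q.inv_mem ht)
      refine Subgroup.mem_inf.2 ⟨hcQ, ?_⟩
      rw [Subgroup.mem_centralizer_iff]
      intro h hh
      rw [Set.mem_singleton_iff.1 hh]
      have hzD : g * t * g⁻¹ * t⁻¹ ∈ ⁅Q, Q⁆ := by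
        have := Subgroup.commutator_mem_commutator hg ht
        rwa [commutatorElement_def] at this
      obtain ⟨hxz, hzc⟩ := hD _ hzD
      have hzc' := hzc _ hcQ
      have h1 : g * x * g⁻¹ = x := by rw [← hgx]; group
      have h2 : g * t * g⁻¹ = (g * t * g⁻¹ * t⁻¹) * t := by group
      have h3 : g * (x * t * x⁻¹ * t⁻¹) * g⁻¹ = x * t * x⁻¹ * t⁻¹ := by
        calc g * (x * t * x⁻¹ * t⁻¹) * g⁻¹
            = (g * x * g⁻¹) * (g * t * g⁻¹) * (g * x * g⁻¹)⁻¹ * (g * t * g⁻¹)⁻¹ := by group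
          _ = x * ((g * t * g⁻¹ * t⁻¹) * t) * x⁻¹ * ((g * t * g⁻¹ * t⁻¹) * t)⁻¹ := by
              rw [h1, ← h2]
          _ = (x * (g * t * g⁻¹ * t⁻¹)) * t * x⁻¹ * t⁻¹ * (g * t * g⁻¹ * t⁻¹)⁻¹ := by group
          _ = (g * t * g⁻¹ * t⁻¹) * (x * t * x⁻¹ * t⁻¹) * (g * t * g⁻¹ * t⁻¹)⁻¹ := by
              rw [hxz]; group
          _ = x * t * x⁻¹ * t⁻¹ := by rw [← hzc']; group
      calc g * (x * t * x⁻¹ * t⁻¹) = (g * (x * t * x⁻¹ * t⁻¹) * g⁻¹) * g := by group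
        _ = (x * t * x⁻¹ * t⁻¹) * g := by rw [h3]
  intro t ht
  have h1 : t ∈ K := by rw [hKQ]; exact ht
  exact (Subgroup.mem_centralizer_iff.1 (Subgroup.mem_inf.1 h1).2 g rfl).symm

end Group

section Rep

open TensorProduct Pointwise

universe u

variable {L : Type*} [Group L] [Finite L] {W : Type u} [CommGroup W] [Finite W]

theorem card_dvd_of_sup_eq_top (U E : Subgroup L) [U.Normal] (h : U ⊔ E = ⊤) :
    Nat.card L ∣ Nat.card U * Nat.card E := by
  have h1 : Nat.card L = Nat.card (L ⧸ U) * Nat.card U :=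
    Subgroup.card_eq_card_quotient_mul_card_subgroup U
  have hsurj : Function.Surjective ((QuotientGroup.mk' U).comp E.subtype) := by
    intro y
    obtain ⟨a, rfl⟩ := QuotientGroup.mk'_surjective U y
    have ha : a ∈ ((U ⊔ E : Subgroup L) : Set L) := by rw [h]; trivial
    rw [Subgroup.normal_mul] at ha
    obtain ⟨u, hu, e, he, rfl⟩ := Set.mem_mul.1 ha
    refine ⟨⟨e, he⟩, ?_⟩
    change (QuotientGroup.mk' U) e = (QuotientGroup.mk' U) (u * e)
    rw [map_mul]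
    have : (QuotientGroup.mk' U) u = 1 := (QuotientGroup.eq_one_iff u).2 hu
    rw [this, one_mul]
  have h2 := Subgroup.card_dvd_of_surjective _ hsurj
  rw [h1, mul_comm]
  exact Nat.mul_dvd_mul_left _ h2

/-- the order of `x` in a minimal configuration -/
theorem MinConf.orderOf_eq {q r : ℕ} {Q : Subgroup L} {x : L} (C : MinConf q r Q x) (hr : r.Prime) :
    orderOf x = r := by
  haveI : Fact r.Prime := ⟨hr⟩
  apply orderOf_eq_prime C.pow
  rintro rfl
  obtain ⟨g, _, hgx⟩ := C.nc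
  exact hgx (by simp)

theorem MinConf.gen_of_ne_one {q r : ℕ} {Q : Subgroup L} {x : L} (C : MinConf q r Q x) (hr : r.Prime)
    (y : L) (hy : y ∈ Subgroup.zpowers x) (hy1 : y ≠ 1) : x ∈ Subgroup.zpowers y := by
  haveI : Fact r.Prime := ⟨hr⟩
  have h1 : Nat.card (Subgroup.zpowers x) = r := by rw [Nat.card_zpowers, C.orderOf_eq hr]
  have h2 := zpowers_eq_of_prime (Subgroup.zpowers x) r h1 y hy hy1
  rw [h2]
  exact Subgroup.mem_zpowers x

theorem card_coprime_of (p q r : ℕ) [hp : Fact p.Prime] [hq : Fact q.Prime] (hr : r.Prime)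
    (hpr : p ≠ r) (hpq : p ≠ q) (hexp : ∀ w : W, w ^ p = 1)
    (Q : Subgroup L) [Q.Normal] (x : L) (hQ : IsPGroup q Q) (hxr : x ^ r = 1)
    (hgen : Q ⊔ Subgroup.zpowers x = ⊤) : (Nat.card W).Coprime (Nat.card L) := by
  have hW : IsPGroup p W := fun w => ⟨1, by simpa using hexp w⟩
  obtain ⟨k, hk⟩ := IsPGroup.iff_card.1 hW
  obtain ⟨m, hm⟩ := IsPGroup.iff_card.1 hQ
  have h1 := card_dvd_of_sup_eq_top Q (Subgroup.zpowers x) hgen
  have h2 : Nat.card (Subgroup.zpowers x) ∣ r := by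
    rw [Nat.card_zpowers]
    exact orderOf_dvd_of_pow_eq_one hxr
  have h3 : Nat.card L ∣ q ^ m * r := by
    rw [← hm]
    exact h1.trans (Nat.mul_dvd_mul_left _ h2)
  rw [hk]
  apply Nat.Coprime.pow_left
  apply Nat.Coprime.coprime_dvd_right h3
  apply Nat.Coprime.mul_right
  · exact Nat.Coprime.pow_right _ ((Nat.coprime_primes hp.out hq.out).2 hpq)
  · exact (Nat.coprime_primes hp.out hr).2 hpr

theorem abelian_case (p q r : ℕ) [hp : Fact p.Prime] [hq : Fact q.Prime] (hr : r.Prime)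
    (hpr : p ≠ r) (hpq : p ≠ q) (hqr : q ≠ r)
    (hexp : ∀ w : W, w ^ p = 1) (θ : L →* MulAut W)
    (hinj : ∀ a : L, (∀ w, θ a w = w) → a = 1)
    (Q : Subgroup L) [hQn : Q.Normal] (x : L) (C : MinConf q r Q x)
    (hgen : Q ⊔ Subgroup.zpowers x = ⊤)
    (hx : ∀ w : W, θ x w = w → w = 1)
    (hab : ∀ g ∈ Q, ∀ t ∈ Q, g * t = t * g) : False := by
  classical
  have hcop : Nat.Coprime r q := (Nat.coprime_primes hr hq.out).2 (Ne.symm hqr)
  -- the image of the commutator map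
  let U : Subgroup L :=
    { carrier := {c | ∃ g ∈ Q, c = x * g * x⁻¹ * g⁻¹}
      one_mem' := ⟨1, Q.one_mem, by simp⟩
      mul_mem' := by
        rintro _ _ ⟨g, hg, rfl⟩ ⟨h, hh, rfl⟩
        refine ⟨g * h, Q.mul_mem hg hh, ?_⟩
        have h1 : g⁻¹ * (x * h * x⁻¹ * h⁻¹) = (x * h * x⁻¹ * h⁻¹) * g⁻¹ :=
          hab _ (Q.inv_mem hg) _ (Q.mul_mem (C.inv h hh) (Q.inv_mem hh))
        calc x * g * x⁻¹ * g⁻¹ * (x * h * x⁻¹ * h⁻¹)
            = x * g * x⁻¹ * (g⁻¹ * (x * h * x⁻¹ * h⁻¹)) := by group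
          _ = x * g * x⁻¹ * ((x * h * x⁻¹ * h⁻¹) * g⁻¹) := by rw [h1]
          _ = x * (g * h) * x⁻¹ * (g * h)⁻¹ := by group
      inv_mem' := by
        rintro _ ⟨g, hg, rfl⟩
        refine ⟨g⁻¹, Q.inv_mem hg, ?_⟩
        have h1 : g * (x * g⁻¹ * x⁻¹) = (x * g⁻¹ * x⁻¹) * g :=
          hab _ hg _ (C.inv _ (Q.inv_mem hg))
        calc (x * g * x⁻¹ * g⁻¹)⁻¹ = g * (x * g⁻¹ * x⁻¹) := by group
          _ = (x * g⁻¹ * x⁻¹) * g := h1
          _ = x * g⁻¹ * x⁻¹ * g⁻¹⁻¹ := by group }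
  have hUQ : U = Q := by
    apply C.eq_of_contains hcop U
    · rintro _ ⟨g, hg, rfl⟩
      exact Q.mul_mem (C.inv g hg) (Q.inv_mem hg)
    · rintro _ ⟨g, hg, rfl⟩
      refine ⟨x * g * x⁻¹, C.inv g hg, ?_⟩
      group
    · intro t ht
      exact ⟨t, ht, rfl⟩
  -- x acts freely on Q
  have hfree : ∀ g ∈ Q, x * g = g * x → g = 1 := by
    intro g hg hgx
    have h1 : g ∈ U := by rw [hUQ]; exact hg
    obtain ⟨h, hh, rfl⟩ := h1
    have h2 := C.comm_of_fixed hcop h hh hgx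
    calc x * h * x⁻¹ * h⁻¹ = (x * h) * x⁻¹ * h⁻¹ := by group
      _ = (h * x) * x⁻¹ * h⁻¹ := by rw [h2]
      _ = 1 := by group
  have hx1 : x ≠ 1 := by
    rintro rfl
    obtain ⟨g, _, hgx⟩ := C.nc
    exact hgx (by simp)
  have hE : Subgroup.zpowers x ≠ ⊥ := by
    intro h
    apply hx1
    have := Subgroup.mem_zpowers x
    rw [h, Subgroup.mem_bot] at this
    exact this
  have hfpf : ∀ e ∈ Subgroup.zpowers x, e ≠ 1 → ∀ u ∈ Q, e * u = u * e → u = 1 := by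
    intro e he he1 u hu heu
    have h1 := C.gen_of_ne_one hr e he he1
    exact hfree u hu (comm_zpowers e u heu x h1)
  have D := Cfsg.Agent.Lib.Helper23.FrobD.frobData_of_fpf Q (Subgroup.zpowers x) hE hfpf hgen
  have hcopW := card_coprime_of p q r hr hpr hpq hexp Q x C.pgroup C.pow hgen
  have hmain := Cfsg.Agent.Lib.Helper23.FrobE.main D (Nat.card W) W θ rfl hcopW inferInstance
  have hfixE : Cfsg.Agent.Lib.Helper23.FrobD.fixG θ (Subgroup.zpowers x) = ⊥ := by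
    rw [eq_bot_iff]
    intro w hw
    rw [Subgroup.mem_bot]
    exact hx w (hw x (Subgroup.mem_zpowers x))
  have hfixT : Cfsg.Agent.Lib.Helper23.FrobD.fixG θ (⊤ : Subgroup L) = ⊥ := by
    rw [eq_bot_iff]
    intro w hw
    rw [Subgroup.mem_bot]
    exact hx w (hw x (Subgroup.mem_top x))
  rw [hfixE, hfixT, Subgroup.card_bot, one_pow, one_mul, one_mul] at hmain
  have hfixQ : Cfsg.Agent.Lib.Helper23.FrobD.fixG θ Q = ⊤ := Subgroup.eq_top_of_card_eq _ hmain.symm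
  obtain ⟨g, hg, hgx⟩ := C.nc
  have hg1 : g = 1 := by
    apply hinj
    intro w
    have : w ∈ Cfsg.Agent.Lib.Helper23.FrobD.fixG θ Q := by rw [hfixQ]; exact Subgroup.mem_top w
    exact this g hg
  apply hgx
  rw [hg1]; simp

theorem nonabelian_case (p q r : ℕ) [hp : Fact p.Prime] [hq : Fact q.Prime] (hr : r.Prime)
    (hpr : p ≠ r) (hpq : p ≠ q) (hqr : q ≠ r)
    [Module (ZMod p) (Additive W)] (θ : L →* MulAut W)
    (hinj : ∀ a : L, (∀ w, θ a w = w) → a = 1)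
    (Q : Subgroup L) [hQn : Q.Normal] (x : L) (C : MinConf q r Q x)
    (hgen : Q ⊔ Subgroup.zpowers x = ⊤)
    (hx : ∀ w : W, θ x w = w → w = 1)
    (a b : L) (ha : a ∈ Q) (hb : b ∈ Q) (hne : a * b ≠ b * a) :
    q = 2 ∧ ∃ n : ℕ, r = 2 ^ n + 1 := by
  classical
  haveI hfin : Finite (Additive W) := inferInstanceAs (Finite W)
  haveI hfd : FiniteDimensional (ZMod p) (Additive W) := Module.Finite.of_finite
  have hcop : Nat.Coprime r q := (Nat.coprime_primes hr hq.out).2 (Ne.symm hqr)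
  have hDc := C.commutator_central hcop
  have hCc := C.fixed_central hcop
  -- the central element d
  set d := a * b * a⁻¹ * b⁻¹ with hd
  have hdD : d ∈ ⁅Q, Q⁆ := by
    have := Subgroup.commutator_mem_commutator ha hb
    rwa [commutatorElement_def] at this
  have hdQ : d ∈ Q := Q.mul_mem (Q.mul_mem (Q.mul_mem ha hb) (Q.inv_mem ha)) (Q.inv_mem hb)
  obtain ⟨hxd, hdcQ⟩ := hDc d hdD
  have hd1 : d ≠ 1 := by
    intro h
    apply hne
    calc a * b = (a * b * a⁻¹ * b⁻¹) * b * a := by group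
      _ = b * a := by rw [← hd, h, one_mul]
  have hdc : ∀ c : L, d * c = c * d := by
    intro c
    have h1 := comm_sup Q (Subgroup.zpowers x) d (fun t ht => (hdcQ t ht).symm)
      (fun y hy => (comm_zpowers x d hxd y hy).symm)
    exact h1 c (by rw [hgen]; exact Subgroup.mem_top c)
  obtain ⟨k, hk⟩ := C.pgroup ⟨d, hdQ⟩
  have hdq : d ^ q ^ k = 1 := by
    have := congrArg Subtype.val hk
    simpa using this
  have hdw : ∃ w : W, θ d w ≠ w := by
    by_contra hcon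
    push Not at hcon
    exact hd1 (hinj d hcon)
  have hqp : ¬ p ∣ q ^ k := by
    intro h
    exact hpq ((Nat.prime_dvd_prime_iff_eq hp.out hq.out).1 (hp.out.dvd_of_dvd_pow h))
  obtain ⟨V₁, hV₁, hinv, hmin, hfree, c, hc1, hcz⟩ :=
    Cfsg.Agent.Lib.Helper23.XSf.exists_irred p θ x hx d hdc (q ^ k) hqp hdq hdw
  haveI : Nontrivial ↥V₁ := Submodule.nontrivial_iff_ne_bot.2 hV₁
  set ρ₁ := subRep (Cfsg.Agent.Lib.Helper23.XSf.rhoK p θ) V₁ hinv with hρ₁
  have hρd : ρ₁ d = c • 1 := by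
    ext v
    rw [hρ₁, subRep_apply, hcz v v.2]
    rfl
  have hscal1 : ∀ e : Cfsg.Agent.Lib.Helper23.XSf.KK p,
      e • (1 : Module.End (Cfsg.Agent.Lib.Helper23.XSf.KK p) ↥V₁) = 1 → e = 1 := by
    intro e he
    obtain ⟨v, hv⟩ := exists_ne (0 : ↥V₁)
    have h2 := LinearMap.congr_fun he v
    rw [LinearMap.smul_apply, Module.End.one_apply] at h2
    exact eq_one_of_smul_eq_self (K := Cfsg.Agent.Lib.Helper23.XSf.KK p) (M := ↥V₁) e v hv h2
  have hinvmul : ∀ g : L, ρ₁ g⁻¹ * ρ₁ g = 1 := fun g => by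
    rw [← map_mul, inv_mul_cancel, map_one]
  have hmulinv : ∀ g : L, ρ₁ g * ρ₁ g⁻¹ = 1 := fun g => by
    rw [← map_mul, mul_inv_cancel, map_one]
  -- the preimage of the center
  let S : Subgroup L :=
    { carrier := {g | g ∈ Q ∧ ∀ t ∈ Q, ρ₁ t * ρ₁ g = ρ₁ g * ρ₁ t}
      one_mem' := ⟨Q.one_mem, fun t _ => by rw [map_one, mul_one, one_mul]⟩
      mul_mem' := by
        rintro g g' ⟨hg, hgc⟩ ⟨hg', hgc'⟩
        refine ⟨Q.mul_mem hg hg', fun t ht => ?_⟩
        rw [map_mul, ← mul_assoc, hgc t ht, mul_assoc, hgc' t ht, ← mul_assoc]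
      inv_mem' := by
        rintro g ⟨hg, hgc⟩
        refine ⟨Q.inv_mem hg, fun t ht => ?_⟩
        have h1 := hgc t ht
        calc ρ₁ t * ρ₁ g⁻¹ = ρ₁ g⁻¹ * (ρ₁ g * ρ₁ t) * ρ₁ g⁻¹ := by
              rw [← mul_assoc, hinvmul, one_mul]
          _ = ρ₁ g⁻¹ * (ρ₁ t * ρ₁ g) * ρ₁ g⁻¹ := by rw [h1]
          _ = ρ₁ g⁻¹ * ρ₁ t := by
              rw [mul_assoc, mul_assoc, hmulinv, mul_one] }
  have hSmem : ∀ g, g ∈ S ↔ g ∈ Q ∧ ∀ t ∈ Q, ρ₁ t * ρ₁ g = ρ₁ g * ρ₁ t := fun g => Iff.rfl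
  have hSQ : S ≤ Q := fun g hg => hg.1
  haveI hSn : S.Normal := by
    constructor
    intro g hg e
    obtain ⟨hgQ, hgc⟩ := hg
    refine ⟨hQn.conj_mem g hgQ e, fun t ht => ?_⟩
    have ht' : e⁻¹ * t * e ∈ Q := by
      have := hQn.conj_mem t ht e⁻¹
      simpa using this
    obtain ⟨t', ht'def⟩ : ∃ t', t' = e⁻¹ * t * e := ⟨_, rfl⟩
    rw [← ht'def] at ht'
    have h1 := hgc _ ht'
    have e1 : t * (e * g * e⁻¹) = e * (t' * g) * e⁻¹ := by rw [ht'def]; group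
    have e2 : (e * g * e⁻¹) * t = e * (g * t') * e⁻¹ := by rw [ht'def]; group
    calc ρ₁ t * ρ₁ (e * g * e⁻¹) = ρ₁ (t * (e * g * e⁻¹)) := (map_mul _ _ _).symm
      _ = ρ₁ (e * (t' * g) * e⁻¹) := by rw [e1]
      _ = ρ₁ e * (ρ₁ t' * ρ₁ g) * ρ₁ e⁻¹ := by rw [map_mul, map_mul, map_mul]
      _ = ρ₁ e * (ρ₁ g * ρ₁ t') * ρ₁ e⁻¹ := by rw [h1]
      _ = ρ₁ (e * (g * t') * e⁻¹) := by rw [map_mul, map_mul, map_mul]
      _ = ρ₁ ((e * g * e⁻¹) * t) := by rw [e2]
      _ = ρ₁ (e * g * e⁻¹) * ρ₁ t := map_mul _ _ _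
  -- central elements of Q lie in S
  have hcentS : ∀ g ∈ Q, (∀ t ∈ Q, t * g = g * t) → g ∈ S := by
    intro g hg hgc
    refine ⟨hg, fun t ht => ?_⟩
    rw [← map_mul, ← map_mul, hgc t ht]
  have hbS : b ∉ S := by
    intro hbS
    have h1 := hbS.2 a ha
    have e1 : a * b = d * (b * a) := by rw [hd]; group
    have h2 : ρ₁ a * ρ₁ b = c • (ρ₁ b * ρ₁ a) := by
      rw [← map_mul, e1, map_mul, hρd, map_mul, smul_mul_assoc, one_mul]
    rw [h1] at h2
    have h3 : ρ₁ b * ρ₁ a * ρ₁ (b * a)⁻¹ = 1 := by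
      rw [← map_mul, ← map_mul, mul_inv_cancel, map_one]
    have h4 : c • (1 : Module.End (Cfsg.Agent.Lib.Helper23.XSf.KK p) ↥V₁) = 1 := by
      have := congrArg (· * ρ₁ (b * a)⁻¹) h2
      rw [smul_mul_assoc, h3] at this
      exact this.symm
    exact hc1 (hscal1 c h4)
  have hSne : S ≠ Q := fun h => hbS (by rw [h]; exact hb)
  have hSinv : ∀ s ∈ S, x * s * x⁻¹ ∈ S := fun s hs => hSn.conj_mem s hs x
  have hxS := C.min S hSQ hSinv hSne
  have hx1 : x ≠ 1 := by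
    rintro rfl
    obtain ⟨g, _, hgx⟩ := C.nc
    exact hgx (by simp)
  have hxQ : x ∉ Q := by
    intro hxQ
    obtain ⟨k', hk'⟩ := C.pgroup ⟨x, hxQ⟩
    have h1 : x ^ q ^ k' = 1 := by
      have := congrArg Subtype.val hk'
      simpa using this
    exact hx1 (eq_one_of_pow_coprime x r (q ^ k') (Nat.Coprime.pow_right k' hcop) C.pow h1)
  have hirr := Cfsg.Agent.Lib.Helper23.XSf.subRep_irred _ V₁ hinv hmin
  have hpQ : ¬ p ∣ Nat.card Q := by
    obtain ⟨m, hm⟩ := IsPGroup.iff_card.1 C.pgroup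
    rw [hm]
    intro h
    exact hpq ((Nat.prime_dvd_prime_iff_eq hp.out hq.out).1 (hp.out.dvd_of_dvd_pow h))
  have hcore : Nat.card Q = (r - 1) ^ 2 * Nat.card S := by
    apply Cfsg.Agent.Lib.Helper23.XSe.core (K := Cfsg.Agent.Lib.Helper23.XSf.KK p) (V := ↥V₁) ρ₁ Q S
      hSQ x r hr C.pow (fun h => hxQ (hSQ h)) hgen
    · -- scalars
      intro s hs
      refine Cfsg.Agent.Lib.Helper23.XSc.schur (K := Cfsg.Agent.Lib.Helper23.XSf.KK p) (V := ↥V₁)
        (Set.range (fun g : L => ρ₁ g)) ?_ (ρ₁ s) ?_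
      · intro W' hW'
        exact hirr W' (fun g w hw => hW' (ρ₁ g) ⟨g, rfl⟩ w hw)
      · rintro _ ⟨e, rfl⟩
        change ρ₁ e * ρ₁ s = ρ₁ s * ρ₁ e
        let Cs : Subgroup L :=
          { carrier := {e | ρ₁ e * ρ₁ s = ρ₁ s * ρ₁ e}
            one_mem' := by
              change ρ₁ 1 * ρ₁ s = ρ₁ s * ρ₁ 1
              rw [map_one, mul_one, one_mul]
            mul_mem' := by
              intro e e' he he'
              change ρ₁ (e * e') * ρ₁ s = ρ₁ s * ρ₁ (e * e')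
              change ρ₁ e * ρ₁ s = ρ₁ s * ρ₁ e at he
              change ρ₁ e' * ρ₁ s = ρ₁ s * ρ₁ e' at he'
              rw [map_mul, mul_assoc, he', ← mul_assoc, he, mul_assoc]
            inv_mem' := by
              intro e he
              change ρ₁ e⁻¹ * ρ₁ s = ρ₁ s * ρ₁ e⁻¹
              change ρ₁ e * ρ₁ s = ρ₁ s * ρ₁ e at he
              calc ρ₁ e⁻¹ * ρ₁ s = ρ₁ e⁻¹ * (ρ₁ s * ρ₁ e) * ρ₁ e⁻¹ := by
                    rw [mul_assoc, mul_assoc, hmulinv, mul_one]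
                _ = ρ₁ e⁻¹ * (ρ₁ e * ρ₁ s) * ρ₁ e⁻¹ := by rw [he]
                _ = ρ₁ s * ρ₁ e⁻¹ := by
                    rw [← mul_assoc, hinvmul, one_mul] }
        have hle : Q ⊔ Subgroup.zpowers x ≤ Cs := by
          apply sup_le
          · intro t ht
            exact hs.2 t ht
          · apply Subgroup.zpowers_le.2
            change ρ₁ x * ρ₁ s = ρ₁ s * ρ₁ x
            rw [← map_mul, ← map_mul, hxS s hs]
        have : e ∈ Cs := hle (by rw [hgen]; exact Subgroup.mem_top e)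
        exact this
    · -- commutators
      intro g hg t ht
      have hz : g * t * g⁻¹ * t⁻¹ ∈ ⁅Q, Q⁆ := by
        have := Subgroup.commutator_mem_commutator hg ht
        rwa [commutatorElement_def] at this
      exact hcentS _ (Q.mul_mem (Q.mul_mem (Q.mul_mem hg ht) (Q.inv_mem hg)) (Q.inv_mem ht))
        (hDc _ hz).2
    · -- freeness on the quotient
      intro y hy hyS g hg hc
      have hy1 : y ≠ 1 := fun h => hyS (by rw [h]; exact S.one_mem)
      have hxy := C.gen_of_ne_one hr y hy hy1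
      have hyr : y ^ r = 1 := by
        obtain ⟨n, rfl⟩ := Subgroup.mem_zpowers_iff.1 hy
        rw [← zpow_natCast, ← zpow_mul, mul_comm, zpow_mul, zpow_natCast, C.pow, one_zpow]
      have hyc : y * (y * g * y⁻¹ * g⁻¹) = (y * g * y⁻¹ * g⁻¹) * y :=
        comm_zpowers x _ (hxS _ hc) y hy
      obtain ⟨k', hk'⟩ := C.pgroup ⟨_, hSQ hc⟩
      have hk'' : (y * g * y⁻¹ * g⁻¹) ^ q ^ k' = 1 := by
        have := congrArg Subtype.val hk'
        simpa using this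
      have hyg := comm_of_comm_commutator q r hcop y g hyr k' hk'' hyc
      have hxg : x * g = g * x := comm_zpowers y g hyg x hxy
      exact hcentS g hg (hCc g hg hxg)
    · -- nondegeneracy
      intro g hg hgS
      by_contra hcon
      push Not at hcon
      exact hgS ⟨hg, hcon⟩
    · exact ⟨b, hb, hbS⟩
    · exact Cfsg.Agent.Lib.Helper23.XSf.natCast_ne_zero p _ hpQ
    · apply Cfsg.Agent.Lib.Helper23.XSf.natCast_ne_zero p r
      intro h
      exact hpr ((Nat.prime_dvd_prime_iff_eq hp.out hr).1 h)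
    · exact hirr
    · intro v hv
      have h1 := hfree v v.2 (by
        have := congrArg Subtype.val hv
        rwa [hρ₁, subRep_apply] at this)
      exact Subtype.ext h1
  -- arithmetic
  obtain ⟨m, hm⟩ := IsPGroup.iff_card.1 C.pgroup
  have h1 : (r - 1) ∣ q ^ m := by
    rw [← hm, hcore]
    exact Dvd.dvd.mul_right (dvd_pow_self _ two_ne_zero) _
  obtain ⟨n, _, hn⟩ := (Nat.dvd_prime_pow hq.out).1 h1
  have hr1 : r = q ^ n + 1 := by have := hr.one_lt; omega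
  have hn0 : n ≠ 0 := by
    rintro rfl
    apply hSne
    apply Subgroup.eq_of_le_of_card_ge hSQ
    rw [hcore, hn]
    simp
  have hq2 : q = 2 := by
    rcases hq.out.eq_two_or_odd with h | h
    · exact h
    · exfalso
      have h5 : (q ^ n) % 2 = 1 := by rw [Nat.pow_mod, h]; simp
      have h7 : r = 2 := by
        rcases hr.eq_two_or_odd with h' | h'
        · exact h'
        · omega
      have h9 : 1 < q ^ n := Nat.one_lt_pow hn0 hq.out.one_lt
      omega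
  refine ⟨hq2, n, ?_⟩
  rw [hr1, hq2]

theorem minconf_false (p q r : ℕ) [hp : Fact p.Prime] [hq : Fact q.Prime] (hr : r.Prime)
    (hpr : p ≠ r) (hpq : p ≠ q) (hqr : q ≠ r)
    (hexp : ∀ w : W, w ^ p = 1) (θ : L →* MulAut W)
    (hinj : ∀ a : L, (∀ w, θ a w = w) → a = 1)
    (Q : Subgroup L) [hQn : Q.Normal] (x : L) (C : MinConf q r Q x)
    (hgen : Q ⊔ Subgroup.zpowers x = ⊤)
    (hx : ∀ w : W, θ x w = w → w = 1)
    (hexc : q = 2 → (∃ n : ℕ, r = 2 ^ n + 1) → ∀ g ∈ Q, ∀ t ∈ Q, g * t = t * g) : False := by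
  by_cases hab : ∀ g ∈ Q, ∀ t ∈ Q, g * t = t * g
  · exact abelian_case p q r hr hpr hpq hqr hexp θ hinj Q x C hgen hx hab
  · push Not at hab
    obtain ⟨a, ha, b, hb, hne⟩ := hab
    letI : Module (ZMod p) (Additive W) := AddCommGroup.zmodModule (by
      intro y
      exact congrArg Additive.ofMul (hexp y.toMul))
    obtain ⟨hq2, hn⟩ := nonabelian_case p q r hr hpr hpq hqr θ hinj Q x C hgen hx a b ha hb hne
    exact hne (hexc hq2 hn a ha b hb)

/-- **Core theorem**: a prime-order operator `x` acting freely on a faithful elementary abelian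
`p`-module centralizes every `x`-invariant `q`-subgroup, unless `q = 2`, `r` is a Fermat prime and the
`q`-subgroup is nonabelian. -/
theorem prime_action_core {L₀ : Type*} [Group L₀] [Finite L₀] (p q r : ℕ) [hp : Fact p.Prime]
    [hq : Fact q.Prime] (hr : r.Prime) (hpr : p ≠ r) (hpq : p ≠ q) (hqr : q ≠ r)
    (hexp : ∀ w : W, w ^ p = 1) (θ : L₀ →* MulAut W)
    (hinj : ∀ a : L₀, (∀ w, θ a w = w) → a = 1)
    (Q₀ : Subgroup L₀) (hQ₀ : IsPGroup q Q₀) (x : L₀) (hxr : x ^ r = 1)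
    (hxQ : ∀ g ∈ Q₀, x * g * x⁻¹ ∈ Q₀)
    (hx : ∀ w : W, θ x w = w → w = 1)
    (hexc : q = 2 → (∃ n : ℕ, r = 2 ^ n + 1) → ∀ g ∈ Q₀, ∀ t ∈ Q₀, g * t = t * g) :
    ∀ g ∈ Q₀, x * g = g * x := by
  classical
  by_contra hcon
  push Not at hcon
  have hex : ∃ n, ∃ K : Subgroup L₀, K ≤ Q₀ ∧ (∀ k ∈ K, x * k * x⁻¹ ∈ K) ∧
      (∃ g ∈ K, x * g ≠ g * x) ∧ Nat.card K = n := ⟨_, Q₀, le_rfl, hxQ, hcon, rfl⟩
  obtain ⟨Q₁, hQ₁le, hQ₁inv, hQ₁nc, hQ₁n⟩ := Nat.find_spec hex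
  have hmin₀ : ∀ K : Subgroup L₀, K ≤ Q₁ → (∀ k ∈ K, x * k * x⁻¹ ∈ K) → K ≠ Q₁ →
      ∀ k ∈ K, x * k = k * x := by
    intro K hK hKinv hKne
    by_contra hc
    push Not at hc
    have h1 := Nat.find_min' hex ⟨K, hK.trans hQ₁le, hKinv, hc, rfl⟩
    rw [← hQ₁n] at h1
    exact hKne (Subgroup.eq_of_le_of_card_ge hK h1)
  have hpowinv : ∀ n : ℕ, ∀ u ∈ Q₁, x ^ n * u * (x ^ n)⁻¹ ∈ Q₁ := by
    intro n
    induction n with
    | zero => intro u hu; simpa using hu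
    | succ n ih =>
      intro u hu
      have := hQ₁inv _ (ih u hu)
      have e : x ^ (n + 1) * u * (x ^ (n + 1))⁻¹ = x * (x ^ n * u * (x ^ n)⁻¹) * x⁻¹ := by
        rw [pow_succ']; group
      rw [e]; exact this
  have hfo : IsOfFinOrder x := isOfFinOrder_of_finite x
  have hconj : ∀ e ∈ Subgroup.zpowers x, ∀ u ∈ Q₁, e * u * e⁻¹ ∈ Q₁ := by
    intro e he u hu
    obtain ⟨n, rfl⟩ := (hfo.mem_powers_iff_mem_zpowers).2 he
    exact hpowinv n u hu
  set L₁ : Subgroup L₀ := Q₁ ⊔ Subgroup.zpowers x with hL₁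
  have hQL : Q₁ ≤ L₁ := le_sup_left
  have hxL : x ∈ L₁ := (le_sup_right : Subgroup.zpowers x ≤ L₁) (Subgroup.mem_zpowers x)
  haveI hQn : (Q₁.subgroupOf L₁).Normal :=
    Cfsg.Agent.Lib.Helper23.FrobF.normal_subgroupOf_sup Q₁ (Subgroup.zpowers x) hconj
  have hC : MinConf q r (Q₁.subgroupOf L₁) (⟨x, hxL⟩ : L₁) := by
    refine ⟨?_, ?_, ?_, ?_, ?_⟩
    · exact (hQ₀.to_le hQ₁le).comap_subtype
    · exact Subtype.ext (by rw [Subgroup.coe_pow]; exact hxr)
    · intro g hg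
      rw [Subgroup.mem_subgroupOf] at hg ⊢
      exact hQ₁inv _ hg
    · obtain ⟨g, hg, hgx⟩ := hQ₁nc
      refine ⟨⟨g, hQL hg⟩, Subgroup.mem_subgroupOf.2 hg, ?_⟩
      intro h
      exact hgx (congrArg Subtype.val h)
    · intro K hK hKinv hKne k hk
      have h1 := hmin₀ (K.map L₁.subtype) ?_ ?_ ?_ (k : L₀) ⟨k, hk, rfl⟩
      · exact Subtype.ext h1
      · rintro _ ⟨k', hk', rfl⟩
        exact Subgroup.mem_subgroupOf.1 (hK hk')
      · rintro _ ⟨k', hk', rfl⟩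
        exact ⟨_, hKinv k' hk', rfl⟩
      · intro h
        apply hKne
        apply le_antisymm hK
        intro g hg
        have h2 : (g : L₀) ∈ K.map L₁.subtype := by rw [h]; exact Subgroup.mem_subgroupOf.1 hg
        obtain ⟨k', hk', hk'g⟩ := h2
        have : k' = g := Subtype.ext hk'g
        rwa [← this]
  have hgen : Q₁.subgroupOf L₁ ⊔ Subgroup.zpowers (⟨x, hxL⟩ : L₁) = ⊤ := by
    rw [zpowers_subgroupOf, ← Subgroup.subgroupOf_sup hQL le_sup_right, Subgroup.subgroupOf_self]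
  exact minconf_false p q r hr hpr hpq hqr hexp (θ.comp L₁.subtype) (by
      intro a ha
      have := hinj (a : L₀) ha
      exact Subtype.ext this) (Q₁.subgroupOf L₁) ⟨x, hxL⟩ hC hgen hx (by
      intro hq2 hn g hg t ht
      exact Subtype.ext (hexc hq2 hn g (hQ₁le (Subgroup.mem_subgroupOf.1 hg)) t
        (hQ₁le (Subgroup.mem_subgroupOf.1 ht))))

end Rep

end Cfsg.Agent.Lib.Helper23.XSh
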