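import Mathlib
import Cfsg.Agent.Lib.Helper23.XSh

/-!
# Coprime prime-order operators acting freely on a module: the odd-order consequence (helper23)
-/

set_option autoImplicit false
set_option linter.style.haveILetI false

namespace Cfsg.Agent.Lib.Helper23.XSi

open Cfsg.Agent.Lib.Helper23.XSg Cfsg.Agent.Lib.Helper23.XSh

open Pointwise

universe u

section Sylow

variable {Γ : Type*} [Group Γ] [Finite Γ]

theorem pow_of_mem_zpowers (x : Γ) (r : ℕ) (hxr : x ^ r = 1) (y : Γ) (hy : y ∈ Subgroup.zpowers x) :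
    y ^ r = 1 := by
  obtain ⟨n, rfl⟩ := Subgroup.mem_zpowers_iff.1 hy
  rw [← zpow_natCast, ← zpow_mul, mul_comm, zpow_mul, zpow_natCast, hxr, one_zpow]

/-- an invariant Sylow subgroup -/
theorem exists_inv_sylow (K' : Subgroup Γ) [K'.Normal] (x : Γ)
    (r q : ℕ) (hr : r.Prime) [hq : Fact q.Prime] (hqr : q ≠ r) (hxr : x ^ r = 1)
    (hgen : K' ⊔ Subgroup.zpowers x = ⊤) (hcop : Nat.Coprime r (Nat.card K')) :
    ∃ P : Sylow q Γ, (P : Subgroup Γ) ≤ K' ∧
      x ∈ Subgroup.normalizer ((P : Subgroup Γ) : Set Γ) := by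
  classical
  haveI : Fact r.Prime := ⟨hr⟩
  have hqK : ∀ P : Sylow q Γ, (P : Subgroup Γ) ≤ K' := by
    intro P g hg
    obtain ⟨k, hk⟩ := P.isPGroup' ⟨g, hg⟩
    have h1 : g ^ q ^ k = 1 := by simpa using congrArg Subtype.val hk
    have h2 : (QuotientGroup.mk' K' g) ^ q ^ k = 1 := by rw [← map_pow, h1, map_one]
    have h3 : (QuotientGroup.mk' K' g) ^ r = 1 := by
      have hg' : g ∈ ((K' ⊔ Subgroup.zpowers x : Subgroup Γ) : Set Γ) := by rw [hgen]; trivial
      rw [Subgroup.normal_mul] at hg'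
      obtain ⟨u, hu, e, he, rfl⟩ := Set.mem_mul.1 hg'
      have hu1 : (QuotientGroup.mk' K') u = 1 := (QuotientGroup.eq_one_iff u).2 hu
      rw [map_mul, hu1, one_mul, ← map_pow, pow_of_mem_zpowers x r hxr e he, map_one]
    have h4 := eq_one_of_pow_coprime _ r (q ^ k)
      (Nat.Coprime.pow_right k ((Nat.coprime_primes hr hq.out).2 (Ne.symm hqr))) h3 h2
    exact (QuotientGroup.eq_one_iff g).1 h4
  obtain ⟨P⟩ : Nonempty (Sylow q Γ) := inferInstance
  have hfr := Sylow.normalizer_sup_eq_top' P (hqK P)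
  have h1 : Nat.card Γ ∣ Nat.card K' * Nat.card (Subgroup.normalizer ((P : Subgroup Γ) : Set Γ)) :=
    card_dvd_of_sup_eq_top K' _ (by rw [sup_comm]; exact hfr)
  have h2 := Subgroup.index_mul_card (Subgroup.normalizer ((P : Subgroup Γ) : Set Γ))
  have h3 : (Subgroup.normalizer ((P : Subgroup Γ) : Set Γ)).index ∣ Nat.card K' := by
    rw [← h2] at h1
    exact Nat.dvd_of_mul_dvd_mul_right Nat.card_pos h1
  have h4 : ¬ r ∣ Nat.card (Sylow q Γ) := by
    rw [Sylow.card_eq_index_normalizer P]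
    intro h
    exact hr.one_lt.ne' (hcop.eq_one_of_dvd (h.trans h3))
  have hRp : IsPGroup r (Subgroup.zpowers x) := by
    rintro ⟨g, hg⟩
    refine ⟨1, ?_⟩
    apply Subtype.ext
    rw [pow_one, Subgroup.coe_pow]
    exact pow_of_mem_zpowers x r hxr g hg
  obtain ⟨P', hP'⟩ := hRp.nonempty_fixed_point_of_prime_not_dvd_card (Sylow q Γ) h4
  refine ⟨P', hqK P', ?_⟩
  have h5 : (⟨x, Subgroup.mem_zpowers x⟩ : Subgroup.zpowers x) • P' = P' := hP' _
  exact Sylow.smul_eq_iff_mem_normalizer.1 h5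

end Sylow

section Main

variable {Γ : Type*} [Group Γ] [Finite Γ] {W : Type u} [CommGroup W] [Finite W]

theorem coprime_action_centralizes (p r : ℕ) [hp : Fact p.Prime] (hr : r.Prime) (hpr : p ≠ r)
    (hexp : ∀ w : W, w ^ p = 1) (θ : Γ →* MulAut W)
    (K' : Subgroup Γ) [K'.Normal] (x : Γ) (hxr : x ^ r = 1)
    (hgen : K' ⊔ Subgroup.zpowers x = ⊤) (hcop : Nat.Coprime r (Nat.card K'))
    (hpK : ¬ p ∣ Nat.card K') (hodd : Odd (Nat.card K'))
    (hx : ∀ w : W, θ x w = w → w = 1) :
    ∀ k ∈ K', θ x * θ k = θ k * θ x := by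
  classical
  set H : Subgroup Γ := K' ⊓ (Subgroup.centralizer ({θ x} : Set (MulAut W))).comap θ with hH
  have hHmem : ∀ g, g ∈ H ↔ g ∈ K' ∧ θ x * θ g = θ g * θ x := by
    intro g
    rw [hH, Subgroup.mem_inf, Subgroup.mem_comap, Subgroup.mem_centralizer_iff]
    constructor
    · rintro ⟨h1, h2⟩
      exact ⟨h1, h2 _ rfl⟩
    · rintro ⟨h1, h2⟩
      refine ⟨h1, ?_⟩
      intro y hy
      rw [Set.mem_singleton_iff.1 hy]
      exact h2
  have hdvd : Nat.card K' ∣ Nat.card H := by
    rw [← Nat.factorization_prime_le_iff_dvd Nat.card_pos.ne' Nat.card_pos.ne']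
    intro q hq
    by_cases hqK : q ∣ Nat.card K'
    · haveI : Fact q.Prime := ⟨hq⟩
      have hqr : q ≠ r := by
        rintro rfl
        exact hq.one_lt.ne' (hcop.eq_one_of_dvd hqK)
      have hpq : p ≠ q := by
        rintro rfl
        exact hpK hqK
      have hq2 : q ≠ 2 := by
        rintro rfl
        obtain ⟨m, hm⟩ := hodd
        omega
      obtain ⟨P, hPK, hxP⟩ := exists_inv_sylow K' x r q hr hqr hxr hgen hcop
      have hcore := prime_action_core (W := W) (L₀ := MulAut W) p q r hr hpr hpq hqr hexp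
        (MonoidHom.id _)
        (by
          intro a ha
          ext w
          exact ha w)
        ((P : Subgroup Γ).map θ) (P.isPGroup'.map θ) (θ x)
        (by rw [← map_pow, hxr, map_one])
        (by
          rintro _ ⟨g, hg, rfl⟩
          refine ⟨x * g * x⁻¹, ?_, by rw [map_mul, map_mul, map_inv]⟩
          exact (Subgroup.mem_normalizer_iff.1 hxP g).1 hg)
        (by
          intro w hw
          exact hx w hw)
        (fun h => absurd h hq2)
      have hPH : (P : Subgroup Γ) ≤ H := by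
        intro g hg
        rw [hHmem]
        exact ⟨hPK hg, hcore (θ g) ⟨g, hg, rfl⟩⟩
      have h1 : q ^ (Nat.card Γ).factorization q ∣ Nat.card H := by
        rw [← Sylow.card_eq_multiplicity P]
        exact Subgroup.card_dvd_of_le hPH
      have h2 := (Nat.Prime.pow_dvd_iff_le_factorization hq Nat.card_pos.ne').1 h1
      have h3 : (Nat.card K').factorization q ≤ (Nat.card Γ).factorization q :=
        (Nat.factorization_le_iff_dvd Nat.card_pos.ne' Nat.card_pos.ne').2
          (Subgroup.card_subgroup_dvd_card K') q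
      exact h3.trans h2
    · rw [Nat.factorization_eq_zero_of_not_dvd hqK]
      exact Nat.zero_le _
  have hHK : H = K' :=
    Subgroup.eq_of_le_of_card_ge inf_le_left (Nat.le_of_dvd Nat.card_pos hdvd)
  intro k hk
  have : k ∈ H := by rw [hHK]; exact hk
  exact ((hHmem k).1 this).2

end Main

end Cfsg.Agent.Lib.Helper23.XSi
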