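import Mathlib
import Cfsg.Agent.Lib.Helper23.XSi

/-!
# Prime-order operators acting freely on a `p`-group (helper23)
-/

set_option autoImplicit false
set_option linter.style.haveILetI false

namespace Cfsg.Agent.Lib.Helper23.XSj

open Cfsg.Agent.Lib.Helper23.XSg Cfsg.Agent.Lib.Helper23.XSh Cfsg.Agent.Lib.Helper23.FrobD
  Cfsg.Agent.Lib.Helper23.FrobE

universe u

section Omega

variable {M : Type u} [Group M]

/-- elements of order dividing `ℓ` in the center -/
def omegaCenter (ℓ : ℕ) (M : Type u) [Group M] : Subgroup M where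
  carrier := {z | z ∈ Subgroup.center M ∧ z ^ ℓ = 1}
  one_mem' := ⟨Subgroup.one_mem _, one_pow _⟩
  mul_mem' := by
    rintro a b ⟨ha, ha'⟩ ⟨hb, hb'⟩
    refine ⟨Subgroup.mul_mem _ ha hb, ?_⟩
    have hc : Commute a b := (Subgroup.mem_center_iff.1 ha b).symm
    rw [hc.mul_pow, ha', hb', one_mul]
  inv_mem' := by
    rintro a ⟨ha, ha'⟩
    exact ⟨Subgroup.inv_mem _ ha, by rw [inv_pow, ha', inv_one]⟩

theorem mem_omegaCenter {ℓ : ℕ} {z : M} : z ∈ omegaCenter ℓ M ↔ z ∈ Subgroup.center M ∧ z ^ ℓ = 1 :=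
  Iff.rfl

instance omegaCenter_normal (ℓ : ℕ) : (omegaCenter ℓ M).Normal := by
  constructor
  intro z hz g
  have h1 : g * z * g⁻¹ = z := by
    have := Subgroup.mem_center_iff.1 hz.1 g
    rw [this, mul_inv_cancel_right]
  rw [h1]; exact hz

theorem omegaCenter_inv {A : Type*} [Group A] (ℓ : ℕ) (θ : A →* MulAut M) :
    InvG θ (omegaCenter ℓ M) := by
  intro a z hz
  refine ⟨?_, ?_⟩
  · rw [Subgroup.mem_center_iff]
    intro m
    have h1 := Subgroup.mem_center_iff.1 hz.1 (θ a⁻¹ m)
    have h2 := congrArg (θ a) h1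
    rw [map_mul, map_mul, theta_apply_inv] at h2
    exact h2
  · rw [← map_pow, hz.2, map_one]

theorem omegaCenter_ne_bot [Finite M] [Nontrivial M] (ℓ : ℕ) [hℓ : Fact ℓ.Prime] (hM : IsPGroup ℓ M) :
    omegaCenter ℓ M ≠ ⊥ := by
  haveI : Nontrivial (Subgroup.center M) := hM.center_nontrivial
  have h1 : ℓ ∣ Nat.card (Subgroup.center M) := by
    obtain ⟨n, hn⟩ := IsPGroup.iff_card.1 (hM.to_subgroup (Subgroup.center M))
    rw [hn]
    have hn0 : n ≠ 0 := by
      rintro rfl
      rw [pow_zero] at hn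
      have := Finite.one_lt_card (α := Subgroup.center M)
      omega
    exact dvd_pow_self ℓ hn0
  obtain ⟨z, hz⟩ := exists_prime_orderOf_dvd_card' ℓ h1
  intro h
  have h2 : (z : M) ∈ omegaCenter ℓ M := by
    refine ⟨z.2, ?_⟩
    have := pow_orderOf_eq_one z
    rw [hz] at this
    have := congrArg Subtype.val this
    simpa using this
  rw [h, Subgroup.mem_bot] at h2
  have h3 : z = 1 := Subtype.ext h2
  rw [h3, orderOf_one] at hz
  exact hℓ.out.one_lt.ne hz

end Omega

section Core

variable {A : Type*} [Group A] [Finite A]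

/-- **Theorem B**: the core theorem for an arbitrary `ℓ`-group (odd `q`). -/
theorem pgroup_action_core (ℓ q r : ℕ) [hℓ : Fact ℓ.Prime] [hq : Fact q.Prime] (hr : r.Prime)
    (hℓr : ℓ ≠ r) (hℓq : ℓ ≠ q) (hqr : q ≠ r) (hq2 : q ≠ 2)
    (Q : Subgroup A) (hQ : IsPGroup q Q) (x : A) (hxr : x ^ r = 1)
    (hxQ : ∀ g ∈ Q, x * g * x⁻¹ ∈ Q) :
    ∀ (n : ℕ) (M : Type u) [Group M] [Finite M] (θ : A →* MulAut M), Nat.card M = n →
      IsPGroup ℓ M → (∀ m : M, θ x m = m → m = 1) →
      ∀ g ∈ Q, ∀ m : M, θ (x * g * x⁻¹ * g⁻¹) m = m := by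
  intro n
  induction n using Nat.strong_induction_on with
  | _ n ih =>
  intro M _ _ θ hn hM hx g hg m
  classical
  by_cases hnt : Nontrivial M
  swap
  · rw [not_nontrivial_iff_subsingleton] at hnt
    exact Subsingleton.elim _ _
  set Z := omegaCenter ℓ M with hZdef
  have hZinv : InvG θ Z := omegaCenter_inv ℓ θ
  have hZne : Z ≠ ⊥ := omegaCenter_ne_bot ℓ hM
  set c := x * g * x⁻¹ * g⁻¹ with hc
  have hcQ : c ∈ Q := Q.mul_mem (hxQ g hg) (Q.inv_mem hg)
  -- the action on Z
  have hcZ : ∀ z ∈ Z, θ c z = z := by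
    letI : CommGroup Z :=
      { (inferInstance : Group Z) with
        mul_comm := fun a b => Subtype.ext ((Subgroup.mem_center_iff.1 b.2.1 (a : M))) }
    have hexp : ∀ w : Z, w ^ ℓ = 1 := fun w => Subtype.ext (by
      rw [Subgroup.coe_pow]; exact w.2.2)
    have hcore := prime_action_core (W := Z) (L₀ := MulAut Z) ℓ q r hr hℓr hℓq hqr hexp
      (MonoidHom.id _)
      (by
        intro a ha
        ext w
        exact congrArg Subtype.val (ha w))
      (Q.map (rAct θ Z hZinv)) (hQ.map _) (rAct θ Z hZinv x)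
      (by rw [← map_pow, hxr, map_one])
      (by
        rintro _ ⟨g', hg', rfl⟩
        refine ⟨x * g' * x⁻¹, hxQ g' hg', by rw [map_mul, map_mul, map_inv]⟩)
      (by
        intro w hw
        have h1 : θ x (w : M) = w := congrArg Subtype.val hw
        exact Subtype.ext (hx _ h1))
      (fun h => absurd h hq2)
    intro z hz
    have h1 := hcore (rAct θ Z hZinv g) ⟨g, hg, rfl⟩
    have h2 : rAct θ Z hZinv c = 1 := by
      rw [hc, map_mul, map_mul, map_mul, map_inv, map_inv, h1, mul_inv_cancel_right, mul_inv_cancel]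
    have h3 := congrArg (fun f : MulAut Z => ((f ⟨z, hz⟩ : Z) : M)) h2
    exact h3
  -- the action on the quotient
  have hcq : ∀ m' : M, (m')⁻¹ * θ c m' ∈ Z := by
    intro m'
    have hcopB : (Nat.card (Subgroup.zpowers x)).Coprime (Nat.card M) := by
      obtain ⟨k, hk⟩ := IsPGroup.iff_card.1 hM
      rw [hk]
      apply Nat.Coprime.pow_right
      have h2 : Nat.card (Subgroup.zpowers x) ∣ r := by
        rw [Nat.card_zpowers]
        exact orderOf_dvd_of_pow_eq_one hxr
      exact Nat.Coprime.coprime_dvd_left h2 ((Nat.coprime_primes hr hℓ.out).2 (Ne.symm hℓr))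
    haveI : Group.IsNilpotent M := hM.isNilpotent
    have hfq := fixG_qAct θ Z hZinv (Subgroup.zpowers x) hcopB inferInstance
    have hfix0 : fixG θ (Subgroup.zpowers x) = ⊥ := by
      rw [eq_bot_iff]
      intro w hw
      rw [Subgroup.mem_bot]
      exact hx w (hw x (Subgroup.mem_zpowers x))
    rw [hfix0, Subgroup.map_bot] at hfq
    have hlt : Nat.card (M ⧸ Z) < n := by
      rw [← hn, Subgroup.card_eq_card_quotient_mul_card_subgroup Z]
      have h1 : 1 < Nat.card Z := by
        rw [Finite.one_lt_card_iff_nontrivial]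
        exact (Subgroup.nontrivial_iff_ne_bot Z).2 hZne
      have h2 : 0 < Nat.card (M ⧸ Z) := Nat.card_pos
      nlinarith
    have h1 := ih _ hlt (M ⧸ Z) (qAct θ Z hZinv) rfl (hM.to_quotient Z)
      (by
        intro w hw
        have : w ∈ fixG (qAct θ Z hZinv) (Subgroup.zpowers x) := by
          intro b hb
          obtain ⟨k, rfl⟩ := Subgroup.mem_zpowers_iff.1 hb
          rw [map_zpow]
          have h2 : ∀ j : ℕ, ((qAct θ Z hZinv x) ^ j) w = w := by
            intro j
            induction j with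
            | zero => simp
            | succ j ihj => rw [pow_succ, MulAut.mul_apply, hw, ihj]
          have h3 : ∀ j : ℕ, ((qAct θ Z hZinv x)⁻¹ ^ j) w = w := by
            intro j
            induction j with
            | zero => simp
            | succ j ihj =>
              rw [pow_succ, MulAut.mul_apply]
              have : (qAct θ Z hZinv x)⁻¹ w = w := by
                rw [MulAut.inv_apply, MulEquiv.symm_apply_eq, hw]
              rw [this, ihj]
          cases k with
          | ofNat j => simpa using h2 j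
          | negSucc j =>
            rw [zpow_negSucc, ← inv_pow]
            exact h3 (j + 1)
        rw [hfq, Subgroup.mem_bot] at this
        exact this)
      g hg (QuotientGroup.mk m')
    rw [qAct_mk] at h1
    exact QuotientGroup.eq.1 h1.symm
  -- combine
  obtain ⟨k, hk⟩ := hQ ⟨c, hcQ⟩
  have hck : c ^ q ^ k = 1 := by simpa using congrArg Subtype.val hk
  set z := m⁻¹ * θ c m with hz
  have hzZ : z ∈ Z := hcq m
  have hcm : θ c m = m * z := by rw [hz]; group
  have hpow : ∀ j : ℕ, θ (c ^ j) m = m * z ^ j := by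
    intro j
    induction j with
    | zero => simp
    | succ j ihj =>
      rw [pow_succ', map_mul, MulAut.mul_apply, ihj, map_mul, map_pow, hcZ z hzZ, hcm, mul_assoc,
        ← pow_succ']
  have h1 := hpow (q ^ k)
  rw [hck, map_one, MulAut.one_apply] at h1
  have h2 : z ^ q ^ k = 1 := by
    have : m * 1 = m * z ^ q ^ k := by rw [mul_one]; exact h1
    exact (mul_left_cancel this).symm
  have h3 : z ^ ℓ = 1 := hzZ.2
  have h4 : z = 1 := eq_one_of_pow_coprime z ℓ (q ^ k)
    (Nat.Coprime.pow_right k ((Nat.coprime_primes hℓ.out hq.out).2 hℓq)) h3 h2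
  rw [hcm, h4, mul_one]

end Core

end Cfsg.Agent.Lib.Helper23.XSj
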