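import Mathlib
import Cfsg.Agent.Lib.Helper23.XSj
import Cfsg.Agent.Lib.Helper13.BenderB
import Cfsg.Agent.Lib.Helper13.FitBasics
import Cfsg.Agent.Lib.Helper13.Coprime

/-!
# Prime action on a solvable group of odd order: `[K, x] ≤ F(K)` (helper23)
-/

set_option autoImplicit false
set_option linter.style.haveILetI false

namespace Cfsg.Agent.Lib.Helper23.XSk

open Cfsg.Agent.Lib.Helper23.XSg Cfsg.Agent.Lib.Helper23.XSh Cfsg.Agent.Lib.Helper23.XSi
  Cfsg.Agent.Lib.Helper23.XSj Cfsg.Agent.Lib.Helper13.BenderB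

open scoped commutatorElement

universe u

section Basics

variable {Γ : Type u} [Group Γ]

theorem normal_fittingOf (K : Subgroup Γ) [K.Normal] : (Cfsg.fittingOf K).Normal := by
  haveI := Cfsg.Agent.Lib.Helper20.fittingSubgroup_characteristic (G := ↥K)
  unfold Cfsg.fittingOf
  infer_instance

theorem normal_pCoreOf (q : ℕ) (K : Subgroup Γ) [K.Normal] : (Cfsg.pCoreOf q K).Normal := by
  haveI := Cfsg.Agent.Lib.Helper20.pCore_characteristic (G := ↥K) q
  unfold Cfsg.pCoreOf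
  infer_instance

theorem normal_ppOf (q : ℕ) (K : Subgroup Γ) [K.Normal] : (ppOf q K).Normal := by
  haveI := Cfsg.Agent.Lib.Helper20.pPrimeCore_characteristic (G := ↥K) q
  unfold ppOf
  infer_instance

theorem le_fittingOf (K C : Subgroup Γ) (hCK : C ≤ K)
    (hn : K ≤ Subgroup.normalizer (C : Set Γ)) (hnil : Group.IsNilpotent C) :
    C ≤ Cfsg.fittingOf K := by
  have hnorm : (C.subgroupOf K).Normal :=
    (Subgroup.normal_subgroupOf_iff_le_normalizer hCK).mpr hn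
  haveI : Group.IsNilpotent (C.subgroupOf K) :=
    Group.nilpotent_of_mulEquiv (Subgroup.subgroupOfEquivOfLe hCK).symm
  have h1 : C.subgroupOf K ≤ Cfsg.fittingSubgroup ↥K :=
    Cfsg.Agent.Lib.Helper20.le_fittingSubgroup' hnorm inferInstance
  have h2 := Subgroup.map_mono (f := K.subtype) h1
  rw [Subgroup.subgroupOf_map_subtype, inf_eq_left.mpr hCK] at h2
  exact h2

/-- if `x` fixes `d` and `t⁻¹ d t` then `[x, t]` commutes with `d` -/
theorem comm_commutator_of_fixed (x t d : Γ) (hxd : x * d = d * x)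
    (hxd' : x * (t⁻¹ * d * t) = (t⁻¹ * d * t) * x) :
    d * (x * t * x⁻¹ * t⁻¹) = (x * t * x⁻¹ * t⁻¹) * d := by
  have h1 : x⁻¹ * (t⁻¹ * d * t) * x = t⁻¹ * d * t := by
    calc x⁻¹ * (t⁻¹ * d * t) * x = x⁻¹ * ((t⁻¹ * d * t) * x) := by group
      _ = x⁻¹ * (x * (t⁻¹ * d * t)) := by rw [hxd']
      _ = t⁻¹ * d * t := by group
  have h2 : (x * t * x⁻¹ * t⁻¹) * d * (x * t * x⁻¹ * t⁻¹)⁻¹ = d := by
    calc (x * t * x⁻¹ * t⁻¹) * d * (x * t * x⁻¹ * t⁻¹)⁻¹
        = x * t * (x⁻¹ * (t⁻¹ * d * t) * x) * t⁻¹ * x⁻¹ := by group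
      _ = x * t * (t⁻¹ * d * t) * t⁻¹ * x⁻¹ := by rw [h1]
      _ = x * d * x⁻¹ := by group
      _ = d := by rw [hxd]; group
  calc d * (x * t * x⁻¹ * t⁻¹)
      = ((x * t * x⁻¹ * t⁻¹) * d * (x * t * x⁻¹ * t⁻¹)⁻¹) * (x * t * x⁻¹ * t⁻¹) := by rw [h2]
    _ = (x * t * x⁻¹ * t⁻¹) * d := by group

/-- general coprime version of `comm_of_comm_commutator` -/
theorem comm_of_comm_commutator' (n r : ℕ) (hnr : Nat.Coprime r n) (x g : Γ) (hxr : x ^ r = 1)
    (hc : (x * g * x⁻¹ * g⁻¹) ^ n = 1)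
    (h : x * (x * g * x⁻¹ * g⁻¹) = (x * g * x⁻¹ * g⁻¹) * x) : x * g = g * x := by
  set c := x * g * x⁻¹ * g⁻¹ with hcdef
  have h1 : x * g * x⁻¹ = c * g := by rw [hcdef]; group
  have h3 := conj_pow x g c h h1 r
  rw [hxr] at h3
  have h5 : c ^ r = 1 := by
    have : g = c ^ r * g := by simpa using h3
    calc c ^ r = c ^ r * g * g⁻¹ := by group
      _ = g * g⁻¹ := by rw [← this]
      _ = 1 := by group
  have h7 : c = 1 := eq_one_of_pow_coprime c r n hnr h5 hc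
  rw [h7, one_mul] at h1
  calc x * g = x * g * x⁻¹ * x := by group
    _ = g * x := by rw [h1]

end Basics

section Steps

variable {Γ : Type u} [Group Γ] [Finite Γ]

/-- if `x` does not centralize the solvable normal subgroup `K` (coprime action) then it does not
centralize some `O_q(K)` -/
theorem exists_pCore_not_centralized (K : Subgroup Γ) [hKn : K.Normal] [Group.IsSolvable K]
    (x : Γ) (r : ℕ) (hxr : x ^ r = 1) (hcop : Nat.Coprime r (Nat.card K))
    (k : Γ) (hk : k ∈ K) (hne : x * k ≠ k * x) :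
    ∃ q : ℕ, q.Prime ∧ ∃ f ∈ Cfsg.pCoreOf q K, x * f ≠ f * x := by
  by_contra hcon
  push Not at hcon
  haveI hFn : (Cfsg.fittingOf K).Normal := normal_fittingOf K
  have hF : ∀ f ∈ Cfsg.fittingOf K, x * f = f * x := by
    have h1 : Cfsg.fittingOf K ≤ Subgroup.centralizer ({x} : Set Γ) := by
      rw [fittingOf_eq_iSup]
      apply iSup_le
      intro q f hf
      rw [Subgroup.mem_centralizer_iff]
      intro h hh
      rw [Set.mem_singleton_iff.1 hh]
      exact hcon q q.2 f hf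
    intro f hf
    exact Subgroup.mem_centralizer_iff.1 (h1 hf) x rfl
  apply hne
  have hcK : x * k * x⁻¹ * k⁻¹ ∈ K := K.mul_mem (hKn.conj_mem k hk x) (K.inv_mem hk)
  have hcC : x * k * x⁻¹ * k⁻¹ ∈ Subgroup.centralizer ((Cfsg.fittingOf K : Subgroup Γ) : Set Γ) := by
    rw [Subgroup.mem_centralizer_iff]
    intro f hf
    apply comm_commutator_of_fixed x k f (hF f hf)
    apply hF
    have := hFn.conj_mem f hf k⁻¹
    simpa using this
  have hcF : x * k * x⁻¹ * k⁻¹ ∈ Cfsg.fittingOf K :=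
    inf_centralizer_fittingOf_le K (Subgroup.mem_inf.2 ⟨hcK, hcC⟩)
  have hpow : (x * k * x⁻¹ * k⁻¹) ^ Nat.card K = 1 := by
    have h9 : (⟨x * k * x⁻¹ * k⁻¹, hcK⟩ : K) ^ Nat.card K = 1 := pow_card_eq_one'
    have h10 := congrArg Subtype.val h9
    rwa [Subgroup.coe_pow] at h10
  exact comm_of_comm_commutator' (Nat.card K) r hcop x k hxr hpow (hF _ hcF)

/-- a Sylow `q`-subgroup covers a `q`-quotient -/
theorem le_sup_of_sylow (q : ℕ) [hq : Fact q.Prime] (P : Sylow q Γ) (T' F' : Subgroup Γ)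
    [hFn : F'.Normal] (hPT : (P : Subgroup Γ) ≤ T')
    (hTq : ∀ t ∈ T', ∃ j : ℕ, t ^ q ^ j ∈ F') :
    T' ≤ (P : Subgroup Γ) ⊔ F' := by
  rw [← Subgroup.relIndex_eq_one]
  have h1 : ((P : Subgroup Γ) ⊔ F').relIndex T' ∣ (P : Subgroup Γ).index :=
    (Subgroup.relIndex_dvd_of_le_left T' le_sup_left).trans (Subgroup.relIndex_dvd_index_of_le hPT)
  have h2 : ((P : Subgroup Γ) ⊔ F').relIndex T' ∣ F'.relIndex T' :=
    Subgroup.relIndex_dvd_of_le_left T' le_sup_right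
  have h3 : ∃ a : ℕ, F'.relIndex T' = q ^ a := by
    have hp : IsPGroup q (↥T' ⧸ F'.subgroupOf T') := by
      intro y
      induction y using QuotientGroup.induction_on with
      | H t =>
        obtain ⟨j, hj⟩ := hTq t t.2
        refine ⟨j, ?_⟩
        rw [← QuotientGroup.mk_pow]
        exact (QuotientGroup.eq_one_iff _).2 (Subgroup.mem_subgroupOf.2 (by
          rw [Subgroup.coe_pow]; exact hj))
    obtain ⟨a, ha⟩ := IsPGroup.iff_card.1 hp
    exact ⟨a, ha⟩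
  obtain ⟨a, ha⟩ := h3
  rw [ha] at h2
  obtain ⟨b, _, hb⟩ := (Nat.dvd_prime_pow hq.out).1 h2
  rcases Nat.eq_zero_or_pos b with hb0 | hb0
  · rw [hb, hb0, pow_zero]
  · exfalso
    have h4 : q ∣ ((P : Subgroup Γ) ⊔ F').relIndex T' := by
      rw [hb]; exact dvd_pow_self q hb0.ne'
    exact P.not_dvd_index (h4.trans h1)

end Steps

section Main

variable {Γ : Type u} [Group Γ] [Finite Γ]

/-- **Prime action**: if `x` of prime order `r` acts coprimely on the solvable normal subgroup `K` of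
the odd-order group `Γ` without fixed points on `F(K)`, then `[K, x] ≤ F(K)`. -/
theorem prime_fitting_core (hodd : Odd (Nat.card Γ)) (K : Subgroup Γ) [hKn : K.Normal]
    [hKs : Group.IsSolvable K]
    (x : Γ) (r : ℕ) (hr : r.Prime) (hxr : x ^ r = 1) (hcop : Nat.Coprime r (Nat.card K))
    (hfix : Cfsg.fittingOf K ⊓ Subgroup.centralizer ({x} : Set Γ) = ⊥) :
    ∀ k ∈ K, x * k * x⁻¹ * k⁻¹ ∈ Cfsg.fittingOf K := by
  classical
  set F := Cfsg.fittingOf K with hFdef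
  haveI hFn : F.Normal := normal_fittingOf K
  have hFK : F ≤ K := fittingOf_le K
  by_contra hcon
  push Not at hcon
  obtain ⟨k₀, hk₀, hk₀F⟩ := hcon
  -- the quotient
  set π := QuotientGroup.mk' F with hπ
  set Kb : Subgroup (Γ ⧸ F) := K.map π with hKb
  haveI hKbn : Kb.Normal := hKn.map π (QuotientGroup.mk'_surjective F)
  haveI hKbs : Group.IsSolvable Kb :=
    solvable_of_surjective (MonoidHom.subgroupMap_surjective π K)
  have hcard : Nat.card Kb ∣ Nat.card K := Subgroup.card_map_dvd K π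
  have hcopb : Nat.Coprime r (Nat.card Kb) := Nat.Coprime.coprime_dvd_right hcard hcop
  have hcommF : ∀ a b : Γ, a * b * a⁻¹ * b⁻¹ ∈ F → π a * π b = π b * π a := by
    intro a b hab
    have h1 : π (a * b * a⁻¹ * b⁻¹) = 1 := (QuotientGroup.eq_one_iff _).2 hab
    rw [map_mul, map_mul, map_mul, map_inv, map_inv] at h1
    calc π a * π b = (π a * π b * (π a)⁻¹ * (π b)⁻¹) * π b * π a := by group
      _ = π b * π a := by rw [h1, one_mul]
  have hne : π x * π k₀ ≠ π k₀ * π x := by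
    intro h
    apply hk₀F
    have : π (x * k₀ * x⁻¹ * k₀⁻¹) = 1 := by
      rw [map_mul, map_mul, map_mul, map_inv, map_inv, h, mul_inv_cancel_right, mul_inv_cancel]
    exact (QuotientGroup.eq_one_iff _).1 this
  obtain ⟨q, hq, f, hf, hxf⟩ := exists_pCore_not_centralized Kb (π x) r
    (by rw [← map_pow, hxr, map_one]) hcopb (π k₀) ⟨k₀, hk₀, rfl⟩ hne
  haveI : Fact q.Prime := ⟨hq⟩
  set Qb := Cfsg.pCoreOf q Kb with hQb
  haveI hQbn : Qb.Normal := normal_pCoreOf q Kb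
  set T := Qb.comap π with hT
  haveI hTn : T.Normal := hQbn.comap π
  have hFT : F ≤ T := by
    intro y hy
    rw [hT, Subgroup.mem_comap]
    have : π y = 1 := (QuotientGroup.eq_one_iff y).2 hy
    rw [this]; exact Qb.one_mem
  have hTK : T ≤ K := by
    intro t ht
    have h1 : π t ∈ Kb := pCoreOf_le q Kb ht
    obtain ⟨k, hk, hkt⟩ := h1
    have h2 : k⁻¹ * t ∈ F := QuotientGroup.eq.1 hkt
    have : t = k * (k⁻¹ * t) := by group
    rw [this]; exact K.mul_mem hk (hFK h2)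
  have hTq : ∀ t ∈ T, ∃ j : ℕ, t ^ q ^ j ∈ F := by
    intro t ht
    obtain ⟨j, hj⟩ := (pCoreOf_isPGroup q Kb) ⟨π t, ht⟩
    refine ⟨j, ?_⟩
    have h1 : (π t) ^ q ^ j = 1 := by
      have := congrArg Subtype.val hj
      rwa [Subgroup.coe_pow] at this
    rw [← map_pow] at h1
    exact (QuotientGroup.eq_one_iff _).1 h1
  -- arithmetic of q
  have hqK : q ∣ Nat.card K := by
    have hf1 : f ≠ 1 := by
      rintro rfl
      exact hxf (by simp)
    obtain ⟨j, hj⟩ := (pCoreOf_isPGroup q Kb) ⟨f, hf⟩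
    have h1 : f ^ q ^ j = 1 := by
      have := congrArg Subtype.val hj
      rwa [Subgroup.coe_pow] at this
    have h2 : orderOf f ∣ q ^ j := orderOf_dvd_of_pow_eq_one h1
    obtain ⟨i, _, hi⟩ := (Nat.dvd_prime_pow hq).1 h2
    have hi0 : i ≠ 0 := by
      rintro rfl
      rw [pow_zero, orderOf_eq_one_iff] at hi
      exact hf1 hi
    have h3 : q ∣ orderOf f := by rw [hi]; exact dvd_pow_self q hi0
    have h4 : orderOf f ∣ Nat.card Kb := Subgroup.orderOf_dvd_natCard Kb (pCoreOf_le q Kb hf)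
    exact (h3.trans h4).trans hcard
  have hqr : q ≠ r := by
    rintro rfl
    exact hq.one_lt.ne' (hcop.eq_one_of_dvd hqK)
  have hq2 : q ≠ 2 := by
    rintro rfl
    have h1 : 2 ∣ Nat.card Γ := hqK.trans (Subgroup.card_subgroup_dvd_card K)
    obtain ⟨m, hm⟩ := hodd
    omega
  -- the invariant Sylow subgroup
  set Γ₁ : Subgroup Γ := T ⊔ Subgroup.zpowers x with hΓ₁
  have hTΓ : T ≤ Γ₁ := le_sup_left
  have hxΓ : x ∈ Γ₁ := (le_sup_right : Subgroup.zpowers x ≤ Γ₁) (Subgroup.mem_zpowers x)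
  haveI hT'n : (T.subgroupOf Γ₁).Normal := hTn.subgroupOf Γ₁
  have hgen₁ : T.subgroupOf Γ₁ ⊔ Subgroup.zpowers (⟨x, hxΓ⟩ : Γ₁) = ⊤ := by
    rw [zpowers_subgroupOf, ← Subgroup.subgroupOf_sup hTΓ le_sup_right, Subgroup.subgroupOf_self]
  have hcop₁ : Nat.Coprime r (Nat.card (T.subgroupOf Γ₁)) := by
    rw [Nat.card_congr (Subgroup.subgroupOfEquivOfLe hTΓ).toEquiv]
    exact Nat.Coprime.coprime_dvd_right (Subgroup.card_dvd_of_le hTK) hcop
  obtain ⟨P, hPT, hxP⟩ := exists_inv_sylow (T.subgroupOf Γ₁) ⟨x, hxΓ⟩ r q hr hqr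
    (Subtype.ext (by rw [Subgroup.coe_pow]; exact hxr)) hgen₁ hcop₁
  haveI hF'n : (F.subgroupOf Γ₁).Normal := hFn.subgroupOf Γ₁
  have hcover := le_sup_of_sylow q P (T.subgroupOf Γ₁) (F.subgroupOf Γ₁) hPT (by
    intro t ht
    obtain ⟨j, hj⟩ := hTq (t : Γ) (Subgroup.mem_subgroupOf.1 ht)
    exact ⟨j, Subgroup.mem_subgroupOf.2 (by rw [Subgroup.coe_pow]; exact hj)⟩)
  set Q : Subgroup Γ := (P : Subgroup Γ₁).map Γ₁.subtype with hQ
  have hQq : IsPGroup q Q := P.isPGroup'.map _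
  have hQT : Q ≤ T := by
    rintro _ ⟨g, hg, rfl⟩
    exact Subgroup.mem_subgroupOf.1 (hPT hg)
  have hxQ : ∀ g ∈ Q, x * g * x⁻¹ ∈ Q := by
    rintro _ ⟨g, hg, rfl⟩
    exact ⟨⟨x, hxΓ⟩ * g * (⟨x, hxΓ⟩ : Γ₁)⁻¹, (Subgroup.mem_normalizer_iff.1 hxP g).1 hg, rfl⟩
  have hTQF : ∀ t ∈ T, ∃ g ∈ Q, ∃ f' ∈ F, t = g * f' := by
    intro t ht
    have h1 : (⟨t, hTΓ ht⟩ : Γ₁) ∈ (P : Subgroup Γ₁) ⊔ F.subgroupOf Γ₁ :=
      hcover (Subgroup.mem_subgroupOf.2 ht)
    obtain ⟨g, hg, f', hf', hgf⟩ := Subgroup.mem_sup_of_normal_right.1 h1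
    exact ⟨g, ⟨g, hg, rfl⟩, f', Subgroup.mem_subgroupOf.1 hf', (congrArg Subtype.val hgf).symm⟩
  -- Theorem B on each O_ℓ(K)
  have hB : ∀ ℓ : ℕ, ℓ.Prime → ℓ ≠ q → ∀ g ∈ Q, ∀ m ∈ Cfsg.pCoreOf ℓ K,
      (x * g * x⁻¹ * g⁻¹) * m = m * (x * g * x⁻¹ * g⁻¹) := by
    intro ℓ hℓ hℓq g hg m hm
    haveI : Fact ℓ.Prime := ⟨hℓ⟩
    by_cases hℓr : ℓ = r
    · have h0 : Cfsg.pCoreOf ℓ K = ⊥ := by
        apply pCoreOf_eq_bot_of_not_dvd K
        rw [hℓr]
        intro h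
        exact hr.one_lt.ne' (hcop.eq_one_of_dvd (h.trans (Subgroup.card_dvd_of_le hFK)))
      rw [h0, Subgroup.mem_bot] at hm
      rw [hm, mul_one, one_mul]
    · haveI hMn : (Cfsg.pCoreOf ℓ K).Normal := normal_pCoreOf ℓ K
      have h1 := pgroup_action_core (A := Γ) ℓ q r hr hℓr hℓq hqr hq2 Q hQq x hxr hxQ _
        ↥(Cfsg.pCoreOf ℓ K) (MulAut.conjNormal) rfl (pCoreOf_isPGroup ℓ K) (by
        intro m' hm'
        have h2 : x * (m' : Γ) * x⁻¹ = m' := by
          have := congrArg Subtype.val hm'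
          rwa [MulAut.conjNormal_apply] at this
        have h3 : (m' : Γ) ∈ F ⊓ Subgroup.centralizer ({x} : Set Γ) := by
          refine Subgroup.mem_inf.2 ⟨pCoreOf_le_fittingOf hℓ K m'.2, ?_⟩
          rw [Subgroup.mem_centralizer_iff]
          intro h hh
          rw [Set.mem_singleton_iff.1 hh]
          calc x * (m' : Γ) = x * (m' : Γ) * x⁻¹ * x := by group
            _ = (m' : Γ) * x := by rw [h2]
        rw [hfix, Subgroup.mem_bot] at h3
        exact Subtype.ext h3) g hg ⟨m, hm⟩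
      have h4 := congrArg Subtype.val h1
      rw [MulAut.conjNormal_apply] at h4
      calc (x * g * x⁻¹ * g⁻¹) * m
          = (x * g * x⁻¹ * g⁻¹) * m * (x * g * x⁻¹ * g⁻¹)⁻¹ * (x * g * x⁻¹ * g⁻¹) := by group
        _ = m * (x * g * x⁻¹ * g⁻¹) := by rw [h4]
  -- the commutators lie in C = C_T(O_{q'}(K)), which is nilpotent
  set Y := ppOf q K with hY
  haveI hYn : Y.Normal := normal_ppOf q K
  set C := T ⊓ Subgroup.centralizer (Y : Set Γ) with hC
  have hCK : C ≤ K := inf_le_left.trans hTK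
  have hcC : ∀ g ∈ Q, x * g * x⁻¹ * g⁻¹ ∈ C := by
    intro g hg
    have hgT : g ∈ T := hQT hg
    have hcT : x * g * x⁻¹ * g⁻¹ ∈ T := T.mul_mem (hTn.conj_mem g hgT x) (T.inv_mem hgT)
    have hcQ : x * g * x⁻¹ * g⁻¹ ∈ Q := Q.mul_mem (hxQ g hg) (Q.inv_mem hg)
    refine Subgroup.mem_inf.2 ⟨hcT, ?_⟩
    have h1 := lemmaB K q (Subgroup.zpowers (x * g * x⁻¹ * g⁻¹))
      (Subgroup.zpowers_le.2 (hTK hcT)) (hQq.to_le (Subgroup.zpowers_le.2 hcQ))
      (by
        intro ℓ hℓ hℓq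
        apply Subgroup.zpowers_le.2
        rw [Subgroup.mem_centralizer_iff]
        intro m hm
        exact (hB ℓ hℓ hℓq g hg m hm).symm)
    exact h1 (Subgroup.mem_zpowers _)
  have hCnorm : K ≤ Subgroup.normalizer (C : Set Γ) := by
    apply Cfsg.Agent.Lib.Helper23.FrobE.le_normalizer_of_conj_mem
    intro k hk c' hc'
    obtain ⟨hc'T, hc'Y⟩ := Subgroup.mem_inf.1 hc'
    refine Subgroup.mem_inf.2 ⟨hTn.conj_mem c' hc'T k, ?_⟩
    rw [Subgroup.mem_centralizer_iff]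
    intro y hy
    have hy' : k⁻¹ * y * k ∈ Y := by
      have := hYn.conj_mem y hy k⁻¹
      simpa using this
    have h1 : (k⁻¹ * y * k) * c' = c' * (k⁻¹ * y * k) := Subgroup.mem_centralizer_iff.1 hc'Y _ hy'
    calc y * (k * c' * k⁻¹) = k * ((k⁻¹ * y * k) * c') * k⁻¹ := by group
      _ = k * (c' * (k⁻¹ * y * k)) * k⁻¹ := by rw [h1]
      _ = k * c' * k⁻¹ * y := by group
  have hFle : F ≤ Cfsg.pCoreOf q K ⊔ Y := by
    rw [hFdef, fittingOf_eq_iSup]
    apply iSup_le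
    intro ℓ
    by_cases hℓq : (ℓ : ℕ) = q
    · rw [hℓq]; exact le_sup_left
    · exact (pCoreOf_le_ppOf ℓ.2 hq hℓq K).trans le_sup_right
  have hCnil : Group.IsNilpotent C := by
    let φ : ↥C →* (Γ ⧸ Y) := (QuotientGroup.mk' Y).comp C.subtype
    have hker : φ.rangeRestrict.ker ≤ Subgroup.center ↥C := by
      rw [MonoidHom.ker_rangeRestrict]
      intro c' hc'
      rw [MonoidHom.mem_ker] at hc'
      have h1 : (c' : Γ) ∈ Y := (QuotientGroup.eq_one_iff _).1 hc'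
      rw [Subgroup.mem_center_iff]
      intro c''
      have h2 := Subgroup.mem_centralizer_iff.1 (Subgroup.mem_inf.1 c''.2).2 _ h1
      exact Subtype.ext h2.symm
    have hp : IsPGroup q φ.range := by
      rintro ⟨_, c', rfl⟩
      obtain ⟨j, hj⟩ := hTq (c' : Γ) (Subgroup.mem_inf.1 c'.2).1
      have h1 := hFle hj
      obtain ⟨u, hu, y, hy, huy⟩ := Subgroup.mem_sup_of_normal_right.1 h1
      obtain ⟨i, hi⟩ := (pCoreOf_isPGroup q K) ⟨u, hu⟩
      have hui : u ^ q ^ i = 1 := by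
        have := congrArg Subtype.val hi
        rwa [Subgroup.coe_pow] at this
      refine ⟨j + i, ?_⟩
      apply Subtype.ext
      rw [Subgroup.coe_pow, Subgroup.coe_one]
      change (QuotientGroup.mk' Y (c' : Γ)) ^ q ^ (j + i) = 1
      have hy1 : (QuotientGroup.mk' Y) y = 1 := (QuotientGroup.eq_one_iff y).2 hy
      rw [pow_add, pow_mul, ← map_pow, ← huy, map_mul, hy1, mul_one, ← map_pow, hui, map_one]
    haveI : Group.IsNilpotent φ.range := hp.isNilpotent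
    exact Subgroup.isNilpotent_of_ker_le_center φ.rangeRestrict hker
  have hCF : C ≤ F := le_fittingOf K C hCK hCnorm hCnil
  -- conclusion
  have hTF : ∀ t ∈ T, x * t * x⁻¹ * t⁻¹ ∈ F := by
    intro t ht
    obtain ⟨g, hg, f', hf', rfl⟩ := hTQF t ht
    have h1 : x * g * x⁻¹ * g⁻¹ ∈ F := hCF (hcC g hg)
    have h2 : x * f' * x⁻¹ * f'⁻¹ ∈ F := F.mul_mem (hFn.conj_mem f' hf' x) (F.inv_mem hf')
    have h3 : g * (x * f' * x⁻¹ * f'⁻¹) * g⁻¹ ∈ F := hFn.conj_mem _ h2 g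
    have : x * (g * f') * x⁻¹ * (g * f')⁻¹ =
        (x * g * x⁻¹ * g⁻¹) * (g * (x * f' * x⁻¹ * f'⁻¹) * g⁻¹) := by group
    rw [this]
    exact F.mul_mem h1 h3
  obtain ⟨t, rfl⟩ := QuotientGroup.mk'_surjective F f
  exact hxf (hcommF x t (hTF t hf))

end Main

end Cfsg.Agent.Lib.Helper23.XSk
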