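import Mathlib
import Cfsg.Agent.Lib.Helper13.RankTwoAct
import Cfsg.Agent.Lib.Helper13.RankTwoDerived
import Cfsg.Agent.Lib.Helper23.FrobE

/-!
# Odd-order solvable groups acting on `p`-groups with a small `Ω₁`-centralizer (helper23)

`narrow_act_trivial`: if `X` (finite, solvable, odd order) acts on a `p`-group `R` (`p` odd) having an
element `e` with at most `p²` elements of order dividing `p` in `C_R(e)`, then every `p'`-element of
`X'` acts trivially on `R`.  (Chain argument on `Ω₁` of a critical subgroup.)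
-/

set_option autoImplicit false
set_option maxHeartbeats 1000000
set_option linter.style.haveILetI false

namespace Cfsg.Agent.Lib.Helper23.XSl

open scoped commutatorElement
open Cfsg.Agent.Lib.Helper14 Cfsg.Agent.Lib.Helper23.FrobE

section Basic

variable {G : Type*} [Group G]

theorem cm_sup (A B : Subgroup G) (z : G) (hA : ∀ a ∈ A, z * a = a * z)
    (hB : ∀ b ∈ B, z * b = b * z) : ∀ c ∈ A ⊔ B, z * c = c * z := by
  have h1 : A ⊔ B ≤ Subgroup.centralizer ({z} : Set G) := by
    apply sup_le
    · intro a ha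
      rw [Subgroup.mem_centralizer_iff]
      rintro _ rfl
      exact hA a ha
    · intro b hb
      rw [Subgroup.mem_centralizer_iff]
      rintro _ rfl
      exact hB b hb
  intro c hc
  exact Subgroup.mem_centralizer_iff.1 (h1 hc) z rfl

theorem cm_zpowers (y g : G) (h : y * g = g * y) :
    ∀ y' ∈ Subgroup.zpowers y, y' * g = g * y' := by
  have h1 : Subgroup.zpowers y ≤ Subgroup.centralizer ({g} : Set G) := by
    apply Subgroup.zpowers_le.2
    rw [Subgroup.mem_centralizer_iff]
    rintro _ rfl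
    exact h.symm
  intro y' hy'
  exact (Subgroup.mem_centralizer_iff.1 (h1 hy') g rfl).symm

/-- counting: if `e` centralizes `M` modulo `N`, then `|M| ≤ |N| · |C_M(e)|`. -/
theorem card_le_mul_card_fixed [Finite G] (M N : Subgroup G) (e : G)
    (he : ∀ y ∈ M, y * e * y⁻¹ * e⁻¹ ∈ N) :
    Nat.card M ≤ Nat.card N * Nat.card {u : G // u ∈ M ∧ u * e = e * u} := by
  classical
  let g : M → N := fun y => ⟨(y : G) * e * (y : G)⁻¹ * e⁻¹, he y y.2⟩
  let rep : N → M := fun v => if h : ∃ y, g y = v then Classical.choose h else 1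
  have hrep : ∀ y : M, g (rep (g y)) = g y := by
    intro y
    have h : ∃ y', g y' = g y := ⟨y, rfl⟩
    show g (if h : ∃ y', g y' = g y then Classical.choose h else 1) = g y
    rw [dif_pos h]
    exact Classical.choose_spec h
  have hfix : ∀ y y' : M, g y' = g y →
      ((y' : G)⁻¹ * (y : G)) * e = e * ((y' : G)⁻¹ * (y : G)) := by
    intro y y' h
    have h1 : (y' : G) * e * (y' : G)⁻¹ * e⁻¹ = (y : G) * e * (y : G)⁻¹ * e⁻¹ :=
      congrArg Subtype.val h
    have h2 : (y' : G) * e * (y' : G)⁻¹ = (y : G) * e * (y : G)⁻¹ := mul_right_cancel h1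
    calc (y' : G)⁻¹ * (y : G) * e = (y' : G)⁻¹ * ((y : G) * e * (y : G)⁻¹) * (y : G) := by group
      _ = (y' : G)⁻¹ * ((y' : G) * e * (y' : G)⁻¹) * (y : G) := by rw [h2]
      _ = e * ((y' : G)⁻¹ * (y : G)) := by group
  let F : M → N × {u : G // u ∈ M ∧ u * e = e * u} := fun y =>
    (g y, ⟨((rep (g y) : M) : G)⁻¹ * (y : G),
      M.mul_mem (M.inv_mem (rep (g y)).2) y.2, hfix y (rep (g y)) (hrep y)⟩)
  have hF : Function.Injective F := by
    intro y y' h
    have h1 : g y = g y' := congrArg Prod.fst h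
    have h2 : ((rep (g y) : M) : G)⁻¹ * (y : G) = ((rep (g y') : M) : G)⁻¹ * (y' : G) :=
      congrArg (fun t : N × {u : G // u ∈ M ∧ u * e = e * u} => ((t.2 : G))) h
    rw [h1] at h2
    exact Subtype.ext (mul_left_cancel h2)
  calc Nat.card M ≤ Nat.card (N × {u : G // u ∈ M ∧ u * e = e * u}) :=
        Nat.card_le_card_of_injective F hF
    _ = _ := Nat.card_prod _ _

end Basic

variable {p : ℕ} [hp : Fact p.Prime]

/-- Main theorem: an odd-order solvable group acting on a `p`-group with an element `e` whose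
centralizer has at most `p²` elements of order dividing `p`. -/
theorem narrow_act_trivial {R X : Type*} [Group R] [Finite R] [Group X] [Finite X] (hp2 : p ≠ 2)
    (hR : IsPGroup p R) (e : R)
    (he : Nat.card {u : R // u * e = e * u ∧ u ^ p = 1} ≤ p ^ 2)
    (hodd : Odd (Nat.card X)) (hsolv : Group.IsSolvable X) (φ : X →* MulAut R) (x : X)
    (hx : x ∈ commutator X) (hxo : (orderOf x).Coprime p) : φ x = 1 := by
  classical
  have hpp : p.Prime := hp.out
  obtain ⟨C, hCchar, h1, h2, h3⟩ := Cfsg.Agent.S0093.result hR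
  haveI := hCchar
  have hCp : IsPGroup p C := hR.to_subgroup C
  have hclC : ∀ a b : C, ⁅a, b⁆ ∈ Subgroup.center C := by
    intro a b
    rw [Subgroup.mem_center_iff]
    intro g
    apply Subtype.ext
    have hmem : ⁅(a : R), (b : R)⁆ ∈ Subgroup.centralizer (C : Set R) :=
      (h2 (Subgroup.commutator_mem_commutator a.2 (Subgroup.mem_top _))).2
    exact Subgroup.mem_centralizer_iff.mp hmem g g.2
  have hpowC : ∀ a : C, a ^ p ∈ Subgroup.center C := by
    intro a
    have hmemΦ : a ^ p ∈ frattini C := pow_mem_frattini_of_isPGroup' hCp a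
    have hc : ((a ^ p : C) : R) ∈ Subgroup.centralizer (C : Set R) := h1 ⟨a ^ p, hmemΦ, rfl⟩
    rw [Subgroup.mem_center_iff]
    intro g
    apply Subtype.ext
    exact Subgroup.mem_centralizer_iff.mp hc g g.2
  have hpab : ∀ a b : C, (a * b) ^ p = a ^ p * b ^ p := mul_pow_prime_of_classTwo hp2 hclC hpowC
  -- D = Ω₁(C) as a subgroup of R
  let D : Subgroup R :=
    { carrier := {y | y ∈ C ∧ y ^ p = 1}
      one_mem' := ⟨C.one_mem, one_pow p⟩
      mul_mem' := by
        rintro a b ⟨haC, hap⟩ ⟨hbC, hbp⟩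
        refine ⟨C.mul_mem haC hbC, ?_⟩
        have h' : ((⟨a, haC⟩ * ⟨b, hbC⟩ : C) ^ p : C) = (⟨a, haC⟩ : C) ^ p * (⟨b, hbC⟩ : C) ^ p :=
          hpab ⟨a, haC⟩ ⟨b, hbC⟩
        have h'' := congrArg Subtype.val h'
        simp only [Subgroup.coe_pow, Subgroup.coe_mul] at h''
        rw [h'', hap, hbp, one_mul]
      inv_mem' := by
        rintro a ⟨haC, hap⟩
        exact ⟨C.inv_mem haC, by rw [inv_pow, hap, inv_one]⟩ }
  have hDmem : ∀ y : R, y ∈ D ↔ y ∈ C ∧ y ^ p = 1 := fun y => Iff.rfl
  have hCinv : ∀ (α : MulAut R) (y : R), y ∈ C → α y ∈ C := by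
    intro α y hy
    have hfx := hCchar.fixed α
    have h' : y ∈ C.comap α.toMonoidHom := by rw [hfx]; exact hy
    exact h'
  have hDinv : ∀ (α : MulAut R) (y : R), y ∈ D → α y ∈ D := by
    intro α y hy
    rw [hDmem] at hy ⊢
    exact ⟨hCinv α y hy.1, by rw [← map_pow, hy.2, map_one]⟩
  have hZinv : ∀ (i : ℕ) (α : MulAut R) (y : R), y ∈ Subgroup.upperCentralSeries R i →
      α y ∈ Subgroup.upperCentralSeries R i := by
    intro i α y hy
    have hfx := (inferInstance : (Subgroup.upperCentralSeries R i).Characteristic).fixed α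
    have h' : y ∈ (Subgroup.upperCentralSeries R i).comap α.toMonoidHom := by rw [hfx]; exact hy
    exact h'
  obtain ⟨Mi, hMidef⟩ : ∃ Mi : ℕ → Subgroup R, Mi = fun i => D ⊓ Subgroup.upperCentralSeries R i :=
    ⟨_, rfl⟩
  have hMimem : ∀ i (y : R), y ∈ Mi i ↔ y ∈ D ∧ y ∈ Subgroup.upperCentralSeries R i := by
    intro i y
    rw [hMidef]
    exact Subgroup.mem_inf
  have hMinv : ∀ i, InvG φ (Mi i) := by
    intro i g y hy
    rw [hMimem] at hy ⊢
    exact ⟨hDinv (φ g) y hy.1, hZinv i (φ g) y hy.2⟩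
  have hMconj : ∀ i (r : R) (y : R), y ∈ Mi i → r * y * r⁻¹ ∈ Mi i := by
    intro i r y hy
    rw [hMimem] at hy ⊢
    have h5 := hDinv (MulAut.conj r) y hy.1
    have h6 := hZinv i (MulAut.conj r) y hy.2
    rw [MulAut.conj_apply] at h5 h6
    exact ⟨h5, h6⟩
  have hstep : ∀ i (y r : R), y ∈ Mi (i + 1) → y * r * y⁻¹ * r⁻¹ ∈ Mi i := by
    intro i y r hy
    have hyi := (Mi (i + 1)).inv_mem hy
    have h5 := hMconj (i + 1) r y⁻¹ hyi
    rw [hMimem] at hy h5 ⊢
    refine ⟨?_, ?_⟩
    · have h7 : y * r * y⁻¹ * r⁻¹ = y * (r * y⁻¹ * r⁻¹) := by group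
      rw [h7]
      exact D.mul_mem hy.1 h5.1
    · exact (Subgroup.mem_upperCentralSeries_succ_iff.mp hy.2) r
  have hMexp : ∀ i (y : R), y ∈ Mi i → y ^ p = 1 := by
    intro i y hy
    rw [hMimem] at hy
    exact ((hDmem y).1 hy.1).2
  have hmono : ∀ i, Mi i ≤ Mi (i + 1) := by
    intro i y hy
    rw [hMimem] at hy ⊢
    exact ⟨hy.1, Subgroup.upperCentralSeries_mono R (Nat.le_succ i) hy.2⟩
  have hord : (orderOf (φ x)).Coprime p :=
    Nat.Coprime.coprime_dvd_left (orderOf_map_dvd φ x) hxo
  -- main induction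
  have hmain : ∀ i, ∀ y ∈ Mi i, φ x y = y := by
    intro i
    induction i with
    | zero =>
      intro y hy
      rw [hMimem] at hy
      have h0 : y = 1 := by
        have := hy.2
        rw [Subgroup.upperCentralSeries_zero, Subgroup.mem_bot] at this
        exact this
      rw [h0, map_one]
    | succ i ih =>
      obtain ⟨M, hMdef⟩ : ∃ M : Subgroup R, M = Mi (i + 1) := ⟨_, rfl⟩
      obtain ⟨N, hNdef⟩ : ∃ N : Subgroup R, N = Mi i := ⟨_, rfl⟩
      have hNM : N ≤ M := by rw [hMdef, hNdef]; exact hmono i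
      have hMinvM : InvG φ M := by rw [hMdef]; exact hMinv (i + 1)
      have hMp : IsPGroup p M := hR.to_subgroup M
      let ψM : X →* MulAut M := rAct φ M hMinvM
      obtain ⟨N', hN'def⟩ : ∃ N' : Subgroup M, N' = N.subgroupOf M := ⟨_, rfl⟩
      have hN'mem : ∀ m : M, m ∈ N' ↔ (m : R) ∈ N := by
        intro m; rw [hN'def, Subgroup.mem_subgroupOf]
      haveI hN'n : N'.Normal := by
        refine ⟨fun n hn m => ?_⟩
        rw [hN'mem] at hn ⊢
        have := hMconj i (m : R) (n : R) (by rw [← hNdef]; exact hn)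
        rw [← hNdef] at this
        simpa using this
      have hN'inv : InvG ψM N' := by
        intro g n hn
        rw [hN'mem] at hn ⊢
        have := hMinv i g (n : R) (by rw [← hNdef]; exact hn)
        rw [← hNdef] at this
        exact this
      let ψQ : X →* MulAut (M ⧸ N') := qAct ψM N' hN'inv
      have hstepM : ∀ (a : M) (r : R), (a : R) * r * (a : R)⁻¹ * r⁻¹ ∈ N := by
        intro a r
        rw [hNdef]
        exact hstep i (a : R) r (by rw [← hMdef]; exact a.2)
      have hQcomm : ∀ a b : M ⧸ N', a * b = b * a := by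
        intro a b
        induction a using QuotientGroup.induction_on with
        | H a =>
        induction b using QuotientGroup.induction_on with
        | H b =>
        rw [← QuotientGroup.mk_mul, ← QuotientGroup.mk_mul, QuotientGroup.eq, hN'mem]
        have h7 : (((a * b)⁻¹ * (b * a) : M) : R) =
            ((b⁻¹ : M) : R) * ((a : R))⁻¹ * ((b⁻¹ : M) : R)⁻¹ * ((a : R))⁻¹⁻¹ := by
          simp only [Subgroup.coe_mul, Subgroup.coe_inv]
          group
        rw [h7]
        exact hstepM b⁻¹ (a : R)⁻¹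
      have hQexp : ∀ a : M ⧸ N', a ^ p = 1 := by
        intro a
        induction a using QuotientGroup.induction_on with
        | H a =>
          have h7 : a ^ p = 1 := by
            apply Subtype.ext
            rw [Subgroup.coe_pow, Subgroup.coe_one]
            exact hMexp (i + 1) (a : R) (by rw [← hMdef]; exact a.2)
          rw [← QuotientGroup.mk_pow, h7]; rfl
      have hQcard : Nat.card (M ⧸ N') ≤ p ^ 2 := by
        have hmul : Nat.card M = Nat.card (M ⧸ N') * Nat.card N' :=
          Subgroup.card_eq_card_quotient_mul_card_subgroup N'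
        have hN'card : Nat.card N' = Nat.card N := by
          rw [hN'def]
          exact Nat.card_congr (Subgroup.subgroupOfEquivOfLe hNM).toEquiv
        have hcnt := card_le_mul_card_fixed M N e (fun y hy => hstepM ⟨y, hy⟩ e)
        have hS : Nat.card {u : R // u ∈ M ∧ u * e = e * u} ≤ p ^ 2 := by
          refine le_trans ?_ he
          apply Nat.card_le_card_of_injective
            (fun u : {u : R // u ∈ M ∧ u * e = e * u} =>
              (⟨u.1, u.2.2, hMexp (i + 1) u.1 (by rw [← hMdef]; exact u.2.1)⟩ :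
                {u : R // u * e = e * u ∧ u ^ p = 1}))
          intro u v huv
          apply Subtype.ext
          exact congrArg (fun t : {u : R // u * e = e * u ∧ u ^ p = 1} => (t : R)) huv
        have hNpos : 0 < Nat.card N := Nat.card_pos
        rw [hmul, hN'card] at hcnt
        have h8 : Nat.card (M ⧸ N') * Nat.card N ≤ p ^ 2 * Nat.card N := by
          calc Nat.card (M ⧸ N') * Nat.card N
              ≤ Nat.card N * Nat.card {u : R // u ∈ M ∧ u * e = e * u} := hcnt
            _ ≤ Nat.card N * p ^ 2 := Nat.mul_le_mul_left _ hS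
            _ = p ^ 2 * Nat.card N := Nat.mul_comm _ _
        exact Nat.le_of_mul_le_mul_right h8 hNpos
      have hQ1 : ψQ x = 1 :=
        Cfsg.Agent.Lib.Helper13.GL2Abs.act_trivial_of_mem_commutator hp2 hQcomm hQexp hQcard
          hodd hsolv ψQ x hx hxo
      have hM1 : ψM x = 1 := by
        apply Cfsg.Agent.Lib.Helper13.RankTwoAct.eq_one_of_stabilizes N' (ψM x) (orderOf x)
        · rw [← map_pow, pow_orderOf_eq_one, map_one]
        · intro z hz
          rw [hN'mem] at hz
          apply Subtype.ext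
          show φ x (z : R) = (z : R)
          exact ih (z : R) (by rw [← hNdef]; exact hz)
        · intro m
          have := congrArg (fun f : MulAut (M ⧸ N') => f (QuotientGroup.mk m)) hQ1
          simp only [MulAut.one_apply] at this
          have h9 : ψQ x (QuotientGroup.mk m) = QuotientGroup.mk (ψM x m) := rfl
          rw [h9] at this
          exact QuotientGroup.eq.mp this.symm
        · intro z _ hzn
          obtain ⟨k, hk⟩ := hMp z
          have h10 : orderOf z ∣ orderOf x := orderOf_dvd_of_pow_eq_one hzn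
          have h11 : orderOf z ∣ p ^ k := orderOf_dvd_of_pow_eq_one hk
          have h12 : (orderOf x).Coprime (p ^ k) := Nat.Coprime.pow_right k hxo
          exact orderOf_eq_one_iff.mp (Nat.eq_one_of_dvd_coprimes h12 h10 h11)
      intro y hy
      have hyM : y ∈ M := by rw [hMdef]; exact hy
      have := congrArg (fun f : MulAut M => ((f ⟨y, hyM⟩ : M) : R)) hM1
      exact this
  obtain ⟨n, hn⟩ := (hR.isNilpotent).nilpotent'
  let ψ : X →* MulAut C := (MulAut.characteristic C).comp φ
  have hordC : (orderOf (ψ x)).Coprime p :=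
    Nat.Coprime.coprime_dvd_left (orderOf_map_dvd ψ x) hxo
  have hfix : ∀ y : C, y ^ p = 1 → ψ x y = y := by
    intro y hy
    apply Subtype.ext
    show φ x (y : R) = (y : R)
    apply hmain n
    rw [hMimem, hn]
    refine ⟨(hDmem _).2 ⟨y.2, ?_⟩, Subgroup.mem_top _⟩
    have := congrArg Subtype.val hy
    simpa using this
  have hψ1 : ψ x = 1 := Cfsg.Agent.S0120.result hp2 hCp (ψ x) hordC hfix
  apply Cfsg.Agent.S0121.result hR C hCchar h1 h2 h3 (φ x) hord
  intro y hy
  have := congrArg (fun f : MulAut C => ((f ⟨y, hy⟩ : C) : R)) hψ1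
  exact this


section Core

open Cfsg Subgroup Cfsg.Agent.Lib.Helper20

variable {G : Type*} [Group G] [Finite G]

/-- In a solvable group of odd order, the `q'`-elements of `G'` centralize `O_q(G)` whenever some
elementary abelian `E ≤ O_q(G)` has `C_{O_q(G)}(E)` of rank at most `2`. -/
theorem mem_centralizer_pCore_of_narrow (hs : Group.IsSolvable G) (hodd : Odd (Nat.card G))
    (q : ℕ) (hq : q.Prime) (E : Subgroup G) (hE : E ≤ pCore q G)
    (hEc : ∀ a ∈ E, ∀ b ∈ E, a * b = b * a) (hEe : ∀ a ∈ E, a ^ q = 1)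
    (hr : ∀ A : Subgroup G, A ≤ pCore q G → (∀ a ∈ A, ∀ b ∈ E, a * b = b * a) →
        (∀ a ∈ A, ∀ b ∈ A, a * b = b * a) → (∀ a ∈ A, a ^ q = 1) → Nat.card A ≤ q ^ 2)
    (y : G) (hy : y ∈ commutator G) (hyo : (orderOf y).Coprime q) :
    y ∈ centralizer (pCore q G : Set G) := by
  classical
  haveI : Fact q.Prime := ⟨hq⟩
  haveI hRn : (pCore q G).Normal := pCore_normal q G
  by_cases hq2 : q = 2
  · have hbot : pCore q G = ⊥ := by
      rw [← Subgroup.card_eq_one]
      obtain ⟨n, hn⟩ := IsPGroup.iff_card.mp (pCore_isPGroup' (G := G) q)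
      have hodd' : Odd (Nat.card (pCore q G)) :=
        Odd.of_dvd_nat hodd (Subgroup.card_dvd_of_le le_top |>.trans (by rw [Subgroup.card_top]))
      rw [hn, hq2] at hodd' ⊢
      rcases Nat.eq_zero_or_pos n with h0 | hpos
      · rw [h0, pow_zero]
      · exfalso
        have : Even (2 ^ n) := (Nat.even_pow' hpos.ne').mpr even_two
        exact (Nat.not_odd_iff_even.mpr this) hodd'
    rw [hbot, mem_centralizer_iff]
    intro h hh
    rw [SetLike.mem_coe, Subgroup.mem_bot] at hh
    rw [hh, one_mul, mul_one]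
  obtain ⟨R, hRdef⟩ : ∃ R : Subgroup G, R = pCore q G := ⟨_, rfl⟩
  have hRp : IsPGroup q R := hRdef ▸ pCore_isPGroup' (G := G) q
  -- a maximal elementary abelian subgroup of `R` containing `E`
  let 𝒜 : Set (Subgroup G) := {A | E ≤ A ∧ A ≤ R ∧ (∀ a ∈ A, ∀ b ∈ A, a * b = b * a) ∧
    (∀ a ∈ A, a ^ q = 1)}
  have hE𝒜 : E ∈ 𝒜 := ⟨le_rfl, hRdef ▸ hE, hEc, hEe⟩
  obtain ⟨A, hA𝒜, hAmax⟩ := Set.exists_max_image 𝒜 (fun A => Nat.card A) (Set.toFinite 𝒜)
    ⟨E, hE𝒜⟩
  obtain ⟨hEA, hAR, hAc, hAe⟩ := hA𝒜
  have hAcard : Nat.card A ≤ q ^ 2 :=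
    hr A (hRdef ▸ hAR) (fun a ha b hb => hAc a ha b (hEA hb)) hAc hAe
  have hstar : ∀ u ∈ R, u ^ q = 1 → (∀ a ∈ A, u * a = a * u) → u ∈ A := by
    intro u huR huq huA
    obtain ⟨B, hBdef⟩ : ∃ B : Subgroup G, B = A ⊔ zpowers u := ⟨_, rfl⟩
    have hAB : A ≤ B := hBdef ▸ le_sup_left
    have huB : u ∈ B := by
      rw [hBdef]; exact (le_sup_right : zpowers u ≤ A ⊔ zpowers u) (mem_zpowers u)
    have h1 : ∀ a ∈ A, ∀ c ∈ B, a * c = c * a := by
      intro a ha c hc
      rw [hBdef] at hc
      refine cm_sup A (zpowers u) a (fun a' ha' => hAc a ha a' ha') ?_ c hc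
      intro c' hc'
      exact (cm_zpowers u a (huA a ha) c' hc').symm
    have h2 : ∀ c ∈ B, u * c = c * u := by
      intro c hc
      rw [hBdef] at hc
      refine cm_sup A (zpowers u) u huA ?_ c hc
      intro c' hc'
      exact (cm_zpowers u u rfl c' hc').symm
    have h3 : ∀ b ∈ B, ∀ c ∈ B, b * c = c * b := by
      intro b hb c hc
      rw [hBdef] at hc
      refine cm_sup A (zpowers u) b (fun a ha => (h1 a ha b hb).symm) ?_ c hc
      intro c' hc'
      exact (cm_zpowers u b (h2 b hb) c' hc').symm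
    have h4 : ∀ b ∈ B, b ^ q = 1 := by
      let P : Subgroup G :=
        { carrier := {g | g ∈ B ∧ g ^ q = 1}
          one_mem' := ⟨B.one_mem, one_pow q⟩
          mul_mem' := by
            rintro a b ⟨ha, haq⟩ ⟨hb, hbq⟩
            refine ⟨B.mul_mem ha hb, ?_⟩
            have hcm : Commute a b := h3 a ha b hb
            rw [hcm.mul_pow, haq, hbq, one_mul]
          inv_mem' := by
            rintro a ⟨ha, haq⟩
            exact ⟨B.inv_mem ha, by rw [inv_pow, haq, inv_one]⟩ }
      have hBP : B ≤ P := by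
        rw [hBdef]
        apply sup_le
        · intro a ha
          exact ⟨hAB ha, hAe a ha⟩
        · rw [zpowers_le]
          exact ⟨huB, huq⟩
      intro b hb
      exact (hBP hb).2
    have hB𝒜 : B ∈ 𝒜 := by
      refine ⟨hEA.trans hAB, ?_, h3, h4⟩
      rw [hBdef]
      exact sup_le hAR (zpowers_le.2 huR)
    have hcard : Nat.card B ≤ Nat.card A := hAmax B hB𝒜
    have hEq : A = B := Subgroup.eq_of_le_of_card_ge hAB hcard
    rw [hEq]; exact huB
  by_cases hcen : ∀ a ∈ A, ∀ r ∈ R, a * r = r * a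
  · -- `R` has rank at most 2
    have hrk : Cfsg.PRankLE q 2 ↥(pCore q G) := by
      intro B' hB'c hB'e
      have hle : B'.map (pCore q G).subtype ≤ A := by
        rintro _ ⟨b, hb, rfl⟩
        apply hstar
        · rw [hRdef]; exact b.2
        · have := hB'e b hb
          have h' := congrArg Subtype.val this
          simpa using h'
        · intro a ha
          exact (hcen a ha _ (by rw [hRdef]; exact b.2)).symm
      calc Nat.card B' = Nat.card (B'.map (pCore q G).subtype) :=
            (Subgroup.card_map_of_injective (Subgroup.subtype_injective _)).symm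
        _ ≤ Nat.card A := Subgroup.card_le_of_le hle
        _ ≤ q ^ 2 := hAcard
    exact Cfsg.Agent.Lib.Helper13.RankTwoDerived.mem_centralizer_pCore_of_prankLE hs hodd q hq hrk
      y hy hyo
  · push Not at hcen
    obtain ⟨e, heA, r, hrR, her⟩ := hcen
    have heR : e ∈ R := hAR heA
    have he1 : e ≠ 1 := by
      rintro rfl
      exact her (by rw [one_mul, mul_one])
    haveI : Nontrivial ↥R := ⟨⟨⟨e, heR⟩, 1, fun h => he1 (congrArg Subtype.val h)⟩⟩
    haveI := hRp.center_nontrivial
    -- an element of order `q` in the centre of `R`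
    have hdvd : q ∣ Nat.card (center ↥R) := by
      obtain ⟨m, hm⟩ := IsPGroup.iff_card.mp (hRp.to_subgroup (center ↥R))
      have hm0 : m ≠ 0 := by
        rintro rfl
        rw [pow_zero] at hm
        have : 1 < Nat.card (center ↥R) := Finite.one_lt_card_iff_nontrivial.mpr inferInstance
        omega
      rw [hm]
      exact dvd_pow_self q hm0
    obtain ⟨z, hz⟩ := exists_prime_orderOf_dvd_card' q hdvd
    obtain ⟨zG, hzGdef⟩ : ∃ zG : G, zG = ((z : ↥R) : G) := ⟨_, rfl⟩
    have hzR : zG ∈ R := by rw [hzGdef]; exact (z : ↥R).2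
    have hzcen : ∀ r' ∈ R, zG * r' = r' * zG := by
      intro r' hr'
      have h5 := (Subgroup.mem_center_iff.mp z.2) ⟨r', hr'⟩
      have h6 := congrArg Subtype.val h5
      rw [hzGdef]
      simpa using h6.symm
    have hzq : zG ^ q = 1 := by
      have h5 : z ^ q = 1 := by rw [← hz]; exact pow_orderOf_eq_one z
      have h6 := congrArg (fun t : center ↥R => (((t : ↥R)) : G)) h5
      rw [hzGdef]
      simpa using h6
    have hz1 : zG ≠ 1 := by
      intro h
      have h5 : z = 1 := by
        apply Subtype.ext; apply Subtype.ext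
        rw [← hzGdef, h]; rfl
      rw [h5, orderOf_one] at hz
      exact hq.one_lt.ne hz
    have hzA : zG ∈ A := hstar zG hzR hzq (fun a ha => hzcen a (hAR ha))
    -- `A` is generated by `e` and `zG`
    obtain ⟨S, hSdef⟩ : ∃ S : Subgroup G, S = zpowers e ⊔ zpowers zG := ⟨_, rfl⟩
    have hSA : S ≤ A := by
      rw [hSdef]
      exact sup_le (zpowers_le.2 heA) (zpowers_le.2 hzA)
    have hH2S : zpowers zG ≤ S := hSdef ▸ le_sup_right
    have heS : e ∈ S := by
      rw [hSdef]; exact (le_sup_left : zpowers e ≤ _) (mem_zpowers e)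
    have henot : e ∉ zpowers zG := by
      intro h
      have := cm_zpowers zG r (hzcen r hrR) e h
      exact her this
    have hH2card : Nat.card (zpowers zG) = q := by
      rw [Nat.card_zpowers]
      have h5 : orderOf zG ∣ q := orderOf_dvd_of_pow_eq_one hzq
      rcases (Nat.dvd_prime hq).1 h5 with h6 | h6
      · exact absurd (orderOf_eq_one_iff.1 h6) hz1
      · exact h6
    have hSp : IsPGroup q S := hRp.to_le (hSA.trans hAR)
    obtain ⟨j, hj⟩ := IsPGroup.iff_card.mp hSp
    have hlt : Nat.card (zpowers zG) < Nat.card S := by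
      rcases lt_or_eq_of_le (Subgroup.card_le_of_le hH2S) with h5 | h5
      · exact h5
      · exfalso
        have h6 : zpowers zG = S := Subgroup.eq_of_le_of_card_ge hH2S (le_of_eq h5.symm)
        exact henot (h6 ▸ heS)
    have hj2 : 2 ≤ j := by
      rw [hH2card, hj] at hlt
      by_contra hj'
      push Not at hj'
      have : q ^ j ≤ q ^ 1 := Nat.pow_le_pow_right hq.pos (by omega)
      rw [pow_one] at this
      omega
    have hSq : q ^ 2 ≤ Nat.card S := by
      rw [hj]; exact Nat.pow_le_pow_right hq.pos hj2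
    have hSeqA : S = A := Subgroup.eq_of_le_of_card_ge hSA (hAcard.trans hSq)
    -- the bound on the `Ω₁`-centralizer of `e`
    have heR' : e ∈ pCore q G := by rw [← hRdef]; exact heR
    have hRle : ∀ g : G, g ∈ pCore q G → g ∈ R := fun g hg => by rw [hRdef]; exact hg
    obtain ⟨e', he'⟩ : ∃ e' : ↥(pCore q G), (e' : G) = e := ⟨⟨e, heR'⟩, rfl⟩
    have hbound : Nat.card {u : ↥(pCore q G) // u * e' = e' * u ∧ u ^ q = 1} ≤ q ^ 2 := by
      refine le_trans ?_ hAcard
      have hmemA : ∀ u : {u : ↥(pCore q G) // u * e' = e' * u ∧ u ^ q = 1},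
          ((u.1 : ↥(pCore q G)) : G) ∈ A := by
        intro u
        have hue : ((u.1 : ↥(pCore q G)) : G) * e = e * ((u.1 : ↥(pCore q G)) : G) := by
          have := congrArg Subtype.val u.2.1
          rw [← he']
          simpa using this
        have huq : ((u.1 : ↥(pCore q G)) : G) ^ q = 1 := by
          have := congrArg Subtype.val u.2.2
          simpa using this
        have huR : ((u.1 : ↥(pCore q G)) : G) ∈ R := hRle _ (u.1 : ↥(pCore q G)).2
        apply hstar _ huR huq
        intro a ha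
        rw [← hSeqA, hSdef] at ha
        refine cm_sup (zpowers e) (zpowers zG) _ ?_ ?_ a ha
        · intro c hc
          exact (cm_zpowers e _ hue.symm c hc).symm
        · intro c hc
          exact (cm_zpowers zG _ (hzcen _ huR) c hc).symm
      apply Nat.card_le_card_of_injective
        (fun u : {u : ↥(pCore q G) // u * e' = e' * u ∧ u ^ q = 1} =>
          (⟨((u.1 : ↥(pCore q G)) : G), hmemA u⟩ : ↥A))
      intro u v huv
      apply Subtype.ext; apply Subtype.ext
      exact congrArg (fun t : ↥A => (t : G)) huv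
    have h1 := narrow_act_trivial hq2 (pCore_isPGroup' (G := G) q) e' hbound hodd
      hs (MulAut.conjNormal (H := pCore q G)) y hy hyo
    rw [mem_centralizer_iff]
    intro h hh
    have h2 := congrArg (fun f : MulAut ↥(pCore q G) => ((f ⟨h, hh⟩ : ↥(pCore q G)) : G)) h1
    have h3 : y * h * y⁻¹ = h := h2
    calc h * y = (y * h * y⁻¹) * y := by rw [h3]
      _ = y * h := by group

end Core

end Cfsg.Agent.Lib.Helper23.XSl
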