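import Mathlib
import Cfsg.Agent.Lib.Helper23.XSl

/-!
# The chain argument on `Ω₁` of a critical subgroup, general form (helper23)
-/

set_option autoImplicit false
set_option maxHeartbeats 1000000
set_option linter.style.haveILetI false

namespace Cfsg.Agent.Lib.Helper23.XSm

open scoped commutatorElement
open Cfsg.Agent.Lib.Helper14 Cfsg.Agent.Lib.Helper23.FrobE Cfsg.Agent.Lib.Helper23.XSl

universe u v

variable {p : ℕ} [hp : Fact p.Prime]

/-- General chain argument: `C` a critical subgroup of the `p`-group `R`, `e ∈ R` with at most `p ^ k`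
elements of `Ω₁(C)` commuting with `e`; if the `p'`-element `x` acts trivially on every elementary
abelian group of order at most `p ^ k` on which `X` acts, then `x` acts trivially on `R`. -/
theorem chain_core {R : Type u} {X : Type v} [Group R] [Finite R] [Group X] (hp2 : p ≠ 2)
    (hR : IsPGroup p R) (k : ℕ) (e : R)
    (C : Subgroup R) (hCchar : C.Characteristic)
    (h1 : (frattini C).map C.subtype ≤ Subgroup.centralizer (C : Set R))
    (h2 : ⁅C, (⊤ : Subgroup R)⁆ ≤ C ⊓ Subgroup.centralizer (C : Set R))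
    (h3 : Subgroup.centralizer (C : Set R) ≤ C)
    (he : Nat.card {u : R // u ∈ C ∧ u ^ p = 1 ∧ u * e = e * u} ≤ p ^ k)
    (φ : X →* MulAut R) (x : X) (hxo : (orderOf x).Coprime p) (hx0 : 0 < orderOf x)
    (hsec : ∀ (V : Type u) [Group V] [Finite V], (∀ a b : V, a * b = b * a) →
      (∀ a : V, a ^ p = 1) → Nat.card V ≤ p ^ k → ∀ ψ : X →* MulAut V, ψ x = 1) :
    φ x = 1 := by
  classical
  have hpp : p.Prime := hp.out
  haveI := hCchar
  have hCp : IsPGroup p C := hR.to_subgroup C
  have hclC : ∀ a b : C, ⁅a, b⁆ ∈ Subgroup.center C := by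
    intro a b
    rw [Subgroup.mem_center_iff]
    intro g
    apply Subtype.ext
    have hmem : ⁅(a : R), (b : R)⁆ ∈ Subgroup.centralizer (C : Set R) :=
      (h2 (Subgroup.commutator_mem_commutator a.2 (Subgroup.mem_top _))).2
    exact Subgroup.mem_centralizer_iff.mp hmem g g.2
  have hpowC : ∀ a : C, a ^ p ∈ Subgroup.center C := by
    intro a
    have hmemΦ : a ^ p ∈ frattini C := pow_mem_frattini_of_isPGroup' hCp a
    have hc : ((a ^ p : C) : R) ∈ Subgroup.centralizer (C : Set R) := h1 ⟨a ^ p, hmemΦ, rfl⟩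
    rw [Subgroup.mem_center_iff]
    intro g
    apply Subtype.ext
    exact Subgroup.mem_centralizer_iff.mp hc g g.2
  have hpab : ∀ a b : C, (a * b) ^ p = a ^ p * b ^ p := mul_pow_prime_of_classTwo hp2 hclC hpowC
  let D : Subgroup R :=
    { carrier := {y | y ∈ C ∧ y ^ p = 1}
      one_mem' := ⟨C.one_mem, one_pow p⟩
      mul_mem' := by
        rintro a b ⟨haC, hap⟩ ⟨hbC, hbp⟩
        refine ⟨C.mul_mem haC hbC, ?_⟩
        have h' : ((⟨a, haC⟩ * ⟨b, hbC⟩ : C) ^ p : C) = (⟨a, haC⟩ : C) ^ p * (⟨b, hbC⟩ : C) ^ p :=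
          hpab ⟨a, haC⟩ ⟨b, hbC⟩
        have h'' := congrArg Subtype.val h'
        simp only [Subgroup.coe_pow, Subgroup.coe_mul] at h''
        rw [h'', hap, hbp, one_mul]
      inv_mem' := by
        rintro a ⟨haC, hap⟩
        exact ⟨C.inv_mem haC, by rw [inv_pow, hap, inv_one]⟩ }
  have hDmem : ∀ y : R, y ∈ D ↔ y ∈ C ∧ y ^ p = 1 := fun y => Iff.rfl
  have hCinv : ∀ (α : MulAut R) (y : R), y ∈ C → α y ∈ C := by
    intro α y hy
    have hfx := hCchar.fixed α
    have h' : y ∈ C.comap α.toMonoidHom := by rw [hfx]; exact hy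
    exact h'
  have hDinv : ∀ (α : MulAut R) (y : R), y ∈ D → α y ∈ D := by
    intro α y hy
    rw [hDmem] at hy ⊢
    exact ⟨hCinv α y hy.1, by rw [← map_pow, hy.2, map_one]⟩
  have hZinv : ∀ (i : ℕ) (α : MulAut R) (y : R), y ∈ Subgroup.upperCentralSeries R i →
      α y ∈ Subgroup.upperCentralSeries R i := by
    intro i α y hy
    have hfx := (inferInstance : (Subgroup.upperCentralSeries R i).Characteristic).fixed α
    have h' : y ∈ (Subgroup.upperCentralSeries R i).comap α.toMonoidHom := by rw [hfx]; exact hy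
    exact h'
  obtain ⟨Mi, hMidef⟩ : ∃ Mi : ℕ → Subgroup R, Mi = fun i => D ⊓ Subgroup.upperCentralSeries R i :=
    ⟨_, rfl⟩
  have hMimem : ∀ i (y : R), y ∈ Mi i ↔ y ∈ D ∧ y ∈ Subgroup.upperCentralSeries R i := by
    intro i y
    rw [hMidef]
    exact Subgroup.mem_inf
  have hMinv : ∀ i, InvG φ (Mi i) := by
    intro i g y hy
    rw [hMimem] at hy ⊢
    exact ⟨hDinv (φ g) y hy.1, hZinv i (φ g) y hy.2⟩
  have hMconj : ∀ i (r : R) (y : R), y ∈ Mi i → r * y * r⁻¹ ∈ Mi i := by
    intro i r y hy
    rw [hMimem] at hy ⊢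
    have h5 := hDinv (MulAut.conj r) y hy.1
    have h6 := hZinv i (MulAut.conj r) y hy.2
    rw [MulAut.conj_apply] at h5 h6
    exact ⟨h5, h6⟩
  have hstep : ∀ i (y r : R), y ∈ Mi (i + 1) → y * r * y⁻¹ * r⁻¹ ∈ Mi i := by
    intro i y r hy
    have hyi := (Mi (i + 1)).inv_mem hy
    have h5 := hMconj (i + 1) r y⁻¹ hyi
    rw [hMimem] at hy h5 ⊢
    refine ⟨?_, ?_⟩
    · have h7 : y * r * y⁻¹ * r⁻¹ = y * (r * y⁻¹ * r⁻¹) := by group
      rw [h7]
      exact D.mul_mem hy.1 h5.1
    · exact (Subgroup.mem_upperCentralSeries_succ_iff.mp hy.2) r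
  have hMD : ∀ i (y : R), y ∈ Mi i → y ∈ C ∧ y ^ p = 1 := by
    intro i y hy
    rw [hMimem] at hy
    exact (hDmem y).1 hy.1
  have hmono : ∀ i, Mi i ≤ Mi (i + 1) := by
    intro i y hy
    rw [hMimem] at hy ⊢
    exact ⟨hy.1, Subgroup.upperCentralSeries_mono R (Nat.le_succ i) hy.2⟩
  have hord : (orderOf (φ x)).Coprime p :=
    Nat.Coprime.coprime_dvd_left (orderOf_map_dvd φ x) hxo
  have hmain : ∀ i, ∀ y ∈ Mi i, φ x y = y := by
    intro i
    induction i with
    | zero =>
      intro y hy
      rw [hMimem] at hy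
      have h0 : y = 1 := by
        have := hy.2
        rw [Subgroup.upperCentralSeries_zero, Subgroup.mem_bot] at this
        exact this
      rw [h0, map_one]
    | succ i ih =>
      obtain ⟨M, hMdef⟩ : ∃ M : Subgroup R, M = Mi (i + 1) := ⟨_, rfl⟩
      obtain ⟨N, hNdef⟩ : ∃ N : Subgroup R, N = Mi i := ⟨_, rfl⟩
      have hNM : N ≤ M := by rw [hMdef, hNdef]; exact hmono i
      have hMinvM : InvG φ M := by rw [hMdef]; exact hMinv (i + 1)
      have hMp : IsPGroup p M := hR.to_subgroup M
      let ψM : X →* MulAut M := rAct φ M hMinvM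
      obtain ⟨N', hN'def⟩ : ∃ N' : Subgroup M, N' = N.subgroupOf M := ⟨_, rfl⟩
      have hN'mem : ∀ m : M, m ∈ N' ↔ (m : R) ∈ N := by
        intro m; rw [hN'def, Subgroup.mem_subgroupOf]
      haveI hN'n : N'.Normal := by
        refine ⟨fun n hn m => ?_⟩
        rw [hN'mem] at hn ⊢
        have := hMconj i (m : R) (n : R) (by rw [← hNdef]; exact hn)
        rw [← hNdef] at this
        simpa using this
      have hN'inv : InvG ψM N' := by
        intro g n hn
        rw [hN'mem] at hn ⊢
        have := hMinv i g (n : R) (by rw [← hNdef]; exact hn)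
        rw [← hNdef] at this
        exact this
      let ψQ : X →* MulAut (M ⧸ N') := qAct ψM N' hN'inv
      have hstepM : ∀ (a : M) (r : R), (a : R) * r * (a : R)⁻¹ * r⁻¹ ∈ N := by
        intro a r
        rw [hNdef]
        exact hstep i (a : R) r (by rw [← hMdef]; exact a.2)
      have hQcomm : ∀ a b : M ⧸ N', a * b = b * a := by
        intro a b
        induction a using QuotientGroup.induction_on with
        | H a =>
        induction b using QuotientGroup.induction_on with
        | H b =>
        rw [← QuotientGroup.mk_mul, ← QuotientGroup.mk_mul, QuotientGroup.eq, hN'mem]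
        have h7 : (((a * b)⁻¹ * (b * a) : M) : R) =
            ((b⁻¹ : M) : R) * ((a : R))⁻¹ * ((b⁻¹ : M) : R)⁻¹ * ((a : R))⁻¹⁻¹ := by
          simp only [Subgroup.coe_mul, Subgroup.coe_inv]
          group
        rw [h7]
        exact hstepM b⁻¹ (a : R)⁻¹
      have hQexp : ∀ a : M ⧸ N', a ^ p = 1 := by
        intro a
        induction a using QuotientGroup.induction_on with
        | H a =>
          have h7 : a ^ p = 1 := by
            apply Subtype.ext
            rw [Subgroup.coe_pow, Subgroup.coe_one]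
            exact (hMD (i + 1) (a : R) (by rw [← hMdef]; exact a.2)).2
          rw [← QuotientGroup.mk_pow, h7]; rfl
      have hQcard : Nat.card (M ⧸ N') ≤ p ^ k := by
        have hmul : Nat.card M = Nat.card (M ⧸ N') * Nat.card N' :=
          Subgroup.card_eq_card_quotient_mul_card_subgroup N'
        have hN'card : Nat.card N' = Nat.card N := by
          rw [hN'def]
          exact Nat.card_congr (Subgroup.subgroupOfEquivOfLe hNM).toEquiv
        have hcnt := card_le_mul_card_fixed M N e (fun y hy => hstepM ⟨y, hy⟩ e)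
        have hS : Nat.card {u : R // u ∈ M ∧ u * e = e * u} ≤ p ^ k := by
          refine le_trans ?_ he
          apply Nat.card_le_card_of_injective
            (fun u : {u : R // u ∈ M ∧ u * e = e * u} =>
              (⟨u.1, (hMD (i + 1) u.1 (by rw [← hMdef]; exact u.2.1)).1,
                (hMD (i + 1) u.1 (by rw [← hMdef]; exact u.2.1)).2, u.2.2⟩ :
                {u : R // u ∈ C ∧ u ^ p = 1 ∧ u * e = e * u}))
          intro u v huv
          apply Subtype.ext
          exact congrArg (fun t : {u : R // u ∈ C ∧ u ^ p = 1 ∧ u * e = e * u} => (t : R)) huv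
        have hNpos : 0 < Nat.card N := Nat.card_pos
        rw [hmul, hN'card] at hcnt
        have h8 : Nat.card (M ⧸ N') * Nat.card N ≤ p ^ k * Nat.card N := by
          calc Nat.card (M ⧸ N') * Nat.card N
              ≤ Nat.card N * Nat.card {u : R // u ∈ M ∧ u * e = e * u} := hcnt
            _ ≤ Nat.card N * p ^ k := Nat.mul_le_mul_left _ hS
            _ = p ^ k * Nat.card N := Nat.mul_comm _ _
        exact Nat.le_of_mul_le_mul_right h8 hNpos
      have hQ1 : ψQ x = 1 := hsec (M ⧸ N') hQcomm hQexp hQcard ψQ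
      have hM1 : ψM x = 1 := by
        apply Cfsg.Agent.Lib.Helper13.RankTwoAct.eq_one_of_stabilizes N' (ψM x) (orderOf x)
        · rw [← map_pow, pow_orderOf_eq_one, map_one]
        · intro z hz
          rw [hN'mem] at hz
          apply Subtype.ext
          show φ x (z : R) = (z : R)
          exact ih (z : R) (by rw [← hNdef]; exact hz)
        · intro m
          have := congrArg (fun f : MulAut (M ⧸ N') => f (QuotientGroup.mk m)) hQ1
          simp only [MulAut.one_apply] at this
          have h9 : ψQ x (QuotientGroup.mk m) = QuotientGroup.mk (ψM x m) := rfl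
          rw [h9] at this
          exact QuotientGroup.eq.mp this.symm
        · intro z _ hzn
          obtain ⟨j, hj⟩ := hMp z
          have h10 : orderOf z ∣ orderOf x := orderOf_dvd_of_pow_eq_one hzn
          have h11 : orderOf z ∣ p ^ j := orderOf_dvd_of_pow_eq_one hj
          have h12 : (orderOf x).Coprime (p ^ j) := Nat.Coprime.pow_right j hxo
          exact orderOf_eq_one_iff.mp (Nat.eq_one_of_dvd_coprimes h12 h10 h11)
      intro y hy
      have hyM : y ∈ M := by rw [hMdef]; exact hy
      have := congrArg (fun f : MulAut M => ((f ⟨y, hyM⟩ : M) : R)) hM1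
      exact this
  obtain ⟨n, hn⟩ := (hR.isNilpotent).nilpotent'
  let ψ : X →* MulAut C := (MulAut.characteristic C).comp φ
  have hordC : (orderOf (ψ x)).Coprime p :=
    Nat.Coprime.coprime_dvd_left (orderOf_map_dvd ψ x) hxo
  have hfix : ∀ y : C, y ^ p = 1 → ψ x y = y := by
    intro y hy
    apply Subtype.ext
    show φ x (y : R) = (y : R)
    apply hmain n
    rw [hMimem, hn]
    refine ⟨(hDmem _).2 ⟨y.2, ?_⟩, Subgroup.mem_top _⟩
    have := congrArg Subtype.val hy
    simpa using this
  have hψ1 : ψ x = 1 := Cfsg.Agent.S0120.result hp2 hCp (ψ x) hordC hfix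
  apply Cfsg.Agent.S0121.result hR C hCchar h1 h2 h3 (φ x) hord
  intro y hy
  have := congrArg (fun f : MulAut C => ((f ⟨y, hy⟩ : C) : R)) hψ1
  exact this

end Cfsg.Agent.Lib.Helper23.XSm
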