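import Mathlib
import Cfsg.Agent.Lib.Helper23.XSm
import Cfsg.Prelude.Def_OddOrderLocal

/-!
# Tools for narrow `p`-groups: sections, the rank-2 case, narrow data (helper23)
-/

set_option autoImplicit false
set_option maxHeartbeats 1000000
set_option linter.style.haveILetI false

namespace Cfsg.Agent.Lib.Helper23.XSn

open scoped commutatorElement
open Cfsg.Agent.Lib.Helper14 Cfsg.Agent.Lib.Helper23.XSl

universe u v

/-- an automorphism of prime order `q ≠ p` acting nontrivially on an elementary abelian group of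
order at most `p²` has `q ∣ p - 1` or `q ∣ p + 1`. -/
theorem sec_prime {V : Type*} [Group V] [Finite V] {p q : ℕ} [hp : Fact p.Prime] (hq : q.Prime)
    (hqp : q ≠ p) (hexp : ∀ a : V, a ^ p = 1) (hcard : Nat.card V ≤ p ^ 2)
    (α : MulAut V) (hα : α ^ q = 1) (hα1 : α ≠ 1) : q ∣ p - 1 ∨ q ∣ p + 1 := by
  classical
  haveI : Fact q.Prime := ⟨hq⟩
  have hpp := hp.out
  obtain ⟨K, hKdef⟩ : ∃ K : Subgroup (MulAut V), K = Subgroup.zpowers α := ⟨_, rfl⟩
  have hK : IsPGroup q K := by
    rintro ⟨k, hk⟩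
    refine ⟨1, ?_⟩
    rw [hKdef] at hk
    obtain ⟨i, rfl⟩ := Subgroup.mem_zpowers_iff.mp hk
    apply Subtype.ext
    simp only [pow_one, Subgroup.coe_pow, Subgroup.coe_one]
    rw [← zpow_natCast, ← zpow_mul, mul_comm, zpow_mul, zpow_natCast, hα, one_zpow]
  have hmod := hK.card_modEq_card_fixedPoints V
  let F : Subgroup V :=
    { carrier := {v | α v = v}
      one_mem' := map_one α
      mul_mem' := by
        intro a b ha hb
        simp only [Set.mem_setOf_eq] at *
        rw [map_mul, ha, hb]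
      inv_mem' := by
        intro a ha
        simp only [Set.mem_setOf_eq] at *
        rw [map_inv, ha] }
  have hFmem : ∀ v : V, v ∈ F ↔ α v = v := fun v => Iff.rfl
  have hfix : Nat.card (MulAction.fixedPoints K V) = Nat.card F := by
    apply Nat.card_congr
    refine
      { toFun := fun v => ⟨v.1, ?_⟩
        invFun := fun v => ⟨v.1, ?_⟩
        left_inv := fun v => rfl
        right_inv := fun v => rfl }
    · have := v.2 ⟨α, by rw [hKdef]; exact Subgroup.mem_zpowers α⟩
      exact this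
    · rintro ⟨k, hk⟩
      have hst : α ∈ MulAction.stabilizer (MulAut V) (v.1 : V) := by
        rw [MulAction.mem_stabilizer_iff]; exact v.2
      rw [hKdef] at hk
      have := (Subgroup.zpowers_le.2 hst) hk
      exact MulAction.mem_stabilizer_iff.1 this
  rw [hfix] at hmod
  have hV : IsPGroup p V := fun a => ⟨1, by rw [pow_one]; exact hexp a⟩
  obtain ⟨i, hi⟩ := IsPGroup.iff_card.mp hV
  obtain ⟨j, hj⟩ := IsPGroup.iff_card.mp (hV.to_subgroup F)
  have hi2 : i ≤ 2 := by
    rw [hi] at hcard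
    exact (Nat.pow_le_pow_iff_right hpp.one_lt).mp hcard
  have hji : j ≤ i := by
    have := Subgroup.card_le_card_group F
    rw [hi, hj] at this
    exact (Nat.pow_le_pow_iff_right hpp.one_lt).mp this
  have hne : j ≠ i := by
    intro h
    apply hα1
    have hFtop : F = ⊤ := by
      apply Subgroup.eq_top_of_card_eq
      rw [hi, hj, h]
    apply MulEquiv.ext
    intro v
    have : v ∈ F := by rw [hFtop]; exact Subgroup.mem_top v
    exact this
  rw [hi, hj] at hmod
  have hdvd : q ∣ p ^ i - p ^ j :=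
    (Nat.modEq_iff_dvd' (Nat.pow_le_pow_right hpp.pos hji)).1 hmod.symm
  have hcase : (i = 1 ∧ j = 0) ∨ (i = 2 ∧ j = 0) ∨ (i = 2 ∧ j = 1) := by omega
  rcases hcase with ⟨rfl, rfl⟩ | ⟨rfl, rfl⟩ | ⟨rfl, rfl⟩
  · left
    simpa using hdvd
  · have h1 : p ^ 2 - p ^ 0 = (p + 1) * (p - 1) := by
      rw [pow_zero]
      obtain ⟨k, rfl⟩ : ∃ k, p = k + 1 := ⟨p - 1, by have := hpp.pos; omega⟩
      apply Nat.sub_eq_of_eq_add
      rw [Nat.add_sub_cancel]
      ring
    rw [h1] at hdvd
    rcases (hq.dvd_mul).1 hdvd with h | h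
    · right; exact h
    · left; exact h
  · have h1 : p ^ 2 - p ^ 1 = p * (p - 1) := by
      rw [pow_two, pow_one, Nat.mul_sub_one]
    rw [h1] at hdvd
    rcases (hq.dvd_mul).1 hdvd with h | h
    · exfalso
      exact hqp ((Nat.prime_dvd_prime_iff_eq hq hpp).1 h)
    · left; exact h

/-- an odd prime `q` dividing `p - 1` or `p + 1` (with `p` odd) is at most `p`. -/
theorem le_of_dvd_pm {p q : ℕ} (hp : p.Prime) (hp2 : p ≠ 2) (hqodd : Odd q)
    (h : q ∣ p - 1 ∨ q ∣ p + 1) : q ≤ p := by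
  rcases h with h | h
  · have hpos : 0 < p - 1 := by have := hp.two_le; omega
    have := Nat.le_of_dvd hpos h
    omega
  · have h1 := Nat.le_of_dvd (by omega) h
    have hpodd : Odd p := hp.odd_of_ne_two hp2
    have hne : q ≠ p + 1 := by
      intro heq
      rw [heq] at hqodd
      have : Even (p + 1) := hpodd.add_one
      exact (Nat.not_odd_iff_even.mpr this) hqodd
    omega

variable {p : ℕ} [hp : Fact p.Prime]

/-- in a `p`-group of rank at most `2`, some `e` has at most `p²` elements of `Ω₁(C)` commuting with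
it (`C` a critical subgroup). -/
theorem exists_e_rank2 {R : Type u} [Group R] [Finite R] (hp2 : p ≠ 2) (hR : IsPGroup p R)
    (hrk : Cfsg.PRankLE p 2 R) (C : Subgroup R)
    (h1 : (frattini C).map C.subtype ≤ Subgroup.centralizer (C : Set R))
    (h2 : ⁅C, (⊤ : Subgroup R)⁆ ≤ C ⊓ Subgroup.centralizer (C : Set R)) :
    ∃ e : R, Nat.card {u : R // u ∈ C ∧ u ^ p = 1 ∧ u * e = e * u} ≤ p ^ 2 := by
  classical
  have hpp : p.Prime := hp.out
  have hCp : IsPGroup p C := hR.to_subgroup C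
  have hclC : ∀ a b : C, ⁅a, b⁆ ∈ Subgroup.center C := by
    intro a b
    rw [Subgroup.mem_center_iff]
    intro g
    apply Subtype.ext
    have hmem : ⁅(a : R), (b : R)⁆ ∈ Subgroup.centralizer (C : Set R) :=
      (h2 (Subgroup.commutator_mem_commutator a.2 (Subgroup.mem_top _))).2
    exact Subgroup.mem_centralizer_iff.mp hmem g g.2
  have hpowC : ∀ a : C, a ^ p ∈ Subgroup.center C := by
    intro a
    have hmemΦ : a ^ p ∈ frattini C := pow_mem_frattini_of_isPGroup' hCp a
    have hc : ((a ^ p : C) : R) ∈ Subgroup.centralizer (C : Set R) := h1 ⟨a ^ p, hmemΦ, rfl⟩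
    rw [Subgroup.mem_center_iff]
    intro g
    apply Subtype.ext
    exact Subgroup.mem_centralizer_iff.mp hc g g.2
  have hpab : ∀ a b : C, (a * b) ^ p = a ^ p * b ^ p := mul_pow_prime_of_classTwo hp2 hclC hpowC
  let D : Subgroup R :=
    { carrier := {y | y ∈ C ∧ y ^ p = 1}
      one_mem' := ⟨C.one_mem, one_pow p⟩
      mul_mem' := by
        rintro a b ⟨haC, hap⟩ ⟨hbC, hbp⟩
        refine ⟨C.mul_mem haC hbC, ?_⟩
        have h' : ((⟨a, haC⟩ * ⟨b, hbC⟩ : C) ^ p : C) = (⟨a, haC⟩ : C) ^ p * (⟨b, hbC⟩ : C) ^ p :=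
          hpab ⟨a, haC⟩ ⟨b, hbC⟩
        have h'' := congrArg Subtype.val h'
        simp only [Subgroup.coe_pow, Subgroup.coe_mul] at h''
        rw [h'', hap, hbp, one_mul]
      inv_mem' := by
        rintro a ⟨haC, hap⟩
        exact ⟨C.inv_mem haC, by rw [inv_pow, hap, inv_one]⟩ }
  have hDmem : ∀ y : R, y ∈ D ↔ y ∈ C ∧ y ^ p = 1 := fun y => Iff.rfl
  have hDp : IsPGroup p D := hR.to_subgroup D
  have hclD : ∀ a b : D, ⁅a, b⁆ ∈ Subgroup.center D := by
    intro a b
    rw [Subgroup.mem_center_iff]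
    intro g
    apply Subtype.ext
    have haC : (a : R) ∈ C := ((hDmem _).1 a.2).1
    have hbC : (b : R) ∈ C := ((hDmem _).1 b.2).1
    have hgC : (g : R) ∈ C := ((hDmem _).1 g.2).1
    have hmem : ⁅(a : R), (b : R)⁆ ∈ Subgroup.centralizer (C : Set R) :=
      (h2 (Subgroup.commutator_mem_commutator haC (Subgroup.mem_top _))).2
    exact Subgroup.mem_centralizer_iff.mp hmem g hgC
  have hDexp : ∀ a : D, a ^ p = 1 := by
    intro a
    apply Subtype.ext
    rw [Subgroup.coe_pow, Subgroup.coe_one]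
    exact ((hDmem _).1 a.2).2
  have hrkD : ∀ A : Subgroup D, IsMulCommutative A → Nat.card A ≤ p ^ 2 := by
    intro A hA
    exact Cfsg.Agent.Lib.Helper13.RankTwoAct.prankLE_subgroup hrk D A hA (fun a _ => hDexp a)
  have hDcard : Nat.card D ≤ p ^ 3 := card_le_cube_of_classTwo hDp hclD hrkD
  by_cases hab : ∀ x y : D, x * y = y * x
  · refine ⟨1, ?_⟩
    have hc : IsMulCommutative (⊤ : Subgroup D) := ⟨⟨fun a b => Subtype.ext (hab a b)⟩⟩
    have h5 := hrkD ⊤ hc
    rw [Subgroup.card_top] at h5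
    refine le_trans ?_ h5
    apply Nat.card_le_card_of_injective
      (fun u : {u : R // u ∈ C ∧ u ^ p = 1 ∧ u * 1 = 1 * u} =>
        (⟨u.1, (hDmem _).2 ⟨u.2.1, u.2.2.1⟩⟩ : D))
    intro u v huv
    apply Subtype.ext
    exact congrArg (fun t : D => (t : R)) huv
  · push Not at hab
    obtain ⟨x, y, hxy⟩ := hab
    refine ⟨(x : R), ?_⟩
    obtain ⟨Cx, hCxdef⟩ : ∃ Cx : Subgroup D, Cx = Subgroup.centralizer ({x} : Set D) := ⟨_, rfl⟩
    have hCxmem : ∀ u : D, u ∈ Cx ↔ x * u = u * x := by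
      intro u
      rw [hCxdef, Subgroup.mem_centralizer_iff]
      constructor
      · intro h; exact h x rfl
      · rintro h _ rfl; exact h
    obtain ⟨a, ha⟩ := IsPGroup.iff_card.mp (hDp.to_subgroup Cx)
    obtain ⟨b, hb⟩ := IsPGroup.iff_card.mp hDp
    have hab' : a ≤ b := by
      have := Subgroup.card_le_card_group Cx
      rw [ha, hb] at this
      exact (Nat.pow_le_pow_iff_right hpp.one_lt).mp this
    have hne : a ≠ b := by
      intro h
      have hCxtop : Cx = ⊤ := by
        apply Subgroup.eq_top_of_card_eq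
        rw [ha, hb, h]
      have : y ∈ Cx := by rw [hCxtop]; exact Subgroup.mem_top y
      exact hxy ((hCxmem y).1 this)
    have hb3 : b ≤ 3 := by
      rw [hb] at hDcard
      exact (Nat.pow_le_pow_iff_right hpp.one_lt).mp hDcard
    have hCxcard : Nat.card Cx ≤ p ^ 2 := by
      rw [ha]
      exact Nat.pow_le_pow_right hpp.pos (by omega)
    refine le_trans ?_ hCxcard
    apply Nat.card_le_card_of_injective
      (fun u : {u : R // u ∈ C ∧ u ^ p = 1 ∧ u * (x : R) = (x : R) * u} =>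
        (⟨⟨u.1, (hDmem _).2 ⟨u.2.1, u.2.2.1⟩⟩, (hCxmem _).2 (Subtype.ext u.2.2.2.symm)⟩ : Cx))
    intro u v huv
    apply Subtype.ext
    exact congrArg (fun t : Cx => ((t : D) : R)) huv

/-- the data extracted from narrowness. -/
theorem narrow_data {R : Type u} [Group R] [Finite R] (hR : IsPGroup p R)
    (hn : Cfsg.IsNarrow p R) :
    Cfsg.PRankLE p 2 R ∨
      ∃ e : R, e ^ p = 1 ∧ Nat.card {u : R // u * e = e * u ∧ u ^ p = 1} ≤ p ^ 2 := by
  classical
  have hpp : p.Prime := hp.out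
  rcases hn with hn | ⟨R₀, R₁, hR₀, hR₁, hdisj, hcomm, hcent⟩
  · left; exact hn
  right
  have hR₀ne : R₀ ≠ ⊥ := by
    intro h
    rw [h, Subgroup.card_bot] at hR₀
    exact hpp.one_lt.ne hR₀
  obtain ⟨e, heR₀, he1⟩ := R₀.bot_or_exists_ne_one.resolve_left hR₀ne
  have hep : e ^ p = 1 := by
    have := pow_card_eq_one' (G := R₀) (x := ⟨e, heR₀⟩)
    rw [hR₀] at this
    have h' := congrArg Subtype.val this
    simpa using h'
  have hzp : Subgroup.zpowers e = R₀ := by
    apply Subgroup.eq_of_le_of_card_ge (Subgroup.zpowers_le.2 heR₀)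
    rw [hR₀, Nat.card_zpowers]
    have h5 : orderOf e ∣ p := orderOf_dvd_of_pow_eq_one hep
    rcases (Nat.dvd_prime hpp).1 h5 with h6 | h6
    · exact absurd (orderOf_eq_one_iff.1 h6) he1
    · exact le_of_eq h6.symm
  refine ⟨e, hep, ?_⟩
  -- the product set R₀ R₁ is a subgroup
  let P : Subgroup R :=
    { carrier := {g | ∃ a ∈ R₀, ∃ b ∈ R₁, g = a * b}
      one_mem' := ⟨1, R₀.one_mem, 1, R₁.one_mem, (one_mul 1).symm⟩
      mul_mem' := by
        rintro _ _ ⟨a, ha, b, hb, rfl⟩ ⟨a', ha', b', hb', rfl⟩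
        refine ⟨a * a', R₀.mul_mem ha ha', b * b', R₁.mul_mem hb hb', ?_⟩
        have := hcomm a' ha' b hb
        calc a * b * (a' * b') = a * (b * a') * b' := by group
          _ = a * (a' * b) * b' := by rw [this]
          _ = a * a' * (b * b') := by group
      inv_mem' := by
        rintro _ ⟨a, ha, b, hb, rfl⟩
        refine ⟨a⁻¹, R₀.inv_mem ha, b⁻¹, R₁.inv_mem hb, ?_⟩
        have := hcomm a⁻¹ (R₀.inv_mem ha) b⁻¹ (R₁.inv_mem hb)
        rw [mul_inv_rev, this] }
  have hsupP : R₀ ⊔ R₁ ≤ P := by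
    apply sup_le
    · intro a ha; exact ⟨a, ha, 1, R₁.one_mem, (mul_one a).symm⟩
    · intro b hb; exact ⟨1, R₀.one_mem, b, hb, (one_mul b).symm⟩
  -- Ω₁(R₁)
  obtain ⟨Ω, hΩdef⟩ : ∃ Ω : Set R, Ω = {b | b ∈ R₁ ∧ b ^ p = 1} := ⟨_, rfl⟩
  have hΩmem : ∀ b : R, b ∈ Ω ↔ b ∈ R₁ ∧ b ^ p = 1 := by
    intro b; rw [hΩdef]; rfl
  have hΩcard : Nat.card Ω ≤ p := by
    haveI : IsCyclic R₁ := hR₁
    haveI : Fintype R₁ := Fintype.ofFinite R₁
    have h5 : (Finset.univ.filter (fun a : R₁ => a ^ p = 1)).card ≤ p :=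
      IsCyclic.card_pow_eq_one_le hpp.pos
    have h6 : Nat.card Ω ≤ Nat.card {b : R₁ // b ^ p = 1} := by
      apply Nat.card_le_card_of_injective
        (fun b : Ω => (⟨⟨b.1, ((hΩmem _).1 b.2).1⟩, by
          apply Subtype.ext
          have := ((hΩmem _).1 b.2).2
          simpa using this⟩ : {b : R₁ // b ^ p = 1}))
      intro b b' h
      apply Subtype.ext
      exact congrArg (fun t : {b : R₁ // b ^ p = 1} => ((t : R₁) : R)) h
    refine h6.trans ?_
    rw [Nat.card_eq_fintype_card, Fintype.card_subtype]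
    exact h5
  -- the injection
  have hdec : ∀ u : {u : R // u * e = e * u ∧ u ^ p = 1},
      ∃ ab : R₀ × Ω, (u : R) = (ab.1 : R) * (ab.2 : R) := by
    intro u
    have hucent : (u : R) ∈ Subgroup.centralizer (R₀ : Set R) := by
      rw [Subgroup.mem_centralizer_iff]
      intro h hh
      rw [← hzp] at hh
      exact cm_zpowers e (u : R) u.2.1.symm h hh
    rw [← hcent] at hucent
    obtain ⟨a, ha, b, hb, hab⟩ := hsupP hucent
    have hap : a ^ p = 1 := by
      have := pow_card_eq_one' (G := R₀) (x := ⟨a, ha⟩)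
      rw [hR₀] at this
      have h' := congrArg Subtype.val this
      simpa using h'
    have hbp : b ^ p = 1 := by
      have hcm : Commute a b := hcomm a ha b hb
      have := u.2.2
      rw [hab, hcm.mul_pow, hap, one_mul] at this
      exact this
    exact ⟨(⟨a, ha⟩, ⟨b, (hΩmem b).2 ⟨hb, hbp⟩⟩), hab⟩
  choose f hf using hdec
  have hinj : Function.Injective f := by
    intro u v huv
    apply Subtype.ext
    rw [hf u, hf v, huv]
  calc Nat.card {u : R // u * e = e * u ∧ u ^ p = 1} ≤ Nat.card (R₀ × Ω) :=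
        Nat.card_le_card_of_injective f hinj
    _ = Nat.card R₀ * Nat.card Ω := Nat.card_prod _ _
    _ ≤ p * p := by rw [hR₀]; exact Nat.mul_le_mul_left _ hΩcard
    _ = p ^ 2 := (pow_two p).symm

end Cfsg.Agent.Lib.Helper23.XSn
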