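import Mathlib
import Cfsg.Agent.Lib.Helper23.XSn
import Cfsg.Agent.Lib.Helper20.Bender
import Cfsg.Agent.Lib.Helper20.Cores

/-!
# Solvable groups of odd order with `O_{p'} = 1` and narrow `O_p` (helper23)
-/

set_option autoImplicit false
set_option maxHeartbeats 1000000
set_option linter.style.haveILetI false

namespace Cfsg.Agent.Lib.Helper23.XSo

open scoped commutatorElement
open Cfsg Cfsg.Agent.Lib.Helper20 Cfsg.Agent.Lib.Helper23.XSl Cfsg.Agent.Lib.Helper23.XSm
  Cfsg.Agent.Lib.Helper23.XSn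

universe u

variable {p : ℕ} [hp : Fact p.Prime]

theorem main_O {H : Type u} [Group H] [Finite H] [hs : Group.IsSolvable H]
    (hodd : Odd (Nat.card H)) (hp2 : p ≠ 2) (hO : Cfsg.pPrimeCore p H = ⊥)
    (hN : Cfsg.PRankLE p 2 ↥(Cfsg.pCore p H) ∨
      ∃ e : ↥(Cfsg.pCore p H),
        Nat.card {u : ↥(Cfsg.pCore p H) // u * e = e * u ∧ u ^ p = 1} ≤ p ^ 2) :
    commutator H ≤ Cfsg.pCore p H ∧ ((Cfsg.pCore p H).index).Coprime p ∧
      ∀ q : ℕ, q.Prime → q ∣ Nat.card H → q ≤ p := by
  classical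
  have hpp : p.Prime := hp.out
  haveI hPn : (pCore p H).Normal := Cfsg.pCore_normal p H
  have hPp : IsPGroup p ↥(pCore p H) := pCore_isPGroup' (G := H) p
  have hcent : Subgroup.centralizer (pCore p H : Set H) ≤ pCore p H :=
    solvable_centralizer_pCore_le p hO
  obtain ⟨φ, hφdef⟩ : ∃ φ : H →* MulAut ↥(pCore p H), φ = MulAut.conjNormal (H := pCore p H) :=
    ⟨_, rfl⟩
  have hφapp : ∀ (y : H) (h : ↥(pCore p H)), ((φ y h : ↥(pCore p H)) : H) = y * h * y⁻¹ := by
    intro y h
    rw [hφdef]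
    rfl
  -- faithfulness on `p'`-elements
  have hK1 : ∀ y : H, (orderOf y).Coprime p → φ y = 1 → y = 1 := by
    intro y hyo hy1
    have hyc : y ∈ Subgroup.centralizer (pCore p H : Set H) := by
      rw [Subgroup.mem_centralizer_iff]
      intro h hh
      have h2 := congrArg (fun f : MulAut ↥(pCore p H) => ((f ⟨h, hh⟩ : ↥(pCore p H)) : H)) hy1
      have h3 : y * h * y⁻¹ = h := by
        have := hφapp y ⟨h, hh⟩
        rw [← this]
        exact h2
      calc h * y = (y * h * y⁻¹) * y := by rw [h3]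
        _ = y * h := by group
    have hyP : y ∈ pCore p H := hcent hyc
    obtain ⟨k, hk⟩ := hPp ⟨y, hyP⟩
    have hk' : y ^ (p ^ k) = 1 := by
      have := congrArg Subtype.val hk
      simpa using this
    have h1 : orderOf y ∣ p ^ k := orderOf_dvd_of_pow_eq_one hk'
    have h3 : (orderOf y).Coprime (p ^ k) := Nat.Coprime.pow_right k hyo
    exact orderOf_eq_one_iff.mp (Nat.Coprime.eq_one_of_dvd h3 h1)
  -- (a)
  have hA1 : ∀ y ∈ commutator H, (orderOf y).Coprime p → y = 1 := by
    intro y hy hyo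
    apply hK1 y hyo
    rcases hN with hrk | ⟨e, he⟩
    · exact Cfsg.Agent.Lib.Helper13.RankTwoAct.act_trivial hp2 hPp hrk hodd hs φ y hy hyo
    · exact narrow_act_trivial hp2 hPp e he hodd hs φ y hy hyo
  have hA2 : IsPGroup p ↥(commutator H) := by
    intro g
    have hn0 : orderOf (g : H) ≠ 0 := (orderOf_pos (g : H)).ne'
    obtain ⟨a, m, hm, hnm⟩ := Nat.exists_eq_pow_mul_and_not_dvd hn0 p hpp.ne_one
    refine ⟨a, ?_⟩
    apply Subtype.ext
    rw [Subgroup.coe_pow, Subgroup.coe_one]
    apply hA1 _ ((commutator H).pow_mem g.2 _)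
    have h5 : ((g : H) ^ (p ^ a)) ^ m = 1 := by
      rw [← pow_mul, ← hnm, pow_orderOf_eq_one]
    have h6 : orderOf ((g : H) ^ (p ^ a)) ∣ m := orderOf_dvd_of_pow_eq_one h5
    have h7 : m.Coprime p := ((Nat.Prime.coprime_iff_not_dvd hpp).mpr hm).symm
    exact Nat.Coprime.coprime_dvd_left h6 h7
  have hA : commutator H ≤ pCore p H := le_pCore' inferInstance hA2
  refine ⟨hA, ?_, ?_⟩
  · -- (b)
    rw [Nat.coprime_comm, Nat.Prime.coprime_iff_not_dvd hpp]
    intro hdvd
    have hab : ∀ a b : H ⧸ pCore p H, a * b = b * a := by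
      intro a b
      induction a using QuotientGroup.induction_on with
      | H a =>
      induction b using QuotientGroup.induction_on with
      | H b =>
      rw [← QuotientGroup.mk_mul, ← QuotientGroup.mk_mul, QuotientGroup.eq]
      apply hA
      have h5 : (a * b)⁻¹ * (b * a) = ⁅b⁻¹, a⁻¹⁆ := by
        rw [commutatorElement_def]; group
      rw [h5]
      exact Subgroup.commutator_mem_commutator (Subgroup.mem_top _) (Subgroup.mem_top _)
    have hdvd' : p ∣ Nat.card (H ⧸ pCore p H) := by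
      rw [← Subgroup.index_eq_card]; exact hdvd
    obtain ⟨ybar, hybar⟩ := exists_prime_orderOf_dvd_card' p hdvd'
    obtain ⟨Tbar, hTbar⟩ : ∃ Tbar : Subgroup (H ⧸ pCore p H), Tbar = Subgroup.zpowers ybar :=
      ⟨_, rfl⟩
    haveI hTn : Tbar.Normal := by
      refine ⟨fun n hn g => ?_⟩
      rw [hab g n, mul_inv_cancel_right]
      exact hn
    have hTp : IsPGroup p Tbar := by
      apply IsPGroup.of_card (n := 1)
      rw [hTbar, Nat.card_zpowers, hybar, pow_one]
    have hTcomap : IsPGroup p (Tbar.comap (QuotientGroup.mk' (pCore p H))) := by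
      apply hTp.comap_of_ker_isPGroup
      rw [QuotientGroup.ker_mk']
      exact hPp
    have hle : Tbar.comap (QuotientGroup.mk' (pCore p H)) ≤ pCore p H :=
      le_pCore' (hTn.comap _) hTcomap
    obtain ⟨g, hg⟩ := QuotientGroup.mk'_surjective (pCore p H) ybar
    have hgT : g ∈ Tbar.comap (QuotientGroup.mk' (pCore p H)) := by
      rw [Subgroup.mem_comap, hg, hTbar]
      exact Subgroup.mem_zpowers ybar
    have hgP : g ∈ pCore p H := hle hgT
    have hy1 : ybar = 1 := by
      rw [← hg]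
      exact (QuotientGroup.eq_one_iff g).2 hgP
    rw [hy1, orderOf_one] at hybar
    exact hpp.one_lt.ne hybar
  · -- (c)
    intro q hq hqdvd
    by_contra hlt
    push Not at hlt
    have hqp : q ≠ p := fun h => by omega
    haveI : Fact q.Prime := ⟨hq⟩
    have hqodd : Odd q := Odd.of_dvd_nat hodd hqdvd
    obtain ⟨y, hy⟩ := exists_prime_orderOf_dvd_card' q hqdvd
    have hyo : (orderOf y).Coprime p := by
      rw [hy]
      exact (Nat.coprime_primes hq hpp).2 hqp
    have hy1 : y = 1 := by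
      apply hK1 y hyo
      obtain ⟨C, hCchar, h1, h2, h3⟩ := Cfsg.Agent.S0093.result hPp
      have hbd : ∃ e : ↥(pCore p H),
          Nat.card {u : ↥(pCore p H) // u ∈ C ∧ u ^ p = 1 ∧ u * e = e * u} ≤ p ^ 2 := by
        rcases hN with hrk | ⟨e, he⟩
        · exact exists_e_rank2 hp2 hPp hrk C h1 h2
        · refine ⟨e, le_trans ?_ he⟩
          apply Nat.card_le_card_of_injective
            (fun u : {u : ↥(pCore p H) // u ∈ C ∧ u ^ p = 1 ∧ u * e = e * u} =>
              (⟨u.1, u.2.2.2, u.2.2.1⟩ : {u : ↥(pCore p H) // u * e = e * u ∧ u ^ p = 1}))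
          intro u v huv
          apply Subtype.ext
          exact congrArg
            (fun t : {u : ↥(pCore p H) // u * e = e * u ∧ u ^ p = 1} => (t : ↥(pCore p H))) huv
      obtain ⟨e, he⟩ := hbd
      apply chain_core hp2 hPp 2 e C hCchar h1 h2 h3 he φ y hyo (orderOf_pos y)
      intro V _ _ hVc hVe hVcard ψ
      by_contra hne
      have hpow : (ψ y) ^ q = 1 := by
        rw [← map_pow, ← hy, pow_orderOf_eq_one, map_one]
      have := sec_prime hq hqp hVe hVcard (ψ y) hpow hne
      have := le_of_dvd_pm hpp hp2 hqodd this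
      omega
    rw [hy1, orderOf_one] at hy
    exact hq.one_lt.ne hy

end Cfsg.Agent.Lib.Helper23.XSo
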