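import Mathlib
import Cfsg.Agent.Lib.Helper23.XSo
import Cfsg.Agent.Lib.Helper16.PCore
import Cfsg.Agent.Lib.Helper13.NPC
import Cfsg.Agent.Lib.Helper2.PLength3
import Cfsg.Prelude.Def_Local

/-!
# Solvable groups of odd order with a narrow Sylow `p`-subgroup (BG 5.5/5.6 type statement) (helper23)
-/

set_option autoImplicit false
set_option maxHeartbeats 1000000
set_option linter.style.haveILetI false

namespace Cfsg.Agent.Lib.Helper23.XSp

open scoped commutatorElement
open Cfsg Cfsg.Agent.Lib.Helper20 Cfsg.Agent.Lib.Helper23.XSn Cfsg.Agent.Lib.Helper23.XSo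

universe u

theorem narrow_sylow {G : Type u} [Group G] [Finite G] [Group.IsSolvable G]
    (hodd : Odd (Nat.card G)) (p : ℕ) [hp : Fact p.Prime] (hpG : p ∣ Nat.card G) (S : Sylow p G)
    (hS : Cfsg.IsNarrow p ↥(S : Subgroup G))
    (hpl : ¬ Cfsg.PRankLE p 2 ↥(S : Subgroup G) → Cfsg.PLengthLE p 1 G) :
    (∀ q : ℕ, q.Prime → q ∣ (Cfsg.pPrimeCore p G).index → q ≤ p) ∧
      ((p = 3 ∨ ∀ q : ℕ, q.Prime → q ∣ Nat.card G → p ≤ q) → Cfsg.HasNormalPComplement p G) ∧
      Cfsg.HasNormalPComplement p ↥(commutator G) ∧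
      (∀ L : Subgroup ↥(commutator G), (Nat.card L).Coprime p →
        L ≤ Cfsg.pPrimeCore p ↥(commutator G)) ∧
      commutator G ≤ Cfsg.pPrimePCore p G ∧ ((Cfsg.pPrimePCore p G).index).Coprime p := by
  classical
  have hpp : p.Prime := hp.out
  have hp2 : p ≠ 2 := by
    rintro rfl
    have : Odd 2 := Odd.of_dvd_nat hodd hpG
    exact absurd this (by decide)
  obtain ⟨N, hNdef⟩ : ∃ N : Subgroup G, N = pPrimeCore p G := ⟨_, rfl⟩
  haveI hNn : N.Normal := hNdef ▸ Cfsg.pPrimeCore_normal p G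
  have hNcop : (Nat.card N).Coprime p := hNdef ▸ pPrimeCore_coprime' (G := G) p
  have hOQ : pPrimeCore p (G ⧸ N) = ⊥ := by
    subst hNdef
    exact pPrimeCore_quotient_eq_bot p
  obtain ⟨π, hπdef⟩ : ∃ π : G →* G ⧸ N, π = QuotientGroup.mk' N := ⟨_, rfl⟩
  have hπsurj : Function.Surjective π := hπdef ▸ QuotientGroup.mk'_surjective N
  have hπker : π.ker = N := by rw [hπdef]; exact QuotientGroup.ker_mk' N
  have hoddQ : Odd (Nat.card (G ⧸ N)) := by
    apply Odd.of_dvd_nat hodd
    rw [← Subgroup.index_eq_card]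
    exact Subgroup.index_dvd_card N
  haveI : Group.IsSolvable (G ⧸ N) := inferInstance
  -- the Sylow subgroup maps isomorphically
  obtain ⟨φS, hφSdef⟩ : ∃ φS : ↥(S : Subgroup G) →* G ⧸ N, φS = π.comp (S : Subgroup G).subtype :=
    ⟨_, rfl⟩
  have hφSinj : Function.Injective φS := by
    rw [injective_iff_map_eq_one]
    intro s hs
    rw [hφSdef] at hs
    have hsN : (s : G) ∈ N := by
      rw [← hπker, MonoidHom.mem_ker]
      exact hs
    obtain ⟨k, hk⟩ := S.2 s
    have hk' : (s : G) ^ (p ^ k) = 1 := by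
      have := congrArg Subtype.val hk
      simpa using this
    have h1 : orderOf (s : G) ∣ p ^ k := orderOf_dvd_of_pow_eq_one hk'
    have h2 : orderOf (s : G) ∣ Nat.card N := by
      have := orderOf_dvd_natCard (⟨(s : G), hsN⟩ : N)
      rwa [Subgroup.orderOf_mk] at this
    have h3 : (Nat.card N).Coprime (p ^ k) := Nat.Coprime.pow_right k hNcop
    have h4 : orderOf (s : G) = 1 := Nat.eq_one_of_dvd_coprimes h3 h2 h1
    apply Subtype.ext
    exact orderOf_eq_one_iff.mp h4
  obtain ⟨Sbar, hSbar⟩ : ∃ Sbar : Sylow p (G ⧸ N), (Sbar : Subgroup (G ⧸ N)) =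
      (S : Subgroup G).map π := ⟨S.mapSurjective hπsurj, Sylow.coe_mapSurjective hπsurj S⟩
  have hPle : pCore p (G ⧸ N) ≤ φS.range := by
    have h1 := Cfsg.Agent.Lib.Helper16.pCore_le_sylow Sbar
    rw [hSbar] at h1
    refine h1.trans ?_
    rintro _ ⟨s, hs, rfl⟩
    exact ⟨⟨s, hs⟩, by rw [hφSdef]; rfl⟩
  obtain ⟨eS, heS⟩ : ∃ eS : ↥(S : Subgroup G) ≃* φS.range,
      ∀ s, ((eS s : φS.range) : G ⧸ N) = φS s :=
    ⟨MonoidHom.ofInjective hφSinj, fun s => rfl⟩
  obtain ⟨ι, hιdef⟩ : ∃ ι : ↥(pCore p (G ⧸ N)) →* ↥(S : Subgroup G),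
      ι = eS.symm.toMonoidHom.comp (Subgroup.inclusion hPle) := ⟨_, rfl⟩
  have hιinj : Function.Injective ι := by
    rw [hιdef]
    exact eS.symm.injective.comp (Subgroup.inclusion_injective hPle)
  have hPp : IsPGroup p ↥(pCore p (G ⧸ N)) := pCore_isPGroup' (G := G ⧸ N) p
  -- narrow data for `O_p(G/N)`
  have hND : Cfsg.PRankLE p 2 ↥(pCore p (G ⧸ N)) ∨
      ∃ e : ↥(pCore p (G ⧸ N)),
        Nat.card {u : ↥(pCore p (G ⧸ N)) // u * e = e * u ∧ u ^ p = 1} ≤ p ^ 2 := by
    by_cases hrk : Cfsg.PRankLE p 2 ↥(S : Subgroup G)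
    · left
      exact Cfsg.Agent.Lib.Helper13.RankTwoDerived.prankLE_of_injective ι hιinj hrk
    · right
      have hpl1 : Cfsg.PLengthLE p 1 (G ⧸ N) :=
        Cfsg.Agent.Lib.Helper2.PLengthLE.of_surjective (hpl hrk) π hπsurj
      have hU2 := Cfsg.Agent.Lib.Helper2.upperPSeries_two_of_pPrimeCore_eq_bot p (G ⧸ N) hOQ
      have hU3 : (upperPSeries p (G ⧸ N) 3).1 = ⊤ := hpl1
      have hrel := Cfsg.Agent.Lib.Helper2.upperPSeries_relIndex (G := G ⧸ N) p 2
      have hcop : ((pCore p (G ⧸ N)).index).Coprime p := by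
        have := Cfsg.Agent.Lib.Helper2.StepNum.coprime_of_even (by decide : Even 2) hrel
        rw [hU2, hU3, Subgroup.relIndex_top_right] at this
        exact this
      -- cardinalities
      have hcardS : Nat.card ↥(pCore p (G ⧸ N)) = Nat.card ↥(S : Subgroup G) := by
        apply le_antisymm (Nat.card_le_card_of_injective ι hιinj)
        have h1 : Nat.card ↥(S : Subgroup G) = Nat.card ↥(Sbar : Subgroup (G ⧸ N)) := by
          rw [hSbar]
          have : (S : Subgroup G).map π = φS.range := by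
            rw [hφSdef, MonoidHom.range_comp, Subgroup.range_subtype]
          rw [this]
          exact Nat.card_congr eS.toEquiv
        rw [h1]
        -- `P̄ ≤ S̄` with `p'`-index
        have hle := Cfsg.Agent.Lib.Helper16.pCore_le_sylow Sbar
        have hdvd : (pCore p (G ⧸ N)).relIndex (Sbar : Subgroup (G ⧸ N)) ∣
            (pCore p (G ⧸ N)).index := Subgroup.relIndex_dvd_index_of_normal _ _
        have hmul := Subgroup.relIndex_mul_relIndex ⊥ (pCore p (G ⧸ N)) (Sbar : Subgroup (G ⧸ N))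
          bot_le hle
        rw [Subgroup.relIndex_bot_left, Subgroup.relIndex_bot_left] at hmul
        obtain ⟨k, hk⟩ := IsPGroup.iff_card.mp Sbar.2
        have hrelpow : (pCore p (G ⧸ N)).relIndex (Sbar : Subgroup (G ⧸ N)) ∣ p ^ k := by
          rw [← hk, ← hmul]
          exact Dvd.intro_left _ rfl
        have hone : (pCore p (G ⧸ N)).relIndex (Sbar : Subgroup (G ⧸ N)) = 1 := by
          have hc2 : ((pCore p (G ⧸ N)).relIndex (Sbar : Subgroup (G ⧸ N))).Coprime (p ^ k) :=
            Nat.Coprime.pow_right k (Nat.Coprime.coprime_dvd_left hdvd hcop)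
          exact Nat.Coprime.eq_one_of_dvd hc2 hrelpow
        rw [hone, mul_one] at hmul
        exact le_of_eq hmul.symm
      have hιbij : Function.Bijective ι :=
        (Nat.bijective_iff_injective_and_card ι).2 ⟨hιinj, hcardS⟩
      rcases narrow_data S.2 hS with h | ⟨e, -, he⟩
      · exact absurd h hrk
      obtain ⟨e', he'⟩ := hιbij.2 e
      refine ⟨e', le_trans ?_ he⟩
      apply Nat.card_le_card_of_injective
        (fun u : {u : ↥(pCore p (G ⧸ N)) // u * e' = e' * u ∧ u ^ p = 1} =>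
          (⟨ι u.1, by
            constructor
            · rw [← he', ← map_mul, ← map_mul, u.2.1]
            · rw [← map_pow, u.2.2, map_one]⟩ :
            {u : ↥(S : Subgroup G) // u * e = e * u ∧ u ^ p = 1}))
      intro u v huv
      apply Subtype.ext
      apply hιinj
      exact congrArg (fun t : {u : ↥(S : Subgroup G) // u * e = e * u ∧ u ^ p = 1} =>
        (t : ↥(S : Subgroup G))) huv
  obtain ⟨hA, hB, hC⟩ := main_O hoddQ hp2 hOQ hND
  -- images of commutators
  have hmapcomm : (commutator G).map π ≤ pCore p (G ⧸ N) := by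
    refine le_trans ?_ hA
    rw [commutator_def, Subgroup.map_commutator, commutator_def]
    exact Subgroup.commutator_mono le_top le_top
  have hmapp : ∀ g ∈ commutator G, (orderOf g).Coprime p → g ∈ N := by
    intro g hg hgo
    rw [← hπker, MonoidHom.mem_ker]
    have h1 : π g ∈ pCore p (G ⧸ N) := hmapcomm ⟨g, hg, rfl⟩
    obtain ⟨k, hk⟩ := hPp ⟨π g, h1⟩
    have hk' : (π g) ^ (p ^ k) = 1 := by
      have := congrArg Subtype.val hk
      simpa using this
    have h2 : orderOf (π g) ∣ p ^ k := orderOf_dvd_of_pow_eq_one hk'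
    have h3 : orderOf (π g) ∣ orderOf g := orderOf_map_dvd π g
    have h4 : (orderOf g).Coprime (p ^ k) := Nat.Coprime.pow_right k hgo
    exact orderOf_eq_one_iff.mp (Nat.eq_one_of_dvd_coprimes h4 h3 h2)
  have hindexN : N.index = Nat.card (G ⧸ N) := Subgroup.index_eq_card N
  -- the normal `p`-complement of `G'`
  obtain ⟨K, hKdef⟩ : ∃ K : Subgroup ↥(commutator G), K = N.subgroupOf (commutator G) := ⟨_, rfl⟩
  haveI hKn : K.Normal := by rw [hKdef]; infer_instance
  have hKcop : (Nat.card K).Coprime p := by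
    rw [hKdef]
    have h1 : Nat.card (N.subgroupOf (commutator G)) ∣ Nat.card N := by
      have h2 : Nat.card (N.subgroupOf (commutator G)) =
          Nat.card ((N.subgroupOf (commutator G)).map (commutator G).subtype) :=
        (Subgroup.card_map_of_injective (Subgroup.subtype_injective _)).symm
      rw [h2, Subgroup.subgroupOf_map_subtype]
      exact Subgroup.card_dvd_of_le inf_le_left
    exact Nat.Coprime.coprime_dvd_left h1 hNcop
  have hKindex : ∃ k : ℕ, K.index = p ^ k := by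
    rw [hKdef]
    have h1 : (N.subgroupOf (commutator G)).index = N.relIndex (commutator G) := rfl
    rw [h1, ← hπker, Subgroup.relIndex_ker]
    exact IsPGroup.iff_card.mp (hPp.to_le hmapcomm)
  have hNPC' : Cfsg.Agent.Lib.Helper13.NPC p ↥(commutator G) := ⟨K, hKn, hKcop, hKindex⟩
  refine ⟨?_, ?_, ?_, ?_, ?_, ?_⟩
  · -- (1)
    intro q hq hqd
    rw [← hNdef, hindexN] at hqd
    exact hC q hq hqd
  · -- (2)
    intro hcase
    rw [Cfsg.Agent.Lib.Helper13.npc_iff]
    refine ⟨N, hNn, hNcop, ?_⟩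
    rw [hindexN]
    have hne : Nat.card (G ⧸ N) ≠ 0 := Nat.card_pos.ne'
    refine ⟨_, Nat.eq_prime_pow_of_unique_prime_dvd hne ?_⟩
    intro q hq hqd
    have hqle := hC q hq hqd
    have hqG : q ∣ Nat.card G := hqd.trans (by rw [← hindexN]; exact Subgroup.index_dvd_card N)
    rcases hcase with h3 | hmin
    · have hqodd : Odd q := Odd.of_dvd_nat hodd hqG
      have hq2 := hq.two_le
      have hq2' : q ≠ 2 := by
        rintro rfl
        exact absurd hqodd (by decide)
      omega
    · exact le_antisymm hqle (hmin q hq hqG)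
  · -- (3)
    exact (Cfsg.Agent.Lib.Helper13.npc_iff).2 hNPC'
  · -- (4)
    intro L hL
    have hKle : K ≤ pPrimeCore p ↥(commutator G) := le_pPrimeCore' hKn hKcop
    refine le_trans ?_ hKle
    intro l hl
    rw [hKdef, Subgroup.mem_subgroupOf]
    apply hmapp _ l.2
    have h1 : orderOf (⟨l, hl⟩ : L) ∣ Nat.card L := orderOf_dvd_natCard _
    have h2 : orderOf ((l : ↥(commutator G)) : G) = orderOf (⟨l, hl⟩ : L) := by
      rw [Subgroup.orderOf_mk, Subgroup.orderOf_coe]
    rw [h2]
    exact Nat.Coprime.coprime_dvd_left h1 hL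
  · -- (5)
    subst hNdef
    intro g hg
    show g ∈ (pCore p (G ⧸ pPrimeCore p G)).comap (QuotientGroup.mk' (pPrimeCore p G))
    rw [Subgroup.mem_comap]
    have := hmapcomm ⟨g, hg, rfl⟩
    rw [hπdef] at this
    exact this
  · -- (6)
    subst hNdef
    show ((pCore p (G ⧸ pPrimeCore p G)).comap (QuotientGroup.mk' (pPrimeCore p G))).index.Coprime p
    rw [Subgroup.index_comap_of_surjective _ (QuotientGroup.mk'_surjective _)]
    exact hB

end Cfsg.Agent.Lib.Helper23.XSp
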