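import Mathlib
import Cfsg.Agent.Lib.Helper23.XSo

/-!
# More tools for narrow `p`-groups (helper23): `Ω₁` of a critical subgroup, automorphisms of groups
of prime order, fixed points on sections, the rank-3 bound.
-/

set_option autoImplicit false
set_option maxHeartbeats 1000000
set_option linter.style.haveILetI false

namespace Cfsg.Agent.Lib.Helper23.XSq

open scoped commutatorElement
open Cfsg Cfsg.Agent.Lib.Helper14 Cfsg.Agent.Lib.Helper20 Cfsg.Agent.Lib.Helper23.XSl

universe u

section Basic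

variable {G : Type*} [Group G]

/-- counting with a set of commutator values. -/
theorem card_le_mul_card_fixed_set [Finite G] (M : Subgroup G) (N : Set G) (e : G)
    (he : ∀ y ∈ M, y * e * y⁻¹ * e⁻¹ ∈ N) :
    Nat.card M ≤ Nat.card N * Nat.card {u : G // u ∈ M ∧ u * e = e * u} := by
  classical
  let g : M → N := fun y => ⟨(y : G) * e * (y : G)⁻¹ * e⁻¹, he y y.2⟩
  let rep : N → M := fun v => if h : ∃ y, g y = v then Classical.choose h else 1
  have hrep : ∀ y : M, g (rep (g y)) = g y := by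
    intro y
    have h : ∃ y', g y' = g y := ⟨y, rfl⟩
    show g (if h : ∃ y', g y' = g y then Classical.choose h else 1) = g y
    rw [dif_pos h]
    exact Classical.choose_spec h
  have hfix : ∀ y y' : M, g y' = g y →
      ((y' : G)⁻¹ * (y : G)) * e = e * ((y' : G)⁻¹ * (y : G)) := by
    intro y y' h
    have h1 : (y' : G) * e * (y' : G)⁻¹ * e⁻¹ = (y : G) * e * (y : G)⁻¹ * e⁻¹ :=
      congrArg Subtype.val h
    have h2 : (y' : G) * e * (y' : G)⁻¹ = (y : G) * e * (y : G)⁻¹ := mul_right_cancel h1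
    calc (y' : G)⁻¹ * (y : G) * e = (y' : G)⁻¹ * ((y : G) * e * (y : G)⁻¹) * (y : G) := by group
      _ = (y' : G)⁻¹ * ((y' : G) * e * (y' : G)⁻¹) * (y : G) := by rw [h2]
      _ = e * ((y' : G)⁻¹ * (y : G)) := by group
  let F : M → N × {u : G // u ∈ M ∧ u * e = e * u} := fun y =>
    (g y, ⟨((rep (g y) : M) : G)⁻¹ * (y : G),
      M.mul_mem (M.inv_mem (rep (g y)).2) y.2, hfix y (rep (g y)) (hrep y)⟩)
  have hF : Function.Injective F := by
    intro y y' h
    have h1 : g y = g y' := congrArg Prod.fst h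
    have h2 : ((rep (g y) : M) : G)⁻¹ * (y : G) = ((rep (g y') : M) : G)⁻¹ * (y' : G) :=
      congrArg (fun t : N × {u : G // u ∈ M ∧ u * e = e * u} => ((t.2 : G))) h
    rw [h1] at h2
    exact Subtype.ext (mul_left_cancel h2)
  calc Nat.card M ≤ Nat.card (N × {u : G // u ∈ M ∧ u * e = e * u}) :=
        Nat.card_le_card_of_injective F hF
    _ = _ := Nat.card_prod _ _

end Basic

/-- automorphisms of a group of prime order `p` have exponent `p - 1`. -/
theorem aut_pow_of_card_le {V : Type*} [Group V] [Finite V] {p : ℕ} (hp : p.Prime)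
    (hV : Nat.card V = 1 ∨ Nat.card V = p) (α : MulAut V) : α ^ (p - 1) = 1 := by
  rcases hV with h | h
  · haveI : Subsingleton V := (Nat.card_eq_one_iff_unique.mp h).1
    apply MulEquiv.ext
    intro v
    exact Subsingleton.elim _ _
  · haveI : Fact p.Prime := ⟨hp⟩
    haveI : IsCyclic V := isCyclic_of_prime_card h
    have h1 : Nat.card (MulAut V) = p - 1 := by
      rw [IsCyclic.card_mulAut, h, Nat.totient_prime hp]
    haveI : Finite (MulAut V) := Nat.finite_of_card_ne_zero (by
      rw [h1]; have := hp.two_le; omega)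
    rw [← h1]
    exact pow_card_eq_one'

/-- an automorphism of order dividing `q` (prime to `p - 1`) of a group of order `1` or `p` is
trivial. -/
theorem aut_eq_one_of_card_le {V : Type*} [Group V] [Finite V] {p q : ℕ} (hp : p.Prime)
    (hV : Nat.card V = 1 ∨ Nat.card V = p) (hq : (q).Coprime (p - 1)) (α : MulAut V)
    (hα : α ^ q = 1) : α = 1 := by
  have h1 := aut_pow_of_card_le hp hV α
  have h2 : orderOf α ∣ q := orderOf_dvd_of_pow_eq_one hα
  have h3 : orderOf α ∣ p - 1 := orderOf_dvd_of_pow_eq_one h1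
  exact orderOf_eq_one_iff.mp (Nat.eq_one_of_dvd_coprimes hq h2 h3)

/-- refined version of `sec_prime`. -/
theorem sec_prime_fix {V : Type*} [Group V] [Finite V] {p q : ℕ} [hp : Fact p.Prime] (hq : q.Prime)
    (hqp : q ≠ p) (hq1 : ¬ q ∣ p - 1) (hexp : ∀ a : V, a ^ p = 1) (hcard : Nat.card V ≤ p ^ 2)
    (α : MulAut V) (hα : α ^ q = 1) (hα1 : α ≠ 1) :
    (∀ v : V, α v = v → v = 1) ∧ Nat.card V = p ^ 2 ∧ q ∣ p + 1 := by
  classical
  haveI : Fact q.Prime := ⟨hq⟩
  have hpp := hp.out
  obtain ⟨K, hKdef⟩ : ∃ K : Subgroup (MulAut V), K = Subgroup.zpowers α := ⟨_, rfl⟩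
  have hK : IsPGroup q K := by
    rintro ⟨k, hk⟩
    refine ⟨1, ?_⟩
    rw [hKdef] at hk
    obtain ⟨i, rfl⟩ := Subgroup.mem_zpowers_iff.mp hk
    apply Subtype.ext
    simp only [pow_one, Subgroup.coe_pow, Subgroup.coe_one]
    rw [← zpow_natCast, ← zpow_mul, mul_comm, zpow_mul, zpow_natCast, hα, one_zpow]
  have hmod := hK.card_modEq_card_fixedPoints V
  let F : Subgroup V :=
    { carrier := {v | α v = v}
      one_mem' := map_one α
      mul_mem' := by
        intro a b ha hb
        simp only [Set.mem_setOf_eq] at *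
        rw [map_mul, ha, hb]
      inv_mem' := by
        intro a ha
        simp only [Set.mem_setOf_eq] at *
        rw [map_inv, ha] }
  have hFmem : ∀ v : V, v ∈ F ↔ α v = v := fun v => Iff.rfl
  have hfix : Nat.card (MulAction.fixedPoints K V) = Nat.card F := by
    apply Nat.card_congr
    refine
      { toFun := fun v => ⟨v.1, ?_⟩
        invFun := fun v => ⟨v.1, ?_⟩
        left_inv := fun v => rfl
        right_inv := fun v => rfl }
    · have := v.2 ⟨α, by rw [hKdef]; exact Subgroup.mem_zpowers α⟩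
      exact this
    · rintro ⟨k, hk⟩
      have hst : α ∈ MulAction.stabilizer (MulAut V) (v.1 : V) := by
        rw [MulAction.mem_stabilizer_iff]; exact v.2
      rw [hKdef] at hk
      have := (Subgroup.zpowers_le.2 hst) hk
      exact MulAction.mem_stabilizer_iff.1 this
  rw [hfix] at hmod
  have hV : IsPGroup p V := fun a => ⟨1, by rw [pow_one]; exact hexp a⟩
  obtain ⟨i, hi⟩ := IsPGroup.iff_card.mp hV
  obtain ⟨j, hj⟩ := IsPGroup.iff_card.mp (hV.to_subgroup F)
  have hi2 : i ≤ 2 := by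
    rw [hi] at hcard
    exact (Nat.pow_le_pow_iff_right hpp.one_lt).mp hcard
  have hji : j ≤ i := by
    have := Subgroup.card_le_card_group F
    rw [hi, hj] at this
    exact (Nat.pow_le_pow_iff_right hpp.one_lt).mp this
  have hne : j ≠ i := by
    intro h
    apply hα1
    have hFtop : F = ⊤ := by
      apply Subgroup.eq_top_of_card_eq
      rw [hi, hj, h]
    apply MulEquiv.ext
    intro v
    have : v ∈ F := by rw [hFtop]; exact Subgroup.mem_top v
    exact this
  rw [hi, hj] at hmod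
  have hdvd : q ∣ p ^ i - p ^ j :=
    (Nat.modEq_iff_dvd' (Nat.pow_le_pow_right hpp.pos hji)).1 hmod.symm
  have hcase : (i = 1 ∧ j = 0) ∨ (i = 2 ∧ j = 0) ∨ (i = 2 ∧ j = 1) := by omega
  rcases hcase with ⟨rfl, rfl⟩ | ⟨rfl, rfl⟩ | ⟨rfl, rfl⟩
  · exfalso
    apply hq1
    simpa using hdvd
  · have h1 : p ^ 2 - p ^ 0 = (p + 1) * (p - 1) := by
      rw [pow_zero]
      obtain ⟨k, hk⟩ : ∃ k, p = k + 1 := ⟨p - 1, by have := hpp.pos; omega⟩
      rw [hk]
      apply Nat.sub_eq_of_eq_add
      rw [Nat.add_sub_cancel]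
      ring
    rw [h1] at hdvd
    refine ⟨?_, hi, ?_⟩
    · intro v hv
      have hF1 : Nat.card F = 1 := by rw [hj, pow_zero]
      have hFbot : F = ⊥ := Subgroup.card_eq_one.mp hF1
      have : v ∈ F := hv
      rw [hFbot, Subgroup.mem_bot] at this
      exact this
    · rcases (hq.dvd_mul).1 hdvd with h | h
      · exact h
      · exact absurd h hq1
  · exfalso
    have h1 : p ^ 2 - p ^ 1 = p * (p - 1) := by
      rw [pow_two, pow_one, Nat.mul_sub_one]
    rw [h1] at hdvd
    rcases (hq.dvd_mul).1 hdvd with h | h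
    · exact hqp ((Nat.prime_dvd_prime_iff_eq hq hpp).1 h)
    · exact hq1 h

variable {p : ℕ} [hp : Fact p.Prime]

/-- a finite group whose derived group has no nontrivial `p'`-elements: `X' ≤ O_p(X)` and
`X / O_p(X)` is a `p'`-group. -/
theorem derived_le_pCore {X : Type*} [Group X] [Finite X]
    (hA1 : ∀ y ∈ commutator X, (orderOf y).Coprime p → y = 1) :
    commutator X ≤ pCore p X ∧ ((pCore p X).index).Coprime p := by
  classical
  have hpp : p.Prime := hp.out
  haveI hPn : (pCore p X).Normal := Cfsg.pCore_normal p X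
  have hPp : IsPGroup p ↥(pCore p X) := pCore_isPGroup' (G := X) p
  have hA2 : IsPGroup p ↥(commutator X) := by
    intro g
    have hn0 : orderOf (g : X) ≠ 0 := (orderOf_pos (g : X)).ne'
    obtain ⟨a, m, hm, hnm⟩ := Nat.exists_eq_pow_mul_and_not_dvd hn0 p hpp.ne_one
    refine ⟨a, ?_⟩
    apply Subtype.ext
    rw [Subgroup.coe_pow, Subgroup.coe_one]
    apply hA1 _ ((commutator X).pow_mem g.2 _)
    have h5 : ((g : X) ^ (p ^ a)) ^ m = 1 := by
      rw [← pow_mul, ← hnm, pow_orderOf_eq_one]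
    have h6 : orderOf ((g : X) ^ (p ^ a)) ∣ m := orderOf_dvd_of_pow_eq_one h5
    have h7 : m.Coprime p := ((Nat.Prime.coprime_iff_not_dvd hpp).mpr hm).symm
    exact Nat.Coprime.coprime_dvd_left h6 h7
  have hA : commutator X ≤ pCore p X := le_pCore' inferInstance hA2
  refine ⟨hA, ?_⟩
  rw [Nat.coprime_comm, Nat.Prime.coprime_iff_not_dvd hpp]
  intro hdvd
  have hab : ∀ a b : X ⧸ pCore p X, a * b = b * a := by
    intro a b
    induction a using QuotientGroup.induction_on with
    | H a =>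
    induction b using QuotientGroup.induction_on with
    | H b =>
    rw [← QuotientGroup.mk_mul, ← QuotientGroup.mk_mul, QuotientGroup.eq]
    apply hA
    have h5 : (a * b)⁻¹ * (b * a) = ⁅b⁻¹, a⁻¹⁆ := by
      rw [commutatorElement_def]; group
    rw [h5]
    exact Subgroup.commutator_mem_commutator (Subgroup.mem_top _) (Subgroup.mem_top _)
  have hdvd' : p ∣ Nat.card (X ⧸ pCore p X) := by
    rw [← Subgroup.index_eq_card]; exact hdvd
  obtain ⟨ybar, hybar⟩ := exists_prime_orderOf_dvd_card' p hdvd'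
  obtain ⟨Tbar, hTbar⟩ : ∃ Tbar : Subgroup (X ⧸ pCore p X), Tbar = Subgroup.zpowers ybar :=
    ⟨_, rfl⟩
  haveI hTn : Tbar.Normal := by
    refine ⟨fun n hn g => ?_⟩
    rw [hab g n, mul_inv_cancel_right]
    exact hn
  have hTp : IsPGroup p Tbar := by
    apply IsPGroup.of_card (n := 1)
    rw [hTbar, Nat.card_zpowers, hybar, pow_one]
  have hTcomap : IsPGroup p (Tbar.comap (QuotientGroup.mk' (pCore p X))) := by
    apply hTp.comap_of_ker_isPGroup
    rw [QuotientGroup.ker_mk']
    exact hPp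
  have hle : Tbar.comap (QuotientGroup.mk' (pCore p X)) ≤ pCore p X :=
    le_pCore' (hTn.comap _) hTcomap
  obtain ⟨g, hg⟩ := QuotientGroup.mk'_surjective (pCore p X) ybar
  have hgT : g ∈ Tbar.comap (QuotientGroup.mk' (pCore p X)) := by
    rw [Subgroup.mem_comap, hg, hTbar]
    exact Subgroup.mem_zpowers ybar
  have hgP : g ∈ pCore p X := hle hgT
  have hy1 : ybar = 1 := by
    rw [← hg]
    exact (QuotientGroup.eq_one_iff g).2 hgP
  rw [hy1, orderOf_one] at hybar
  exact hpp.one_lt.ne hybar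

end Cfsg.Agent.Lib.Helper23.XSq
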