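import Mathlib
import Cfsg.Agent.Lib.Helper23.XSq

/-!
# Automorphism groups of odd order of narrow `p`-groups: parts (a), (b), (c1) (helper23)
-/

set_option autoImplicit false
set_option maxHeartbeats 1000000
set_option linter.style.haveILetI false

namespace Cfsg.Agent.Lib.Helper23.XSr

open scoped commutatorElement
open Cfsg Cfsg.Agent.Lib.Helper14 Cfsg.Agent.Lib.Helper20 Cfsg.Agent.Lib.Helper23.XSl
  Cfsg.Agent.Lib.Helper23.XSq Cfsg.Agent.Lib.Helper23.XSn Cfsg.Agent.Lib.Helper23.XSm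

universe u v

variable {p : ℕ} [hp : Fact p.Prime]

/-- in a narrow `p`-group of rank at least `3`, the special element `e` commutes with at most `p`
elements of `Ω₁(C)`. -/
theorem bound_of_rank3 {R : Type u} [Group R] [Finite R] (hp2 : p ≠ 2) (hR : IsPGroup p R)
    (hrk : ¬ Cfsg.PRankLE p 2 R) (e : R) (hep : e ^ p = 1)
    (he : Nat.card {u : R // u * e = e * u ∧ u ^ p = 1} ≤ p ^ 2)
    (C : Subgroup R) (hCn : C.Normal)
    (h1 : (frattini C).map C.subtype ≤ Subgroup.centralizer (C : Set R))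
    (h2 : ⁅C, (⊤ : Subgroup R)⁆ ≤ C ⊓ Subgroup.centralizer (C : Set R)) :
    Nat.card {u : R // u ∈ C ∧ u ^ p = 1 ∧ u * e = e * u} ≤ p ^ 1 := by
  classical
  have hpp : p.Prime := hp.out
  have hCp : IsPGroup p C := hR.to_subgroup C
  have hclC : ∀ a b : C, ⁅a, b⁆ ∈ Subgroup.center C := by
    intro a b
    rw [Subgroup.mem_center_iff]
    intro g
    apply Subtype.ext
    have hmem : ⁅(a : R), (b : R)⁆ ∈ Subgroup.centralizer (C : Set R) :=
      (h2 (Subgroup.commutator_mem_commutator a.2 (Subgroup.mem_top _))).2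
    exact Subgroup.mem_centralizer_iff.mp hmem g g.2
  have hpowC : ∀ a : C, a ^ p ∈ Subgroup.center C := by
    intro a
    have hmemΦ : a ^ p ∈ frattini C := pow_mem_frattini_of_isPGroup' hCp a
    have hc : ((a ^ p : C) : R) ∈ Subgroup.centralizer (C : Set R) := h1 ⟨a ^ p, hmemΦ, rfl⟩
    rw [Subgroup.mem_center_iff]
    intro g
    apply Subtype.ext
    exact Subgroup.mem_centralizer_iff.mp hc g g.2
  have hpab : ∀ a b : C, (a * b) ^ p = a ^ p * b ^ p := mul_pow_prime_of_classTwo hp2 hclC hpowC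
  let T : Subgroup R :=
    { carrier := {y | y ∈ C ∧ y ^ p = 1 ∧ y * e = e * y}
      one_mem' := ⟨C.one_mem, one_pow p, by rw [one_mul, mul_one]⟩
      mul_mem' := by
        rintro a b ⟨haC, hap, hae⟩ ⟨hbC, hbp, hbe⟩
        refine ⟨C.mul_mem haC hbC, ?_, ?_⟩
        · have h' : ((⟨a, haC⟩ * ⟨b, hbC⟩ : C) ^ p : C) = (⟨a, haC⟩ : C) ^ p * (⟨b, hbC⟩ : C) ^ p :=
            hpab ⟨a, haC⟩ ⟨b, hbC⟩
          have h'' := congrArg Subtype.val h'
          simp only [Subgroup.coe_pow, Subgroup.coe_mul] at h''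
          rw [h'', hap, hbp, one_mul]
        · rw [mul_assoc, hbe, ← mul_assoc, hae, mul_assoc]
      inv_mem' := by
        rintro a ⟨haC, hap, hae⟩
        refine ⟨C.inv_mem haC, by rw [inv_pow, hap, inv_one], ?_⟩
        have hc : Commute a e := hae
        exact hc.inv_left.eq }
  have hTmem : ∀ y : R, y ∈ T ↔ y ∈ C ∧ y ^ p = 1 ∧ y * e = e * y := fun y => Iff.rfl
  have hTcard : Nat.card {u : R // u ∈ C ∧ u ^ p = 1 ∧ u * e = e * u} = Nat.card T :=
    Nat.card_congr (Equiv.subtypeEquivRight (fun u => (hTmem u).symm))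
  rw [hTcard, pow_one]
  by_contra hgt
  push_neg at hgt
  obtain ⟨j, hj⟩ := IsPGroup.iff_card.mp (hR.to_subgroup T)
  have hj2 : 2 ≤ j := by
    by_contra hlt
    push_neg at hlt
    have : p ^ j ≤ p ^ 1 := Nat.pow_le_pow_right hpp.pos (by omega)
    rw [pow_one] at this
    omega
  have hTge : p ^ 2 ≤ Nat.card T := by
    rw [hj]; exact Nat.pow_le_pow_right hpp.pos hj2
  -- the injection `T → S`
  let ι : T → {u : R // u * e = e * u ∧ u ^ p = 1} := fun t =>
    ⟨t.1, ((hTmem _).1 t.2).2.2, ((hTmem _).1 t.2).2.1⟩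
  have hι : Function.Injective ι := by
    intro s t h
    exact Subtype.ext (congrArg (fun z : {u : R // u * e = e * u ∧ u ^ p = 1} => (z : R)) h)
  haveI : Finite {u : R // u * e = e * u ∧ u ^ p = 1} := Subtype.finite
  have hιb : Function.Bijective ι :=
    Function.Injective.bijective_of_nat_card_le hι (le_trans he hTge)
  have hTS : Nat.card T = p ^ 2 := by
    apply le_antisymm _ hTge
    exact le_trans (Nat.card_le_card_of_injective ι hι) he
  have heT : e ∈ T := by
    obtain ⟨t, ht⟩ := hιb.2 ⟨e, rfl, hep⟩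
    have : (t : R) = e := congrArg (fun z : {u : R // u * e = e * u ∧ u ^ p = 1} => (z : R)) ht
    rw [← this]; exact t.2
  have heC : e ∈ C := ((hTmem _).1 heT).1
  unfold Cfsg.PRankLE at hrk
  push_neg at hrk
  obtain ⟨B, hBc, hBexp, hBcard⟩ := hrk
  by_cases heB : e ∈ B
  · -- `B ⊆ S`
    let κ : B → {u : R // u * e = e * u ∧ u ^ p = 1} := fun b =>
      ⟨b.1, by
        have := hBc.is_comm.comm b ⟨e, heB⟩
        exact congrArg Subtype.val this, hBexp b.1 b.2⟩
    have hκ : Function.Injective κ := by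
      intro s t h
      exact Subtype.ext (congrArg (fun z : {u : R // u * e = e * u ∧ u ^ p = 1} => (z : R)) h)
    have := le_trans (Nat.card_le_card_of_injective κ hκ) he
    omega
  · have he1 : e ≠ 1 := fun h => heB (h ▸ B.one_mem)
    -- the counting
    let N : Set R := {v | v * e ∈ T ∧ v * e ≠ 1}
    have hNlt : Nat.card N < Nat.card T := by
      let ν : N → T := fun v => ⟨v.1 * e, v.2.1⟩
      have hν : Function.Injective ν := by
        intro s t h
        have : (s : R) * e = (t : R) * e := congrArg Subtype.val h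
        exact Subtype.ext (mul_right_cancel this)
      by_contra hge
      push_neg at hge
      have hνb : Function.Bijective ν := Function.Injective.bijective_of_nat_card_le hν hge
      obtain ⟨v, hv⟩ := hνb.2 (1 : T)
      exact v.2.2 (congrArg Subtype.val hv)
    have hconj : ∀ y ∈ B, y * e * y⁻¹ * e⁻¹ ∈ N := by
      intro y _
      have hcm : y * e * y⁻¹ * e⁻¹ ∈ Subgroup.centralizer (C : Set R) := by
        have h3 : ⁅y, e⁆ ∈ ⁅C, (⊤ : Subgroup R)⁆ := by
          rw [Subgroup.commutator_comm]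
          exact Subgroup.commutator_mem_commutator (Subgroup.mem_top _) heC
        exact (h2 h3).2
      have hce : e * (y * e * y⁻¹ * e⁻¹) = (y * e * y⁻¹ * e⁻¹) * e :=
        Subgroup.mem_centralizer_iff.mp hcm e heC
      have hsimp : y * e * y⁻¹ * e⁻¹ * e = y * e * y⁻¹ := by group
      refine ⟨?_, ?_⟩
      · rw [hsimp, hTmem]
        refine ⟨hCn.conj_mem e heC y, ?_, ?_⟩
        · rw [conj_pow, hep, mul_one, mul_inv_cancel]
        · rw [hsimp] at hce
          calc y * e * y⁻¹ * e = (y * e * y⁻¹ * e⁻¹) * e * e := by group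
            _ = e * (y * e * y⁻¹ * e⁻¹) * e := by rw [hsimp, hce]
            _ = e * (y * e * y⁻¹) := by group
      · rw [hsimp]
        intro h
        apply he1
        have : e = y⁻¹ * (y * e * y⁻¹) * y := by group
        rw [this, h]; group
    have hcount := card_le_mul_card_fixed_set B N e hconj
    let CB : Subgroup R :=
      { carrier := {u | u ∈ B ∧ u * e = e * u}
        one_mem' := ⟨B.one_mem, by rw [one_mul, mul_one]⟩
        mul_mem' := by
          rintro a b ⟨haB, hae⟩ ⟨hbB, hbe⟩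
          refine ⟨B.mul_mem haB hbB, ?_⟩
          rw [mul_assoc, hbe, ← mul_assoc, hae, mul_assoc]
        inv_mem' := by
          rintro a ⟨haB, hae⟩
          refine ⟨B.inv_mem haB, ?_⟩
          have hc : Commute a e := hae
          exact hc.inv_left.eq }
    have hCBmem : ∀ y : R, y ∈ CB ↔ y ∈ B ∧ y * e = e * y := fun y => Iff.rfl
    have hCBcard : Nat.card {u : R // u ∈ B ∧ u * e = e * u} = Nat.card CB :=
      Nat.card_congr (Equiv.subtypeEquivRight (fun u => (hCBmem u).symm))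
    rw [hCBcard] at hcount
    obtain ⟨i, hi⟩ := IsPGroup.iff_card.mp (hR.to_subgroup B)
    obtain ⟨k, hk⟩ := IsPGroup.iff_card.mp (hR.to_subgroup CB)
    let κ : CB → {u : R // u * e = e * u ∧ u ^ p = 1} := fun b =>
      ⟨b.1, ((hCBmem _).1 b.2).2, hBexp b.1 ((hCBmem _).1 b.2).1⟩
    have hκ : Function.Injective κ := by
      intro s t h
      exact Subtype.ext (congrArg (fun z : {u : R // u * e = e * u ∧ u ^ p = 1} => (z : R)) h)
    have hk2 : Nat.card CB ≤ p ^ 2 := le_trans (Nat.card_le_card_of_injective κ hκ) he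
    have hkne : Nat.card CB ≠ p ^ 2 := by
      intro h
      have hκb : Function.Bijective κ :=
        Function.Injective.bijective_of_nat_card_le hκ (by rw [h]; exact he)
      obtain ⟨t, ht⟩ := hκb.2 ⟨e, rfl, hep⟩
      have : (t : R) = e := congrArg (fun z : {u : R // u * e = e * u ∧ u ^ p = 1} => (z : R)) ht
      apply heB
      rw [← this]; exact ((hCBmem _).1 t.2).1
    have hk1 : k ≤ 1 := by
      rw [hk] at hk2 hkne
      have hk2' : k ≤ 2 := (Nat.pow_le_pow_iff_right hpp.one_lt).mp hk2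
      have : k ≠ 2 := fun h => hkne (by rw [h])
      omega
    have hi3 : 3 ≤ i := by
      rw [hi] at hBcard
      have := (Nat.pow_lt_pow_iff_right hpp.one_lt).mp hBcard
      omega
    have hB3 : p ^ 3 ≤ Nat.card B := by rw [hi]; exact Nat.pow_le_pow_right hpp.pos hi3
    have hCBp : Nat.card CB ≤ p := by
      rw [hk]
      calc p ^ k ≤ p ^ 1 := Nat.pow_le_pow_right hpp.pos hk1
        _ = p := pow_one p
    rw [hTS] at hNlt
    have h5 : Nat.card N * Nat.card CB ≤ (p ^ 2 - 1) * p :=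
      Nat.mul_le_mul (by omega) hCBp
    have h6 : (p ^ 2 - 1) * p < p ^ 3 := by
      have h7 : p ^ 3 = p ^ 2 * p := by ring
      rw [h7]
      apply Nat.mul_lt_mul_of_pos_right _ hpp.pos
      have : 0 < p ^ 2 := pow_pos hpp.pos 2
      omega
    omega

/-- part (a), abstract form. -/
theorem partA {R : Type u} {X : Type v} [Group R] [Finite R] [Group X] [Finite X] (hp2 : p ≠ 2)
    (hR : IsPGroup p R) (hn : Cfsg.IsNarrow p R) (hodd : Odd (Nat.card X))
    (hsolv : Group.IsSolvable X) (φ : X →* MulAut R) (hφ : ∀ x : X, φ x = 1 → x = 1) :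
    commutator X ≤ pCore p X ∧ ((pCore p X).index).Coprime p := by
  apply derived_le_pCore
  intro y hy hyo
  apply hφ
  rcases narrow_data hR hn with hrk | ⟨e, _, he⟩
  · exact Cfsg.Agent.Lib.Helper13.RankTwoAct.act_trivial hp2 hR hrk hodd hsolv φ y hy hyo
  · exact narrow_act_trivial hp2 hR e he hodd hsolv φ y hy hyo

/-- part (b), abstract form. -/
theorem partB {R : Type u} {X : Type v} [Group R] [Finite R] [Group X] [Finite X] (hp2 : p ≠ 2)
    (hR : IsPGroup p R) (hn : Cfsg.IsNarrow p R) (hrk : ¬ Cfsg.PRankLE p 2 R)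
    (φ : X →* MulAut R) (a : X) (hao : (orderOf a).Coprime p) : φ (a ^ (p - 1)) = 1 := by
  classical
  have hpp : p.Prime := hp.out
  rcases narrow_data hR hn with h | ⟨e, hep, he⟩
  · exact absurd h hrk
  obtain ⟨C, hCchar, h1, h2, h3⟩ := Cfsg.Agent.S0093.result hR
  haveI := hCchar
  have hCn : C.Normal := inferInstance
  have hb := bound_of_rank3 hp2 hR hrk e hep he C hCn h1 h2
  have hxo : (orderOf (a ^ (p - 1))).Coprime p :=
    Nat.Coprime.coprime_dvd_left (orderOf_pow_dvd (p - 1)) hao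
  refine chain_core hp2 hR 1 e C hCchar h1 h2 h3 hb φ (a ^ (p - 1)) hxo (orderOf_pos _) ?_
  intro V _ _ _ hexp hcard ψ
  rw [map_pow]
  apply aut_pow_of_card_le hpp
  have hV : IsPGroup p V := fun a => ⟨1, by rw [pow_one]; exact hexp a⟩
  obtain ⟨i, hi⟩ := IsPGroup.iff_card.mp hV
  rw [hi] at hcard ⊢
  have hi1 : i ≤ 1 := (Nat.pow_le_pow_iff_right hpp.one_lt).mp hcard
  rcases Nat.le_one_iff_eq_zero_or_eq_one.mp hi1 with h | h
  · left; rw [h, pow_zero]
  · right; rw [h, pow_one]

/-- part (c1), abstract form: a faithful automorphism of prime order `r ∤ p (p - 1)`. -/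
theorem partC1 {R : Type u} {X : Type v} [Group R] [Finite R] [Group X] [Finite X] (hp2 : p ≠ 2)
    (hR : IsPGroup p R) (hn : Cfsg.IsNarrow p R) (r : ℕ) (hr : r.Prime)
    (hrp : ¬ r ∣ p * (p - 1)) (φ : X →* MulAut R) (a : X) (har : a ^ r = 1)
    (hφa : φ a ≠ 1) :
    Cfsg.PRankLE p 2 R ∧ r ∣ p + 1 := by
  classical
  have hpp : p.Prime := hp.out
  have hrp1 : ¬ r ∣ p - 1 := fun h => hrp (Dvd.dvd.mul_left h p)
  have hrnp : r ≠ p := fun h => hrp (h ▸ Dvd.intro _ rfl)
  have ha1 : a ≠ 1 := fun h => hφa (by rw [h, map_one])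
  have hord : orderOf a = r := by
    have hd : orderOf a ∣ r := orderOf_dvd_of_pow_eq_one har
    rcases (Nat.dvd_prime hr).1 hd with h | h
    · exact absurd (orderOf_eq_one_iff.mp h) ha1
    · exact h
  have hcop : (orderOf a).Coprime p := by
    rw [hord]
    exact (Nat.coprime_primes hr hpp).2 hrnp
  have hrk : Cfsg.PRankLE p 2 R := by
    by_contra hrk
    have h := partB hp2 hR hn hrk φ a hcop
    -- φ a has order dividing gcd(r, p-1) = 1
    have h1 : (φ a) ^ (p - 1) = 1 := by rw [← map_pow]; exact h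
    have h2 : (φ a) ^ r = 1 := by rw [← map_pow, har, map_one]
    have h3 : orderOf (φ a) ∣ p - 1 := orderOf_dvd_of_pow_eq_one h1
    have h4 : orderOf (φ a) ∣ r := orderOf_dvd_of_pow_eq_one h2
    have hc : r.Coprime (p - 1) := (Nat.Prime.coprime_iff_not_dvd hr).2 hrp1
    exact hφa (orderOf_eq_one_iff.mp (Nat.eq_one_of_dvd_coprimes hc h4 h3))
  refine ⟨hrk, ?_⟩
  by_contra hnd
  apply hφa
  obtain ⟨C, hCchar, h1, h2, h3⟩ := Cfsg.Agent.S0093.result hR
  obtain ⟨e, he⟩ := exists_e_rank2 hp2 hR hrk C h1 h2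
  refine chain_core hp2 hR 2 e C hCchar h1 h2 h3 he φ a hcop (orderOf_pos _) ?_
  intro V _ _ _ hexp hcard ψ
  by_contra hne
  have hα : (ψ a) ^ r = 1 := by rw [← map_pow, har, map_one]
  exact hnd (sec_prime_fix hr hrnp hrp1 hexp hcard (ψ a) hα hne).2.2

end Cfsg.Agent.Lib.Helper23.XSr
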