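import Mathlib
import Cfsg.Agent.Lib.Helper23.XSr

/-!
# `p`-groups (`p` odd) all of whose elements of order `p` are central (helper23)

Laffey's lemma, restriction of automorphisms, two-generator groups with a fixed-point-free
automorphism.
-/

set_option autoImplicit false
set_option maxHeartbeats 1000000
set_option linter.style.haveILetI false

namespace Cfsg.Agent.Lib.Helper23.XSs

open scoped commutatorElement
open Cfsg Cfsg.Agent.Lib.Helper14 Cfsg.Agent.Lib.Helper20 Cfsg.Agent.Lib.Helper23.XSl
  Cfsg.Agent.Lib.Helper23.XSq Cfsg.Agent.Lib.Helper23.FrobE Cfsg.Agent.Lib.Helper23.FrobD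

universe u

variable {p : ℕ} [hp : Fact p.Prime]

/-- Laffey's lemma: if all elements of order `p` are central (`p` odd) then `x ^ p = y ^ p` forces
`(x⁻¹ y) ^ p = 1`. -/
theorem laffey (hp2 : p ≠ 2) : ∀ (n : ℕ) (G : Type u) [Group G] [Finite G], Nat.card G = n →
    IsPGroup p G → (∀ x : G, x ^ p = 1 → x ∈ Subgroup.center G) →
    ∀ x y : G, x ^ p = y ^ p → (x⁻¹ * y) ^ p = 1 := by
  intro n
  induction n using Nat.strong_induction_on with
  | _ n ih =>
  intro G _ _ hn hG hΩ x y hxy
  by_cases htop : Subgroup.zpowers x = ⊤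
  · have hy : y ∈ Subgroup.zpowers x := by rw [htop]; exact Subgroup.mem_top y
    obtain ⟨k, rfl⟩ := Subgroup.mem_zpowers_iff.mp hy
    have hc : Commute x⁻¹ (x ^ k) := (Commute.refl x).inv_left.zpow_right k
    rw [hc.mul_pow, inv_pow, hxy, inv_mul_cancel]
  · obtain ⟨M, hM, hxM⟩ := (eq_top_or_exists_le_coatom (Subgroup.zpowers x)).resolve_left htop
    haveI : Group.IsNilpotent G := hG.isNilpotent
    have hMn : M.Normal :=
      Subgroup.NormalizerCondition.normal_of_coatom M normalizerCondition_of_isNilpotent hM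
    have hx : x ∈ M := hxM (Subgroup.mem_zpowers x)
    have hx' : y * x * y⁻¹ ∈ M := hMn.conj_mem x hx y
    have hlt : Nat.card M < n := by
      rw [← hn]
      apply lt_of_le_of_ne (Subgroup.card_le_card_group M)
      intro h
      exact hM.1 (Subgroup.eq_top_of_card_eq M h)
    have hΩM : ∀ m : M, m ^ p = 1 → m ∈ Subgroup.center M := by
      intro m hm
      have h1 : (m : G) ^ p = 1 := by
        have := congrArg Subtype.val hm
        simpa using this
      have h2 := hΩ (m : G) h1
      rw [Subgroup.mem_center_iff] at h2 ⊢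
      intro g
      exact Subtype.ext (h2 (g : G))
    have hpow : (⟨x, hx⟩ : M) ^ p = (⟨y * x * y⁻¹, hx'⟩ : M) ^ p := by
      apply Subtype.ext
      rw [Subgroup.coe_pow, Subgroup.coe_pow]
      show x ^ p = (y * x * y⁻¹) ^ p
      rw [conj_pow, hxy]
      group
    have h3 := ih (Nat.card M) hlt M rfl (hG.to_subgroup M) hΩM ⟨x, hx⟩ ⟨y * x * y⁻¹, hx'⟩ hpow
    have h4 : (x⁻¹ * (y * x * y⁻¹)) ^ p = 1 := by
      have := congrArg Subtype.val h3
      simpa using this
    have h5 : x⁻¹ * (y * x * y⁻¹) ∈ Subgroup.center G := hΩ _ h4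
    have h6 : ⁅y, x⁻¹⁆ = (x⁻¹ * (y * x * y⁻¹))⁻¹ := by
      rw [commutatorElement_def]; group
    have h7 : (x⁻¹ * y) ^ p = x⁻¹ ^ p * y ^ p := by
      apply mul_pow_prime_of_central_commutator hp2
      · intro g
        rw [h6]
        exact ((Subgroup.mem_center_iff.mp ((Subgroup.center G).inv_mem h5)) g).symm
      · rw [h6, inv_pow, h4, inv_one]
    rw [h7, inv_pow, hxy, inv_mul_cancel]

section Res

variable {Q : Type*} [Group Q]

/-- restriction of an automorphism of a finite group to an invariant subgroup. -/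
noncomputable def resAut [Finite Q] (α : MulAut Q) (T : Subgroup Q) (h : ∀ n ∈ T, α n ∈ T) :
    MulAut T :=
  MulEquiv.ofBijective
    ((((α : Q ≃* Q).toMonoidHom).comp T.subtype).codRestrict T (fun n => h n n.2))
    (by
      apply (Finite.injective_iff_bijective).1
      intro a b hab
      have : α (a : Q) = α (b : Q) := congrArg Subtype.val hab
      exact Subtype.ext (α.injective this))

theorem resAut_apply [Finite Q] (α : MulAut Q) (T : Subgroup Q) (h : ∀ n ∈ T, α n ∈ T) (n : T) :
    ((resAut α T h n : T) : Q) = α n := rfl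

theorem resAut_pow_apply [Finite Q] (α : MulAut Q) (T : Subgroup Q) (h : ∀ n ∈ T, α n ∈ T)
    (k : ℕ) (n : T) : (((resAut α T h) ^ k) n : Q) = (α ^ k) n := by
  induction k generalizing n with
  | zero => simp
  | succ k ih =>
    rw [pow_succ, pow_succ, MulAut.mul_apply, MulAut.mul_apply, ih, resAut_apply]

theorem resAut_pow_eq_one [Finite Q] (α : MulAut Q) (T : Subgroup Q) (h : ∀ n ∈ T, α n ∈ T)
    (r : ℕ) (hr : α ^ r = 1) : (resAut α T h) ^ r = 1 := by
  apply MulEquiv.ext
  intro n
  apply Subtype.ext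
  rw [resAut_pow_apply, hr]
  rfl

theorem resAut_eq_one_iff [Finite Q] (α : MulAut Q) (T : Subgroup Q) (h : ∀ n ∈ T, α n ∈ T) :
    resAut α T h = 1 ↔ ∀ n ∈ T, α n = n := by
  constructor
  · intro h1 n hn
    have := congrArg (fun β : MulAut T => ((β ⟨n, hn⟩ : T) : Q)) h1
    simpa [resAut_apply] using this
  · intro h1
    apply MulEquiv.ext
    intro n
    apply Subtype.ext
    rw [resAut_apply]
    exact h1 n n.2

/-- a group generated by two commuting elements is commutative. -/
theorem comm_of_closure_pair (x y : Q) (hgen : Subgroup.closure ({x, y} : Set Q) = ⊤)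
    (hxy : x * y = y * x) : ∀ a b : Q, a * b = b * a := by
  have hx : x ∈ Subgroup.centralizer ((Subgroup.closure ({x, y} : Set Q) : Subgroup Q) : Set Q) := by
    rw [Subgroup.centralizer_closure, Subgroup.mem_centralizer_iff]
    intro g hg
    rcases hg with rfl | rfl
    · rfl
    · exact hxy.symm
  have hy : y ∈ Subgroup.centralizer ((Subgroup.closure ({x, y} : Set Q) : Subgroup Q) : Set Q) := by
    rw [Subgroup.centralizer_closure, Subgroup.mem_centralizer_iff]
    intro g hg
    rcases hg with rfl | rfl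
    · exact hxy
    · rfl
  rw [hgen] at hx hy
  have hle : Subgroup.closure ({x, y} : Set Q) ≤ Subgroup.centralizer ((⊤ : Subgroup Q) : Set Q) := by
    rw [Subgroup.closure_le]
    intro g hg
    rcases hg with rfl | rfl
    · exact hx
    · exact hy
  rw [hgen] at hle
  intro a b
  have ha : a ∈ Subgroup.centralizer ((⊤ : Subgroup Q) : Set Q) := hle (Subgroup.mem_top a)
  exact (Subgroup.mem_centralizer_iff.mp ha b (Subgroup.mem_top b)).symm

end Res

end Cfsg.Agent.Lib.Helper23.XSs
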