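import Mathlib
import Cfsg.Agent.Lib.Helper23.XSs

/-!
# Fixed-point-free automorphisms of `p`-groups with central `Ω₁` of order at most `p²` (helper23)
-/

set_option autoImplicit false
set_option maxHeartbeats 1000000
set_option linter.style.haveILetI false

namespace Cfsg.Agent.Lib.Helper23.XSt

open scoped commutatorElement
open Cfsg Cfsg.Agent.Lib.Helper14 Cfsg.Agent.Lib.Helper20 Cfsg.Agent.Lib.Helper23.XSl
  Cfsg.Agent.Lib.Helper23.XSq Cfsg.Agent.Lib.Helper23.FrobE Cfsg.Agent.Lib.Helper23.FrobD
  Cfsg.Agent.Lib.Helper23.XSs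

universe u

variable {p : ℕ} [hp : Fact p.Prime]

/-- an automorphism of order prime to `p (p - 1)` of a cyclic `p`-group is trivial. -/
theorem cyclic_aut_trivial {T : Type*} [Group T] [Finite T] [IsCyclic T] (hT : IsPGroup p T)
    (β : MulAut T) (r : ℕ) (hrp : r.Coprime p) (hrp1 : r.Coprime (p - 1)) (hβ : β ^ r = 1) :
    β = 1 := by
  have hpp : p.Prime := hp.out
  obtain ⟨n, hn⟩ := IsPGroup.iff_card.mp hT
  have h1 : Nat.card (MulAut T) = Nat.totient (p ^ n) := by
    rw [IsCyclic.card_mulAut, hn]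
  have hpos : 0 < Nat.totient (p ^ n) := Nat.totient_pos.2 (pow_pos hpp.pos n)
  haveI : Finite (MulAut T) := Nat.finite_of_card_ne_zero (by rw [h1]; omega)
  have h2 : orderOf β ∣ Nat.totient (p ^ n) := by
    rw [← h1]; exact orderOf_dvd_natCard β
  have h3 : orderOf β ∣ r := orderOf_dvd_of_pow_eq_one hβ
  have hc : r.Coprime (Nat.totient (p ^ n)) := by
    rcases Nat.eq_zero_or_pos n with h | h
    · rw [h, pow_zero, Nat.totient_one]; exact Nat.coprime_one_right r
    · rw [Nat.totient_prime_pow hpp h]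
      exact Nat.Coprime.mul_right (Nat.Coprime.pow_right _ hrp) hrp1
  exact orderOf_eq_one_iff.mp (Nat.eq_one_of_dvd_coprimes hc h3 h2)

/-- a two-generator `p`-group whose generators have central commutator and which has a fixed-point-free
automorphism of order prime to `p (p - 1)` is commutative. -/
theorem abelian_of_two_gen {Q : Type*} [Group Q] [Finite Q] (hQ : IsPGroup p Q) (x y : Q)
    (hgen : Subgroup.closure ({x, y} : Set Q) = ⊤) (hcl : ∀ g : Q, ⁅x, y⁆ * g = g * ⁅x, y⁆)
    (α : MulAut Q) (r : ℕ) (hrp : r.Coprime p) (hrp1 : r.Coprime (p - 1)) (hαr : α ^ r = 1)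
    (hfpf : ∀ q : Q, α q = q → q = 1) : ∀ a b : Q, a * b = b * a := by
  classical
  obtain ⟨t, ht⟩ : ∃ t : Q, t = ⁅x, y⁆ := ⟨_, rfl⟩
  rw [← ht] at hcl
  obtain ⟨T, hTdef⟩ : ∃ T : Subgroup Q, T = Subgroup.zpowers t := ⟨_, rfl⟩
  have htT : t ∈ T := by rw [hTdef]; exact Subgroup.mem_zpowers t
  have hTc : ∀ n ∈ T, ∀ g : Q, n * g = g * n := by
    intro n hn g
    rw [hTdef] at hn
    obtain ⟨k, rfl⟩ := Subgroup.mem_zpowers_iff.mp hn
    have : Commute t g := hcl g
    exact (this.zpow_left k).eq
  haveI hTn : T.Normal :=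
    ⟨fun n hn g => by rw [← hTc n hn g, mul_inv_cancel_right]; exact hn⟩
  have h1 : x * y = t * (y * x) := by rw [ht, commutatorElement_def]; group
  have hquot : ∀ a b : Q ⧸ T, a * b = b * a := by
    apply comm_of_closure_pair (QuotientGroup.mk x : Q ⧸ T) (QuotientGroup.mk y)
    · have := congrArg (Subgroup.map (QuotientGroup.mk' T)) hgen
      rw [MonoidHom.map_closure,
        Subgroup.map_top_of_surjective _ (QuotientGroup.mk'_surjective T)] at this
      rw [← this]
      congr 1
      rw [Set.image_pair]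
      rfl
    · rw [← QuotientGroup.mk_mul, ← QuotientGroup.mk_mul, h1, QuotientGroup.mk_mul,
        (QuotientGroup.eq_one_iff t).2 htT, one_mul]
  have hcomm : ∀ a b : Q, ⁅a, b⁆ ∈ T := by
    intro a b
    rw [← QuotientGroup.eq_one_iff]
    have : ((⁅a, b⁆ : Q) : Q ⧸ T) = ⁅(a : Q ⧸ T), (b : Q ⧸ T)⁆ :=
      map_commutatorElement (QuotientGroup.mk' T) a b
    rw [this, commutatorElement_eq_one_iff_mul_comm]
    exact hquot _ _
  have hαt : α t ∈ T := by
    have : α t = ⁅α x, α y⁆ := by
      rw [ht]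
      exact map_commutatorElement (α : Q ≃* Q).toMonoidHom x y
    rw [this]
    exact hcomm _ _
  have hαT : ∀ n ∈ T, α n ∈ T := by
    intro n hn
    rw [hTdef] at hn
    obtain ⟨k, rfl⟩ := Subgroup.mem_zpowers_iff.mp hn
    rw [map_zpow]
    exact T.zpow_mem hαt k
  haveI : IsCyclic T := by rw [hTdef]; infer_instance
  have hβ := cyclic_aut_trivial (hQ.to_subgroup T) (resAut α T hαT) r hrp hrp1
    (resAut_pow_eq_one α T hαT r hαr)
  have ht1 : t = 1 := hfpf t (((resAut_eq_one_iff α T hαT).1 hβ) t htT)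
  rw [ht1, one_mul] at h1
  exact comm_of_closure_pair x y hgen h1

/-- a `p`-group whose Frattini subgroup has index at most `p²` is generated by two elements. -/
theorem exists_two_gen {R : Type*} [Group R] [Finite R] (hR : IsPGroup p R)
    (hΦ : Nat.card R ≤ p ^ 2 * Nat.card (frattini R)) :
    ∃ x y : R, Subgroup.closure ({x, y} : Set R) = ⊤ := by
  classical
  have hpp : p.Prime := hp.out
  by_cases h1 : ∃ x : R, x ∉ frattini R
  · obtain ⟨x, hx⟩ := h1
    by_cases h2 : ∃ y : R, y ∉ Subgroup.zpowers x ⊔ frattini R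
    · obtain ⟨y, hy⟩ := h2
      refine ⟨x, y, ?_⟩
      apply frattini_nongenerating
      obtain ⟨a, ha⟩ := IsPGroup.iff_card.mp (hR.to_subgroup (frattini R))
      obtain ⟨b, hb⟩ := IsPGroup.iff_card.mp (hR.to_subgroup (Subgroup.zpowers x ⊔ frattini R))
      obtain ⟨c, hc⟩ := IsPGroup.iff_card.mp
        (hR.to_subgroup (Subgroup.closure ({x, y} : Set R) ⊔ frattini R))
      have hxH1 : x ∈ Subgroup.zpowers x ⊔ frattini R :=
        (le_sup_left : Subgroup.zpowers x ≤ _) (Subgroup.mem_zpowers x)
      have hle1 : frattini R ≤ Subgroup.zpowers x ⊔ frattini R := le_sup_right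
      have hle2 : Subgroup.zpowers x ⊔ frattini R ≤
          Subgroup.closure ({x, y} : Set R) ⊔ frattini R := by
        apply sup_le_sup_right
        rw [Subgroup.zpowers_le]
        exact Subgroup.subset_closure (Set.mem_insert x {y})
      have hyH2 : y ∈ Subgroup.closure ({x, y} : Set R) ⊔ frattini R :=
        (le_sup_left : Subgroup.closure ({x, y} : Set R) ≤ _)
          (Subgroup.subset_closure (Set.mem_insert_of_mem x rfl))
      have hab : a < b := by
        have h3 : Nat.card (frattini R) ≤ Nat.card ↥(Subgroup.zpowers x ⊔ frattini R) :=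
          Subgroup.card_le_of_le hle1
        rw [ha, hb] at h3
        have h4 : a ≤ b := (Nat.pow_le_pow_iff_right hpp.one_lt).mp h3
        rcases h4.lt_or_eq with h | h
        · exact h
        · exfalso
          have h5 : frattini R = Subgroup.zpowers x ⊔ frattini R :=
            Subgroup.eq_of_le_of_card_ge hle1 (by rw [ha, hb, h])
          apply hx
          rw [h5]; exact hxH1
      have hbc : b < c := by
        have h3 := Subgroup.card_le_of_le hle2
        rw [hb, hc] at h3
        have h4 : b ≤ c := (Nat.pow_le_pow_iff_right hpp.one_lt).mp h3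
        rcases h4.lt_or_eq with h | h
        · exact h
        · exfalso
          have h5 := Subgroup.eq_of_le_of_card_ge hle2 (by rw [hb, hc, h])
          apply hy
          rw [h5]; exact hyH2
      apply Subgroup.eq_top_of_card_eq
      apply le_antisymm (Subgroup.card_le_card_group _)
      rw [hc]
      rw [ha] at hΦ
      refine le_trans hΦ ?_
      rw [← pow_add]
      exact Nat.pow_le_pow_right hpp.pos (by omega)
    · push_neg at h2
      refine ⟨x, x, ?_⟩
      have h3 : Subgroup.zpowers x ⊔ frattini R = ⊤ := by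
        rw [eq_top_iff]; intro y _; exact h2 y
      have h4 := frattini_nongenerating h3
      rw [Set.pair_eq_singleton, ← Subgroup.zpowers_eq_closure]
      exact h4
  · push_neg at h1
    have h3 : (⊥ : Subgroup R) ⊔ frattini R = ⊤ := by
      rw [eq_top_iff]; intro y _; exact (le_sup_right : frattini R ≤ _) (h1 y)
    have h4 := frattini_nongenerating h3
    refine ⟨1, 1, ?_⟩
    rw [← h4]
    simp

/-- if `α` is fixed-point-free of order prime to `p` on the `p`-group `R`, then it is fixed-point-free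
modulo every characteristic subgroup. -/
theorem fpf_quot {R : Type*} [Group R] [Finite R] (hR : IsPGroup p R) (α : MulAut R) (r : ℕ)
    (hrp : r.Coprime p) (hαr : α ^ r = 1) (hfpf : ∀ y : R, α y = y → y = 1)
    (N : Subgroup R) [hNn : N.Normal] (hN : ∀ (σ : MulAut R), ∀ n ∈ N, σ n ∈ N) (h : R)
    (hh : α h * h⁻¹ ∈ N) : h ∈ N := by
  classical
  have hpp : p.Prime := hp.out
  haveI hfinAut : Finite (MulAut R) :=
    Finite.of_injective (fun f : MulAut R => (f : R → R)) DFunLike.coe_injective
  obtain ⟨A, hAdef⟩ : ∃ A : Subgroup (MulAut R), A = Subgroup.zpowers α := ⟨_, rfl⟩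
  let θ : A →* MulAut R := A.subtype
  have hInv : InvG θ N := fun a n hn => hN (a : MulAut R) n hn
  -- the subgroup of automorphisms fixing the coset of `h`
  let W : Subgroup (MulAut R) :=
    { carrier := {b | b h * h⁻¹ ∈ N}
      one_mem' := by
        show (1 : MulAut R) h * h⁻¹ ∈ N
        rw [MulAut.one_apply, mul_inv_cancel]; exact N.one_mem
      mul_mem' := by
        intro b b' hb hb'
        show (b * b') h * h⁻¹ ∈ N
        have h1 : (b * b') h * h⁻¹ = b (b' h * h⁻¹) * (b h * h⁻¹) := by
          rw [MulAut.mul_apply, map_mul, map_inv]; group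
        rw [h1]
        exact N.mul_mem (hN b _ hb') hb
      inv_mem' := by
        intro b hb
        show b⁻¹ h * h⁻¹ ∈ N
        have h1 : b⁻¹ h * h⁻¹ = b⁻¹ ((b h * h⁻¹)⁻¹) := by
          rw [map_inv, map_mul, map_inv, MulAut.inv_apply_self]; group
        rw [h1]
        exact hN b⁻¹ _ (N.inv_mem hb) }
  have hAW : A ≤ W := by
    rw [hAdef, Subgroup.zpowers_le]
    exact hh
  have hcardA : Nat.card A ∣ r := by
    rw [hAdef, Nat.card_zpowers]
    exact orderOf_dvd_of_pow_eq_one hαr
  obtain ⟨n, hn⟩ := IsPGroup.iff_card.mp hR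
  have hcop : (Nat.card (⊤ : Subgroup A)).Coprime (Nat.card R) := by
    rw [Subgroup.card_top, hn]
    exact Nat.Coprime.pow_right _ (Nat.Coprime.coprime_dvd_left hcardA hrp)
  haveI : Group.IsNilpotent R := hR.isNilpotent
  have hsolv : Group.IsSolvable R := inferInstance
  obtain ⟨c, hc, hcN⟩ := lift_fixed θ N hInv ⊤ hcop hsolv h
    (fun b _ => hAW b.2)
  have hc1 : c = 1 := by
    apply hfpf
    have hαA : α ∈ A := by rw [hAdef]; exact Subgroup.mem_zpowers α
    exact hc ⟨α, hαA⟩ (Subgroup.mem_top _)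
  rw [hc1, mul_one] at hcN
  have := N.inv_mem hcN
  rwa [inv_inv] at this

end Cfsg.Agent.Lib.Helper23.XSt
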