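import Mathlib
import Cfsg.Agent.Lib.Helper23.XSt

/-!
# Fixed-point-free automorphisms of `p`-groups with central `Ω₁` of order at most `p²`, II (helper23)
-/

set_option autoImplicit false
set_option maxHeartbeats 1000000
set_option linter.style.haveILetI false

namespace Cfsg.Agent.Lib.Helper23.XSu

open scoped commutatorElement
open Cfsg Cfsg.Agent.Lib.Helper14 Cfsg.Agent.Lib.Helper20 Cfsg.Agent.Lib.Helper23.XSl
  Cfsg.Agent.Lib.Helper23.XSq Cfsg.Agent.Lib.Helper23.FrobE Cfsg.Agent.Lib.Helper23.FrobD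
  Cfsg.Agent.Lib.Helper23.XSs Cfsg.Agent.Lib.Helper23.XSt

universe u

variable {p : ℕ} [hp : Fact p.Prime]

/-- counting `p`-th powers. -/
theorem card_le_frattini {R : Type u} [Group R] [Finite R] (hp2 : p ≠ 2) (hR : IsPGroup p R)
    (hΩc : ∀ x : R, x ^ p = 1 → x ∈ Subgroup.center R)
    (hΩ : Nat.card {u : R // u ^ p = 1} ≤ p ^ 2) :
    Nat.card R ≤ p ^ 2 * Nat.card (frattini R) := by
  classical
  let rep : R → R := fun v => if h : ∃ x : R, x ^ p = v then Classical.choose h else 1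
  have hrep : ∀ x : R, (rep (x ^ p)) ^ p = x ^ p := by
    intro x
    have h : ∃ x' : R, x' ^ p = x ^ p := ⟨x, rfl⟩
    show (if h : ∃ x' : R, x' ^ p = x ^ p then Classical.choose h else 1) ^ p = x ^ p
    rw [dif_pos h]
    exact Classical.choose_spec h
  let F : R → (frattini R) × {u : R // u ^ p = 1} := fun x =>
    (⟨x ^ p, pow_mem_frattini_of_isPGroup' hR x⟩,
      ⟨(rep (x ^ p))⁻¹ * x, laffey hp2 (Nat.card R) R rfl hR hΩc (rep (x ^ p)) x (hrep x)⟩)
  have hF : Function.Injective F := by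
    intro x x' h
    have h1 : x ^ p = x' ^ p :=
      congrArg (fun t : (frattini R) × {u : R // u ^ p = 1} => ((t.1 : frattini R) : R)) h
    have h2 : (rep (x ^ p))⁻¹ * x = (rep (x' ^ p))⁻¹ * x' :=
      congrArg (fun t : (frattini R) × {u : R // u ^ p = 1} => ((t.2 : R))) h
    rw [h1] at h2
    exact mul_left_cancel h2
  calc Nat.card R ≤ Nat.card ((frattini R) × {u : R // u ^ p = 1}) :=
        Nat.card_le_card_of_injective F hF
    _ = Nat.card (frattini R) * Nat.card {u : R // u ^ p = 1} := Nat.card_prod _ _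
    _ ≤ Nat.card (frattini R) * p ^ 2 := Nat.mul_le_mul_left _ hΩ
    _ = p ^ 2 * Nat.card (frattini R) := Nat.mul_comm _ _

/-- main result: a `p`-group (`p` odd) with all elements of order `p` central, at most `p²` of them,
and a fixed-point-free automorphism of order prime to `p (p - 1)` is commutative. -/
theorem abelian_of_omega_central {R : Type u} [Group R] [Finite R] (hp2 : p ≠ 2)
    (hR : IsPGroup p R) (hΩc : ∀ x : R, x ^ p = 1 → x ∈ Subgroup.center R)
    (hΩ : Nat.card {u : R // u ^ p = 1} ≤ p ^ 2)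
    (α : MulAut R) (r : ℕ) (hrp : r.Coprime p) (hrp1 : r.Coprime (p - 1)) (hαr : α ^ r = 1)
    (hfpf : ∀ y : R, α y = y → y = 1) : ∀ a b : R, a * b = b * a := by
  classical
  have hpp : p.Prime := hp.out
  obtain ⟨x, y, hgen⟩ := exists_two_gen hR (card_le_frattini hp2 hR hΩc hΩ)
  obtain ⟨N, hNdef⟩ : ∃ N : Subgroup R, N = ⁅⁅(⊤ : Subgroup R), (⊤ : Subgroup R)⁆, (⊤ : Subgroup R)⁆ := ⟨_, rfl⟩
  haveI hNchar : N.Characteristic := by rw [hNdef]; infer_instance
  haveI hNn : N.Normal := inferInstance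
  have hN : ∀ (σ : MulAut R), ∀ n ∈ N, σ n ∈ N := by
    intro σ n hn
    have hfx := hNchar.fixed σ
    have h' : n ∈ N.comap σ.toMonoidHom := by rw [hfx]; exact hn
    exact h'
  have hmap : N.map ((α : MulAut R) : R →* R) = N := by
    ext z
    constructor
    · rintro ⟨n, hn, rfl⟩
      exact hN α n hn
    · intro hz
      exact ⟨α⁻¹ z, hN α⁻¹ z hz, MulAut.apply_inv_self _ α z⟩
  let αq : MulAut (R ⧸ N) := QuotientGroup.congr N N α hmap
  have hαq : ∀ z : R, αq (QuotientGroup.mk z) = QuotientGroup.mk (α z) := fun z => rfl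
  have hαqpow : ∀ (k : ℕ) (z : R), (αq ^ k) (QuotientGroup.mk z) = QuotientGroup.mk ((α ^ k) z) := by
    intro k
    induction k with
    | zero => intro z; simp
    | succ k ih =>
      intro z
      rw [pow_succ, pow_succ, MulAut.mul_apply, MulAut.mul_apply, hαq, ih]
  have hαqr : αq ^ r = 1 := by
    apply MulEquiv.ext
    intro q
    induction q using QuotientGroup.induction_on with
    | H z => rw [hαqpow, hαr]; rfl
  have hfpfq : ∀ q : R ⧸ N, αq q = q → q = 1 := by
    intro q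
    induction q using QuotientGroup.induction_on with
    | H z =>
      intro h
      rw [hαq, QuotientGroup.eq] at h
      have h1 := hNn.conj_mem _ (N.inv_mem h) (α z)
      have e : α z * ((α z)⁻¹ * z)⁻¹ * (α z)⁻¹ = α z * z⁻¹ := by group
      rw [e] at h1
      exact (QuotientGroup.eq_one_iff z).2 (fpf_quot hR α r hrp hαr hfpf N hN z h1)
  have hgenq : Subgroup.closure ({(QuotientGroup.mk x : R ⧸ N), (QuotientGroup.mk y : R ⧸ N)} :
      Set (R ⧸ N)) = ⊤ := by
    have := congrArg (Subgroup.map (QuotientGroup.mk' N)) hgen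
    rw [MonoidHom.map_closure,
      Subgroup.map_top_of_surjective _ (QuotientGroup.mk'_surjective N)] at this
    rw [← this]
    congr 1
    rw [Set.image_pair]
    rfl
  have hclq : ∀ g : R ⧸ N, ⁅(QuotientGroup.mk x : R ⧸ N), (QuotientGroup.mk y : R ⧸ N)⁆ * g =
      g * ⁅(QuotientGroup.mk x : R ⧸ N), (QuotientGroup.mk y : R ⧸ N)⁆ := by
    intro g
    induction g using QuotientGroup.induction_on with
    | H z =>
      have h1 : ⁅(QuotientGroup.mk x : R ⧸ N), (QuotientGroup.mk y : R ⧸ N)⁆ =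
          ((⁅x, y⁆ : R) : R ⧸ N) := (map_commutatorElement (QuotientGroup.mk' N) x y).symm
      rw [h1, ← QuotientGroup.mk_mul, ← QuotientGroup.mk_mul]
      symm
      rw [QuotientGroup.eq]
      have h2 : (z * ⁅x, y⁆)⁻¹ * (⁅x, y⁆ * z) = ⁅(⁅x, y⁆)⁻¹, z⁻¹⁆ := by
        rw [commutatorElement_def (⁅x, y⁆)⁻¹ z⁻¹]; group
      rw [h2, hNdef]
      apply Subgroup.commutator_mem_commutator _ (Subgroup.mem_top _)
      apply Subgroup.inv_mem
      exact Subgroup.commutator_mem_commutator (Subgroup.mem_top _) (Subgroup.mem_top _)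
  have hQab := abelian_of_two_gen (hR.to_quotient N) (QuotientGroup.mk x : R ⧸ N)
    (QuotientGroup.mk y) hgenq hclq αq r hrp hrp1 hαqr hfpfq
  have hle : ⁅(⊤ : Subgroup R), (⊤ : Subgroup R)⁆ ≤ N := by
    rw [Subgroup.commutator_le]
    intro a _ b _
    rw [← QuotientGroup.eq_one_iff]
    have : ((⁅a, b⁆ : R) : R ⧸ N) = ⁅(a : R ⧸ N), (b : R ⧸ N)⁆ :=
      map_commutatorElement (QuotientGroup.mk' N) a b
    rw [this, commutatorElement_eq_one_iff_mul_comm]
    exact hQab _ _
  haveI : Group.IsNilpotent R := hR.isNilpotent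
  have hlcs : ∀ n : ℕ, ⁅(⊤ : Subgroup R), (⊤ : Subgroup R)⁆ ≤ Subgroup.lowerCentralSeries (⊤ : Subgroup R) (n + 1) := by
    intro n
    induction n with
    | zero => exact le_of_eq rfl
    | succ n ih =>
      refine le_trans hle ?_
      rw [hNdef]
      exact Subgroup.commutator_mono ih le_rfl
  obtain ⟨n, hn⟩ := Subgroup.nilpotent_iff_lowerCentralSeries.mp (inferInstance : Group.IsNilpotent R)
  have hbot : ⁅(⊤ : Subgroup R), (⊤ : Subgroup R)⁆ = ⊥ := by
    rcases Nat.eq_zero_or_pos n with h | h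
    · rw [h] at hn
      have h1 : (⊤ : Subgroup R) = ⊥ := hn
      rw [eq_bot_iff]
      exact le_trans le_top (le_of_eq h1)
    · obtain ⟨m, rfl⟩ : ∃ m, n = m + 1 := ⟨n - 1, by omega⟩
      rw [eq_bot_iff, ← hn]
      exact hlcs m
  intro a b
  have : ⁅a, b⁆ ∈ ⁅(⊤ : Subgroup R), (⊤ : Subgroup R)⁆ :=
    Subgroup.commutator_mem_commutator (Subgroup.mem_top _) (Subgroup.mem_top _)
  rw [hbot, Subgroup.mem_bot, commutatorElement_eq_one_iff_mul_comm] at this
  exact this

end Cfsg.Agent.Lib.Helper23.XSu
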