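import Mathlib
import Cfsg.Agent.Lib.Helper23.XSu
import Cfsg.Agent.S0120
import Cfsg.Agent.S0121

/-!
# The case `|Ω₁(C)| = p³` (helper23)
-/

set_option autoImplicit false
set_option maxHeartbeats 1000000
set_option linter.style.haveILetI false

namespace Cfsg.Agent.Lib.Helper23.XSv

open scoped commutatorElement
open Cfsg Cfsg.Agent.Lib.Helper14 Cfsg.Agent.Lib.Helper20 Cfsg.Agent.Lib.Helper23.XSl
  Cfsg.Agent.Lib.Helper23.XSq Cfsg.Agent.Lib.Helper23.XSs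

universe u

variable {p : ℕ} [hp : Fact p.Prime]

/-- pairwise commuting elements of order dividing `p` generate an elementary abelian subgroup. -/
theorem elab_closure {R : Type*} [Group R] (S : Set R)
    (hcomm : ∀ x ∈ S, ∀ y ∈ S, x * y = y * x) (hexp : ∀ x ∈ S, x ^ p = 1) :
    IsMulCommutative (Subgroup.closure S) ∧ ∀ g ∈ Subgroup.closure S, g ^ p = 1 := by
  have hle : Subgroup.closure S ≤ Subgroup.centralizer ((Subgroup.closure S : Subgroup R) : Set R) := by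
    rw [Subgroup.centralizer_closure, Subgroup.closure_le]
    intro x hx
    rw [SetLike.mem_coe, Subgroup.mem_centralizer_iff]
    intro y hy
    exact hcomm y hy x hx
  have hc : ∀ a ∈ Subgroup.closure S, ∀ b ∈ Subgroup.closure S, a * b = b * a := by
    intro a ha b hb
    exact (Subgroup.mem_centralizer_iff.mp (hle ha) b hb).symm
  refine ⟨⟨⟨fun a b => Subtype.ext (hc a a.2 b b.2)⟩⟩, ?_⟩
  intro g hg
  induction hg using Subgroup.closure_induction with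
  | mem x hx => exact hexp x hx
  | one => exact one_pow p
  | mul x y hx hy ihx ihy =>
    have : Commute x y := hc x hx y hy
    rw [this.mul_pow, ihx, ihy, one_mul]
  | inv x hx ihx => rw [inv_pow, ihx, inv_one]

theorem card_mul_le_of_lt {R : Type*} [Group R] [Finite R] (hR : IsPGroup p R) (X Y : Subgroup R)
    (hle : X ≤ Y) (y : R) (hyY : y ∈ Y) (hyX : y ∉ X) : p * Nat.card X ≤ Nat.card Y := by
  have hpp : p.Prime := hp.out
  obtain ⟨a, ha⟩ := IsPGroup.iff_card.mp (hR.to_subgroup X)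
  obtain ⟨b, hb⟩ := IsPGroup.iff_card.mp (hR.to_subgroup Y)
  have h1 : Nat.card X ≤ Nat.card Y := Subgroup.card_le_of_le hle
  have hab : a ≤ b := by
    rw [ha, hb] at h1
    exact (Nat.pow_le_pow_iff_right hpp.one_lt).mp h1
  have hne : a ≠ b := by
    intro h
    have := Subgroup.eq_of_le_of_card_ge hle (by rw [ha, hb, h])
    exact hyX (this ▸ hyY)
  rw [ha, hb, ← pow_succ']
  exact Nat.pow_le_pow_right hpp.pos (by omega)

theorem arith1 {q i a : ℕ} (hq : 0 < q) (h : q ^ 3 ≤ i * a) (hi : i ≤ q) (ha : a ≤ q ^ 2) :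
    q ≤ i ∧ q ^ 2 ≤ a := by
  have h3 : q * q ^ 2 = q ^ 3 := by ring
  constructor
  · by_contra hlt
    push_neg at hlt
    have h1 : (i + 1) * a ≤ q * q ^ 2 := Nat.mul_le_mul (by omega) ha
    have h2 : (i + 1) * a = i * a + a := by ring
    have h4 : a = 0 := by
      have : a ≤ 0 := by linarith
      omega
    rw [h4, Nat.mul_zero] at h
    have := pow_pos hq 3
    omega
  · by_contra hlt
    push_neg at hlt
    have h1 : i * (a + 1) ≤ q * q ^ 2 := Nat.mul_le_mul hi (by omega)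
    have h2 : i * (a + 1) = i * a + i := by ring
    have h4 : i = 0 := by
      have : i ≤ 0 := by linarith
      omega
    rw [h4, Nat.zero_mul] at h
    have := pow_pos hq 3
    omega

theorem arith2 {q i a : ℕ} (hq : 0 < q) (h : q ^ 2 ≤ i * a) (hi : i ≤ q) (ha : a ≤ q) :
    q ≤ i := by
  have h3 : q * q = q ^ 2 := by ring
  by_contra hlt
  push_neg at hlt
  have h1 : (i + 1) * a ≤ q * q := Nat.mul_le_mul (by omega) ha
  have h2 : (i + 1) * a = i * a + a := by ring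
  have h4 : a = 0 := by
    have : a ≤ 0 := by linarith
    omega
  rw [h4, Nat.mul_zero] at h
  have := pow_pos hq 2
  omega

/-- the case `|D| = p³`: `α` acts trivially on `R / D`. -/
theorem case_cube {R : Type u} [Group R] [Finite R] (hp2 : p ≠ 2) (hR : IsPGroup p R)
    (hrk : Cfsg.PRankLE p 2 R) (r : ℕ) (hrp : r.Coprime p) (hrp1 : r.Coprime (p - 1))
    (α : MulAut R) (hαr : α ^ r = 1)
    (C D : Subgroup R) (hDC : D ≤ C) (hDn : D.Normal)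
    (h2 : ⁅C, (⊤ : Subgroup R)⁆ ≤ C ⊓ Subgroup.centralizer (C : Set R))
    (hDexp : ∀ d ∈ D, d ^ p = 1) (hDinv : ∀ σ : MulAut R, ∀ d ∈ D, σ d ∈ D)
    (hDcard : Nat.card D = p ^ 3) :
    ∀ y : R, α y * y⁻¹ ∈ D := by
  classical
  have hpp : p.Prime := hp.out
  obtain ⟨K, hKdef⟩ : ∃ K : Subgroup R, K = Subgroup.centralizer (D : Set R) := ⟨_, rfl⟩
  have hKmem : ∀ k : R, k ∈ K ↔ ∀ d ∈ D, d * k = k * d := by
    intro k; rw [hKdef, Subgroup.mem_centralizer_iff]; rfl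
  have hKinv : ∀ σ : MulAut R, ∀ k ∈ K, σ k ∈ K := by
    intro σ k hk
    rw [hKmem] at hk ⊢
    intro d hd
    have h1 := hk (σ⁻¹ d) (hDinv σ⁻¹ d hd)
    have h2' := congrArg σ h1
    rw [map_mul, map_mul, MulAut.apply_inv_self] at h2'
    exact h2'
  have hnab : ∃ d₁ ∈ D, ∃ d₂ ∈ D, d₁ * d₂ ≠ d₂ * d₁ := by
    by_contra hcon
    push_neg at hcon
    have hc : IsMulCommutative D := ⟨⟨fun a b => Subtype.ext (hcon a a.2 b b.2)⟩⟩
    have h3 := hrk D hc hDexp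
    rw [hDcard] at h3
    have : 3 ≤ 2 := (Nat.pow_le_pow_iff_right hpp.one_lt).mp h3
    omega
  obtain ⟨d₁, hd₁, d₂, hd₂, hne⟩ := hnab
  obtain ⟨A₁, hA₁def⟩ : ∃ A₁ : Subgroup R, A₁ = D ⊓ Subgroup.centralizer {d₁} := ⟨_, rfl⟩
  have hA₁mem : ∀ u, u ∈ A₁ ↔ u ∈ D ∧ u * d₁ = d₁ * u := by
    intro u; rw [hA₁def, Subgroup.mem_inf, Subgroup.mem_centralizer_singleton_iff]
  obtain ⟨Z₁₂, hZ₁₂def⟩ : ∃ Z : Subgroup R, Z = A₁ ⊓ Subgroup.centralizer {d₂} := ⟨_, rfl⟩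
  have hZ₁₂mem : ∀ u, u ∈ Z₁₂ ↔ u ∈ A₁ ∧ u * d₂ = d₂ * u := by
    intro u; rw [hZ₁₂def, Subgroup.mem_inf, Subgroup.mem_centralizer_singleton_iff]
  obtain ⟨ZD, hZDdef⟩ : ∃ Z : Subgroup R, Z = D ⊓ K := ⟨_, rfl⟩
  have hZDmem : ∀ u, u ∈ ZD ↔ u ∈ D ∧ u ∈ K := by
    intro u; rw [hZDdef, Subgroup.mem_inf]
  have hA₁le : p * Nat.card A₁ ≤ Nat.card D :=
    card_mul_le_of_lt hR A₁ D (fun u hu => ((hA₁mem u).1 hu).1) d₂ hd₂
      (fun h => hne ((hA₁mem d₂).1 h).2.symm)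
  have hZ₁₂le : p * Nat.card Z₁₂ ≤ Nat.card A₁ :=
    card_mul_le_of_lt hR Z₁₂ A₁ (fun u hu => ((hZ₁₂mem u).1 hu).1) d₁
      ((hA₁mem d₁).2 ⟨hd₁, rfl⟩) (fun h => hne ((hZ₁₂mem d₁).1 h).2)
  have hZDle : ZD ≤ Z₁₂ := by
    intro u hu
    rw [hZDmem] at hu
    have hk := (hKmem u).1 hu.2
    rw [hZ₁₂mem, hA₁mem]
    exact ⟨⟨hu.1, (hk d₁ hd₁).symm⟩, (hk d₂ hd₂).symm⟩
  have hA₁card : Nat.card A₁ ≤ p ^ 2 := by
    rw [hDcard] at hA₁le
    have h3 : p ^ 3 = p * p ^ 2 := by ring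
    rw [h3] at hA₁le
    exact Nat.le_of_mul_le_mul_left hA₁le hpp.pos
  have hZ₁₂card : Nat.card Z₁₂ ≤ p := by
    have h3 : p * Nat.card Z₁₂ ≤ p * p := by
      refine le_trans hZ₁₂le (le_trans hA₁card (le_of_eq (by ring)))
    exact Nat.le_of_mul_le_mul_left h3 hpp.pos
  have hZDcard : Nat.card ZD ≤ p := le_trans (Subgroup.card_le_of_le hZDle) hZ₁₂card
  have hcomm : ∀ d ∈ D, ∀ y : R, y * d * y⁻¹ * d⁻¹ ∈ ZD := by
    intro d hd y
    rw [hZDmem]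
    refine ⟨D.mul_mem (hDn.conj_mem d hd y) (D.inv_mem hd), ?_⟩
    have h3 : ⁅y, d⁆ ∈ ⁅C, (⊤ : Subgroup R)⁆ := by
      rw [Subgroup.commutator_comm]
      exact Subgroup.commutator_mem_commutator (Subgroup.mem_top _) (hDC hd)
    have h4 := (h2 h3).2
    rw [hKmem]
    intro d' hd'
    exact Subgroup.mem_centralizer_iff.mp h4 d' (hDC hd')
  -- step 1
  let I₁ : Set R := {v | ∃ d ∈ D, v = d * d₁ * d⁻¹ * d₁⁻¹}
  have hI₁ZD : ∀ v ∈ I₁, v ∈ ZD := by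
    rintro v ⟨d, _, rfl⟩; exact hcomm d₁ hd₁ d
  have hcount1 := card_le_mul_card_fixed_set D I₁ d₁ (fun y hy => ⟨y, hy, rfl⟩)
  have hfix1 : Nat.card {u : R // u ∈ D ∧ u * d₁ = d₁ * u} = Nat.card A₁ :=
    Nat.card_congr (Equiv.subtypeEquivRight (fun u => (hA₁mem u).symm))
  rw [hfix1, hDcard] at hcount1
  let ι₁ : I₁ → ZD := fun v => ⟨v.1, hI₁ZD v.1 v.2⟩
  have hι₁ : Function.Injective ι₁ := by
    intro s t h
    exact Subtype.ext (congrArg (fun z : ZD => (z : R)) h)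
  have hI₁le : Nat.card I₁ ≤ p := le_trans (Nat.card_le_card_of_injective ι₁ hι₁) hZDcard
  obtain ⟨hI₁ge, hA₁ge⟩ := arith1 hpp.pos hcount1 hI₁le hA₁card
  have hι₁b : Function.Bijective ι₁ :=
    Function.Injective.bijective_of_nat_card_le hι₁ (le_trans hZDcard hI₁ge)
  have hsurj1 : ∀ z ∈ ZD, ∃ d ∈ D, z = d * d₁ * d⁻¹ * d₁⁻¹ := by
    intro z hz
    obtain ⟨v, hv⟩ := hι₁b.2 ⟨z, hz⟩
    have hvz : (v : R) = z := congrArg (fun z : ZD => (z : R)) hv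
    obtain ⟨d, hd, hvd⟩ := v.2
    exact ⟨d, hd, by rw [← hvz]; exact hvd⟩
  have hA₁card2 : Nat.card A₁ = p ^ 2 := le_antisymm hA₁card hA₁ge
  -- step 2
  let I₂ : Set R := {v | ∃ d ∈ A₁, v = d * d₂ * d⁻¹ * d₂⁻¹}
  have hI₂ZD : ∀ v ∈ I₂, v ∈ ZD := by
    rintro v ⟨d, _, rfl⟩; exact hcomm d₂ hd₂ d
  have hcount2 := card_le_mul_card_fixed_set A₁ I₂ d₂ (fun y hy => ⟨y, hy, rfl⟩)
  have hfix2 : Nat.card {u : R // u ∈ A₁ ∧ u * d₂ = d₂ * u} = Nat.card Z₁₂ :=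
    Nat.card_congr (Equiv.subtypeEquivRight (fun u => (hZ₁₂mem u).symm))
  rw [hfix2, hA₁card2] at hcount2
  let ι₂ : I₂ → ZD := fun v => ⟨v.1, hI₂ZD v.1 v.2⟩
  have hι₂ : Function.Injective ι₂ := by
    intro s t h
    exact Subtype.ext (congrArg (fun z : ZD => (z : R)) h)
  have hI₂le : Nat.card I₂ ≤ p := le_trans (Nat.card_le_card_of_injective ι₂ hι₂) hZDcard
  have hI₂ge := arith2 hpp.pos hcount2 hI₂le hZ₁₂card
  have hι₂b : Function.Bijective ι₂ :=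
    Function.Injective.bijective_of_nat_card_le hι₂ (le_trans hZDcard hI₂ge)
  have hsurj2 : ∀ z ∈ ZD, ∃ d ∈ A₁, z = d * d₂ * d⁻¹ * d₂⁻¹ := by
    intro z hz
    obtain ⟨v, hv⟩ := hι₂b.2 ⟨z, hz⟩
    have hvz : (v : R) = z := congrArg (fun z : ZD => (z : R)) hv
    obtain ⟨d, hd, hvd⟩ := v.2
    exact ⟨d, hd, by rw [← hvz]; exact hvd⟩
  -- `A₁` is commutative
  have hA₁comm : ∀ u ∈ A₁, ∀ v ∈ A₁, u * v = v * u := by
    intro u hu v hv
    have hc := IsPGroup.isMulCommutative_of_card_eq_prime_sq (G := ↥A₁) hA₁card2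
    exact congrArg Subtype.val (hc.is_comm.comm ⟨u, hu⟩ ⟨v, hv⟩)
  -- elements of order `p` of `K` lie in `ZD`
  have hΩK : ∀ x ∈ K, x ^ p = 1 → x ∈ ZD := by
    intro x hxK hxp
    have hk := (hKmem x).1 hxK
    obtain ⟨hc, hexp'⟩ := elab_closure (p := p) (insert x (A₁ : Set R))
      (by
        intro a ha b hb
        rcases ha with rfl | ha
        · rcases hb with rfl | hb
          · rfl
          · exact (hk b ((hA₁mem b).1 hb).1).symm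
        · rcases hb with rfl | hb
          · exact hk a ((hA₁mem a).1 ha).1
          · exact hA₁comm a ha b hb)
      (by
        intro a ha
        rcases ha with rfl | ha
        · exact hxp
        · exact hDexp a ((hA₁mem a).1 ha).1)
    have h3 := hrk _ hc hexp'
    have hle : A₁ ≤ Subgroup.closure (insert x (A₁ : Set R)) := by
      intro a ha
      exact Subgroup.subset_closure (Set.mem_insert_of_mem x ha)
    have heq := Subgroup.eq_of_le_of_card_ge hle (by rw [hA₁card2]; exact h3)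
    have hxA : x ∈ A₁ := by
      rw [heq]; exact Subgroup.subset_closure (Set.mem_insert x _)
    exact (hZDmem x).2 ⟨((hA₁mem x).1 hxA).1, hxK⟩
  -- `α` fixes `ZD` pointwise
  have hZDinv : ∀ z ∈ ZD, α z ∈ ZD := by
    intro z hz
    rw [hZDmem] at hz ⊢
    exact ⟨hDinv α z hz.1, hKinv α z hz.2⟩
  have hZDfix : ∀ z ∈ ZD, α z = z := by
    have hV : Nat.card ZD = 1 ∨ Nat.card ZD = p := by
      obtain ⟨j, hj⟩ := IsPGroup.iff_card.mp (hR.to_subgroup ZD)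
      rw [hj] at hZDcard ⊢
      have hj1 : j ≤ 1 := by
        have : p ^ j ≤ p ^ 1 := by rw [pow_one]; exact hZDcard
        exact (Nat.pow_le_pow_iff_right hpp.one_lt).mp this
      rcases Nat.le_one_iff_eq_zero_or_eq_one.mp hj1 with h | h
      · left; rw [h, pow_zero]
      · right; rw [h, pow_one]
    have hβ := aut_eq_one_of_card_le hpp hV hrp1 (resAut α ZD hZDinv)
      (resAut_pow_eq_one α ZD hZDinv r hαr)
    exact (resAut_eq_one_iff α ZD hZDinv).1 hβ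
  -- `α` fixes `K` pointwise
  have hKfix : ∀ k ∈ K, α k = k := by
    have hβr := resAut_pow_eq_one α K (hKinv α) r hαr
    have hcop : (orderOf (resAut α K (hKinv α))).Coprime p :=
      Nat.Coprime.coprime_dvd_left (orderOf_dvd_of_pow_eq_one hβr) hrp
    have hβ := Cfsg.Agent.S0120.result hp2 (hR.to_subgroup K) (resAut α K (hKinv α)) hcop
      (by
        intro x hx
        apply Subtype.ext
        rw [resAut_apply]
        apply hZDfix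
        apply hΩK _ x.2
        have := congrArg Subtype.val hx
        simpa using this)
    exact (resAut_eq_one_iff α K (hKinv α)).1 hβ
  -- the commutator `c`
  have hcne : d₁ * d₂ * d₁⁻¹ * d₂⁻¹ ≠ 1 := by
    intro h
    apply hne
    have : d₁ * d₂ = (d₁ * d₂ * d₁⁻¹ * d₂⁻¹) * (d₂ * d₁) := by group
    rw [this, h, one_mul]
  have hcZD : d₁ * d₂ * d₁⁻¹ * d₂⁻¹ ∈ ZD := hcomm d₂ hd₂ d₁
  -- every element is in `D * K`
  intro y
  obtain ⟨e₁, he₁, hv₁⟩ := hsurj1 _ (hcomm d₁ hd₁ y)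
  -- y₁ = e₁⁻¹ y commutes with d₁
  have hy₁ : (e₁⁻¹ * y) * d₁ = d₁ * (e₁⁻¹ * y) := by
    have h3 : y * d₁ * y⁻¹ = e₁ * d₁ * e₁⁻¹ := mul_right_cancel hv₁
    calc e₁⁻¹ * y * d₁ = e₁⁻¹ * (y * d₁ * y⁻¹) * y := by group
      _ = e₁⁻¹ * (e₁ * d₁ * e₁⁻¹) * y := by rw [h3]
      _ = d₁ * (e₁⁻¹ * y) := by group
  obtain ⟨e₂, he₂, hv₂⟩ := hsurj2 _ (hcomm d₂ hd₂ (e₁⁻¹ * y))
  have hy₂ : (e₂⁻¹ * (e₁⁻¹ * y)) * d₂ = d₂ * (e₂⁻¹ * (e₁⁻¹ * y)) := by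
    have h3 : (e₁⁻¹ * y) * d₂ * (e₁⁻¹ * y)⁻¹ = e₂ * d₂ * e₂⁻¹ := mul_right_cancel hv₂
    calc e₂⁻¹ * (e₁⁻¹ * y) * d₂ = e₂⁻¹ * ((e₁⁻¹ * y) * d₂ * (e₁⁻¹ * y)⁻¹) * (e₁⁻¹ * y) := by group
      _ = e₂⁻¹ * (e₂ * d₂ * e₂⁻¹) * (e₁⁻¹ * y) := by rw [h3]
      _ = d₂ * (e₂⁻¹ * (e₁⁻¹ * y)) := by group
  have he₂' := (hA₁mem e₂).1 he₂
  have hy₂' : (e₂⁻¹ * (e₁⁻¹ * y)) * d₁ = d₁ * (e₂⁻¹ * (e₁⁻¹ * y)) := by
    have hc1 : Commute e₂ d₁ := he₂'.2
    have hc2 : Commute (e₁⁻¹ * y) d₁ := hy₁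
    exact (hc1.inv_left.mul_left hc2).eq
  obtain ⟨y₂, hy₂def⟩ : ∃ y₂ : R, y₂ = e₂⁻¹ * (e₁⁻¹ * y) := ⟨_, rfl⟩
  rw [← hy₂def] at hy₂ hy₂'
  -- `y₂ ∈ K`
  have hy₂K : y₂ ∈ K := by
    obtain ⟨Dy, hDydef⟩ : ∃ Dy : Subgroup R, Dy = D ⊓ Subgroup.centralizer {y₂} := ⟨_, rfl⟩
    have hDymem : ∀ u, u ∈ Dy ↔ u ∈ D ∧ u * y₂ = y₂ * u := by
      intro u; rw [hDydef, Subgroup.mem_inf, Subgroup.mem_centralizer_singleton_iff]
    obtain ⟨B₁, hB₁def⟩ : ∃ B₁ : Subgroup R, B₁ = Dy ⊓ Subgroup.centralizer {d₁} := ⟨_, rfl⟩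
    have hB₁mem : ∀ u, u ∈ B₁ ↔ u ∈ Dy ∧ u * d₁ = d₁ * u := by
      intro u; rw [hB₁def, Subgroup.mem_inf, Subgroup.mem_centralizer_singleton_iff]
    obtain ⟨B₀, hB₀def⟩ : ∃ B₀ : Subgroup R, B₀ = B₁ ⊓ Subgroup.centralizer {d₂} := ⟨_, rfl⟩
    have hB₀mem : ∀ u, u ∈ B₀ ↔ u ∈ B₁ ∧ u * d₂ = d₂ * u := by
      intro u; rw [hB₀def, Subgroup.mem_inf, Subgroup.mem_centralizer_singleton_iff]
    have hd₁Dy : d₁ ∈ Dy := (hDymem d₁).2 ⟨hd₁, hy₂'.symm⟩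
    have hd₂Dy : d₂ ∈ Dy := (hDymem d₂).2 ⟨hd₂, hy₂.symm⟩
    have hcK := (hKmem _).1 ((hZDmem _).1 hcZD).2
    have hcB₀ : d₁ * d₂ * d₁⁻¹ * d₂⁻¹ ∈ B₀ := by
      rw [hB₀mem, hB₁mem, hDymem]
      refine ⟨⟨⟨((hZDmem _).1 hcZD).1, ?_⟩, (hcK d₁ hd₁).symm⟩, (hcK d₂ hd₂).symm⟩
      have hc1 : Commute d₁ y₂ := hy₂'.symm
      have hc2 : Commute d₂ y₂ := hy₂.symm
      exact (((hc1.mul_left hc2).mul_left hc1.inv_left).mul_left hc2.inv_left).eq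
    have h0 : p * Nat.card (⊥ : Subgroup R) ≤ Nat.card B₀ :=
      card_mul_le_of_lt hR ⊥ B₀ bot_le _ hcB₀ (fun h => hcne (Subgroup.mem_bot.1 h))
    have h1 : p * Nat.card B₀ ≤ Nat.card B₁ :=
      card_mul_le_of_lt hR B₀ B₁ (fun u hu => ((hB₀mem u).1 hu).1) d₁
        ((hB₁mem d₁).2 ⟨hd₁Dy, rfl⟩) (fun h => hne ((hB₀mem d₁).1 h).2)
    have h2' : p * Nat.card B₁ ≤ Nat.card Dy :=
      card_mul_le_of_lt hR B₁ Dy (fun u hu => ((hB₁mem u).1 hu).1) d₂ hd₂Dy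
        (fun h => hne ((hB₁mem d₂).1 h).2.symm)
    rw [Subgroup.card_bot, mul_one] at h0
    have h3 : p ^ 3 ≤ Nat.card Dy := by
      calc p ^ 3 = p * (p * p) := by ring
        _ ≤ p * (p * Nat.card B₀) := Nat.mul_le_mul_left _ (Nat.mul_le_mul_left _ h0)
        _ ≤ p * Nat.card B₁ := Nat.mul_le_mul_left _ h1
        _ ≤ Nat.card Dy := h2'
    have hDyD : Dy ≤ D := fun u hu => ((hDymem u).1 hu).1
    have heq : Dy = D := Subgroup.eq_of_le_of_card_ge hDyD (by rw [hDcard]; exact h3)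
    rw [hKmem]
    intro d hd
    have : d ∈ Dy := by rw [heq]; exact hd
    exact ((hDymem d).1 this).2
  -- conclusion
  have hyeq : y = (e₁ * e₂) * y₂ := by rw [hy₂def]; group
  have hgD : e₁ * e₂ ∈ D := D.mul_mem he₁ he₂'.1
  rw [hyeq, map_mul, hKfix y₂ hy₂K]
  have : α (e₁ * e₂) * y₂ * (e₁ * e₂ * y₂)⁻¹ = α (e₁ * e₂) * (e₁ * e₂)⁻¹ := by group
  rw [this]
  exact D.mul_mem (hDinv α _ hgD) (D.inv_mem hgD)

end Cfsg.Agent.Lib.Helper23.XSv
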