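import Mathlib
import Cfsg.Agent.Lib.Helper23.XSv
import Cfsg.Agent.Lib.Helper2.NilpotentBasic

/-!
# Part (c2): `[R, α] = R` non-abelian of rank at most two has order `p³` (helper23)
-/

set_option autoImplicit false
set_option maxHeartbeats 1000000
set_option linter.style.haveILetI false

namespace Cfsg.Agent.Lib.Helper23.XSw

open scoped commutatorElement
open Cfsg Cfsg.Agent.Lib.Helper14 Cfsg.Agent.Lib.Helper20 Cfsg.Agent.Lib.Helper23.XSl
  Cfsg.Agent.Lib.Helper23.XSq Cfsg.Agent.Lib.Helper23.XSs Cfsg.Agent.Lib.Helper23.XSu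
  Cfsg.Agent.Lib.Helper23.XSv

universe u

variable {p : ℕ} [hp : Fact p.Prime]

theorem partC2 {R : Type u} [Group R] [Finite R] (hp2 : p ≠ 2) (hR : IsPGroup p R)
    (hrk : Cfsg.PRankLE p 2 R) (r : ℕ) (hr : r.Prime) (hrnp : r ≠ p) (hrp1 : ¬ r ∣ p - 1)
    (α : MulAut R) (hαr : α ^ r = 1)
    (hRA : ∀ N : Subgroup R, (∀ y ∈ N, α y ∈ N) → (∀ y : R, α y * y⁻¹ ∈ N) → N = ⊤)
    (hnab : ¬ ∀ x y : R, x * y = y * x) : Nat.card R = p ^ 3 := by
  classical
  have hpp : p.Prime := hp.out
  have hrp : r.Coprime p := (Nat.coprime_primes hr hpp).2 hrnp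
  have hrp1' : r.Coprime (p - 1) := (Nat.Prime.coprime_iff_not_dvd hr).2 hrp1
  obtain ⟨C, hCchar, h1, h2, h3⟩ := Cfsg.Agent.S0093.result hR
  haveI := hCchar
  have hCp : IsPGroup p C := hR.to_subgroup C
  have hclC : ∀ a b : C, ⁅a, b⁆ ∈ Subgroup.center C := by
    intro a b
    rw [Subgroup.mem_center_iff]
    intro g
    apply Subtype.ext
    have hmem : ⁅(a : R), (b : R)⁆ ∈ Subgroup.centralizer (C : Set R) :=
      (h2 (Subgroup.commutator_mem_commutator a.2 (Subgroup.mem_top _))).2
    exact Subgroup.mem_centralizer_iff.mp hmem g g.2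
  have hpowC : ∀ a : C, a ^ p ∈ Subgroup.center C := by
    intro a
    have hmemΦ : a ^ p ∈ frattini C := pow_mem_frattini_of_isPGroup' hCp a
    have hc : ((a ^ p : C) : R) ∈ Subgroup.centralizer (C : Set R) := h1 ⟨a ^ p, hmemΦ, rfl⟩
    rw [Subgroup.mem_center_iff]
    intro g
    apply Subtype.ext
    exact Subgroup.mem_centralizer_iff.mp hc g g.2
  have hpab : ∀ a b : C, (a * b) ^ p = a ^ p * b ^ p := mul_pow_prime_of_classTwo hp2 hclC hpowC
  let D : Subgroup R :=
    { carrier := {y | y ∈ C ∧ y ^ p = 1}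
      one_mem' := ⟨C.one_mem, one_pow p⟩
      mul_mem' := by
        rintro a b ⟨haC, hap⟩ ⟨hbC, hbp⟩
        refine ⟨C.mul_mem haC hbC, ?_⟩
        have h' : ((⟨a, haC⟩ * ⟨b, hbC⟩ : C) ^ p : C) = (⟨a, haC⟩ : C) ^ p * (⟨b, hbC⟩ : C) ^ p :=
          hpab ⟨a, haC⟩ ⟨b, hbC⟩
        have h'' := congrArg Subtype.val h'
        simp only [Subgroup.coe_pow, Subgroup.coe_mul] at h''
        rw [h'', hap, hbp, one_mul]
      inv_mem' := by
        rintro a ⟨haC, hap⟩
        exact ⟨C.inv_mem haC, by rw [inv_pow, hap, inv_one]⟩ }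
  have hDmem : ∀ y : R, y ∈ D ↔ y ∈ C ∧ y ^ p = 1 := fun y => Iff.rfl
  have hCinv : ∀ (σ : MulAut R) (y : R), y ∈ C → σ y ∈ C := by
    intro σ y hy
    have hfx := hCchar.fixed σ
    have h' : y ∈ C.comap σ.toMonoidHom := by rw [hfx]; exact hy
    exact h'
  have hDinv : ∀ (σ : MulAut R), ∀ y ∈ D, σ y ∈ D := by
    intro σ y hy
    rw [hDmem] at hy ⊢
    exact ⟨hCinv σ y hy.1, by rw [← map_pow, hy.2, map_one]⟩
  have hDC : D ≤ C := fun y hy => ((hDmem y).1 hy).1
  have hDexp' : ∀ d ∈ D, d ^ p = 1 := fun d hd => ((hDmem d).1 hd).2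
  have hDn : D.Normal := by
    refine ⟨fun n hn g => ?_⟩
    have := hDinv (MulAut.conj g) n hn
    rwa [MulAut.conj_apply] at this
  have hDp : IsPGroup p D := hR.to_subgroup D
  have hclD : ∀ a b : D, ⁅a, b⁆ ∈ Subgroup.center D := by
    intro a b
    rw [Subgroup.mem_center_iff]
    intro g
    apply Subtype.ext
    have haC : (a : R) ∈ C := ((hDmem _).1 a.2).1
    have hgC : (g : R) ∈ C := ((hDmem _).1 g.2).1
    have hmem : ⁅(a : R), (b : R)⁆ ∈ Subgroup.centralizer (C : Set R) :=
      (h2 (Subgroup.commutator_mem_commutator haC (Subgroup.mem_top _))).2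
    exact Subgroup.mem_centralizer_iff.mp hmem g hgC
  have hDexp : ∀ a : D, a ^ p = 1 := by
    intro a
    apply Subtype.ext
    rw [Subgroup.coe_pow, Subgroup.coe_one]
    exact ((hDmem _).1 a.2).2
  have hrkD : ∀ A : Subgroup D, IsMulCommutative A → Nat.card A ≤ p ^ 2 := by
    intro A hA
    exact Cfsg.Agent.Lib.Helper13.RankTwoAct.prankLE_subgroup hrk D A hA (fun a _ => hDexp a)
  have hDcard : Nat.card D ≤ p ^ 3 := card_le_cube_of_classTwo hDp hclD hrkD
  have hcopα : (orderOf α).Coprime p :=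
    Nat.Coprime.coprime_dvd_left (orderOf_dvd_of_pow_eq_one hαr) hrp
  -- `α` is nontrivial on `D`
  have hαD : ¬ ∀ d ∈ D, α d = d := by
    intro hfix
    have hβr := resAut_pow_eq_one α C (hCinv α) r hαr
    have hcop : (orderOf (resAut α C (hCinv α))).Coprime p :=
      Nat.Coprime.coprime_dvd_left (orderOf_dvd_of_pow_eq_one hβr) hrp
    have hβ := Cfsg.Agent.S0120.result hp2 hCp (resAut α C (hCinv α)) hcop
      (by
        intro x hx
        apply Subtype.ext
        rw [resAut_apply]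
        apply hfix
        rw [hDmem]
        refine ⟨x.2, ?_⟩
        have := congrArg Subtype.val hx
        simpa using this)
    have hCfix := (resAut_eq_one_iff α C (hCinv α)).1 hβ
    have hα1 := Cfsg.Agent.S0121.result hR C hCchar h1 h2 h3 α hcopα hCfix
    have hbot := hRA ⊥
      (fun y hy => by rw [Subgroup.mem_bot] at hy ⊢; rw [hy, map_one])
      (fun y => by rw [hα1, MulAut.one_apply, mul_inv_cancel]; exact Subgroup.one_mem _)
    apply hnab
    intro x y
    have hx : x ∈ (⊥ : Subgroup R) := by rw [hbot]; exact Subgroup.mem_top x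
    have hy : y ∈ (⊥ : Subgroup R) := by rw [hbot]; exact Subgroup.mem_top y
    rw [Subgroup.mem_bot] at hx hy
    rw [hx, hy]
  obtain ⟨j, hj⟩ := IsPGroup.iff_card.mp hDp
  have hj3 : j ≤ 3 := by
    rw [hj] at hDcard
    exact (Nat.pow_le_pow_iff_right hpp.one_lt).mp hDcard
  have hDinvα : ∀ d ∈ D, α d ∈ D := hDinv α
  have hβr := resAut_pow_eq_one α D hDinvα r hαr
  have hβne : resAut α D hDinvα ≠ 1 := fun h => hαD ((resAut_eq_one_iff α D hDinvα).1 h)
  have hj2 : 2 ≤ j := by
    by_contra hlt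
    push_neg at hlt
    apply hβne
    apply aut_eq_one_of_card_le hpp _ hrp1' _ hβr
    rw [hj]
    rcases Nat.le_one_iff_eq_zero_or_eq_one.mp (by omega : j ≤ 1) with h | h
    · left; rw [h, pow_zero]
    · right; rw [h, pow_one]
  rcases (by omega : j = 3 ∨ j = 2) with hj' | hj'
  · -- the case `|D| = p³`
    rw [hj'] at hj
    have hall := case_cube hp2 hR hrk r hrp hrp1' α hαr C D hDC hDn h2 hDexp' hDinv hj
    have hDtop := hRA D hDinvα hall
    rw [← Subgroup.card_top (G := R), ← hDtop, hj]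
  · -- the case `|D| = p²`
    exfalso
    rw [hj'] at hj
    obtain ⟨hfpfD, -, -⟩ := sec_prime_fix hr hrnp hrp1 hDexp (le_of_eq hj)
      (resAut α D hDinvα) hβr hβne
    have hfpfD' : ∀ d ∈ D, α d = d → d = 1 := by
      intro d hd h
      have := hfpfD ⟨d, hd⟩ (Subtype.ext (by rw [resAut_apply]; exact h))
      exact congrArg Subtype.val this
    have hDne : D ≠ ⊥ := by
      intro h
      rw [h, Subgroup.card_bot] at hj
      have := Nat.one_lt_pow (n := 2) (by norm_num) hpp.one_lt
      omega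
    obtain ⟨ZD, hZDdef⟩ : ∃ Z : Subgroup R, Z = D ⊓ Subgroup.center R := ⟨_, rfl⟩
    have hZDmem : ∀ u, u ∈ ZD ↔ u ∈ D ∧ u ∈ Subgroup.center R := by
      intro u; rw [hZDdef, Subgroup.mem_inf]
    haveI : Group.IsNilpotent R := hR.isNilpotent
    have hZDne : ZD ≠ ⊥ := by
      rw [hZDdef]
      exact Cfsg.Agent.Lib.Helper2.normal_inf_center_ne_bot D hDne
    have hZDinv : ∀ z ∈ ZD, α z ∈ ZD := by
      intro z hz
      rw [hZDmem] at hz ⊢
      refine ⟨hDinvα z hz.1, ?_⟩
      rw [Subgroup.mem_center_iff]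
      intro g
      have h4 := (Subgroup.mem_center_iff.mp hz.2) (α⁻¹ g)
      have h5 := congrArg α h4
      rw [map_mul, map_mul, MulAut.apply_inv_self] at h5
      exact h5
    obtain ⟨i, hi⟩ := IsPGroup.iff_card.mp (hR.to_subgroup ZD)
    have hZDD : ZD ≤ D := fun u hu => ((hZDmem u).1 hu).1
    have hi2 : i ≤ 2 := by
      have := Subgroup.card_le_of_le hZDD
      rw [hi, hj] at this
      exact (Nat.pow_le_pow_iff_right hpp.one_lt).mp this
    obtain ⟨z, hzZD, hz1⟩ := ZD.bot_or_exists_ne_one.resolve_left hZDne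
    have hi2' : i = 2 := by
      by_contra hne
      have hV : Nat.card ZD = 1 ∨ Nat.card ZD = p := by
        rw [hi]
        rcases Nat.le_one_iff_eq_zero_or_eq_one.mp (by omega : i ≤ 1) with h | h
        · left; rw [h, pow_zero]
        · right; rw [h, pow_one]
      have hβ := aut_eq_one_of_card_le hpp hV hrp1' (resAut α ZD hZDinv)
        (resAut_pow_eq_one α ZD hZDinv r hαr)
      have hfix := (resAut_eq_one_iff α ZD hZDinv).1 hβ z hzZD
      exact hz1 (hfpfD' z (hZDD hzZD) hfix)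
    have hZDeq : ZD = D := Subgroup.eq_of_le_of_card_ge hZDD (by rw [hi, hj, hi2'])
    have hDcen : ∀ d ∈ D, d ∈ Subgroup.center R := by
      intro d hd
      rw [← hZDeq] at hd
      exact ((hZDmem d).1 hd).2
    -- all elements of order `p` lie in `D`
    have hΩD : ∀ x : R, x ^ p = 1 → x ∈ D := by
      intro x hxp
      obtain ⟨hc, hexp'⟩ := elab_closure (p := p) (insert x (D : Set R))
        (by
          intro a ha b hb
          rcases ha with rfl | ha
          · rcases hb with rfl | hb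
            · rfl
            · exact (Subgroup.mem_center_iff.mp (hDcen b hb)) a
          · exact ((Subgroup.mem_center_iff.mp (hDcen a ha)) b).symm)
        (by
          intro a ha
          rcases ha with rfl | ha
          · exact hxp
          · exact hDexp' a ha)
      have h4 := hrk _ hc hexp'
      have hle : D ≤ Subgroup.closure (insert x (D : Set R)) := by
        intro a ha
        exact Subgroup.subset_closure (Set.mem_insert_of_mem x ha)
      have heq := Subgroup.eq_of_le_of_card_ge hle (by rw [hj]; exact h4)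
      rw [heq]
      exact Subgroup.subset_closure (Set.mem_insert x _)
    have hΩc : ∀ x : R, x ^ p = 1 → x ∈ Subgroup.center R := fun x hx => hDcen x (hΩD x hx)
    have hΩ : Nat.card {u : R // u ^ p = 1} ≤ p ^ 2 := by
      rw [← hj]
      apply Nat.card_le_card_of_injective (fun u : {u : R // u ^ p = 1} => (⟨u.1, hΩD u.1 u.2⟩ : D))
      intro u v huv
      exact Subtype.ext (congrArg (fun t : D => (t : R)) huv)
    have hfpf : ∀ y : R, α y = y → y = 1 := by
      intro y hy
      by_contra hy1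
      obtain ⟨k, hk⟩ := (IsPGroup.iff_orderOf.mp hR) y
      have hk0 : k ≠ 0 := by
        intro h
        rw [h, pow_zero, orderOf_eq_one_iff] at hk
        exact hy1 hk
      obtain ⟨m, rfl⟩ : ∃ m, k = m + 1 := ⟨k - 1, by omega⟩
      have h4 : (y ^ (p ^ m)) ^ p = 1 := by
        rw [← pow_mul, ← pow_succ, ← hk, pow_orderOf_eq_one]
      have h5 : y ^ (p ^ m) ≠ 1 := by
        intro h
        have h6 := orderOf_dvd_of_pow_eq_one h
        rw [hk] at h6
        have h7 := (Nat.pow_dvd_pow_iff_le_right hpp.one_lt).mp h6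
        omega
      have h6 : α (y ^ (p ^ m)) = y ^ (p ^ m) := by rw [map_pow, hy]
      exact h5 (hfpfD' _ (hΩD _ h4) h6)
    exact hnab (abelian_of_omega_central hp2 hR hΩc hΩ α r hrp hrp1' hαr hfpf)

end Cfsg.Agent.Lib.Helper23.XSw
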