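import Mathlib
import Cfsg.Prelude.Def_IsolatedElements
import Cfsg.Agent.Lib.Helper20.Cores
import Cfsg.Agent.Lib.Helper16.PCore
import Cfsg.Agent.Lib.Helper23.Isolated

/-!
Basic structure of a minimal counterexample to the `Z*_p`-statement (helper23): `x` isolated of order
`p`, not in `Z*_p(G)`, but in `Z*_p(H)` for proper subgroups `H ∋ x` and in `Z*_p(G/N)` for nontrivial
normal `N`. Then `O_{p'}(G) = 1`, `G = ⟨x^G⟩`, `G = N⟨x⟩` for every nontrivial normal subgroup `N`.
-/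

set_option autoImplicit false
open Cfsg
open scoped commutatorElement

namespace Cfsg.Agent.Lib.Helper23.ZStarMin

section
variable {G : Type*} [Group G] [Finite G] {p : ℕ} [Fact p.Prime] {x : G}

/-- `O_{p'}(G) = 1` in a minimal counterexample. -/
theorem core_eq_bot (hnz : ¬ Cfsg.InZStar p x)
    (hquot : ∀ (N : Subgroup G) [N.Normal], N ≠ ⊥ → Cfsg.InZStar p (QuotientGroup.mk x : G ⧸ N)) :
    Cfsg.pPrimeCore p G = ⊥ := by
  by_contra h
  haveI : (Cfsg.pPrimeCore p G).Normal := (Cfsg.Agent.Lib.Helper20.pPrimeCore_mem' p).1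
  have h1 := hquot (Cfsg.pPrimeCore p G) h
  apply hnz
  intro g
  have h2 := h1 (QuotientGroup.mk g)
  rw [Cfsg.Agent.Lib.Helper20.pPrimeCore_quotient_eq_bot, Subgroup.mem_bot] at h2
  have h3 : ((g * x * g⁻¹ * x⁻¹ : G) : G ⧸ Cfsg.pPrimeCore p G) = 1 := by
    simpa using h2
  exact (QuotientGroup.eq_one_iff _).mp h3

/-- `x` is not central. -/
theorem not_central (hnz : ¬ Cfsg.InZStar p x) : ¬ ∀ g : G, g * x = x * g := by
  intro h
  apply hnz
  intro g
  have : g * x * g⁻¹ * x⁻¹ = 1 := by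
    rw [h g]; group
  rw [this]
  exact Subgroup.one_mem _

/-- A subnormal-of-depth-two `p'`-subgroup is trivial. -/
theorem eq_bot_of_coprime (hO : Cfsg.pPrimeCore p G = ⊥) {N M : Subgroup G} (hN : N.Normal)
    (hMN : M ≤ N) (hNM : N ≤ Subgroup.normalizer (M : Set G)) (hM : (Nat.card M).Coprime p) :
    M = ⊥ := by
  have hsub : M.IsSubnormal := by
    refine Subgroup.IsSubnormal.step M N hMN hN.isSubnormal ?_
    exact (Subgroup.normal_subgroupOf_iff_le_normalizer hMN).mpr hNM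
  have := Cfsg.Agent.Lib.Helper20.subnormal_coprime_le_pPrimeCore p M hsub hM
  rw [hO] at this
  exact le_bot_iff.mp this

/-- In a proper subgroup `H ∋ x` without nontrivial normal `p'`-subgroups meeting a given
`H`-invariant subgroup `N`, `x` commutes with `N`: more precisely all commutators `[n, x]` with
`n ∈ N ≤ H` that lie in `N` are trivial as soon as `N`'s `H`-invariant `p'`-subgroups are trivial. -/
theorem commute_of_proper
    (hmin : ∀ (H : Subgroup G) (hxH : x ∈ H), H ≠ ⊤ → Cfsg.InZStar p (⟨x, hxH⟩ : ↥H))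
    {H : Subgroup G} (hxH : x ∈ H) (hne : H ≠ ⊤) {N : Subgroup G} (hNH : N ≤ H)
    (hHN : H ≤ Subgroup.normalizer (N : Set G))
    (hcore : ∀ M : Subgroup G, M ≤ N → N ≤ Subgroup.normalizer (M : Set G) → (Nat.card M).Coprime p →
      M = ⊥) :
    ∀ n ∈ N, n * x = x * n := by
  intro n hn
  have h1 := hmin H hxH hne ⟨n, hNH hn⟩
  -- the image of the core of H
  obtain ⟨M, hMdef⟩ : ∃ M : Subgroup G, M = (Cfsg.pPrimeCore p ↥H).map H.subtype := ⟨_, rfl⟩
  haveI hcn : (Cfsg.pPrimeCore p ↥H).Normal := (Cfsg.Agent.Lib.Helper20.pPrimeCore_mem' p).1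
  have hMH : M ≤ H := by
    rw [hMdef]; exact Subgroup.map_subtype_le _
  have hHM : H ≤ Subgroup.normalizer (M : Set G) := by
    intro h hh
    rw [Subgroup.mem_normalizer_iff]
    intro m
    rw [hMdef]
    constructor
    · rintro ⟨m', hm', rfl⟩
      exact ⟨⟨h, hh⟩ * m' * ⟨h, hh⟩⁻¹, hcn.conj_mem m' hm' ⟨h, hh⟩, by simp⟩
    · rintro ⟨m', hm', hm'e⟩
      refine ⟨⟨h, hh⟩⁻¹ * m' * ⟨h, hh⟩, ?_, ?_⟩
      · have := hcn.conj_mem m' hm' ⟨h, hh⟩⁻¹
        simpa using this
      · have : ((m' : ↥H) : G) = h * m * h⁻¹ := hm'e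
        simp [this, mul_assoc]
  have hMc : (Nat.card M).Coprime p := by
    rw [hMdef, Subgroup.card_map_of_injective H.subtype_injective]
    exact Cfsg.Agent.Lib.Helper20.pPrimeCore_coprime' p
  have hcM : n * x * n⁻¹ * x⁻¹ ∈ M := by
    rw [hMdef]
    exact ⟨_, h1, by simp⟩
  have hcN : n * x * n⁻¹ * x⁻¹ ∈ N := by
    have h2 : x * n⁻¹ * x⁻¹ ∈ N := by
      have := (Subgroup.mem_normalizer_iff.mp (hHN hxH) n⁻¹).mp (N.inv_mem hn)
      exact this
    have : n * x * n⁻¹ * x⁻¹ = n * (x * n⁻¹ * x⁻¹) := by group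
    rw [this]
    exact N.mul_mem hn h2
  have hbot : M ⊓ N = ⊥ := by
    apply hcore (M ⊓ N) inf_le_right
    · intro k hk
      rw [Subgroup.mem_normalizer_iff]
      intro m
      have hkM := Subgroup.mem_normalizer_iff.mp (hHM (hNH hk)) m
      have hkN := Subgroup.mem_normalizer_iff.mp (Subgroup.le_normalizer hk) m
      exact ⟨fun hm => ⟨hkM.mp hm.1, hkN.mp hm.2⟩, fun hm => ⟨hkM.mpr hm.1, hkN.mpr hm.2⟩⟩
    · exact Nat.Coprime.coprime_dvd_left (Subgroup.card_dvd_of_le inf_le_left) hMc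
  have h3 : n * x * n⁻¹ * x⁻¹ ∈ M ⊓ N := ⟨hcM, hcN⟩
  rw [hbot, Subgroup.mem_bot] at h3
  calc n * x = (n * x * n⁻¹ * x⁻¹) * (x * n) := by group
    _ = x * n := by rw [h3, one_mul]

/-- A normal subgroup containing `x` is everything. -/
theorem eq_top_of_normal_of_mem (hiso : Cfsg.IsIsolated x) (hnz : ¬ Cfsg.InZStar p x)
    (hmin : ∀ (H : Subgroup G) (hxH : x ∈ H), H ≠ ⊤ → Cfsg.InZStar p (⟨x, hxH⟩ : ↥H))
    (hO : Cfsg.pPrimeCore p G = ⊥) {K : Subgroup G} (hK : K.Normal) (hxK : x ∈ K) : K = ⊤ := by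
  by_contra hne
  have hcomm := commute_of_proper hmin hxK hne (N := K) le_rfl Subgroup.le_normalizer
    (fun M hMK hKM hM => eq_bot_of_coprime hO hK hMK hKM hM)
  apply not_central hnz
  intro g
  have h1 : g * x * g⁻¹ ∈ K := hK.conj_mem x hxK g
  have h2 := hcomm _ h1
  have h3 := hiso g (show Commute x (g * x * g⁻¹) from h2.symm)
  calc g * x = (g * x * g⁻¹) * g := by group
    _ = x * g := by rw [h3]

/-- A central normal `p`-subgroup `N`: the full preimage `M` of `O_{p'}(G/N)` equals `N` when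
`O_{p'}(G) = 1`. -/
theorem comap_core_le_of_central (hO : Cfsg.pPrimeCore p G = ⊥) {N : Subgroup G} [hN : N.Normal]
    (hcent : N ≤ Subgroup.center G) (hNp : IsPGroup p N) :
    (Cfsg.pPrimeCore p (G ⧸ N)).comap (QuotientGroup.mk' N) ≤ N := by
  haveI hcn : (Cfsg.pPrimeCore p (G ⧸ N)).Normal := (Cfsg.Agent.Lib.Helper20.pPrimeCore_mem' p).1
  obtain ⟨M, hMdef⟩ : ∃ M : Subgroup G, M = (Cfsg.pPrimeCore p (G ⧸ N)).comap (QuotientGroup.mk' N) :=
    ⟨_, rfl⟩
  rw [← hMdef]
  have hMn : M.Normal := by rw [hMdef]; infer_instance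
  have hNM : N ≤ M := by
    intro n hn
    rw [hMdef, Subgroup.mem_comap]
    have : (QuotientGroup.mk' N) n = 1 := by
      rw [QuotientGroup.mk'_apply, QuotientGroup.eq_one_iff]; exact hn
    rw [this]; exact Subgroup.one_mem _
  have hidx : N.relIndex M = Nat.card (Cfsg.pPrimeCore p (G ⧸ N)) := by
    have h1 := Subgroup.relIndex_ker (QuotientGroup.mk' N) (K := M)
    rw [QuotientGroup.ker_mk'] at h1
    rw [h1, hMdef, Subgroup.map_comap_eq_self_of_surjective (QuotientGroup.mk'_surjective N)]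
  haveI : (N.subgroupOf M).Normal := inferInstance
  have hcop : (Nat.card (N.subgroupOf M)).Coprime (N.subgroupOf M).index := by
    have h1 : Nat.card (N.subgroupOf M) = Nat.card N :=
      Nat.card_congr (Subgroup.subgroupOfEquivOfLe hNM).toEquiv
    obtain ⟨k, hk⟩ := hNp.exists_card_eq
    have h2 : (N.subgroupOf M).index = Nat.card (Cfsg.pPrimeCore p (G ⧸ N)) := hidx
    rw [h1, h2, hk]
    exact (Nat.Coprime.pow_right k (Cfsg.Agent.Lib.Helper20.pPrimeCore_coprime' p)).symm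
  obtain ⟨K', hK'⟩ := Subgroup.exists_right_complement'_of_coprime hcop
  have hK'card : (Nat.card K').Coprime p := by
    have h1 : (N.subgroupOf M).index = Nat.card K' := hK'.symm.index_eq_card
    have h2 : (N.subgroupOf M).index = Nat.card (Cfsg.pPrimeCore p (G ⧸ N)) := hidx
    rw [← h1, h2]
    exact Cfsg.Agent.Lib.Helper20.pPrimeCore_coprime' p
  -- decomposition
  have hdec : ∀ m : ↥M, ∃ n ∈ N.subgroupOf M, ∃ k ∈ K', m = n * k := by
    intro m
    obtain ⟨⟨n, k⟩, hnk, -⟩ := (Subgroup.isComplement'_def.mp hK').existsUnique m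
    exact ⟨n.1, n.2, k.1, k.2, hnk.symm⟩
  have hcentM : ∀ n ∈ N.subgroupOf M, ∀ y : ↥M, n * y = y * n := by
    intro n hn y
    have h1 : (n : G) ∈ Subgroup.center G := hcent (Subgroup.mem_subgroupOf.mp hn)
    apply Subtype.ext
    have := (Subgroup.mem_center_iff.mp h1) (y : G)
    simpa using this.symm
  have hK'n : K'.Normal := by
    constructor
    intro k' hk' m
    obtain ⟨n, hn, k, hk, rfl⟩ := hdec m
    have h1 : n * k * k' * (n * k)⁻¹ = k * k' * k⁻¹ := by
      have e1 := hcentM n hn (k * k' * k⁻¹)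
      calc n * k * k' * (n * k)⁻¹ = (n * (k * k' * k⁻¹)) * n⁻¹ := by group
        _ = ((k * k' * k⁻¹) * n) * n⁻¹ := by rw [e1]
        _ = k * k' * k⁻¹ := by group
    rw [h1]
    exact K'.mul_mem (K'.mul_mem hk hk') (K'.inv_mem hk)
  -- the image of K' in G
  obtain ⟨K, hKdef⟩ : ∃ K : Subgroup G, K = K'.map M.subtype := ⟨_, rfl⟩
  have hKM : K ≤ M := by rw [hKdef]; exact Subgroup.map_subtype_le _
  have hMK : M ≤ Subgroup.normalizer (K : Set G) := by
    intro h hh
    rw [Subgroup.mem_normalizer_iff]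
    intro m
    rw [hKdef]
    constructor
    · rintro ⟨m', hm', rfl⟩
      exact ⟨⟨h, hh⟩ * m' * ⟨h, hh⟩⁻¹, hK'n.conj_mem m' hm' ⟨h, hh⟩, by simp⟩
    · rintro ⟨m', hm', hm'e⟩
      refine ⟨⟨h, hh⟩⁻¹ * m' * ⟨h, hh⟩, ?_, ?_⟩
      · have := hK'n.conj_mem m' hm' ⟨h, hh⟩⁻¹
        simpa using this
      · have : ((m' : ↥M) : G) = h * m * h⁻¹ := hm'e
        simp [this, mul_assoc]
  have hKc : (Nat.card K).Coprime p := by
    rw [hKdef, Subgroup.card_map_of_injective M.subtype_injective]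
    exact hK'card
  have hKbot : K = ⊥ := eq_bot_of_coprime hO hMn hKM hMK hKc
  intro m hm
  obtain ⟨n, hn, k, hk, e⟩ := hdec ⟨m, hm⟩
  have hk1 : (k : G) ∈ K := by rw [hKdef]; exact ⟨k, hk, rfl⟩
  rw [hKbot, Subgroup.mem_bot] at hk1
  have : m = (n : G) * (k : G) := by
    have := congrArg Subtype.val e
    simpa using this
  rw [this, hk1, mul_one]
  exact Subgroup.mem_subgroupOf.mp hn

/-- `G = N⟨x⟩` for every nontrivial normal subgroup `N`. -/
theorem sup_zpowers_eq_top (hiso : Cfsg.IsIsolated x) (hnz : ¬ Cfsg.InZStar p x)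
    (hmin : ∀ (H : Subgroup G) (hxH : x ∈ H), H ≠ ⊤ → Cfsg.InZStar p (⟨x, hxH⟩ : ↥H))
    (hquot : ∀ (N : Subgroup G) [N.Normal], N ≠ ⊥ → Cfsg.InZStar p (QuotientGroup.mk x : G ⧸ N))
    {N : Subgroup G} (hN : N.Normal) (hNne : N ≠ ⊥) : N ⊔ Subgroup.zpowers x = ⊤ := by
  have hO := core_eq_bot hnz hquot
  by_contra hne
  have hxH : x ∈ N ⊔ Subgroup.zpowers x := le_sup_right (α := Subgroup G) (Subgroup.mem_zpowers x)
  have hnorm : Subgroup.normalizer (N : Set G) = ⊤ := Subgroup.normalizer_eq_top_iff.mpr hN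
  have hcomm : ∀ n ∈ N, n * x = x * n :=
    commute_of_proper hmin hxH hne le_sup_left (by rw [hnorm]; exact le_top)
      (fun M hMN hNM hM => eq_bot_of_coprime hO hN hMN hNM hM)
  haveI := hN
  have hcent : N ≤ Subgroup.center G := by
    have hC : Subgroup.centralizer (N : Set G) = ⊤ :=
      eq_top_of_normal_of_mem hiso hnz hmin hO Subgroup.normal_centralizer
        (by
          rw [Subgroup.mem_centralizer_iff]
          intro n hn
          exact hcomm n hn)
    intro n hn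
    rw [Subgroup.mem_center_iff]
    intro g
    have hg : g ∈ Subgroup.centralizer (N : Set G) := hC ▸ Subgroup.mem_top g
    exact ((Subgroup.mem_centralizer_iff.mp hg) n hn).symm
  have hNp : IsPGroup p N := by
    apply Cfsg.Agent.Lib.Helper16.isPGroup_of_coprime_elements_trivial
    intro n hn hcop
    have hz : Subgroup.zpowers n = ⊥ := by
      apply le_bot_iff.mp
      rw [← hO]
      apply Cfsg.Agent.Lib.Helper20.le_pPrimeCore'
      · constructor
        intro y hy g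
        have hyc : y ∈ Subgroup.center G := hcent ((Subgroup.zpowers_le.mpr hn) hy)
        have : g * y * g⁻¹ = y := by
          rw [Subgroup.mem_center_iff] at hyc
          rw [hyc g]; group
        rw [this]; exact hy
      · rw [Nat.card_zpowers]; exact hcop
    exact Subgroup.zpowers_eq_bot.mp hz
  have hMN := comap_core_le_of_central hO hcent hNp
  apply not_central hnz
  intro g
  have h1 := hquot N hNne (QuotientGroup.mk g)
  have h2 : g * x * g⁻¹ * x⁻¹ ∈ (Cfsg.pPrimeCore p (G ⧸ N)).comap (QuotientGroup.mk' N) := by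
    rw [Subgroup.mem_comap]
    simpa using h1
  have h3 : g * x * g⁻¹ * x⁻¹ ∈ Subgroup.center G := hcent (hMN h2)
  have h4 : Commute x (g * x * g⁻¹) := by
    have e : g * x * g⁻¹ = (g * x * g⁻¹ * x⁻¹) * x := by group
    rw [e]
    have := (Subgroup.mem_center_iff.mp h3) x
    show x * (g * x * g⁻¹ * x⁻¹ * x) = g * x * g⁻¹ * x⁻¹ * x * x
    rw [← mul_assoc, this]
  have h5 := hiso g h4
  calc g * x = (g * x * g⁻¹) * g := by group
    _ = x * g := by rw [h5]

end

end Cfsg.Agent.Lib.Helper23.ZStarMin
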